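import Mathlib.AlgebraicGeometry.Stalk
import Mathlib.AlgebraicGeometry.Properties
import Mathlib.AlgebraicGeometry.AffineScheme
import Mathlib.RingTheory.Localization.LocalizationLocalization

/-! Generizations of a point and primes of its local ring. -/

set_option linter.style.haveILetI false

universe u

open CategoryTheory AlgebraicGeometry TopologicalSpace IsLocalRing

namespace Groth.Agent.Cyc90

variable {X : Scheme.{u}} {x y z : X}

/-- The prime of `O_x` of a generization `z`. -/
noncomputable def genPrime (h : z ⤳ x) : PrimeSpectrum (X.presheaf.stalk x) :=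
  PrimeSpectrum.comap (X.presheaf.stalkSpecializes h).hom (closedPoint (X.presheaf.stalk z))

lemma fromSpecStalk_genPrime (h : z ⤳ x) : (X.fromSpecStalk x).base (genPrime h) = z := by
  have := congrArg (fun f => f.base (closedPoint (X.presheaf.stalk z)))
    (Scheme.SpecMap_stalkSpecializes_fromSpecStalk h)
  exact this.trans Scheme.fromSpecStalk_closedPoint

lemma fromSpecStalk_specializes (q : PrimeSpectrum (X.presheaf.stalk x)) :
    (X.fromSpecStalk x).base q ⤳ x :=
  (Scheme.range_fromSpecStalk (x := x)).le ⟨q, rfl⟩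

lemma genPrime_fromSpecStalk (q : PrimeSpectrum (X.presheaf.stalk x)) :
    genPrime (fromSpecStalk_specializes q) = q :=
  (X.fromSpecStalk x).isEmbedding.injective (fromSpecStalk_genPrime _)

lemma genPrime_refl (x : X) : genPrime (specializes_refl x) = closedPoint (X.presheaf.stalk x) :=
  (X.fromSpecStalk x).isEmbedding.injective
    ((fromSpecStalk_genPrime _).trans Scheme.fromSpecStalk_closedPoint.symm)

lemma genPrime_eq_iff (hy : y ⤳ x) (hz : z ⤳ x) : genPrime hy = genPrime hz ↔ y = z := by
  refine ⟨fun h => ?_, fun h => by subst h; rfl⟩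
  rw [← fromSpecStalk_genPrime hy, ← fromSpecStalk_genPrime hz, h]

lemma genPrime_le_iff (hy : y ⤳ x) (hz : z ⤳ x) :
    (genPrime hy).asIdeal ≤ (genPrime hz).asIdeal ↔ y ⤳ z := by
  change genPrime hy ≤ genPrime hz ↔ _
  rw [PrimeSpectrum.le_iff_specializes]
  refine (X.fromSpecStalk x).isEmbedding.isInducing.specializes_iff.symm.trans ?_
  rw [fromSpecStalk_genPrime, fromSpecStalk_genPrime]

/-- `O_z` is the localization of `O_x` at the prime of `z`. -/
theorem isLocalization_genPrime (h : z ⤳ x) :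
    letI := (X.presheaf.stalkSpecializes h).hom.toAlgebra
    IsLocalization.AtPrime (X.presheaf.stalk z) (genPrime h).asIdeal := by
  obtain ⟨_, ⟨U, hU, rfl⟩, hxU, -⟩ :=
    X.isBasis_affineOpens.exists_subset_of_mem_open (Set.mem_univ x) isOpen_univ
  have hzU : z ∈ U := h.mem_open U.isOpen hxU
  letI : Algebra Γ(X, U) (X.presheaf.stalk x) := (X.presheaf.germ U x hxU).hom.toAlgebra
  letI : Algebra Γ(X, U) (X.presheaf.stalk z) := (X.presheaf.germ U z hzU).hom.toAlgebra
  letI := (X.presheaf.stalkSpecializes h).hom.toAlgebra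
  haveI : IsLocalization.AtPrime (X.presheaf.stalk x) (hU.primeIdealOf ⟨x, hxU⟩).asIdeal :=
    hU.isLocalization_stalk ⟨x, hxU⟩
  haveI : IsLocalization.AtPrime (X.presheaf.stalk z) (hU.primeIdealOf ⟨z, hzU⟩).asIdeal :=
    hU.isLocalization_stalk ⟨z, hzU⟩
  haveI : IsScalarTower Γ(X, U) (X.presheaf.stalk x) (X.presheaf.stalk z) :=
    IsScalarTower.of_algebraMap_eq' (by
      simp only [RingHom.algebraMap_toAlgebra, ← CommRingCat.hom_comp,
        TopCat.Presheaf.germ_stalkSpecializes])
  have hle : (hU.primeIdealOf ⟨x, hxU⟩).asIdeal.primeCompl ≤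
      (hU.primeIdealOf ⟨z, hzU⟩).asIdeal.primeCompl := fun a ha => by
    refine (IsLocalization.AtPrime.isUnit_to_map_iff (X.presheaf.stalk z) _ a).mp ?_
    rw [IsScalarTower.algebraMap_apply Γ(X, U) (X.presheaf.stalk x) (X.presheaf.stalk z)]
    exact ((IsLocalization.AtPrime.isUnit_to_map_iff (X.presheaf.stalk x) _ a).mpr ha).map _
  haveI := IsLocalization.isLocalization_of_submonoid_le (X.presheaf.stalk x) (X.presheaf.stalk z)
    _ _ hle
  refine IsLocalization.isLocalization_of_is_exists_mul_mem (X.presheaf.stalk z)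
    ((hU.primeIdealOf ⟨z, hzU⟩).asIdeal.primeCompl.map (algebraMap _ (X.presheaf.stalk x)))
    (genPrime h).asIdeal.primeCompl ?_ ?_
  · rintro _ ⟨a, ha, rfl⟩ hmem
    have := (IsLocalization.AtPrime.isUnit_to_map_iff (X.presheaf.stalk z) _ a).mpr ha
    rw [IsScalarTower.algebraMap_apply Γ(X, U) (X.presheaf.stalk x) (X.presheaf.stalk z)] at this
    exact hmem this
  · rintro ⟨s, hs⟩
    obtain ⟨⟨a, d⟩, e⟩ := IsLocalization.surj (hU.primeIdealOf ⟨x, hxU⟩).asIdeal.primeCompl s
    refine ⟨algebraMap _ _ d.1, a, ?_, ?_⟩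
    · refine (IsLocalization.AtPrime.isUnit_to_map_iff (X.presheaf.stalk z) _ a).mp ?_
      rw [IsScalarTower.algebraMap_apply Γ(X, U) (X.presheaf.stalk x) (X.presheaf.stalk z),
        show algebraMap Γ(X, U) (X.presheaf.stalk x) a = s * algebraMap _ _ d.1 from e.symm, map_mul]
      refine IsUnit.mul ?_ ((IsLocalization.map_units _ d).map _)
      exact not_not.mp (fun hn => hs hn)
    · rw [mul_comm]; exact e.symm

end Groth.Agent.Cyc90
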