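import Groth.Agent.Cyc90.IntegralOrd
import Mathlib.AlgebraicGeometry.Morphisms.Finite
import Mathlib.RingTheory.RingHom.Finite
import Mathlib.RingTheory.IntegralClosure.IntegralRestrict
import Mathlib.RingTheory.Localization.Finiteness

/-! Orders along the fibre of a finite dominant morphism and the order of the norm. -/

set_option autoImplicit false
universe u

open CategoryTheory AlgebraicGeometry TopologicalSpace IsLocalRing

namespace Groth.Agent.Cyc90

variable {X Y : Scheme.{u}}

lemma mem_primeIdealOf {V : Y.Opens} (hV : IsAffineOpen V) {y : Y} (hy : y ∈ V) (s : Γ(Y, V)) :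
    s ∈ (hV.primeIdealOf ⟨y, hy⟩).asIdeal ↔ ¬ IsUnit (Y.presheaf.germ V y hy s) := by
  let := TopCat.Presheaf.algebra_section_stalk Y.presheaf ⟨y, hy⟩
  have := hV.isLocalization_stalk ⟨y, hy⟩
  have h := IsLocalization.AtPrime.isUnit_to_map_iff (Y.presheaf.stalk y)
    (hV.primeIdealOf ⟨y, hy⟩).asIdeal s
  exact (not_iff_comm.1 h.symm).symm

lemma isUnit_germ_app_iff (p : X ⟶ Y) {V : Y.Opens} {x : X} (hx : p x ∈ V) (s : Γ(Y, V)) :
    IsUnit (X.presheaf.germ (p ⁻¹ᵁ V) x hx (p.app V s)) ↔ IsUnit (Y.presheaf.germ V (p x) hx s) := by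
  have e : (p.stalkMap x).hom (Y.presheaf.germ V (p x) hx s) =
      X.presheaf.germ (p ⁻¹ᵁ V) x hx (p.app V s) := Scheme.Hom.germ_stalkMap_apply p V x hx s
  rw [← e]
  exact ⟨fun h => isUnit_of_map_unit _ _ h, fun h => h.map _⟩

lemma primeIdealOf_apply (p : X ⟶ Y) {V : Y.Opens} (hV : IsAffineOpen V)
    (hU : IsAffineOpen (p ⁻¹ᵁ V)) {x : X} (hx : x ∈ p ⁻¹ᵁ V) :
    (hV.primeIdealOf ⟨p x, hx⟩).asIdeal = (hU.primeIdealOf ⟨x, hx⟩).asIdeal.comap (p.app V).hom := by
  ext s
  exact (mem_primeIdealOf hV (y := p x) hx s).trans ((not_congr (isUnit_germ_app_iff p hx s).symm).trans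
    (Ideal.mem_comap.trans (mem_primeIdealOf hU hx (p.app V s))).symm)

lemma finiteDimensional_of_finite (K L B : Type u) [Field K] [Field L] [CommRing B] [Algebra K L]
    [Algebra B L] [IsFractionRing B L] (A : Type u) [CommRing A] [Algebra A B] [Algebra A K]
    [Algebra A L] [IsScalarTower A B L] [IsScalarTower A K L] [Module.Finite A B] :
    FiniteDimensional K L := by
  classical
  obtain ⟨n, b, hb⟩ := Module.Finite.exists_fin (R := A) (M := B)
  let W := Algebra.adjoin K (Set.range fun i => algebraMap B L (b i))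
  have hfin : Module.Finite K W := by
    refine ⟨(Submodule.fg_top _).2 (fg_adjoin_of_finite (Set.finite_range _) ?_)⟩
    rintro _ ⟨i, rfl⟩
    exact ((Algebra.IsIntegral.isIntegral (R := A) (b i)).map (IsScalarTower.toAlgHom A B L)).tower_top
  have hmem : ∀ x : B, algebraMap B L x ∈ W := by
    intro x
    have : x ∈ Submodule.span A (Set.range b) := hb ▸ Submodule.mem_top
    induction this using Submodule.span_induction with
    | mem x hx => obtain ⟨i, rfl⟩ := hx; exact Algebra.subset_adjoin ⟨i, rfl⟩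
    | zero => rw [map_zero]; exact zero_mem _
    | add x y _ _ hx hy => rw [map_add]; exact add_mem hx hy
    | smul a x _ hx =>
      rw [Algebra.smul_def, map_mul, ← IsScalarTower.algebraMap_apply,
        IsScalarTower.algebraMap_apply A K L]
      exact mul_mem (Subalgebra.algebraMap_mem _ _) hx
  have hWfield : IsField W := isField_of_isIntegral_of_isField' (R := K) (Field.toIsField K)
  have htop : (⊤ : Subalgebra K L) ≤ W := by
    intro z _
    obtain ⟨x, y, hy, rfl⟩ := IsFractionRing.div_surjective (A := B) z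
    by_cases h0 : (algebraMap B L y) = 0
    · rw [h0, div_zero]; exact zero_mem _
    · obtain ⟨w, hw⟩ := hWfield.mul_inv_cancel (a := ⟨_, hmem y⟩) fun e => h0 (congrArg Subtype.val e)
      have hw' : algebraMap B L y * (w : L) = 1 := congrArg Subtype.val hw
      rw [div_eq_mul_inv, ← eq_inv_of_mul_eq_one_right hw']
      exact mul_mem (hmem x) w.2
  exact Module.Finite.equiv ((Subalgebra.equivOfEq W ⊤ (top_le_iff.1 htop)).trans
    Subalgebra.topEquiv).toLinearEquiv

variable [IsIntegral X] [IsIntegral Y] [IsLocallyNoetherian X] [IsLocallyNoetherian Y]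

lemma isFractionRing_specMap' {η : Y} (hη : η = genericPoint Y) {y : Y} (h : η ⤳ y) :
    letI := (Cyc.specMap y η h).toAlgebra
    IsFractionRing (Y.presheaf.stalk y) (Y.residueField η) := by
  subst hη
  exact isFractionRing_specMap y

lemma ordAt_generic' {η : Y} (hη : η = genericPoint Y) {y : Y} (h : η ⤳ y)
    (hy : ringKrullDim (Y.presheaf.stalk y) ≤ 1) (f : Y.residueField η) (hf : f ≠ 0) :
    Cyc.ordAt y η h f =
      (letI := (Cyc.specMap y η h).toAlgebra
       CycAlg.ordFrac (Y.presheaf.stalk y) (Y.residueField η) f) := by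
  subst hη
  exact ordAt_generic y hy f hf

set_option maxHeartbeats 1600000 in
/-- The norm formula along the fibre of a morphism which is finite over an affine neighbourhood. -/
theorem finite_fibre_formula_aux (p : X ⟶ Y) (y : Y) (V : Y.Opens) (hV : IsAffineOpen V) (hyV : y ∈ V)
    (hU : IsAffineOpen (p ⁻¹ᵁ V)) (hfin : (p.app V).hom.Finite)
    (hdom : p (genericPoint X) = genericPoint Y) (hy : ringKrullDim (Y.presheaf.stalk y) = 1)
    (h : p (genericPoint X) ⤳ y) (g : X.residueField (genericPoint X)) (hg : g ≠ 0)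
    (B : Type u) [CommRing B] [Algebra Γ(X, p ⁻¹ᵁ V) B]
    [hB : IsLocalization (Submonoid.map (p.app V).hom (hV.primeIdealOf ⟨y, hyV⟩).asIdeal.primeCompl) B] :
    (p ⁻¹' {y}).Finite ∧ (p.residueFieldMap (genericPoint X)).hom.Finite ∧
    (∀ x ∈ p ⁻¹' {y}, ringKrullDim (X.presheaf.stalk x) ≤ 1 ∧ p.residueDegree x ≠ 0) ∧
    Cyc.ordAt y (p (genericPoint X)) h (Cyc.normGen p (genericPoint X) g) =
      ∑ᶠ x ∈ p ⁻¹' {y}, (p.residueDegree x : ℤ) *
        Cyc.ordAt x (genericPoint X) (gen_specializes x) g := by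
  classical
  let ξ := genericPoint X
  let U := p ⁻¹ᵁ V
  let R := Γ(Y, V)
  let S := Γ(X, U)
  let A := Y.presheaf.stalk y
  let K := Y.residueField (p ξ)
  let L := X.residueField ξ
  have hηV : p ξ ∈ V := h.mem_open V.2 hyV
  have : Nonempty U := ⟨⟨ξ, hηV⟩⟩
  let iRS : Algebra R S := (p.app V).hom.toAlgebra
  have : Module.Finite R S := hfin
  let iRA : Algebra R A := TopCat.Presheaf.algebra_section_stalk Y.presheaf ⟨y, hyV⟩
  let P := (hV.primeIdealOf ⟨y, hyV⟩).asIdeal
  have : IsLocalization.AtPrime A P := hV.isLocalization_stalk ⟨y, hyV⟩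
  let iKL : Algebra K L := (p.residueFieldMap ξ).hom.toAlgebra
  let iAK : Algebra A K := (Cyc.specMap y (p ξ) h).toAlgebra
  have : IsFractionRing A K := isFractionRing_specMap' hdom h
  let φS : S →+* L := (X.presheaf.germ U ξ hηV ≫ X.residue ξ).hom
  let iSL : Algebra S L := φS.toAlgebra
  have hSinj : Function.Injective φS := fun a b e =>
    germ_injective_of_isIntegral X ξ hηV
      ((show Function.Injective (X.residue ξ).hom from RingHom.injective
        (IsLocalRing.residue (X.presheaf.stalk ξ) : X.functionField →+* _)) e)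
  have : IsFractionRing S L := by
    have := functionField_isFractionRing_of_isAffineOpen X U hU
    have : FaithfulSMul S L := (faithfulSMul_iff_algebraMap_injective _ _).2 hSinj
    refine IsFractionRing.of_field _ _ fun z => ?_
    obtain ⟨w, rfl⟩ := X.residue_surjective ξ z
    obtain ⟨a, b, -, hab⟩ := IsFractionRing.div_surjective (A := S) (K := X.functionField) w
    refine ⟨a, b, ?_⟩
    exact (congrArg (IsLocalRing.residue (X.presheaf.stalk ξ) : X.functionField →+* L) hab.symm).trans
      (map_div₀ (IsLocalRing.residue (X.presheaf.stalk ξ) : X.functionField →+* L) _ _)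
  -- compatibility of `R → K` and `R → S`
  have hcompR : ∀ r : R, φS (algebraMap R S r) = algebraMap K L (algebraMap A K (algebraMap R A r)) := by
    intro r
    have h1 : Cyc.specMap y (p ξ) h (Y.presheaf.germ V y hyV r) =
        Y.residue (p ξ) (Y.presheaf.germ V (p ξ) hηV r) := by
      show Y.residue (p ξ) (Y.presheaf.stalkSpecializes h (Y.presheaf.germ V y hyV r)) = _
      rw [TopCat.Presheaf.germ_stalkSpecializes_apply]
    change X.residue ξ (X.presheaf.germ U ξ hηV (p.app V r)) =
      p.residueFieldMap ξ (Cyc.specMap y (p ξ) h (Y.presheaf.germ V y hyV r))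
    rw [h1, ← Scheme.Hom.germ_stalkMap_apply p V ξ hηV r]
    exact (congrArg (fun ψ => ψ (Y.presheaf.germ V (p ξ) hηV r))
      (AlgebraicGeometry.Scheme.residue_residueFieldMap p ξ)).symm
  have hRA : Function.Injective (algebraMap R A) := by
    have : Nonempty V := ⟨⟨y, hyV⟩⟩
    exact germ_injective_of_isIntegral Y y hyV
  have hRS : Function.Injective (algebraMap R S) := fun a b e =>
    hRA (IsFractionRing.injective A K ((algebraMap K L).injective (by rw [← hcompR, ← hcompR, e])))
  let M := Algebra.algebraMapSubmonoid S P.primeCompl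
  have hM : M ≤ nonZeroDivisors S := by
    rintro _ ⟨r, hr, rfl⟩
    refine mem_nonZeroDivisors_of_ne_zero fun e => hr ?_
    rw [hRS (e.trans (map_zero _).symm)]
    exact zero_mem P
  have : IsLocalization M B := hB
  let iRB : Algebra R B := ((algebraMap S B).comp (algebraMap R S)).toAlgebra
  have tRSB : IsScalarTower R S B := IsScalarTower.of_algebraMap_eq fun _ => rfl
  have : IsDomain B := IsLocalization.isDomain_of_le_nonZeroDivisors (S := B) hM
  let iAB : Algebra A B := (IsLocalization.map B (algebraMap R S)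
    (show P.primeCompl ≤ M.comap (algebraMap R S) from fun r hr => ⟨r, hr, rfl⟩) : A →+* B).toAlgebra
  have tRAB : IsScalarTower R A B := IsScalarTower.of_algebraMap_eq fun r => by
    change algebraMap R B r = IsLocalization.map B _ _ (algebraMap R A r)
    rw [IsLocalization.map_eq, ← IsScalarTower.algebraMap_apply]
  have : Module.Finite A B := Module.Finite.of_isLocalization R S P.primeCompl
  have hMu : ∀ s : M, IsUnit (φS s) := fun s => isUnit_iff_ne_zero.2 fun e =>
    nonZeroDivisors.coe_ne_zero ⟨s.1, hM s.2⟩ (hSinj (e.trans (map_zero _).symm))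
  let iBL : Algebra B L := (IsLocalization.lift hMu : B →+* L).toAlgebra
  have tSBL : IsScalarTower S B L :=
    IsScalarTower.of_algebraMap_eq fun s => (IsLocalization.lift_eq hMu s).symm
  have : IsFractionRing B L := IsFractionRing.isFractionRing_of_isDomain_of_isLocalization M B L
  let iAL : Algebra A L := ((algebraMap K L).comp (algebraMap A K)).toAlgebra
  have tAKL : IsScalarTower A K L := IsScalarTower.of_algebraMap_eq fun _ => rfl
  have tABL : IsScalarTower A B L := IsScalarTower.of_algebraMap_eq' <| by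
    refine IsLocalization.ringHom_ext P.primeCompl (RingHom.ext fun r => ?_)
    rw [RingHom.comp_apply, RingHom.comp_apply, RingHom.comp_apply,
      ← IsScalarTower.algebraMap_apply R A B, IsScalarTower.algebraMap_apply R S B,
      ← IsScalarTower.algebraMap_apply S B L]
    exact (hcompR r).symm
  have : FiniteDimensional K L := finiteDimensional_of_finite K L B A
  have hAB : Function.Injective (algebraMap A B) := fun a b e =>
    IsFractionRing.injective A K ((algebraMap K L).injective (by
      have := congrArg (algebraMap B L) e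
      rwa [← IsScalarTower.algebraMap_apply, ← IsScalarTower.algebraMap_apply] at this))
  -- the points over `y`
  have hxU : ∀ x : ↥(p ⁻¹' {y}), x.1 ∈ U := fun x => by
    show p x.1 ∈ V
    rw [show p x.1 = y from x.2]; exact hyV
  let germS : ∀ x : ↥(p ⁻¹' {y}), S →+* X.presheaf.stalk x.1 := fun x =>
    (X.presheaf.germ U x.1 (hxU x)).hom
  have hux : ∀ (x : ↥(p ⁻¹' {y})) (s : M), IsUnit (germS x s) := by
    rintro x ⟨_, r, hr, rfl⟩
    have hr' : r ∉ (hV.primeIdealOf ⟨p x.1, hxU x⟩).asIdeal := by
      have : (⟨p x.1, hxU x⟩ : V) = ⟨y, hyV⟩ := Subtype.ext x.2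
      rw [this]; exact hr
    replace hr' := not_not.1 ((not_congr (mem_primeIdealOf hV (y := p x.1) (hxU x) r)).1 hr')
    exact (isUnit_germ_app_iff p (hxU x) r).2 hr'
  let φ : ∀ x : ↥(p ⁻¹' {y}), B →+* X.presheaf.stalk x.1 := fun x => IsLocalization.lift (hux x)
  have hφ : ∀ x s, φ x (algebraMap S B s) = germS x s := fun x s => IsLocalization.lift_eq (hux x) s
  have hxy : ∀ x : ↥(p ⁻¹' {y}), y = p x.1 := fun x => (show p x.1 = y from x.2).symm
  let eA : ∀ x : ↥(p ⁻¹' {y}), A →+* Y.presheaf.stalk (p x.1) := fun x =>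
    (Y.presheaf.stalkCongr (.of_eq (hxy x))).hom.hom
  have hφA : ∀ x, (φ x).comp (algebraMap A B) = (p.stalkMap x.1).hom.comp (eA x) := fun x => by
    refine IsLocalization.ringHom_ext P.primeCompl (RingHom.ext fun r => ?_)
    change φ x (algebraMap A B (algebraMap R A r)) = p.stalkMap x.1 (eA x (algebraMap R A r))
    have he : eA x (algebraMap R A r) = Y.presheaf.germ V (p x.1) (hxU x) r :=
      TopCat.Presheaf.germ_stalkSpecializes_apply Y.presheaf hyV (specializes_of_eq (show p x.1 = y from x.2)) r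
    rw [← IsScalarTower.algebraMap_apply R A B, IsScalarTower.algebraMap_apply R S B, hφ, he]
    exact (Scheme.Hom.germ_stalkMap_apply p V x.1 (hxU x) r).symm
  have heA : ∀ x : ↥(p ⁻¹' {y}), IsLocalHom (eA x) := fun x =>
    inferInstanceAs (IsLocalHom (Y.presheaf.stalkCongr (.of_eq (hxy x))).hom.hom)
  have hcomap : ∀ x, ((maximalIdeal (X.presheaf.stalk x.1)).comap (φ x)).IsMaximal := fun x => by
    have := heA x
    refine Ideal.isMaximal_of_isIntegral_of_isMaximal_comap (R := A) _ ?_
    rw [Ideal.comap_comap, hφA x, ← Ideal.comap_comap, maximalIdeal_comap, maximalIdeal_comap]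
    exact maximalIdeal.isMaximal A
  let Φ : ↥(p ⁻¹' {y}) → MaximalSpectrum B := fun x => ⟨_, hcomap x⟩
  have hΦS : ∀ x, (Φ x).asIdeal.comap (algebraMap S B) = (hU.primeIdealOf ⟨x.1, hxU x⟩).asIdeal := by
    intro x
    ext s
    rw [mem_primeIdealOf, Ideal.mem_comap]
    change φ x (algebraMap S B s) ∈ maximalIdeal _ ↔ _
    rw [hφ]
    exact mem_maximalIdeal _
  have hΦ : Function.Bijective Φ := by
    refine ⟨fun a b e => Subtype.ext ?_, fun m => ?_⟩
    · have h1 : hU.primeIdealOf ⟨a.1, hxU a⟩ = hU.primeIdealOf ⟨b.1, hxU b⟩ :=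
        PrimeSpectrum.ext (by rw [← hΦS, ← hΦS, e])
      have h2 := congrArg hU.fromSpec h1
      rwa [hU.fromSpec_primeIdealOf, hU.fromSpec_primeIdealOf] at h2
    · have := m.isMaximal
      let Q : PrimeSpectrum S := ⟨m.asIdeal.comap (algebraMap S B), inferInstance⟩
      let x : X := hU.fromSpec Q
      have hxU' : x ∈ U := hU.range_fromSpec.le ⟨Q, rfl⟩
      have hQ : hU.primeIdealOf ⟨x, hxU'⟩ = Q := hU.fromSpec.isOpenEmbedding.injective
        (hU.fromSpec_primeIdealOf ⟨x, hxU'⟩)
      have hQR : Q.asIdeal.comap (algebraMap R S) = P := by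
        rw [show Q.asIdeal = m.asIdeal.comap (algebraMap S B) from rfl, Ideal.comap_comap,
          ← IsScalarTower.algebraMap_eq R S B, IsScalarTower.algebraMap_eq R A B, ← Ideal.comap_comap,
          IsLocalRing.eq_maximalIdeal
            (Ideal.isMaximal_comap_of_isIntegral_of_isMaximal (R := A) m.asIdeal)]
        exact IsLocalization.AtPrime.comap_maximalIdeal A P
      have hpx : p x = y := by
        have h1 : hV.primeIdealOf ⟨p x, hxU'⟩ = hV.primeIdealOf ⟨y, hyV⟩ :=
          PrimeSpectrum.ext (by rw [primeIdealOf_apply p hV hU hxU', hQ]; exact hQR)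
        have h2 := congrArg hV.fromSpec h1
        rwa [hV.fromSpec_primeIdealOf, hV.fromSpec_primeIdealOf] at h2
      refine ⟨⟨x, hpx⟩, MaximalSpectrum.ext ?_⟩
      have hΦQ : (Φ ⟨x, hpx⟩).asIdeal.comap (algebraMap S B) = m.asIdeal.comap (algebraMap S B) :=
        (hΦS ⟨x, hpx⟩).trans (congrArg PrimeSpectrum.asIdeal hQ)
      exact (IsLocalization.map_comap M B _).symm.trans
        ((congrArg (Ideal.map (algebraMap S B)) hΦQ).trans (IsLocalization.map_comap M B _))
  let Φe := Equiv.ofBijective Φ hΦ
  have : Finite (MaximalSpectrum B) := finite_maximalSpectrum A B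
  have : Finite ↥(p ⁻¹' {y}) := Finite.of_equiv _ Φe.symm
  let _ : Fintype (MaximalSpectrum B) := Fintype.ofFinite _
  let _ : Fintype ↥(p ⁻¹' {y}) := Fintype.ofFinite _
  -- the local rings
  let C : MaximalSpectrum B → Type u := fun m => X.presheaf.stalk (Φe.symm m).1
  let iBC : ∀ m, Algebra B (C m) := fun m => (φ (Φe.symm m)).toAlgebra
  have hloc : ∀ m, IsLocalization.AtPrime (C m) m.asIdeal := fun m => by
    let x := Φe.symm m
    have hm : Φ x = m := Φe.apply_symm_apply m
    let iSx : Algebra S (C m) := TopCat.Presheaf.algebra_section_stalk X.presheaf ⟨x.1, hxU x⟩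
    have : IsLocalization.AtPrime (C m) (hU.primeIdealOf ⟨x.1, hxU x⟩).asIdeal :=
      hU.isLocalization_stalk ⟨x.1, hxU x⟩
    have : IsScalarTower S B (C m) := IsScalarTower.of_algebraMap_eq fun s => (hφ x s).symm
    have hle : M ≤ (hU.primeIdealOf ⟨x.1, hxU x⟩).asIdeal.primeCompl := fun s hs hmem =>
      (mem_primeIdealOf hU (hxU x) s).1 hmem (hux x ⟨s, hs⟩)
    have : IsLocalization ((hU.primeIdealOf ⟨x.1, hxU x⟩).asIdeal.primeCompl.map (algebraMap S B)) (C m) :=
      IsLocalization.isLocalization_of_submonoid_le B (C m) M _ hle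
    refine IsLocalization.of_le ((hU.primeIdealOf ⟨x.1, hxU x⟩).asIdeal.primeCompl.map
      (algebraMap S B)) m.asIdeal.primeCompl ?_ fun b hb => ?_
    · rintro _ ⟨s, hs, rfl⟩ hsm
      refine hs ?_
      rw [← hΦS x]
      exact Ideal.mem_comap.2 (hm.symm ▸ hsm)
    · by_contra hu
      rw [← hm] at hb
      exact hb ((mem_maximalIdeal _).2 hu)
  let iCL : ∀ m, Algebra (C m) L := fun m =>
    (Cyc.specMap (Φe.symm m).1 ξ (gen_specializes _)).toAlgebra
  have hfrac : ∀ m, IsFractionRing (C m) L := fun m => isFractionRing_specMap _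
  have htow : ∀ m, IsScalarTower B (C m) L := fun m => IsScalarTower.of_algebraMap_eq' <| by
    refine IsLocalization.ringHom_ext M (RingHom.ext fun s => ?_)
    rw [RingHom.comp_apply, RingHom.comp_apply, RingHom.comp_apply,
      ← IsScalarTower.algebraMap_apply S B L]
    change φS s = Cyc.specMap _ _ _ (φ _ (algebraMap S B s))
    rw [hφ]
    change X.residue ξ (X.presheaf.germ U ξ hηV s) =
      X.residue ξ (X.presheaf.stalkSpecializes _ (X.presheaf.germ U _ _ s))
    rw [TopCat.Presheaf.germ_stalkSpecializes_apply]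
  have hdim : ∀ x : ↥(p ⁻¹' {y}), ringKrullDim (X.presheaf.stalk x.1) ≤ 1 := fun x => by
    have hB1 := krullDimLE_one_of_finite (A := A) (B := B) hy hAB
    obtain ⟨m, rfl⟩ := Φe.symm.surjective x
    have := hloc m
    have := m.isMaximal
    change ringKrullDim (C m) ≤ 1
    rw [IsLocalization.AtPrime.ringKrullDim_eq_height m.asIdeal (C m)]
    refine (Ideal.height_le_ringKrullDim_of_ne_top m.isMaximal.ne_top).trans ?_
    rwa [Ring.KrullDimLE, Order.krullDimLE_iff] at hB1
  have hdeg : ∀ x : ↥(p ⁻¹' {y}), p.residueDegree x.1 = degAt A (Φ x) ∧ degAt A (Φ x) ≠ 0 := fun x => by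
    let q : MaximalSpectrum A := ⟨maximalIdeal A, maximalIdeal.isMaximal A⟩
    let m := Φ x
    have hq : q.asIdeal = m.asIdeal.comap (algebraMap A B) := by
      have := m.isMaximal
      exact (IsLocalRing.eq_maximalIdeal
        (Ideal.isMaximal_comap_of_isIntegral_of_isMaximal (R := A) m.asIdeal)).symm
    let A' := Localization.AtPrime q.asIdeal
    let B' := Localization.AtPrime m.asIdeal
    have : IsLocalization q.asIdeal.primeCompl A := IsLocalization.self fun a ha => by
      by_contra hu; exact ha hu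
    let e1 : A ≃+* A' := (IsLocalization.algEquiv q.asIdeal.primeCompl A A').toRingEquiv
    let iBx : Algebra B (X.presheaf.stalk x.1) := (φ x).toAlgebra
    have hlx : IsLocalization.AtPrime (X.presheaf.stalk x.1) m.asIdeal := by
      have h0 : ∀ m', ∀ z, Φe.symm m' = z →
          @IsLocalization.AtPrime B _ (X.presheaf.stalk z.1) _ (φ z).toAlgebra m'.asIdeal
            m'.isMaximal.isPrime := by
        rintro m' _ rfl; exact hloc m'
      exact h0 m x (Φe.symm_apply_apply x)
    let e2 : B' ≃+* X.presheaf.stalk x.1 :=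
      (IsLocalization.algEquiv m.asIdeal.primeCompl B' (X.presheaf.stalk x.1)).toRingEquiv
    let e3 : A ≃+* Y.presheaf.stalk (p x.1) :=
      (Y.presheaf.stalkCongr (.of_eq (hxy x))).commRingCatIsoToRingEquiv
    let iA'B' : Algebra A' B' := (TameAlg50.locMap q m hq).toAlgebra
    have : IsLocalHom (algebraMap A' B') :=
      Localization.isLocalHom_localRingHom q.asIdeal m.asIdeal (algebraMap A B) hq
    let iκ : Algebra (Y.residueField (p x.1)) (X.residueField x.1) :=
      (p.residueFieldMap x.1).hom.toAlgebra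
    have hd : degAt A m = Module.finrank (ResidueField A') (ResidueField B') := rfl
    have hr : p.residueDegree x.1 = Module.finrank (Y.residueField (p x.1)) (X.residueField x.1) := rfl
    have hEq : Module.finrank (ResidueField A') (ResidueField B') =
        Module.finrank (Y.residueField (p x.1)) (X.residueField x.1) := by
      refine Algebra.finrank_eq_of_equiv_equiv
        ((ResidueField.mapEquiv e1).symm.trans (ResidueField.mapEquiv e3)) (ResidueField.mapEquiv e2)
        (RingHom.ext fun z => ?_)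
      obtain ⟨a', rfl⟩ := residue_surjective z
      obtain ⟨a, rfl⟩ := e1.surjective a'
      have h1 : e1 a = algebraMap A A' a := AlgEquiv.commutes _ a
      have h2 : e2 (algebraMap A' B' (e1 a)) = p.stalkMap x.1 (e3 a) := by
        rw [h1]
        change e2 (TameAlg50.locMap q m hq (algebraMap A A' a)) = _
        rw [TameAlg50.locMap, Localization.localRingHom_to_map]
        refine (AlgEquiv.commutes (IsLocalization.algEquiv m.asIdeal.primeCompl B'
          (X.presheaf.stalk x.1)) (algebraMap A B a)).trans ?_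
        exact RingHom.congr_fun (hφA x) a
      change p.residueFieldMap x.1 (Y.residue (p x.1) (e3 (e1.symm (e1 a)))) =
        X.residue x.1 (e2 (algebraMap A' B' (e1 a)))
      rw [e1.symm_apply_apply, h2]
      exact congrArg (fun ψ => ψ (e3 a)) (AlgebraicGeometry.Scheme.residue_residueFieldMap p x.1)
    refine ⟨hr.trans (hEq.symm.trans hd.symm), ?_⟩
    change degAt A m ≠ 0
    rw [hd]
    have : Module.Finite A (ResidueField B') := by
      let f : B →+* ResidueField B' := (IsLocalRing.residue B').comp (algebraMap B B')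
      have := m.isMaximal
      have : IsScalarTower A B (ResidueField B') := inferInstance
      refine Module.Finite.of_surjective (IsScalarTower.toAlgHom A B (ResidueField B')).toLinearMap ?_
      intro z
      obtain ⟨z, rfl⟩ := residue_surjective z
      obtain ⟨b, s, rfl⟩ := IsLocalization.exists_mk'_eq m.asIdeal.primeCompl z
      let iF : Field (B ⧸ m.asIdeal) := Ideal.Quotient.field _
      obtain ⟨t, ht⟩ := Ideal.Quotient.mk_surjective (Ideal.Quotient.mk m.asIdeal (s : B))⁻¹
      refine ⟨b * t, ?_⟩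
      have hs0 : Ideal.Quotient.mk m.asIdeal (s : B) ≠ 0 := fun e => s.2 (Ideal.Quotient.eq_zero_iff_mem.1 e)
      have hts : t * (s : B) - 1 ∈ m.asIdeal := by
        rw [← Ideal.Quotient.eq_zero_iff_mem, map_sub, map_mul, ht, inv_mul_cancel₀ hs0, map_one, sub_self]
      change IsLocalRing.residue B' (algebraMap B B' (b * t)) = _
      rw [← sub_eq_zero, ← map_sub, residue_eq_zero_iff]
      refine ((maximalIdeal.isMaximal B').isPrime.mem_or_mem (y := algebraMap B B' (s : B)) ?_).resolve_right
        (fun hh => s.2 ((IsLocalization.AtPrime.to_map_mem_maximal_iff B' m.asIdeal _).1 hh))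
      rw [sub_mul, IsLocalization.mk'_spec, ← map_mul, ← map_sub,
        IsLocalization.AtPrime.to_map_mem_maximal_iff B' m.asIdeal]
      rw [show b * t * (s : B) - b = b * (t * s - 1) by ring]
      exact Ideal.mul_mem_left _ _ hts
    have : IsScalarTower A A' (ResidueField B') := IsScalarTower.of_algebraMap_eq fun a => by
      rw [IsScalarTower.algebraMap_apply A B (ResidueField B'), IsScalarTower.algebraMap_apply A' B' (ResidueField B'),
        show algebraMap A' B' (algebraMap A A' a) = algebraMap B B' (algebraMap A B a) from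
          Localization.localRingHom_to_map q.asIdeal m.asIdeal (algebraMap A B) hq a]
      rfl
    have : Module.Finite A' (ResidueField B') := Module.Finite.of_restrictScalars_finite A A' _
    have : Module.Finite (ResidueField A') (ResidueField B') :=
      Module.Finite.of_restrictScalars_finite A' _ _
    exact Module.finrank_pos.ne'
  refine ⟨Set.toFinite _, RingHom.finite_algebraMap.2 ‹FiniteDimensional K L›,
    fun x hx => ⟨hdim ⟨x, hx⟩, by rw [(hdeg ⟨x, hx⟩).1]; exact (hdeg ⟨x, hx⟩).2⟩, ?_⟩
  have hnorm : Cyc.normGen p ξ g = Algebra.norm K g := rfl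
  rw [hnorm, ordAt_generic' hdom h hy.le _ (Algebra.norm_ne_zero_iff.2 hg),
    ordFrac_norm (A := A) (B := B) hy hAB C g hg,
    ← finsum_set_coe_eq_finsum_mem (f := fun x => (p.residueDegree x : ℤ) *
      Cyc.ordAt x ξ (gen_specializes x) g), finsum_eq_sum_of_fintype]
  refine (Fintype.sum_equiv Φe _ _ fun x => ?_).symm
  rw [(hdeg x).1, ordAt_generic x.1 (hdim x) g hg]
  obtain ⟨m, rfl⟩ := Φe.symm.surjective x
  rw [show Φ (Φe.symm m) = m from Φe.apply_symm_apply m, Φe.apply_symm_apply]

/-- The norm formula along the fibre of a morphism which is finite over a neighbourhood. -/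
theorem finite_fibre_formula (p : X ⟶ Y) (y : Y) (W : Y.Opens) (hyW : y ∈ W) [IsFinite (p ∣_ W)]
    (hdom : p (genericPoint X) = genericPoint Y) (hy : ringKrullDim (Y.presheaf.stalk y) = 1)
    (h : p (genericPoint X) ⤳ y) (g : X.residueField (genericPoint X)) (hg : g ≠ 0) :
    (p ⁻¹' {y}).Finite ∧ (p.residueFieldMap (genericPoint X)).hom.Finite ∧
    (∀ x ∈ p ⁻¹' {y}, ringKrullDim (X.presheaf.stalk x) ≤ 1 ∧ p.residueDegree x ≠ 0) ∧
    Cyc.ordAt y (p (genericPoint X)) h (Cyc.normGen p (genericPoint X) g) =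
      ∑ᶠ x ∈ p ⁻¹' {y}, (p.residueDegree x : ℤ) *
        Cyc.ordAt x (genericPoint X) (gen_specializes x) g := by
  obtain ⟨_, ⟨V, hV, rfl⟩, hyV, hVW⟩ :=
    Y.isBasis_affineOpens.exists_subset_of_mem_open hyW W.2
  have hU : IsAffineOpen (p ⁻¹ᵁ V) ∧ (p.app V).hom.Finite := by
    let V' : (W : Scheme.{u}).Opens := W.ι ⁻¹ᵁ V
    have hV' : IsAffineOpen V' := hV.preimage_of_isOpenImmersion W.ι (by simpa using hVW)
    have e1 : (p ⁻¹ᵁ W).ι ''ᵁ ((p ∣_ W) ⁻¹ᵁ V') = p ⁻¹ᵁ V := by
      rw [image_morphismRestrict_preimage, Scheme.Hom.image_preimage_eq_opensRange_inf,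
        Scheme.Opens.opensRange_ι, inf_eq_right.2 (show V ≤ W from hVW)]
    have hU : IsAffineOpen (p ⁻¹ᵁ V) := e1 ▸ (hV'.preimage (p ∣_ W)).image_of_isOpenImmersion _
    refine ⟨hU, ?_⟩
    have h1 := (inferInstance : IsFinite (p ∣_ W)).finite_app V' hV'
    rw [morphismRestrict_app] at h1
    replace h1 : ((X.presheaf.map (eqToHom (image_morphismRestrict_preimage p W V')).op).hom.comp
        (p.app (W.ι ''ᵁ V')).hom).Finite := h1
    have e : W.ι ''ᵁ V' = V := by
      rw [Scheme.Hom.image_preimage_eq_opensRange_inf, Scheme.Opens.opensRange_ι,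
        inf_eq_right.2 (show V ≤ W from hVW)]
    have key : ∀ V'' : Y.Opens, V'' = V → (p.app V'').hom.Finite → (p.app V).hom.Finite := by
      rintro _ rfl h; exact h
    refine key _ e ?_
    let θ := asIso (X.presheaf.map (eqToHom (image_morphismRestrict_preimage p W V')).op)
    have h2 := (RingHom.Finite.of_surjective θ.inv.hom
      θ.commRingCatIsoToRingEquiv.symm.surjective).comp h1
    have h3 : θ.inv.hom.comp ((X.presheaf.map (eqToHom (image_morphismRestrict_preimage p W V')).op).hom.comp
        (p.app (W.ι ''ᵁ V')).hom) = (p.app (W.ι ''ᵁ V')).hom := by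
      ext a
      exact θ.hom_inv_id_apply _
    rwa [h3] at h2
  exact finite_fibre_formula_aux p y V hV hyV hU.1 hU.2 hdom hy h g hg
    (Localization (Submonoid.map (p.app V).hom (hV.primeIdealOf ⟨y, hyV⟩).asIdeal.primeCompl))

end Groth.Agent.Cyc90
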