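import Groth.Agent.Cyc90.FlatFinAlg
import Groth.Agent.Cyc90.FinFibre
import Mathlib.AlgebraicGeometry.Morphisms.FlatRank
import Mathlib.AlgebraicGeometry.Morphisms.QuasiFinite

/-! The fibres of a finite flat morphism: multiplicities weighted by residue degrees sum to the rank. -/

set_option autoImplicit false
universe u

open CategoryTheory AlgebraicGeometry TopologicalSpace IsLocalRing

namespace Groth.Agent.Cyc90

variable {X Y : Scheme.{u}}

lemma map_maximalIdeal_ringEquiv {A A' : Type u} [CommRing A] [CommRing A'] [IsLocalRing A]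
    [IsLocalRing A'] (e : A ≃+* A') : (maximalIdeal A).map e.toRingHom = maximalIdeal A' := by
  have : ((maximalIdeal A).map e.toRingHom).IsMaximal :=
    Ideal.map_isMaximal_of_equiv e
  exact IsLocalRing.eq_maximalIdeal this

lemma isPullback_fromSpec (p : X ⟶ Y) {V : Y.Opens} (hV : IsAffineOpen V) (hU : IsAffineOpen (p ⁻¹ᵁ V)) :
    IsPullback hU.fromSpec (Spec.map (p.app V)) p hV.fromSpec := by
  refine (isPullback_morphismRestrict p V).flip.of_iso hU.isoSpec (Iso.refl _) hV.isoSpec (Iso.refl _)
    ?_ ?_ (by simp) ?_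
  · rw [Iso.refl_hom, Category.comp_id, IsAffineOpen.isoSpec_hom_fromSpec]
  · rw [← cancel_mono hV.fromSpec, Category.assoc, Category.assoc, IsAffineOpen.isoSpec_hom_fromSpec,
      Scheme.Hom.app_eq_appLE, IsAffineOpen.SpecMap_appLE_fromSpec p hV hU,
      IsAffineOpen.isoSpec_hom_fromSpec_assoc, morphismRestrict_ι]
  · rw [Iso.refl_hom, Category.comp_id, IsAffineOpen.isoSpec_hom_fromSpec]

lemma finrank_eq_rankAtStalk (p : X ⟶ Y) [IsFinite p] [Flat p] {V : Y.Opens} (hV : IsAffineOpen V)
    (hU : IsAffineOpen (p ⁻¹ᵁ V)) {y : Y} (hy : y ∈ V) :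
    p.finrank y = (p.app V).hom.finrank (hV.primeIdealOf ⟨y, hy⟩) := by
  have h1 := Scheme.Hom.finrank_of_isPullback _ _ _ _ (isPullback_fromSpec p hV hU)
    (hV.primeIdealOf ⟨y, hy⟩)
  rw [hV.fromSpec_primeIdealOf ⟨y, hy⟩] at h1
  rw [← h1, Scheme.Hom.finrank_SpecMap_eq_finrank]
  · exact p.finite_app V hV
  · rw [Scheme.Hom.app_eq_appLE]; exact p.flat_appLE hV hU _

set_option maxHeartbeats 1600000 in
theorem finite_flat_fibre_aux (p : X ⟶ Y) [IsFinite p] [Flat p] (y : Y)
    [IsNoetherianRing (Y.presheaf.stalk y)]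
    (V : Y.Opens) (hV : IsAffineOpen V) (hyV : y ∈ V) (hU : IsAffineOpen (p ⁻¹ᵁ V))
    (hfin : (p.app V).hom.Finite) (hflat : (p.app V).hom.Flat)
    (B : Type u) [CommRing B] [Algebra Γ(X, p ⁻¹ᵁ V) B]
    [hB : IsLocalization (Submonoid.map (p.app V).hom (hV.primeIdealOf ⟨y, hyV⟩).asIdeal.primeCompl) B] :
    (p ⁻¹' {y}).Finite ∧ (∀ x ∈ p ⁻¹' {y}, p.residueDegree x ≠ 0) ∧
    ∑ᶠ x ∈ p ⁻¹' {y}, p.residueDegree x * (Module.length (X.presheaf.stalk x)
      (X.presheaf.stalk x ⧸ (maximalIdeal (Y.presheaf.stalk (p x))).map (p.stalkMap x).hom)).toNat =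
      p.finrank y := by
  classical
  let U := p ⁻¹ᵁ V
  let R := Γ(Y, V)
  let S := Γ(X, U)
  let A := Y.presheaf.stalk y
  let iRS : Algebra R S := (p.app V).hom.toAlgebra
  have : Module.Finite R S := hfin
  have : Module.Flat R S := hflat
  let iRA : Algebra R A := TopCat.Presheaf.algebra_section_stalk Y.presheaf ⟨y, hyV⟩
  let P := (hV.primeIdealOf ⟨y, hyV⟩).asIdeal
  have : IsLocalization.AtPrime A P := hV.isLocalization_stalk ⟨y, hyV⟩
  let M := Algebra.algebraMapSubmonoid S P.primeCompl
  have : IsLocalization M B := hB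
  let iRB : Algebra R B := ((algebraMap S B).comp (algebraMap R S)).toAlgebra
  have tRSB : IsScalarTower R S B := IsScalarTower.of_algebraMap_eq fun _ => rfl
  let iAB : Algebra A B := (IsLocalization.map B (algebraMap R S)
    (show P.primeCompl ≤ M.comap (algebraMap R S) from fun r hr => ⟨r, hr, rfl⟩) : A →+* B).toAlgebra
  have tRAB : IsScalarTower R A B := IsScalarTower.of_algebraMap_eq fun r => by
    change algebraMap R B r = IsLocalization.map B _ _ (algebraMap R A r)
    rw [IsLocalization.map_eq, ← IsScalarTower.algebraMap_apply]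
  have : Module.Finite A B := Module.Finite.of_isLocalization R S P.primeCompl
  -- the points over `y`
  have hxU : ∀ x : ↥(p ⁻¹' {y}), x.1 ∈ U := fun x => by
    show p x.1 ∈ V
    rw [show p x.1 = y from x.2]; exact hyV
  let germS : ∀ x : ↥(p ⁻¹' {y}), S →+* X.presheaf.stalk x.1 := fun x =>
    (X.presheaf.germ U x.1 (hxU x)).hom
  have hux : ∀ (x : ↥(p ⁻¹' {y})) (s : M), IsUnit (germS x s) := by
    rintro x ⟨_, r, hr, rfl⟩
    have hr' : r ∉ (hV.primeIdealOf ⟨p x.1, hxU x⟩).asIdeal := by
      have : (⟨p x.1, hxU x⟩ : V) = ⟨y, hyV⟩ := Subtype.ext x.2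
      rw [this]; exact hr
    replace hr' := not_not.1 ((not_congr (mem_primeIdealOf hV (y := p x.1) (hxU x) r)).1 hr')
    exact (isUnit_germ_app_iff p (hxU x) r).2 hr'
  let φ : ∀ x : ↥(p ⁻¹' {y}), B →+* X.presheaf.stalk x.1 := fun x => IsLocalization.lift (hux x)
  have hφ : ∀ x s, φ x (algebraMap S B s) = germS x s := fun x s => IsLocalization.lift_eq (hux x) s
  have hxy : ∀ x : ↥(p ⁻¹' {y}), y = p x.1 := fun x => (show p x.1 = y from x.2).symm
  let eA : ∀ x : ↥(p ⁻¹' {y}), A →+* Y.presheaf.stalk (p x.1) := fun x =>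
    (Y.presheaf.stalkCongr (.of_eq (hxy x))).hom.hom
  have hφA : ∀ x, (φ x).comp (algebraMap A B) = (p.stalkMap x.1).hom.comp (eA x) := fun x => by
    refine IsLocalization.ringHom_ext P.primeCompl (RingHom.ext fun r => ?_)
    change φ x (algebraMap A B (algebraMap R A r)) = p.stalkMap x.1 (eA x (algebraMap R A r))
    have he : eA x (algebraMap R A r) = Y.presheaf.germ V (p x.1) (hxU x) r :=
      TopCat.Presheaf.germ_stalkSpecializes_apply Y.presheaf hyV (specializes_of_eq (show p x.1 = y from x.2)) r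
    rw [← IsScalarTower.algebraMap_apply R A B, IsScalarTower.algebraMap_apply R S B, hφ, he]
    exact (Scheme.Hom.germ_stalkMap_apply p V x.1 (hxU x) r).symm
  have heA : ∀ x : ↥(p ⁻¹' {y}), IsLocalHom (eA x) := fun x =>
    inferInstanceAs (IsLocalHom (Y.presheaf.stalkCongr (.of_eq (hxy x))).hom.hom)
  have hcomap : ∀ x, ((maximalIdeal (X.presheaf.stalk x.1)).comap (φ x)).IsMaximal := fun x => by
    have := heA x
    refine Ideal.isMaximal_of_isIntegral_of_isMaximal_comap (R := A) _ ?_
    rw [Ideal.comap_comap, hφA x, ← Ideal.comap_comap, maximalIdeal_comap, maximalIdeal_comap]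
    exact maximalIdeal.isMaximal A
  let Φ : ↥(p ⁻¹' {y}) → MaximalSpectrum B := fun x => ⟨_, hcomap x⟩
  have hΦS : ∀ x, (Φ x).asIdeal.comap (algebraMap S B) = (hU.primeIdealOf ⟨x.1, hxU x⟩).asIdeal := by
    intro x
    ext s
    rw [mem_primeIdealOf, Ideal.mem_comap]
    change φ x (algebraMap S B s) ∈ maximalIdeal _ ↔ _
    rw [hφ]
    exact mem_maximalIdeal _
  have hΦ : Function.Bijective Φ := by
    refine ⟨fun a b e => Subtype.ext ?_, fun m => ?_⟩
    · have h1 : hU.primeIdealOf ⟨a.1, hxU a⟩ = hU.primeIdealOf ⟨b.1, hxU b⟩ :=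
        PrimeSpectrum.ext (by rw [← hΦS, ← hΦS, e])
      have h2 := congrArg hU.fromSpec h1
      rwa [hU.fromSpec_primeIdealOf, hU.fromSpec_primeIdealOf] at h2
    · have := m.isMaximal
      let Q : PrimeSpectrum S := ⟨m.asIdeal.comap (algebraMap S B), inferInstance⟩
      let x : X := hU.fromSpec Q
      have hxU' : x ∈ U := hU.range_fromSpec.le ⟨Q, rfl⟩
      have hQ : hU.primeIdealOf ⟨x, hxU'⟩ = Q := hU.fromSpec.isOpenEmbedding.injective
        (hU.fromSpec_primeIdealOf ⟨x, hxU'⟩)
      have hQR : Q.asIdeal.comap (algebraMap R S) = P := by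
        rw [show Q.asIdeal = m.asIdeal.comap (algebraMap S B) from rfl, Ideal.comap_comap,
          ← IsScalarTower.algebraMap_eq R S B, IsScalarTower.algebraMap_eq R A B, ← Ideal.comap_comap,
          IsLocalRing.eq_maximalIdeal
            (Ideal.isMaximal_comap_of_isIntegral_of_isMaximal (R := A) m.asIdeal)]
        exact IsLocalization.AtPrime.comap_maximalIdeal A P
      have hpx : p x = y := by
        have h1 : hV.primeIdealOf ⟨p x, hxU'⟩ = hV.primeIdealOf ⟨y, hyV⟩ :=
          PrimeSpectrum.ext (by rw [primeIdealOf_apply p hV hU hxU', hQ]; exact hQR)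
        have h2 := congrArg hV.fromSpec h1
        rwa [hV.fromSpec_primeIdealOf, hV.fromSpec_primeIdealOf] at h2
      refine ⟨⟨x, hpx⟩, MaximalSpectrum.ext ?_⟩
      have hΦQ : (Φ ⟨x, hpx⟩).asIdeal.comap (algebraMap S B) = m.asIdeal.comap (algebraMap S B) :=
        (hΦS ⟨x, hpx⟩).trans (congrArg PrimeSpectrum.asIdeal hQ)
      exact (IsLocalization.map_comap M B _).symm.trans
        ((congrArg (Ideal.map (algebraMap S B)) hΦQ).trans (IsLocalization.map_comap M B _))
  let Φe := Equiv.ofBijective Φ hΦ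
  have : Finite (MaximalSpectrum B) := finite_maximalSpectrum A B
  have : Finite ↥(p ⁻¹' {y}) := Finite.of_equiv _ Φe.symm
  let _ : Fintype (MaximalSpectrum B) := Fintype.ofFinite _
  let _ : Fintype ↥(p ⁻¹' {y}) := Fintype.ofFinite _
  -- the local rings
  let C : MaximalSpectrum B → Type u := fun m => X.presheaf.stalk (Φe.symm m).1
  let iBC : ∀ m, Algebra B (C m) := fun m => (φ (Φe.symm m)).toAlgebra
  have hloc : ∀ m, IsLocalization.AtPrime (C m) m.asIdeal := fun m => by
    let x := Φe.symm m
    have hm : Φ x = m := Φe.apply_symm_apply m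
    let iSx : Algebra S (C m) := TopCat.Presheaf.algebra_section_stalk X.presheaf ⟨x.1, hxU x⟩
    have : IsLocalization.AtPrime (C m) (hU.primeIdealOf ⟨x.1, hxU x⟩).asIdeal :=
      hU.isLocalization_stalk ⟨x.1, hxU x⟩
    have : IsScalarTower S B (C m) := IsScalarTower.of_algebraMap_eq fun s => (hφ x s).symm
    have hle : M ≤ (hU.primeIdealOf ⟨x.1, hxU x⟩).asIdeal.primeCompl := fun s hs hmem =>
      (mem_primeIdealOf hU (hxU x) s).1 hmem (hux x ⟨s, hs⟩)
    have : IsLocalization ((hU.primeIdealOf ⟨x.1, hxU x⟩).asIdeal.primeCompl.map (algebraMap S B)) (C m) :=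
      IsLocalization.isLocalization_of_submonoid_le B (C m) M _ hle
    refine IsLocalization.of_le ((hU.primeIdealOf ⟨x.1, hxU x⟩).asIdeal.primeCompl.map
      (algebraMap S B)) m.asIdeal.primeCompl ?_ fun b hb => ?_
    · rintro _ ⟨s, hs, rfl⟩ hsm
      refine hs ?_
      rw [← hΦS x]
      exact Ideal.mem_comap.2 (hm.symm ▸ hsm)
    · by_contra hu
      rw [← hm] at hb
      exact hb ((mem_maximalIdeal _).2 hu)
  have hdeg : ∀ x : ↥(p ⁻¹' {y}), p.residueDegree x.1 = degAt A (Φ x) ∧ degAt A (Φ x) ≠ 0 := fun x => by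
    let q : MaximalSpectrum A := ⟨maximalIdeal A, maximalIdeal.isMaximal A⟩
    let m := Φ x
    have hq : q.asIdeal = m.asIdeal.comap (algebraMap A B) := by
      have := m.isMaximal
      exact (IsLocalRing.eq_maximalIdeal
        (Ideal.isMaximal_comap_of_isIntegral_of_isMaximal (R := A) m.asIdeal)).symm
    let A' := Localization.AtPrime q.asIdeal
    let B' := Localization.AtPrime m.asIdeal
    have : IsLocalization q.asIdeal.primeCompl A := IsLocalization.self fun a ha => by
      by_contra hu; exact ha hu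
    let e1 : A ≃+* A' := (IsLocalization.algEquiv q.asIdeal.primeCompl A A').toRingEquiv
    let iBx : Algebra B (X.presheaf.stalk x.1) := (φ x).toAlgebra
    have hlx : IsLocalization.AtPrime (X.presheaf.stalk x.1) m.asIdeal := by
      have h0 : ∀ m', ∀ z, Φe.symm m' = z →
          @IsLocalization.AtPrime B _ (X.presheaf.stalk z.1) _ (φ z).toAlgebra m'.asIdeal
            m'.isMaximal.isPrime := by
        rintro m' _ rfl; exact hloc m'
      exact h0 m x (Φe.symm_apply_apply x)
    let e2 : B' ≃+* X.presheaf.stalk x.1 :=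
      (IsLocalization.algEquiv m.asIdeal.primeCompl B' (X.presheaf.stalk x.1)).toRingEquiv
    let e3 : A ≃+* Y.presheaf.stalk (p x.1) :=
      (Y.presheaf.stalkCongr (.of_eq (hxy x))).commRingCatIsoToRingEquiv
    let iA'B' : Algebra A' B' := (TameAlg50.locMap q m hq).toAlgebra
    have : IsLocalHom (algebraMap A' B') :=
      Localization.isLocalHom_localRingHom q.asIdeal m.asIdeal (algebraMap A B) hq
    let iκ : Algebra (Y.residueField (p x.1)) (X.residueField x.1) :=
      (p.residueFieldMap x.1).hom.toAlgebra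
    have hd : degAt A m = Module.finrank (ResidueField A') (ResidueField B') := rfl
    have hr : p.residueDegree x.1 = Module.finrank (Y.residueField (p x.1)) (X.residueField x.1) := rfl
    have hEq : Module.finrank (ResidueField A') (ResidueField B') =
        Module.finrank (Y.residueField (p x.1)) (X.residueField x.1) := by
      refine Algebra.finrank_eq_of_equiv_equiv
        ((ResidueField.mapEquiv e1).symm.trans (ResidueField.mapEquiv e3)) (ResidueField.mapEquiv e2)
        (RingHom.ext fun z => ?_)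
      obtain ⟨a', rfl⟩ := residue_surjective z
      obtain ⟨a, rfl⟩ := e1.surjective a'
      have h1 : e1 a = algebraMap A A' a := AlgEquiv.commutes _ a
      have h2 : e2 (algebraMap A' B' (e1 a)) = p.stalkMap x.1 (e3 a) := by
        rw [h1]
        change e2 (TameAlg50.locMap q m hq (algebraMap A A' a)) = _
        rw [TameAlg50.locMap, Localization.localRingHom_to_map]
        refine (AlgEquiv.commutes (IsLocalization.algEquiv m.asIdeal.primeCompl B'
          (X.presheaf.stalk x.1)) (algebraMap A B a)).trans ?_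
        exact RingHom.congr_fun (hφA x) a
      change p.residueFieldMap x.1 (Y.residue (p x.1) (e3 (e1.symm (e1 a)))) =
        X.residue x.1 (e2 (algebraMap A' B' (e1 a)))
      rw [e1.symm_apply_apply, h2]
      exact congrArg (fun ψ => ψ (e3 a)) (AlgebraicGeometry.Scheme.residue_residueFieldMap p x.1)
    refine ⟨hr.trans (hEq.symm.trans hd.symm), ?_⟩
    change degAt A m ≠ 0
    rw [hd]
    have : Module.Finite A (ResidueField B') := by
      let f : B →+* ResidueField B' := (IsLocalRing.residue B').comp (algebraMap B B')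
      have := m.isMaximal
      have : IsScalarTower A B (ResidueField B') := inferInstance
      refine Module.Finite.of_surjective (IsScalarTower.toAlgHom A B (ResidueField B')).toLinearMap ?_
      intro z
      obtain ⟨z, rfl⟩ := residue_surjective z
      obtain ⟨b, s, rfl⟩ := IsLocalization.exists_mk'_eq m.asIdeal.primeCompl z
      let iF : Field (B ⧸ m.asIdeal) := Ideal.Quotient.field _
      obtain ⟨t, ht⟩ := Ideal.Quotient.mk_surjective (Ideal.Quotient.mk m.asIdeal (s : B))⁻¹
      refine ⟨b * t, ?_⟩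
      have hs0 : Ideal.Quotient.mk m.asIdeal (s : B) ≠ 0 := fun e => s.2 (Ideal.Quotient.eq_zero_iff_mem.1 e)
      have hts : t * (s : B) - 1 ∈ m.asIdeal := by
        rw [← Ideal.Quotient.eq_zero_iff_mem, map_sub, map_mul, ht, inv_mul_cancel₀ hs0, map_one, sub_self]
      change IsLocalRing.residue B' (algebraMap B B' (b * t)) = _
      rw [← sub_eq_zero, ← map_sub, residue_eq_zero_iff]
      refine ((maximalIdeal.isMaximal B').isPrime.mem_or_mem (y := algebraMap B B' (s : B)) ?_).resolve_right
        (fun hh => s.2 ((IsLocalization.AtPrime.to_map_mem_maximal_iff B' m.asIdeal _).1 hh))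
      rw [sub_mul, IsLocalization.mk'_spec, ← map_mul, ← map_sub,
        IsLocalization.AtPrime.to_map_mem_maximal_iff B' m.asIdeal]
      rw [show b * t * (s : B) - b = b * (t * s - 1) by ring]
      exact Ideal.mul_mem_left _ _ hts
    have : IsScalarTower A A' (ResidueField B') := IsScalarTower.of_algebraMap_eq fun a => by
      rw [IsScalarTower.algebraMap_apply A B (ResidueField B'), IsScalarTower.algebraMap_apply A' B' (ResidueField B'),
        show algebraMap A' B' (algebraMap A A' a) = algebraMap B B' (algebraMap A B a) from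
          Localization.localRingHom_to_map q.asIdeal m.asIdeal (algebraMap A B) hq a]
      rfl
    have : Module.Finite A' (ResidueField B') := Module.Finite.of_restrictScalars_finite A A' _
    have : Module.Finite (ResidueField A') (ResidueField B') :=
      Module.Finite.of_restrictScalars_finite A' _ _
    exact Module.finrank_pos.ne'
  have : Algebra.IsPushout R A S B := (Algebra.isPushout_of_isLocalization P.primeCompl A S B).symm
  have : Algebra.IsPushout R S A B := Algebra.isPushout_of_isLocalization P.primeCompl A S B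
  have : Module.Flat A B := Module.Flat.isBaseChange R A S B (Algebra.IsPushout.symm ‹Algebra.IsPushout R S A B›).out
  have : Module.Free A B := Module.free_of_flat_of_isLocalRing
  have hrank : Module.finrank A B = p.finrank y := by
    rw [finrank_eq_rankAtStalk p hV hU hyV]
    change _ = Module.rankAtStalk (R := R) S ⟨P, inferInstance⟩
    have h1 := congrFun (Module.rankAtStalk_eq_finrank_of_free (R := A) (M := B)) (closedPoint A)
    rw [Pi.natCast_apply, Nat.cast_id] at h1
    rw [← h1, Algebra.rankAtStalk_eq_of_isPushout R S A B]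
    congr 1
    exact PrimeSpectrum.ext (IsLocalization.AtPrime.comap_maximalIdeal A P)
  refine ⟨Set.toFinite _, fun x hx => by rw [(hdeg ⟨x, hx⟩).1]; exact (hdeg ⟨x, hx⟩).2, ?_⟩
  rw [← hrank, ← sum_degAt_mul_length (A := A) (B := B) C,
    ← finsum_set_coe_eq_finsum_mem (f := fun x => p.residueDegree x * (Module.length (X.presheaf.stalk x)
      (X.presheaf.stalk x ⧸ (maximalIdeal (Y.presheaf.stalk (p x))).map (p.stalkMap x).hom)).toNat),
    finsum_eq_sum_of_fintype]
  refine Fintype.sum_equiv Φe _ _ fun x => ?_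
  rw [(hdeg x).1]
  congr 1
  obtain ⟨m, rfl⟩ := Φe.symm.surjective x
  rw [Φe.apply_symm_apply]
  have h2 : (maximalIdeal A).map (algebraMap B (C m) |>.comp (algebraMap A B)) =
      (maximalIdeal (Y.presheaf.stalk (p (Φe.symm m).1))).map (p.stalkMap (Φe.symm m).1).hom := by
    change (maximalIdeal A).map ((φ (Φe.symm m)).comp (algebraMap A B)) = _
    rw [hφA, ← Ideal.map_map]
    congr 1
    exact map_maximalIdeal_ringEquiv (Y.presheaf.stalkCongr (.of_eq (hxy (Φe.symm m)))).commRingCatIsoToRingEquiv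
  rw [h2]

/-- The multiplicities in a fibre of a finite flat morphism weighted by residue degrees sum to its rank,
over a point with Noetherian local ring. -/
theorem finite_flat_fibre' (p : X ⟶ Y) [IsFinite p] [Flat p] (y : Y)
    [IsNoetherianRing (Y.presheaf.stalk y)] :
    (p ⁻¹' {y}).Finite ∧ (∀ x ∈ p ⁻¹' {y}, p.residueDegree x ≠ 0) ∧
    ∑ᶠ x ∈ p ⁻¹' {y}, p.residueDegree x * (Module.length (X.presheaf.stalk x)
      (X.presheaf.stalk x ⧸ (maximalIdeal (Y.presheaf.stalk (p x))).map (p.stalkMap x).hom)).toNat =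
      p.finrank y := by
  obtain ⟨V, hV, hyV, -⟩ := exists_isAffineOpen_mem_and_subset (U := ⊤) (x := y) trivial
  exact finite_flat_fibre_aux p y V hV hyV (hV.preimage p) (p.finite_app V hV) (by rw [Scheme.Hom.app_eq_appLE]; exact p.flat_appLE hV (hV.preimage p) _)
    (Localization (Submonoid.map (p.app V).hom (hV.primeIdealOf ⟨y, hyV⟩).asIdeal.primeCompl))

/-- The multiplicities in a fibre of a finite flat morphism weighted by residue degrees sum to its rank. -/
theorem finite_flat_fibre (p : X ⟶ Y) [IsLocallyNoetherian Y] [IsFinite p] [Flat p] (y : Y) :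
    (p ⁻¹' {y}).Finite ∧ (∀ x ∈ p ⁻¹' {y}, p.residueDegree x ≠ 0) ∧
    ∑ᶠ x ∈ p ⁻¹' {y}, p.residueDegree x * (Module.length (X.presheaf.stalk x)
      (X.presheaf.stalk x ⧸ (maximalIdeal (Y.presheaf.stalk (p x))).map (p.stalkMap x).hom)).toNat =
      p.finrank y :=
  finite_flat_fibre' p y

end Groth.Agent.Cyc90

namespace Groth.Agent.Cyc90

lemma hasRelDim_zero_of_finite {X Y : Scheme.{u}} (f : X ⟶ Y) [LocallyQuasiFinite f] :
    Cyc.HasRelDim f 0 := fun y T hT => by
  obtain ⟨x, hx⟩ := hT.1.nonempty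
  have : Subsingleton T := hT.1.isPreirreducible.subsingleton.coe_sort
  rw [Nat.cast_zero]
  refine le_antisymm (topologicalKrullDim_zero_of_discreteTopology T) ?_
  have : Nonempty (IrreducibleCloseds T) :=
    ⟨⟨closure {⟨x, hx⟩}, isIrreducible_singleton.closure, isClosed_closure⟩⟩
  exact Order.krullDim_nonneg

lemma delta_eq_of_residueDegree_ne_zero {X Y : Scheme.{u}} (f : X ⟶ Y) {δX : X → ℤ} {δY : Y → ℤ}
    (hδ : Cyc.DeltaCompat f δX δY) (x : X) (h : f.residueDegree x ≠ 0) : δX x = δY (f x) := by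
  obtain ⟨n, hn, hd⟩ := hδ x
  let := (f.residueFieldMap x).hom.toAlgebra
  have : Module.Finite (Y.residueField (f x)) (X.residueField x) :=
    Module.finite_of_finrank_pos (Nat.pos_of_ne_zero h)
  rw [trdeg_eq_zero, eq_comm, Nat.cast_eq_zero] at hn
  simp [hd, hn]

end Groth.Agent.Cyc90

namespace Groth.Agent.Cyc90

lemma finite_residueFieldMap_of_quasiFinite {X Y : Scheme.{u}} (f : X ⟶ Y) [LocallyQuasiFinite f] (x : X) :
    (f.residueFieldMap x).hom.Finite := by
  have h1 : ((X.residue x).hom.comp (f.stalkMap x).hom).QuasiFinite :=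
    (RingHom.QuasiFinite.of_finite (RingHom.Finite.of_surjective _ (X.residue_surjective x))).comp
      (Scheme.Hom.quasiFiniteAt f x)
  have e : (X.residue x).hom.comp (f.stalkMap x).hom =
      (f.residueFieldMap x).hom.comp (Y.residue (f x)).hom :=
    (congrArg CommRingCat.Hom.hom (Scheme.residue_residueFieldMap f x)).symm
  rw [e] at h1
  have h2 := RingHom.QuasiFinite.of_comp h1
  algebraize [(f.residueFieldMap x).hom]
  exact RingHom.finite_algebraMap.2 (Module.Finite.of_quasiFinite (R := Y.residueField (f x)))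

lemma delta_eq_of_quasiFinite {X Y : Scheme.{u}} (f : X ⟶ Y) [LocallyQuasiFinite f] {δX : X → ℤ}
    {δY : Y → ℤ} (hδ : Cyc.DeltaCompat f δX δY) (x : X) : δX x = δY (f x) :=
  delta_eq_of_residueDegree_ne_zero f hδ x (by
    algebraize [(f.residueFieldMap x).hom]
    have : Module.Finite (Y.residueField (f x)) (X.residueField x) :=
      finite_residueFieldMap_of_quasiFinite f x
    exact (Module.finrank_pos (R := Y.residueField (f x)) (M := X.residueField x)).ne')

end Groth.Agent.Cyc90
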