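import Groth.Prelude.Def_Cyc
import Groth.Agent.QC70.Stalk
import Groth.Agent.FBase64.AssSheaf3
import Mathlib.Topology.NoetherianSpace

/-! Lengths of stalks of coherent modules and the cycle of a coherent module. -/

set_option autoImplicit false
universe u

open CategoryTheory AlgebraicGeometry TopologicalSpace

namespace Groth.Agent.Cyc90

variable {X : Scheme.{u}}

/-- At a maximal point of the support the stalk of a coherent module has finite length. -/
lemma length_stalk_ne_top [IsLocallyNoetherian X] (F : X.Modules) (hF : Coh.IsCoh F) (ξ : X)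
    (h : ∀ x : X, Nontrivial (F.presheaf.stalk x) → x ⤳ ξ → x = ξ) :
    Module.length (X.presheaf.stalk ξ) (F.presheaf.stalk ξ) ≠ ⊤ :=
  Module.length_ne_top_iff.2 ((FBase64.AssSheaf.maximal_iff_isFiniteLength F hF ξ).1 h)

/-- A point of top dimension in a support has no proper generalization in it. -/
lemma eq_of_delta_eq {δ : X → ℤ} (hX : Cyc.IsDimFun X δ) {k : ℤ} {p : X → Prop}
    (hp : ∀ x, p x → δ x ≤ k) {x : X} (hx : δ x = k) : ∀ y, p y → y ⤳ x → y = x := by
  intro y hy h
  by_contra hne
  have := (hX y x h hne).1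
  have := hp y hy
  omega

/-- Irreducible components of a subspace of a locally Noetherian scheme are locally finite. -/
lemma locallyFinite_components [IsLocallyNoetherian X] (Z : Set X) :
    LocallyFinite (fun C : irreducibleComponents Z => ((↑) '' (C : Set Z) : Set X)) := by
  intro x
  obtain ⟨U, hU, hxU, -⟩ := exists_isAffineOpen_mem_and_subset (X := X) (x := x) (U := ⊤) trivial
  refine ⟨U, U.isOpen.mem_nhds hxU, ?_⟩
  let W : Set Z := Subtype.val ⁻¹' (U : Set X)
  have hWo : IsOpen W := U.isOpen.preimage continuous_subtype_val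
  have : IsAffine (U : Scheme) := hU
  have : IsNoetherianRing Γ(X, U) := IsLocallyNoetherian.component_noetherian ⟨U, hU⟩
  have hN : NoetherianSpace (U : Set X) := noetherianSpace_of_isAffineOpen U hU
  let g : W → (U : Set X) := fun w => ⟨w.1.1, w.2⟩
  have h2 : Topology.IsInducing (fun w : W => (g w).1) :=
    (Topology.IsInducing.subtypeVal (t := Z)).comp (Topology.IsInducing.subtypeVal (t := W))
  have : NoetherianSpace W :=
    (Topology.IsInducing.subtypeVal.of_comp_iff.1 h2).noetherianSpace
  refine Set.Finite.subset (((NoetherianSpace.finite_irreducibleComponents (α := W)).image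
    (fun D : Set W => closure (Subtype.val '' D))).preimage Subtype.val_injective.injOn) ?_
  rintro C ⟨_, ⟨z, hzC, rfl⟩, hzU⟩
  have hCW : ((C : Set Z) ∩ W).Nonempty := ⟨z, hzC, hzU⟩
  have hpre : IsPreirreducible (Subtype.val ⁻¹' (C : Set Z) : Set W) :=
    C.2.1.2.preimage hWo.isOpenEmbedding_subtypeVal
  obtain ⟨D, hD, hCD⟩ := exists_mem_irreducibleComponents_subset_of_isIrreducible _
    ⟨⟨⟨z, hzU⟩, hzC⟩, hpre⟩
  refine ⟨D, hD, (C.2.eq_of_ge (y := closure (Subtype.val '' D))
    (hD.1.image Subtype.val continuous_subtype_val.continuousOn).closure ?_)⟩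
  refine (subset_closure_inter_of_isPreirreducible_of_isOpen C.2.1.2 hWo hCW).trans (closure_mono ?_)
  rintro w ⟨hwC, hwW⟩
  exact ⟨⟨w, hwW⟩, hCD hwC, rfl⟩

/-- Additivity of the cycle of a coherent module in short exact sequences. -/
theorem sheafFun_shortExact {δ : X → ℤ} (hX : Cyc.IsSetup X δ) (k : ℤ) (T : ShortComplex X.Modules)
    (hT : T.ShortExact) (h₂ : Coh.IsCoh T.X₂)
    (hdim : ∀ x : X, Nontrivial (T.X₂.presheaf.stalk x) → δ x ≤ k) :
    Cyc.sheafFun δ k T.X₂ = Cyc.sheafFun δ k T.X₁ + Cyc.sheafFun δ k T.X₃ := by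
  have := hX.1
  funext x
  simp only [Cyc.sheafFun, Pi.add_apply]
  by_cases hx : δ x = k
  swap
  · simp [hx]
  simp only [if_pos hx]
  have := hT.mono_f
  have := hT.epi_g
  have hlen := Module.length_eq_add_of_exact (QC70.stalkLinear T.f x) (QC70.stalkLinear T.g x)
    (QC70.injective_stalkMapM_of_mono T.f x) (QC70.surjective_stalkMapM_of_epi T.g x)
    (Function.Exact.of_comp_of_mem_range (funext fun e => by
        change QC70.stalkMapM T.g x (QC70.stalkMapM T.f x e) = 0
        obtain ⟨W, hxW, s, rfl⟩ := QC70.germM_exist e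
        rw [QC70.stalkMapM_germ, QC70.stalkMapM_germ, ← QC70.germM_zero (M := T.X₃) hxW]
        congr 1
        exact congr($(T.zero).app W s))
      (fun e he => QC70.stalkMapM_exact T hT.exact x e he))
  have hne := length_stalk_ne_top T.X₂ h₂ x (eq_of_delta_eq hX.2.2 hdim hx)
  rw [hlen] at hne ⊢
  rw [ENat.toNat_add (fun e => hne (by rw [e, top_add])) (fun e => hne (by rw [e, add_top]))]
  push_cast
  rfl

end Groth.Agent.Cyc90
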