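import Groth.Agent.Cyc90.ClosureSub
import Groth.Agent.Cyc90.SheafLen

/-! Principal divisors are cycles, and are unchanged along immersions. -/

set_option autoImplicit false
universe u

open CategoryTheory AlgebraicGeometry TopologicalSpace IsLocalRing

namespace Groth.Agent.Cyc90

variable {X Z : Scheme.{u}}

/-- Maximal points of a closed subset are locally finite. -/
lemma exists_nhd_finite_maximal [IsLocallyNoetherian X] {T : Set X} (hT : IsClosed T) (x : X) :
    ∃ N ∈ nhds x, ({y ∈ T | ∀ z ∈ T, z ⤳ y → z = y} ∩ N).Finite := by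
  obtain ⟨N, hN, hfin⟩ := locallyFinite_components T x
  refine ⟨N, hN, ?_⟩
  let M := {y ∈ T | ∀ z ∈ T, z ⤳ y → z = y} ∩ N
  have hex : ∀ y : M, ∃ C : irreducibleComponents T, (⟨y.1, y.2.1.1⟩ : T) ∈ (C : Set T) := fun y =>
    ⟨⟨_, irreducibleComponent_mem_irreducibleComponents ⟨y.1, y.2.1.1⟩⟩, mem_irreducibleComponent⟩
  choose C hC using hex
  have := hfin.to_subtype
  refine Set.finite_coe_iff.1 (Finite.of_injective
    (fun y : M => (⟨C y, ⟨y.1, ⟨_, hC y, rfl⟩, y.2.2⟩⟩ :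
      {C : irreducibleComponents T | (((↑) '' (C : Set T) : Set X) ∩ N).Nonempty})) fun a b e => ?_)
  have e' : C a = C b := congrArg Subtype.val e
  have hirr : IsIrreducible (closure ((↑) '' (C a : Set T) : Set X)) :=
    ((C a).2.1.image Subtype.val continuous_subtype_val.continuousOn).closure
  obtain ⟨z, hz⟩ := QuasiSober.sober hirr isClosed_closure
  have hzT : z ∈ T := closure_minimal (by rintro _ ⟨w, -, rfl⟩; exact w.2) hT hz.mem
  have key : ∀ y : M, C y = C a → z = y.1 := fun y hy =>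
    y.2.1.2 z hzT (hz.specializes (subset_closure ⟨_, hy ▸ hC y, rfl⟩))
  exact Subtype.ext ((key a rfl).symm.trans (key b e'.symm))

lemma ordAt_eq_zero {δ : X → ℤ} (hX : Cyc.IsSetup X δ) {y ξ : X} (h : ξ ⤳ y) (hd : δ y + 1 = δ ξ)
    (g : X.residueField ξ) (a b : X.presheaf.stalk y) (ha : IsUnit a) (hb : IsUnit b)
    (e : g * Cyc.specMap y ξ h b = Cyc.specMap y ξ h a) : Cyc.ordAt y ξ h g = 0 := by
  have := hX.1
  have h1 : ringKrullDim (Cyc.LocQuot y ξ h) ≤ 1 :=
    ringKrullDim_locQuot_le_one _ fun w h1 h2 => immediate hX.2.2 h hd h1 h2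
  have := krullDimLE_one h1
  let q := Ideal.Quotient.mk (RingHom.ker (Cyc.specMap y ξ h))
  have hau : IsUnit (q a) := ha.map q
  have hbu : IsUnit (q b) := hb.map q
  rw [Cyc.ordAt, Len90.ordFrac_of_mul_eq g (q a) (q b) hau.ne_zero hbu.ne_zero
    (show g * Cyc.specMap y ξ h b = Cyc.specMap y ξ h a from e), Ring.ord_of_isUnit hau,
    Ring.ord_of_isUnit hbu]
  simp

/-- A principal divisor has locally finite support. -/
theorem divFun_locallyFinite {δ : X → ℤ} (hX : Cyc.IsSetup X δ) (ξ : X) (g : X.residueField ξ)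
    (hg : g ≠ 0) (x : X) : ∃ N ∈ nhds x, (N ∩ Function.support (Cyc.divFun δ ξ g)).Finite := by
  have := hX.1
  obtain ⟨V, hV, hxV, -⟩ := exists_isAffineOpen_mem_and_subset (X := X) (x := x) (U := ⊤) trivial
  by_cases hξV : ξ ∈ V
  swap
  · refine ⟨V, V.2.mem_nhds hxV, Set.Finite.subset Set.finite_empty ?_⟩
    rintro y ⟨hy, hys⟩
    refine hys ?_
    unfold Cyc.divFun
    rw [dif_neg fun h => hξV (h.1.mem_open V.2 hy)]
  let := TopCat.Presheaf.algebra_section_stalk X.presheaf ⟨ξ, hξV⟩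
  have := hV.isLocalization_stalk ⟨ξ, hξV⟩
  obtain ⟨w, rfl⟩ := X.residue_surjective ξ g
  obtain ⟨a, ⟨b, hb⟩, rfl⟩ := IsLocalization.exists_mk'_eq
    (hV.primeIdealOf ⟨ξ, hξV⟩).asIdeal.primeCompl w
  have hab := IsLocalization.mk'_spec (X.presheaf.stalk ξ) a (⟨b, hb⟩ : (hV.primeIdealOf ⟨ξ, hξV⟩).asIdeal.primeCompl)
  have hbu : IsUnit (X.presheaf.germ V ξ hξV b) :=
    IsLocalization.map_units (X.presheaf.stalk ξ) (⟨b, hb⟩ : (hV.primeIdealOf ⟨ξ, hξV⟩).asIdeal.primeCompl)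
  have hau : IsUnit (X.presheaf.germ V ξ hξV a) := by
    refine (IsLocalRing.residue_ne_zero_iff_isUnit _).1 fun h0 => hg ?_
    have h1 := congrArg (X.residue ξ) hab
    rw [map_mul] at h1
    exact (mul_eq_zero.1 (h1.trans h0)).resolve_right
      ((IsLocalRing.residue_ne_zero_iff_isUnit _).2 hbu)
  let T : Set X := closure {ξ} ∩ ((X.basicOpen a : Set X) ∩ X.basicOpen b)ᶜ
  have hT : IsClosed T :=
    isClosed_closure.inter ((X.basicOpen a).2.inter (X.basicOpen b).2).isClosed_compl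
  have hξT : ξ ∉ T := fun h =>
    h.2 ⟨(X.mem_basicOpen a ξ hξV).2 hau, (X.mem_basicOpen b ξ hξV).2 hbu⟩
  obtain ⟨N, hN, hfin⟩ := exists_nhd_finite_maximal hT x
  refine ⟨V ∩ N, Filter.inter_mem (V.2.mem_nhds hxV) hN, hfin.subset ?_⟩
  rintro y ⟨⟨hyV, hyN⟩, hys⟩
  simp only [Function.mem_support, Cyc.divFun] at hys
  split_ifs at hys with h
  swap
  · exact absurd rfl hys
  refine ⟨⟨⟨specializes_iff_mem_closure.1 h.1, fun hu => hys ?_⟩, fun z hz hzy => ?_⟩, hyN⟩
  · refine ordAt_eq_zero hX h.1 h.2 _ (X.presheaf.germ V y hyV a) (X.presheaf.germ V y hyV b)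
      ((X.mem_basicOpen a y hyV).1 hu.1) ((X.mem_basicOpen b y hyV).1 hu.2) ?_
    change _ * X.residue ξ (X.presheaf.stalkSpecializes h.1 (X.presheaf.germ V y hyV b)) =
      X.residue ξ (X.presheaf.stalkSpecializes h.1 (X.presheaf.germ V y hyV a))
    rw [TopCat.Presheaf.germ_stalkSpecializes_apply, TopCat.Presheaf.germ_stalkSpecializes_apply,
      ← map_mul]
    exact congrArg (X.residue ξ) hab
  · rcases immediate hX.2.2 h.1 h.2 (specializes_iff_mem_closure.2 hz.1) hzy with e | e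
    · exact absurd (e ▸ hz) hξT
    · exact e

/-- Principal divisors are unchanged along immersions. -/
theorem divFun_preimmersion (i : Z ⟶ X) [IsPreimmersion i] [LocallyOfFiniteType i] {δ : X → ℤ}
    (hX : Cyc.IsSetup X δ) (ζ z : Z) (g : X.residueField (i ζ)) (hg : g ≠ 0) :
    Cyc.divFun δ (i ζ) g (i z) =
      Cyc.divFun (fun w => δ (i w)) ζ ((i.residueFieldMap ζ).hom g) z := by
  unfold Cyc.divFun
  have hiff : i ζ ⤳ i z ↔ ζ ⤳ z := i.isEmbedding.isInducing.specializes_iff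
  by_cases h : ζ ⤳ z ∧ δ (i z) + 1 = δ (i ζ)
  · rw [dif_pos ⟨hiff.2 h.1, h.2⟩, dif_pos h]
    have := hX.1
    have hZ : Cyc.IsSetup Z (fun w => δ (i w)) := isSetup_of_lft i δ hX _ (deltaCompat_preimmersion i δ)
    have := hZ.1
    let e := RingEquiv.ofBijective _ (locQuotMap_bijective i h.1)
    have h1 : ringKrullDim (Cyc.LocQuot (i z) (i ζ) (hiff.2 h.1)) ≤ 1 :=
      ringKrullDim_locQuot_le_one _ fun w h1 h2 => immediate hX.2.2 (hiff.2 h.1) h.2 h1 h2
    have h2 : ringKrullDim (Cyc.LocQuot z ζ h.1) ≤ 1 :=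
      (ringKrullDim_eq_of_ringEquiv e).ge.trans h1
    have := krullDimLE_one h1
    have := krullDimLE_one h2
    exact (ordFrac_congr e (i.residueFieldMap ζ).hom (fun a => (locQuotMap_comm i h.1 a).symm) g hg).symm
  · rw [dif_neg fun h' => h ⟨hiff.1 h'.1, h'.2⟩, dif_neg h]

/-- A locally finite sum of principal divisors as a cycle. -/
noncomputable def divSum {δ : X → ℤ} (hX : Cyc.IsSetup X δ) {ι : Type*} (ξ : ι → X)
    (f : (i : ι) → X.residueField (ξ i)) (hf : ∀ i, f i ≠ 0)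
    (hlf : ∀ x : X, ∃ U : Set X, IsOpen U ∧ x ∈ U ∧ {i | (closure {ξ i} ∩ U).Nonempty}.Finite) :
    AlgebraicCycle X ℤ where
  toFun x := ∑ᶠ i, Cyc.divFun δ (ξ i) (f i) x
  supportWithinDomain' := by simp
  supportLocallyFiniteWithinDomain' x _ := by
    obtain ⟨U, hU, hxU, hfin⟩ := hlf x
    choose N hN hNfin using fun i => divFun_locallyFinite hX (ξ i) (f i) (hf i) x
    refine ⟨U ∩ ⋂ i ∈ hfin.toFinset, N i, Filter.inter_mem (hU.mem_nhds hxU)
      ((Filter.biInter_finset_mem _).2 fun i _ => hN i), ?_⟩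
    refine (hfin.toFinset.finite_toSet.biUnion fun i _ => hNfin i).subset ?_
    rintro y ⟨⟨hyU, hyN⟩, hys⟩
    obtain ⟨i, hi⟩ : ∃ i, Cyc.divFun δ (ξ i) (f i) y ≠ 0 := by
      by_contra hall
      push Not at hall
      exact hys (finsum_eq_zero_of_forall_eq_zero hall)
    have hmem : i ∈ hfin.toFinset := by
      rw [Set.Finite.mem_toFinset]
      unfold Cyc.divFun at hi
      split_ifs at hi with h
      · exact ⟨y, specializes_iff_mem_closure.1 h.1, hyU⟩
      · exact absurd rfl hi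
    exact Set.mem_biUnion hmem ⟨Set.mem_iInter₂.1 hyN i hmem, hi⟩

lemma divSum_apply {δ : X → ℤ} (hX : Cyc.IsSetup X δ) {ι : Type*} (ξ : ι → X)
    (f : (i : ι) → X.residueField (ξ i)) (hf : ∀ i, f i ≠ 0)
    (hlf : ∀ x : X, ∃ U : Set X, IsOpen U ∧ x ∈ U ∧ {i | (closure {ξ i} ∩ U).Nonempty}.Finite) (x : X) :
    divSum hX ξ f hf hlf x = ∑ᶠ i, Cyc.divFun δ (ξ i) (f i) x := rfl

/-- A family locally finite in an open of a locally Noetherian scheme is locally finite in the scheme. -/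
lemma locallyFinite_of_open [IsLocallyNoetherian X] (U : X.Opens) {ι : Type*} (ξ : ι → U)
    (h : ∀ u : U, ∃ W : Set U, IsOpen W ∧ u ∈ W ∧ {i | (closure {ξ i} ∩ W).Nonempty}.Finite) (x : X) :
    ∃ W : Set X, IsOpen W ∧ x ∈ W ∧ {i | (closure {(ξ i).1} ∩ W).Nonempty}.Finite := by
  obtain ⟨V, hV, hxV, -⟩ := exists_isAffineOpen_mem_and_subset (X := X) (x := x) (U := ⊤) trivial
  refine ⟨V, V.2, hxV, ?_⟩
  choose W hW huW hWfin using h
  have : IsNoetherianRing Γ(X, V) := IsLocallyNoetherian.component_noetherian ⟨V, hV⟩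
  have : NoetherianSpace (V : Set X) := noetherianSpace_of_isAffineOpen V hV
  have hc : IsCompact ((Subtype.val : ↥(U : Set X) → X) ⁻¹' V) := by
    rw [Subtype.isCompact_iff, Set.image_preimage_eq_inter_range, Subtype.range_coe]
    have h1 := (NoetherianSpace.isCompact ((Subtype.val : ↥(V : Set X) → X) ⁻¹' (U : Set X))).image continuous_subtype_val
    rwa [Set.image_preimage_eq_inter_range, Subtype.range_coe, Set.inter_comm] at h1
  obtain ⟨t, ht⟩ := hc.elim_finite_subcover W hW fun u _ => Set.mem_iUnion.2 ⟨u, huW u⟩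
  refine (t.finite_toSet.biUnion fun u _ => hWfin u).subset ?_
  rintro i ⟨y, hy, hyV⟩
  have hiV : (ξ i).1 ∈ V := (specializes_iff_mem_closure.2 hy).mem_open V.2 hyV
  obtain ⟨u, hu, hiu⟩ := Set.mem_iUnion₂.1 (ht hiV)
  exact Set.mem_biUnion hu ⟨ξ i, subset_closure rfl, hiu⟩

end Groth.Agent.Cyc90
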