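import Groth.Prelude.Def_C1
import Groth.Agent.Cyc90.DivCycle
import Groth.Agent.QC70.UnitSub

/-! Orders of rational sections of modules with cyclic stalks. -/

set_option autoImplicit false
set_option backward.isDefEq.respectTransparency.types false
universe u

open CategoryTheory AlgebraicGeometry TopologicalSpace IsLocalRing

namespace Groth.Agent.Cyc90

variable {X : Scheme.{u}} (L : X.Modules)

/-- The specialization maps of stalks of modules are semilinear. -/
lemma stalkSpecializes_smul {ξ x : X} (h : ξ ⤳ x) (a : X.presheaf.stalk x) (t : L.presheaf.stalk x) :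
    (L.presheaf.stalkSpecializes h) (a • t) =
      (show X.presheaf.stalk ξ from X.presheaf.stalkSpecializes h a) • (L.presheaf.stalkSpecializes h) t := by
  obtain ⟨W, hxW, s, rfl⟩ := QC70.germM_exist t
  obtain ⟨W', hxW', b, rfl⟩ := TopCat.Presheaf.exists_germ_eq X.presheaf a
  have hx : x ∈ W ⊓ W' := ⟨hxW, hxW'⟩
  rw [← QC70.germM_res (inf_le_left : W ⊓ W' ≤ W) hx s, ← QC70.germ_resO (inf_le_right : W ⊓ W' ≤ W') hx b,
    ← QC70.germM_smul, TopCat.Presheaf.germ_stalkSpecializes_apply]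
  refine (QC70.germM_smul (M := L) (h.mem_open (W ⊓ W').2 hx) _ _).trans ?_
  congr 1
  · exact (TopCat.Presheaf.germ_stalkSpecializes_apply X.presheaf hx h _).symm
  · exact (TopCat.Presheaf.germ_stalkSpecializes_apply L.presheaf hx h _).symm

lemma smul_mk_eq_zero {ξ : X} {a : X.presheaf.stalk ξ} (ha : X.residue ξ a = 0) (v : Cyc.secFibre L ξ) :
    a • v = 0 := by
  obtain ⟨w, rfl⟩ := Submodule.Quotient.mk_surjective _ v
  rw [← Submodule.Quotient.mk_smul, Submodule.Quotient.mk_eq_zero]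
  exact Submodule.smul_mem_smul ((IsLocalRing.residue_eq_zero_iff a).1 ha) trivial

lemma residue_eq_of_smul_eq {ξ : X} {a b : X.presheaf.stalk ξ} {v : Cyc.secFibre L ξ}
    (h : a • v = b • v) (hv : v ≠ 0) : X.residue ξ a = X.residue ξ b := by
  by_contra hne
  have hu : IsUnit (a - b) := (IsLocalRing.residue_ne_zero_iff_isUnit _).1
    (show X.residue ξ (a - b) ≠ 0 by rw [map_sub]; exact sub_ne_zero.2 hne)
  exact hv ((hu.smul_eq_zero).1 (by rw [sub_smul, h, sub_self]))

lemma ordAt_mul_unit {δ : X → ℤ} (hX : Cyc.IsSetup X δ) {x ξ : X} (h : ξ ⤳ x) (hd : δ x + 1 = δ ξ)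
    (f : X.residueField ξ) (hf : f ≠ 0) (a : X.presheaf.stalk x) (ha : IsUnit a) :
    Cyc.ordAt x ξ h (f * Cyc.specMap x ξ h a) = Cyc.ordAt x ξ h f := by
  have := hX.1
  have h1 : ringKrullDim (Cyc.LocQuot x ξ h) ≤ 1 :=
    ringKrullDim_locQuot_le_one _ fun w h1 h2 => immediate hX.2.2 h hd h1 h2
  have := krullDimLE_one h1
  have h0 : Cyc.ordAt x ξ h (Cyc.specMap x ξ h a) = 0 :=
    ordAt_eq_zero hX h hd _ a 1 ha isUnit_one (by rw [map_one, mul_one])
  rw [Cyc.ordAt, Len90.ordFrac_mul _ _ hf ((ha.map (Cyc.specMap x ξ h)).ne_zero), ← Cyc.ordAt,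
    ← Cyc.ordAt, h0, add_zero]

/-- The order of a rational section computed from any generator of the stalk. -/
theorem secOrdAt_eq {δ : X → ℤ} (hX : Cyc.IsSetup X δ) {x ξ : X} (h : ξ ⤳ x) (hd : δ x + 1 = δ ξ)
    (s : Cyc.secFibre L ξ) (hs : s ≠ 0) (t : L.presheaf.stalk x)
    (ht : Submodule.span (X.presheaf.stalk x) {t} = ⊤) (φ : X.presheaf.stalk ξ)
    (hφ : s = φ • (Submodule.Quotient.mk ((L.presheaf.stalkSpecializes h) t) : Cyc.secFibre L ξ)) :
    Cyc.secOrdAt L ξ x h s = Cyc.ordAt x ξ h (X.residue ξ φ) := by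
  have hex : ∃ t' : L.presheaf.stalk x, Submodule.span (X.presheaf.stalk x) {t'} = ⊤ := ⟨t, ht⟩
  rw [Cyc.secOrdAt, dif_pos hex]
  set t₀ := Classical.choose hex with ht₀
  have ht₀s : Submodule.span (X.presheaf.stalk x) {t₀} = ⊤ := Classical.choose_spec hex
  obtain ⟨a, ha⟩ := Submodule.mem_span_singleton.1
    (show t ∈ Submodule.span (X.presheaf.stalk x) {t₀} from ht₀s ▸ Submodule.mem_top)
  obtain ⟨b, hb⟩ := Submodule.mem_span_singleton.1
    (show t₀ ∈ Submodule.span (X.presheaf.stalk x) {t} from ht ▸ Submodule.mem_top)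
  have hau : IsUnit a := by
    by_contra hna
    have h1 : (1 - b * a) • t₀ = 0 := by rw [sub_smul, one_smul, mul_smul, ha, hb, sub_self]
    have hu : IsUnit (1 - b * a) :=
      IsLocalRing.isUnit_one_sub_self_of_mem_nonunits _ fun hh => hna (isUnit_of_mul_isUnit_right hh)
    have : t = 0 := by rw [← ha, hu.smul_eq_zero.1 h1, smul_zero]
    exact hs (by rw [hφ, this, map_zero, Submodule.Quotient.mk_zero, smul_zero])
  have hs' : s = (φ * (show X.presheaf.stalk ξ from X.presheaf.stalkSpecializes h a)) •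
      (Submodule.Quotient.mk ((L.presheaf.stalkSpecializes h) t₀) : Cyc.secFibre L ξ) := by
    rw [hφ, ← ha, stalkSpecializes_smul, Submodule.Quotient.mk_smul, mul_smul]
  have hex2 : ∃ ψ : X.presheaf.stalk ξ,
      s = ψ • (Submodule.Quotient.mk ((L.presheaf.stalkSpecializes h) t₀) : Cyc.secFibre L ξ) := ⟨_, hs'⟩
  rw [dif_pos hex2]
  have hv : (Submodule.Quotient.mk ((L.presheaf.stalkSpecializes h) t₀) : Cyc.secFibre L ξ) ≠ 0 :=
    fun h0 => hs (by rw [hs', h0, smul_zero])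
  rw [residue_eq_of_smul_eq L ((Classical.choose_spec hex2).symm.trans hs') hv, map_mul]
  refine ordAt_mul_unit hX h hd _ (fun h0 => hs ?_) a hau
  rw [hφ, smul_mk_eq_zero L h0]

/-- `divFun` turns powers into multiples. -/
lemma divFun_zpow {δ : X → ℤ} (hX : Cyc.IsSetup X δ) (ξ : X) (f : X.residueField ξ) (hf : f ≠ 0)
    (n : ℤ) (x : X) : Cyc.divFun δ ξ (f ^ n) x = n * Cyc.divFun δ ξ f x := by
  unfold Cyc.divFun
  split_ifs with h
  swap
  · rw [mul_zero]
  have := hX.1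
  have h1 : ringKrullDim (Cyc.LocQuot x ξ h.1) ≤ 1 :=
    ringKrullDim_locQuot_le_one _ fun w h1 h2 => immediate hX.2.2 h.1 h.2 h1 h2
  have := krullDimLE_one h1
  have h0 : Cyc.ordAt x ξ h.1 (1 : X.residueField ξ) = 0 :=
    ordAt_eq_zero hX h.1 h.2 _ 1 1 isUnit_one isUnit_one (by simp)
  have hmul : ∀ p q : X.residueField ξ, p ≠ 0 → q ≠ 0 →
      Cyc.ordAt x ξ h.1 (p * q) = Cyc.ordAt x ξ h.1 p + Cyc.ordAt x ξ h.1 q :=
    fun p q hp hq => Len90.ordFrac_mul p q hp hq
  induction n using Int.induction_on with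
  | zero => simp [h0]
  | succ n ih => rw [zpow_add_one₀ hf, hmul _ _ (zpow_ne_zero _ hf) hf, ih]; ring
  | pred n ih =>
    have := hmul (f ^ (-(n : ℤ) - 1)) f (zpow_ne_zero _ hf) hf
    rw [← zpow_add_one₀ hf, sub_add_cancel, ih] at this
    linarith

end Groth.Agent.Cyc90
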