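import Groth.Agent.Cyc90.PushDivGeneral
import Groth.Agent.Cyc90.DivCycle
import Groth.Agent.Cyc90.SecDiv

/-! Proper pushforward respects rational equivalence. -/

set_option autoImplicit false
universe u

open CategoryTheory AlgebraicGeometry TopologicalSpace IsLocalRing

namespace Groth.Agent.Cyc90

variable {X Y : Scheme.{u}} {δX : X → ℤ} {δY : Y → ℤ}

/-- A principal divisor as a cycle. -/
noncomputable def divCycle (hX : Cyc.IsSetup X δX) (ξ : X) (g : X.residueField ξ) (hg : g ≠ 0) :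
    AlgebraicCycle X ℤ where
  toFun := Cyc.divFun δX ξ g
  supportWithinDomain' := by simp
  supportLocallyFiniteWithinDomain' x _ := divFun_locallyFinite hX ξ g hg x

lemma finite_fibre_inter_support (p : X ⟶ Y) [QuasiCompact p] (α : AlgebraicCycle X ℤ) (y : Y) :
    (p ⁻¹' {y} ∩ Function.support α).Finite := by
  obtain ⟨V, hV, hyV, -⟩ := exists_isAffineOpen_mem_and_subset (X := Y) (x := y) (U := ⊤) trivial
  exact ((LocallyFiniteSupport.finite_inter_support_of_isCompact (f := (α : X → ℤ))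
      (fun z => α.supportLocallyFiniteWithinDomain' z trivial)
      (p.isCompact_preimage hV.isCompact))).subset
      (Set.inter_subset_inter_left _ (fun x hx => show p x ∈ V from (show p x = y from hx) ▸ hyV))

/-- Pushforward is linear in a finite combination valid on one fibre. -/
lemma map_apply_sum (p : X ⟶ Y) [QuasiCompact p] (α : AlgebraicCycle X ℤ) (y : Y) {ι : Type*}
    (I : Finset ι) (c : ι → ℤ) (D : ι → AlgebraicCycle X ℤ)
    (h : ∀ x, p x = y → α x = ∑ i ∈ I, c i * D i x) :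
    AlgebraicCycle.map p δX δY α y = ∑ i ∈ I, c i * AlgebraicCycle.map p δX δY (D i) y := by
  classical
  let w : X → ℤ := fun x => if δX x = δY (p x) then (p.residueDegree x : ℤ) else 0
  let B : Finset X := I.biUnion fun i => (finite_fibre_inter_support p (D i) y).toFinset
  have hsum : ∀ β : AlgebraicCycle X ℤ, (∀ x, p x = y → β x ≠ 0 → x ∈ B) →
      AlgebraicCycle.map p δX δY β y = ∑ x ∈ B, β x * w x := fun β hβ => by
    rw [map_apply_eq, finsum_mem_eq_sum_of_inter_support_eq _ (t := B)]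
    refine Set.ext fun x => ⟨fun hx => ⟨hβ x hx.1 (left_ne_zero_of_mul hx.2), hx.2⟩, fun hx => ⟨?_, hx.2⟩⟩
    obtain ⟨i, -, hi⟩ := Finset.mem_biUnion.1 hx.1
    exact ((finite_fibre_inter_support p (D i) y).mem_toFinset.1 hi).1
  have hB : ∀ x, p x = y → ∀ i ∈ I, D i x ≠ 0 → x ∈ B := fun x hx i hi hne =>
    Finset.mem_biUnion.2 ⟨i, hi, (finite_fibre_inter_support p (D i) y).mem_toFinset.2 ⟨hx, hne⟩⟩
  have hα : ∀ x, p x = y → α x ≠ 0 → x ∈ B := fun x hx hne => by
    rw [h x hx] at hne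
    obtain ⟨i, hi, hi'⟩ := Finset.exists_ne_zero_of_sum_ne_zero hne
    exact hB x hx i hi (right_ne_zero_of_mul hi')
  have hr : ∀ i ∈ I, c i * AlgebraicCycle.map p δX δY (D i) y = ∑ x ∈ B, c i * (D i x * w x) := fun i hi => by
    rw [hsum (D i) fun x hx hne => hB x hx i hi hne, Finset.mul_sum]
  rw [hsum α hα, Finset.sum_congr rfl hr, Finset.sum_comm]
  refine Finset.sum_congr rfl fun x hx => ?_
  obtain ⟨i, -, hi⟩ := Finset.mem_biUnion.1 hx
  rw [h x ((finite_fibre_inter_support p (D i) y).mem_toFinset.1 hi).1, Finset.sum_mul]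
  exact Finset.sum_congr rfl fun j _ => by ring

/-- The pushforward of a sum of principal divisors, with a witnessing family in the image. -/
theorem exists_family_map (hX : Cyc.IsSetup X δX) (hY : Cyc.IsSetup Y δY) (p : X ⟶ Y) [IsProper p]
    (hδ : Cyc.DeltaCompat p δX δY) {k : ℤ} {α : AlgebraicCycle X ℤ} (h : Cyc.RatEquivZero δX k α) :
    ∃ (κ : Type u) (η : κ → Y) (g' : (i : κ) → Y.residueField (η i)),
      (∀ i, δY (η i) = k + 1) ∧ (∀ i, g' i ≠ 0) ∧
      (∀ y : Y, ∃ U : Set Y, IsOpen U ∧ y ∈ U ∧ {i | (closure {η i} ∩ U).Nonempty}.Finite) ∧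
      (∀ y : Y, AlgebraicCycle.map p δX δY α y = ∑ᶠ i, Cyc.divFun δY (η i) (g' i) y) ∧
      ∀ i, η i ∈ Set.range p := by
  classical
  obtain ⟨ι, ξ, g, hk, hg, hlf, hsum⟩ := h
  let J : Set ι := {i | δX (ξ i) = δY (p (ξ i))}
  have hV : ∀ y : Y, ∃ (V : Y.Opens) (I : Finset ι), y ∈ V ∧
      ∀ i, (closure {ξ i} ∩ p ⁻¹' (V : Set Y)).Nonempty → i ∈ I := fun y => by
    obtain ⟨V, hV, hyV, -⟩ := exists_isAffineOpen_mem_and_subset (X := Y) (x := y) (U := ⊤) trivial
    choose U hU hxU hUfin using hlf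
    obtain ⟨t, ht⟩ := (p.isCompact_preimage hV.isCompact).elim_finite_subcover U hU
      fun x _ => Set.mem_iUnion.2 ⟨x, hxU x⟩
    refine ⟨V, (t.finite_toSet.biUnion fun x _ => hUfin x).toFinset, hyV, ?_⟩
    rintro i ⟨x, hx, hxV⟩
    obtain ⟨s, hs, hxs⟩ := Set.mem_iUnion₂.1 (ht hxV)
    exact (Set.Finite.mem_toFinset _).2 (Set.mem_biUnion hs ⟨x, hx, hxs⟩)
  have hmap : ∀ i y, AlgebraicCycle.map p δX δY (divCycle hX (ξ i) (g i) (hg i)) y =
      if i ∈ J then Cyc.divFun δY (p (ξ i)) (Cyc.normGen p (ξ i) (g i)) y else 0 := fun i y => by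
    have := congrFun (map_divFun p hX hY hδ (ξ i) (g i) (hg i) (divCycle hX (ξ i) (g i) (hg i)) rfl) y
    rw [this]
    split_ifs with h1 h2 <;> first | rfl | contradiction
  refine ⟨J, fun i => p (ξ i), fun i => Cyc.normGen p (ξ i) (g i), fun i => ?_, fun i => ?_, fun y => ?_,
    fun y => ?_, fun i => ⟨_, rfl⟩⟩
  · exact (show δX (ξ i) = δY (p (ξ i)) from i.2).symm.trans (hk i)
  · letI := (p.residueFieldMap (ξ i)).hom.toAlgebra
    have : Module.Finite (Y.residueField (p (ξ i))) (X.residueField (ξ i)) :=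
      finite_residueFieldMap_of_delta_eq p hδ _ i.2
    exact Algebra.norm_ne_zero_iff.2 (hg i)
  · obtain ⟨V, I, hyV, hI⟩ := hV y
    refine ⟨V, V.2, hyV, (I.finite_toSet.preimage Subtype.val_injective.injOn).subset ?_⟩
    rintro i ⟨z, hz, hzV⟩
    exact hI i ⟨ξ i, subset_closure rfl, (specializes_iff_mem_closure.2 hz).mem_open V.2 hzV⟩
  · obtain ⟨V, I, hyV, hI⟩ := hV y
    have hα : ∀ x, p x = y → α x = ∑ i ∈ I, 1 * divCycle hX (ξ i) (g i) (hg i) x := fun x hx => by
      rw [hsum x, finsum_eq_sum_of_support_subset _ (s := I) fun i hi => ?_]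
      · simp only [one_mul]; rfl
      · simp only [Function.mem_support, Cyc.divFun] at hi
        split_ifs at hi with h
        · exact hI i ⟨x, specializes_iff_mem_closure.1 h.1, show p x ∈ V from hx ▸ hyV⟩
        · exact absurd rfl hi
    rw [map_apply_sum p α y I _ _ hα]
    simp only [one_mul, hmap]
    rw [← Finset.sum_filter, finsum_set_coe_eq_finsum_mem J
      (f := fun i => Cyc.divFun δY (p (ξ i)) (Cyc.normGen p (ξ i) (g i)) y)]
    refine (finsum_mem_eq_sum_of_inter_support_eq _ ?_).symm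
    refine Set.ext fun i => ⟨fun hi => ⟨Finset.mem_filter.2 ⟨hI i ?_, hi.1⟩, hi.2⟩,
      fun hi => ⟨(Finset.mem_filter.1 hi.1).2, hi.2⟩⟩
    have h2 := hi.2
    simp only [Function.mem_support, Cyc.divFun] at h2
    split_ifs at h2 with h
    · exact ⟨ξ i, subset_closure rfl, h.1.mem_open V.2 hyV⟩
    · exact absurd rfl h2

/-- Proper pushforward respects rational equivalence. -/
theorem ratEquivZero_map (hX : Cyc.IsSetup X δX) (hY : Cyc.IsSetup Y δY) (p : X ⟶ Y) [IsProper p]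
    (hδ : Cyc.DeltaCompat p δX δY) {k : ℤ} {α : AlgebraicCycle X ℤ} (h : Cyc.RatEquivZero δX k α) :
    Cyc.RatEquivZero δY k (AlgebraicCycle.map p δX δY α) := by
  obtain ⟨κ, η, g, h1, h2, h3, h4, -⟩ := exists_family_map hX hY p hδ h
  exact ⟨κ, η, g, h1, h2, h3, h4⟩

end Groth.Agent.Cyc90
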