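import Groth.Agent.Cyc90.C1Pull
import Groth.Agent.Cyc90.RatPush

/-! The projection formula for the first Chern class cap. -/

set_option autoImplicit false
universe u

open CategoryTheory AlgebraicGeometry TopologicalSpace IsLocalRing

namespace Groth.Agent.Cyc90

variable {X Y : Scheme.{u}} {δX : X → ℤ} {δY : Y → ℤ}

lemma map_sub_cycle (p : X ⟶ Y) [QuasiCompact p] (α β : AlgebraicCycle X ℤ) :
    AlgebraicCycle.map p δX δY (α - β) =
      AlgebraicCycle.map p δX δY α - AlgebraicCycle.map p δX δY β := by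
  refine DFunLike.ext _ _ fun y => ?_
  rw [map_apply_sum p (α - β) y (Finset.univ : Finset (Fin 2)) ![1, -1] ![α, β] fun x _ => by
    simp [Fin.sum_univ_two]; ring]
  simp [Fin.sum_univ_two]; ring

/-- The divisor of a rational section has locally finite support. -/
lemma secDivFun_locallyFinite (hX : Cyc.IsSetup X δX) {M : X.Modules} (hM : PicF.IsInvertible M) (ξ : X)
    (u : Cyc.secFibre M ξ) (hu : u ≠ 0) (x : X) :
    ∃ N ∈ nhds x, (N ∩ Function.support (Cyc.secDivFun δX M ξ u)).Finite := by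
  obtain ⟨U, hxU, e, he⟩ := Mero90.exists_frame' hM x
  by_cases hξ : ξ ∈ U
  swap
  · refine ⟨U, U.2.mem_nhds hxU, Set.Finite.subset Set.finite_empty ?_⟩
    rintro z ⟨hz, hzs⟩
    refine hzs ?_
    unfold Cyc.secDivFun
    rw [dif_neg fun h => hξ (h.1.mem_open U.2 hz)]
  obtain ⟨a, ha⟩ : ∃ a : X.presheaf.stalk ξ, u = a • Submodule.Quotient.mk (M.presheaf.germ U ξ hξ e) :=
    secFibre_exists_smul hM _ _ (mk_germ_frame_ne_zero he hξ)
  obtain ⟨N, hN, hfin⟩ := divFun_locallyFinite hX ξ (X.residue ξ a)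
    (fun h0 => hu (ha.trans (smul_mk_eq_zero M h0 _))) x
  refine ⟨U ∩ N, Filter.inter_mem (U.2.mem_nhds hxU) hN, hfin.subset ?_⟩
  rintro z ⟨⟨hzU, hzN⟩, hz⟩
  refine ⟨hzN, fun h0 => hz ?_⟩
  rw [← h0]
  unfold Cyc.secDivFun Cyc.divFun
  split_ifs with h
  · exact secOrdAt_eq M hX h.1 h.2 _ hu _ (span_germ_frame he (show z ∈ U from hzU)) a
      (by rw [TopCat.Presheaf.germ_stalkSpecializes_apply]; exact ha)
  · rfl

/-- The coefficients of a first Chern class cap form a cycle. -/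
theorem exists_c1CapCycle (hX : Cyc.IsSetup X δX) {M : X.Modules} (hM : PicF.IsInvertible M)
    (α : AlgebraicCycle X ℤ) (u : (ξ : X) → Cyc.secFibre M ξ) (hu : ∀ ξ, u ξ ≠ 0) :
    ∃ γ : AlgebraicCycle X ℤ, ⇑γ = Cyc.c1CapFun δX M ⇑α u := by
  refine ⟨⟨Cyc.c1CapFun δX M ⇑α u, by simp, fun x _ => ?_⟩, rfl⟩
  obtain ⟨t, ht, hfin⟩ := α.supportLocallyFiniteWithinDomain' x trivial
  obtain ⟨U, hUt, hU, hxU⟩ := mem_nhds_iff.1 ht
  choose N hN hNfin using fun ξ => secDivFun_locallyFinite hX hM ξ (u ξ) (hu ξ) x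
  refine ⟨U ∩ ⋂ ξ ∈ hfin.toFinset, N ξ, Filter.inter_mem (hU.mem_nhds hxU)
    ((Filter.biInter_finset_mem _).2 fun ξ _ => hN ξ), ?_⟩
  refine (hfin.toFinset.finite_toSet.biUnion fun ξ _ => hNfin ξ).subset ?_
  rintro z ⟨⟨hzU, hzN⟩, hz⟩
  obtain ⟨ξ, hξ⟩ : ∃ ξ, α ξ * Cyc.secDivFun δX M ξ (u ξ) z ≠ 0 := by
    by_contra hall
    push Not at hall
    exact hz (finsum_eq_zero_of_forall_eq_zero hall)
  have hsd := right_ne_zero_of_mul hξ
  have hmem : ξ ∈ hfin.toFinset := by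
    refine hfin.mem_toFinset.2 ⟨?_, left_ne_zero_of_mul hξ⟩
    unfold Cyc.secDivFun at hsd
    split_ifs at hsd with h
    · exact hUt (h.1.mem_open hU hzU)
    · exact absurd rfl hsd
  exact Set.mem_biUnion hmem ⟨Set.mem_iInter₂.1 hzN ξ hmem, hsd⟩

/-- The projection formula on cycles. -/
theorem map_c1Cap (hX : Cyc.IsSetup X δX) (hY : Cyc.IsSetup Y δY) (p : X ⟶ Y) [IsProper p]
    (hδ : Cyc.DeltaCompat p δX δY) {L : Y.Modules} (hL : PicF.IsInvertible L)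
    (α : AlgebraicCycle X ℤ) (v : (η : Y) → Cyc.secFibre L η) (hv : ∀ η, v η ≠ 0)
    (γ : AlgebraicCycle X ℤ)
    (hγ : ⇑γ = Cyc.c1CapFun δX ((Scheme.Modules.pullback p).obj L) ⇑α (pullSec p hL v hv)) :
    ⇑(AlgebraicCycle.map p δX δY γ) = Cyc.c1CapFun δY L ⇑(AlgebraicCycle.map p δX δY α) v := by
  classical
  funext y
  obtain ⟨V, hV, hyV, -⟩ := exists_isAffineOpen_mem_and_subset (X := Y) (x := y) (U := ⊤) trivial
  have hAfin : ((p ⁻¹' (V : Set Y)) ∩ Function.support α).Finite :=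
    LocallyFiniteSupport.finite_inter_support_of_isCompact (f := (α : X → ℤ))
      (fun z => α.supportLocallyFiniteWithinDomain' z trivial) (p.isCompact_preimage hV.isCompact)
  have hex : ∀ ξ : X, ∃ g : Y.residueField (p ξ), g ≠ 0 ∧
      Cyc.secDivFun δY L (p ξ) (v (p ξ)) y = Cyc.divFun δY (p ξ) g y ∧
      ∀ x, p x = y → Cyc.secDivFun δX ((Scheme.Modules.pullback p).obj L) ξ (pullSec p hL v hv ξ) x =
        Cyc.divFun δX ξ ((p.residueFieldMap ξ).hom g) x := fun ξ => by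
    by_cases h : p ξ ⤳ y
    · obtain ⟨g, hg, h1, h2⟩ := secDivFun_local p hX hY hL v hv (p ξ) y h
      refine ⟨g, hg, h1, fun x hx => (h2 ξ x rfl hx).trans ?_⟩
      simp
    · refine ⟨1, one_ne_zero, ?_, fun x hx => ?_⟩
      · unfold Cyc.secDivFun Cyc.divFun
        rw [dif_neg fun h' => h h'.1, dif_neg fun h' => h h'.1]
      · have h' : ¬ ξ ⤳ x := fun h' => h (hx ▸ h'.map p.continuous)
        unfold Cyc.secDivFun Cyc.divFun
        rw [dif_neg fun h'' => h' h''.1, dif_neg fun h'' => h' h''.1]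
  choose g hg hg1 hg2 using hex
  have hD : ∀ ξ, (p.residueFieldMap ξ).hom (g ξ) ≠ 0 := fun ξ => (map_ne_zero _).2 (hg ξ)
  have hα : ∀ x, p x = y → γ x = ∑ ξ ∈ hAfin.toFinset,
      α ξ * divCycle hX ξ ((p.residueFieldMap ξ).hom (g ξ)) (hD ξ) x := fun x hx => by
    rw [hγ, Cyc.c1CapFun, finsum_eq_sum_of_support_subset _ (s := hAfin.toFinset) fun ξ hξ => ?_]
    · exact Finset.sum_congr rfl fun ξ _ => by rw [hg2 ξ x hx]; rfl
    · simp only [Function.mem_support, ne_eq, mul_eq_zero, not_or, Cyc.secDivFun] at hξ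
      split_ifs at hξ with h
      · exact hAfin.mem_toFinset.2 ⟨h.1.mem_open (p ⁻¹ᵁ V).2 (show p x ∈ V from hx ▸ hyV), hξ.1⟩
      · exact absurd rfl hξ.2
  let w : X → ℤ := fun ξ => if δX ξ = δY (p ξ) then (p.residueDegree ξ : ℤ) else 0
  have hmap : ∀ ξ, AlgebraicCycle.map p δX δY (divCycle hX ξ ((p.residueFieldMap ξ).hom (g ξ)) (hD ξ)) y =
      w ξ * Cyc.secDivFun δY L (p ξ) (v (p ξ)) y := fun ξ => by
    have h1 := congrFun (map_divFun p hX hY hδ ξ _ (hD ξ)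
      (divCycle hX ξ ((p.residueFieldMap ξ).hom (g ξ)) (hD ξ)) rfl) y
    rw [h1, hg1 ξ]
    by_cases h : δX ξ = δY (p ξ)
    · simp only [w, if_pos h]
      have e : Cyc.normGen p ξ ((p.residueFieldMap ξ).hom (g ξ)) = g ξ ^ (p.residueDegree ξ : ℤ) := by
        rw [zpow_natCast]
        let := (p.residueFieldMap ξ).hom.toAlgebra
        exact Algebra.norm_algebraMap (S := X.residueField ξ) (g ξ)
      rw [e, divFun_zpow hY _ _ (hg ξ)]
    · simp [w, if_neg h]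
  rw [map_apply_sum p γ y _ _ _ hα, Finset.sum_congr rfl fun ξ _ => congrArg (α ξ * ·) (hmap ξ)]
  have hsupp : (Function.support fun η => AlgebraicCycle.map p δX δY α η *
      Cyc.secDivFun δY L η (v η) y) ⊆ ↑(hAfin.toFinset.image p) := by
    intro η hη
    have h1 := left_ne_zero_of_mul hη
    rw [map_apply_eq] at h1
    obtain ⟨x, hx, hne⟩ := exists_ne_zero_of_finsum_mem_ne_zero h1
    have h2 := right_ne_zero_of_mul (Function.mem_support.1 hη)
    unfold Cyc.secDivFun at h2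
    split_ifs at h2 with h
    · refine Finset.mem_coe.2 (Finset.mem_image.2 ⟨x, hAfin.mem_toFinset.2 ⟨?_, left_ne_zero_of_mul hne⟩, hx⟩)
      show p x ∈ V
      rw [show p x = η from hx]
      exact h.1.mem_open V.2 hyV
    · exact absurd rfl h2
  rw [Cyc.c1CapFun, finsum_eq_sum_of_support_subset _ hsupp,
    ← Finset.sum_fiberwise_of_maps_to (t := hAfin.toFinset.image p) fun ξ hξ => Finset.mem_image_of_mem p hξ]
  refine Finset.sum_congr rfl fun η _ => ?_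
  by_cases hηy : Cyc.secDivFun δY L η (v η) y = 0
  · rw [hηy, mul_zero]
    refine Finset.sum_eq_zero fun ξ hξ => ?_
    obtain rfl := (Finset.mem_filter.1 hξ).2
    rw [hηy, mul_zero, mul_zero]
  have hηV : η ∈ V := by
    unfold Cyc.secDivFun at hηy
    split_ifs at hηy with h
    · exact h.1.mem_open V.2 hyV
    · exact absurd rfl hηy
  rw [map_apply_eq, finsum_mem_eq_sum_of_inter_support_eq _ (t := hAfin.toFinset.filter (p · = η)) ?_,
    Finset.sum_mul]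
  · refine Finset.sum_congr rfl fun ξ hξ => ?_
    obtain rfl := (Finset.mem_filter.1 hξ).2
    simp only [w]
    ring
  · refine Set.ext fun ξ => ⟨fun h => ⟨Finset.mem_filter.2 ⟨hAfin.mem_toFinset.2 ⟨?_, left_ne_zero_of_mul h.2⟩, h.1⟩, h.2⟩,
      fun h => ⟨(Finset.mem_filter.1 h.1).2, h.2⟩⟩
    show p ξ ∈ V
    rw [show p ξ = η from h.1]
    exact hηV

theorem ratEquiv_map_c1Cap (hX : Cyc.IsSetup X δX) (hY : Cyc.IsSetup Y δY) (p : X ⟶ Y) [IsProper p]
    (hδ : Cyc.DeltaCompat p δX δY) {L : Y.Modules} (hL : PicF.IsInvertible L) (k : ℤ)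
    (α : AlgebraicCycle X ℤ) (hα : α ∈ Cyc.Zk X δX (k + 1))
    (u : (ξ : X) → Cyc.secFibre ((Scheme.Modules.pullback p).obj L) ξ) (hu : ∀ ξ, u ξ ≠ 0)
    (v : (η : Y) → Cyc.secFibre L η) (hv : ∀ η, v η ≠ 0)
    (γ : AlgebraicCycle X ℤ) (hγ : ⇑γ = Cyc.c1CapFun δX ((Scheme.Modules.pullback p).obj L) ⇑α u)
    (γ' : AlgebraicCycle Y ℤ) (hγ' : ⇑γ' = Cyc.c1CapFun δY L ⇑(AlgebraicCycle.map p δX δY α) v) :
    Cyc.RatEquiv δY k (AlgebraicCycle.map p δX δY γ) γ' := by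
  have hLp := Amp73.isInvertible_pullback p hL
  obtain ⟨γ₀, hγ₀⟩ := exists_c1CapCycle hX hLp α (pullSec p hL v hv) (pullSec_ne_zero p hL v hv)
  have h1 : Cyc.RatEquiv δX k γ γ₀ :=
    ratEquiv_of_c1CapFun hX hLp k α hα u _ (fun ξ _ => hu ξ) (fun ξ _ => pullSec_ne_zero p hL v hv ξ) γ γ₀ hγ hγ₀
  have h2 := ratEquivZero_map hX hY p hδ h1
  have e : γ' = AlgebraicCycle.map p δX δY γ₀ := DFunLike.coe_injective
    (hγ'.trans (map_c1Cap hX hY p hδ hL α v hv γ₀ hγ₀).symm)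
  rw [e]
  unfold Cyc.RatEquiv
  rwa [← map_sub_cycle]

end Groth.Agent.Cyc90
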