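import Groth.Agent.Cyc90.C1Indep
import Groth.Agent.Amp73.Tensor

/-! Additivity of the first Chern class cap. -/

set_option autoImplicit false
universe u

open CategoryTheory AlgebraicGeometry TopologicalSpace IsLocalRing

namespace Groth.Agent.Cyc90

open Var76.LineBundle

variable {X : Scheme.{u}} {δ : X → ℤ}

lemma c1Cap_support_finite (α : AlgebraicCycle X ℤ) (L : X.Modules) (v : (ξ : X) → Cyc.secFibre L ξ)
    (x : X) : (Function.support fun ξ => α ξ * Cyc.secDivFun δ L ξ (v ξ) x).Finite := by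
  obtain ⟨N, hN, hfin⟩ := α.supportLocallyFiniteWithinDomain' x trivial
  refine hfin.subset fun ξ hξ => ?_
  simp only [Function.mem_support, ne_eq, mul_eq_zero, not_or] at hξ
  refine ⟨?_, hξ.1⟩
  unfold Cyc.secDivFun at hξ
  split_ifs at hξ with h
  · obtain ⟨U, hUt, hU, hxU⟩ := mem_nhds_iff.1 hN
    exact hUt (h.1.mem_open hU hxU)
  · exact absurd rfl hξ.2

lemma mk_germ_frame_ne_zero {M : X.Modules} {U : X.Opens} {e : Γ(M, U)} (he : IsFrame M U e) {ξ : X}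
    (hξ : ξ ∈ U) : (Submodule.Quotient.mk (M.presheaf.germ U ξ hξ e) : Cyc.secFibre M ξ) ≠ 0 := by
  intro h
  rw [Submodule.Quotient.mk_eq_zero] at h
  have hgen := Mero90.isGen_germ he ⟨ξ, hξ⟩
  have hs : ∀ v ∈ (maximalIdeal (X.presheaf.stalk ξ) • ⊤ : Submodule (X.presheaf.stalk ξ) (M.presheaf.stalk ξ)),
      ∃ r ∈ maximalIdeal (X.presheaf.stalk ξ), v = r • M.presheaf.germ U ξ hξ e := by
    intro v hv
    refine Submodule.smul_induction_on hv (fun r hr w _ => ?_) fun v w hv hw => ?_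
    · obtain ⟨b, rfl⟩ := hgen.2 w
      exact ⟨r * b, Ideal.mul_mem_right b _ hr, by rw [mul_smul]⟩
    · obtain ⟨r, hr, rfl⟩ := hv
      obtain ⟨r', hr', rfl⟩ := hw
      exact ⟨r + r', add_mem hr hr', by rw [add_smul]⟩
  obtain ⟨r, hr, he'⟩ := hs _ h
  have h1 : (1 : X.presheaf.stalk ξ) = r := hgen.1 (show (1 : X.presheaf.stalk ξ) • _ = r • _ by
    rw [one_smul]; exact he')
  exact (maximalIdeal.isMaximal _).ne_top ((Ideal.eq_top_iff_one _).2 (h1 ▸ hr))

variable (L N : X.Modules)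

/-- The tensor of two rational sections, with its coordinates in any frames. -/
lemma exists_tensor_section (hL : PicF.IsInvertible L) (hN : PicF.IsInvertible N) (ξ : X)
    (v : Cyc.secFibre L ξ) (hv : v ≠ 0) (w : Cyc.secFibre N ξ) (hw : w ≠ 0) :
    ∃ t : Cyc.secFibre (CohB1.tensorMod L N) ξ, t ≠ 0 ∧
      ∀ (U : X.Opens) (hξ : ξ ∈ U) (e : Γ(L, U)) (e' : Γ(N, U)), IsFrame L U e → IsFrame N U e' →
        ∃ a c : X.presheaf.stalk ξ, v = a • Submodule.Quotient.mk (L.presheaf.germ U ξ hξ e) ∧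
          w = c • Submodule.Quotient.mk (N.presheaf.germ U ξ hξ e') ∧
          t = (a * c) • Submodule.Quotient.mk
            ((CohB1.tensorMod L N).presheaf.germ U ξ hξ (Amp73.tm L N e e')) := by
  obtain ⟨v₀, rfl⟩ := Submodule.Quotient.mk_surjective _ v
  obtain ⟨w₀, rfl⟩ := Submodule.Quotient.mk_surjective _ w
  obtain ⟨U₁, hξ₁, m, rfl⟩ := QC70.germM_exist v₀
  obtain ⟨U₂, hξ₂, n, rfl⟩ := QC70.germM_exist w₀
  let t : Cyc.secFibre (CohB1.tensorMod L N) ξ := Submodule.Quotient.mk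
    ((CohB1.tensorMod L N).presheaf.germ (U₁ ⊓ U₂) ξ ⟨hξ₁, hξ₂⟩
      (Amp73.tm L N (res L inf_le_left m) (res N inf_le_right n)))
  have key : ∀ (U : X.Opens) (hξ : ξ ∈ U) (e : Γ(L, U)) (e' : Γ(N, U)), IsFrame L U e → IsFrame N U e' →
        ∃ a c : X.presheaf.stalk ξ, (Submodule.Quotient.mk (QC70.germM L U₁ ξ hξ₁ m) : Cyc.secFibre L ξ) =
            a • Submodule.Quotient.mk (L.presheaf.germ U ξ hξ e) ∧
          (Submodule.Quotient.mk (QC70.germM N U₂ ξ hξ₂ n) : Cyc.secFibre N ξ) =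
            c • Submodule.Quotient.mk (N.presheaf.germ U ξ hξ e') ∧
          t = (a * c) • Submodule.Quotient.mk
            ((CohB1.tensorMod L N).presheaf.germ U ξ hξ (Amp73.tm L N e e')) := by
    intro U hξ e e' he he'
    let W : X.Opens := U ⊓ (U₁ ⊓ U₂)
    have hWU : W ≤ U := inf_le_left
    have hW₁ : W ≤ U₁ := inf_le_right.trans inf_le_left
    have hW₂ : W ≤ U₂ := inf_le_right.trans inf_le_right
    have hW : ξ ∈ W := ⟨hξ, hξ₁, hξ₂⟩
    obtain ⟨a, ha⟩ := (he W hWU).2 (res L hW₁ m)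
    obtain ⟨c, hc⟩ := (he' W hWU).2 (res N hW₂ n)
    dsimp only at ha hc
    refine ⟨X.presheaf.germ W ξ hW a, X.presheaf.germ W ξ hW c, ?_, ?_, ?_⟩
    · rw [← Submodule.Quotient.mk_smul]
      congr 1
      have := congrArg (L.presheaf.germ W ξ hW) ha
      rw [Mero.germ_smul, TopCat.Presheaf.germ_res_apply, TopCat.Presheaf.germ_res_apply] at this
      exact this.symm
    · rw [← Submodule.Quotient.mk_smul]
      congr 1
      have := congrArg (N.presheaf.germ W ξ hW) hc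
      rw [Mero.germ_smul, TopCat.Presheaf.germ_res_apply, TopCat.Presheaf.germ_res_apply] at this
      exact this.symm
    · rw [← map_mul, ← Submodule.Quotient.mk_smul]
      refine congrArg (Submodule.Quotient.mk (p := _)) ?_
      have h1 : (CohB1.tensorMod L N).presheaf.germ W ξ hW
          (res (CohB1.tensorMod L N) (inf_le_right : W ≤ U₁ ⊓ U₂)
            (Amp73.tm L N (res L inf_le_left m) (res N inf_le_right n))) =
          (CohB1.tensorMod L N).presheaf.germ W ξ hW ((a * c) • res (CohB1.tensorMod L N) hWU (Amp73.tm L N e e')) := by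
        congr 1
        rw [Amp73.res_tm, res_res, res_res, Amp73.res_tm, ← Amp73.tm_smul, ha, hc]
      rw [Mero.germ_smul, TopCat.Presheaf.germ_res_apply, TopCat.Presheaf.germ_res_apply] at h1
      exact h1
  refine ⟨t, fun h0 => ?_, key⟩
  obtain ⟨V, hV, e, he⟩ := Mero90.exists_frame' hL ξ
  obtain ⟨V', hV', e', he'⟩ := Mero90.exists_frame' hN ξ
  have hf := he.res (inf_le_left : V ⊓ V' ≤ V)
  have hf' := he'.res (inf_le_right : V ⊓ V' ≤ V')
  obtain ⟨a, c, h1, h2, h3⟩ := key (V ⊓ V') ⟨hV, hV'⟩ _ _ hf hf'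
  have hu : IsUnit (a * c) := by
    refine IsUnit.mul ?_ ?_
    · exact (IsLocalRing.residue_ne_zero_iff_isUnit a).1 fun h => hv (h1.trans (smul_mk_eq_zero L h _))
    · exact (IsLocalRing.residue_ne_zero_iff_isUnit c).1 fun h => hw (h2.trans (smul_mk_eq_zero N h _))
  exact mk_germ_frame_ne_zero (Amp73.isFrame_tm hf hf') _ (hu.smul_eq_zero.1 (h3.symm.trans h0))

variable {L N}

theorem c1Cap_tensor (hX : Cyc.IsSetup X δ) (hL : PicF.IsInvertible L) (hN : PicF.IsInvertible N)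
    (α : AlgebraicCycle X ℤ) (sL : (ξ : X) → Cyc.secFibre L ξ) (hsL : ∀ ξ, sL ξ ≠ 0)
    (sN : (ξ : X) → Cyc.secFibre N ξ) (hsN : ∀ ξ, sN ξ ≠ 0) :
    ∃ sT : (ξ : X) → Cyc.secFibre (CohB1.tensorMod L N) ξ, (∀ ξ, sT ξ ≠ 0) ∧
      Cyc.c1CapFun δ (CohB1.tensorMod L N) ⇑α sT =
        Cyc.c1CapFun δ L ⇑α sL + Cyc.c1CapFun δ N ⇑α sN := by
  choose t ht hkey using fun ξ => exists_tensor_section L N hL hN ξ (sL ξ) (hsL ξ) (sN ξ) (hsN ξ)
  have := hX.1
  refine ⟨t, ht, funext fun x => ?_⟩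
  rw [Pi.add_apply, Cyc.c1CapFun, Cyc.c1CapFun, Cyc.c1CapFun,
    ← finsum_add_distrib (c1Cap_support_finite α L sL x) (c1Cap_support_finite α N sN x)]
  refine finsum_congr fun ξ => ?_
  rw [← mul_add]
  congr 1
  unfold Cyc.secDivFun
  split_ifs with h
  swap
  · rw [add_zero]
  obtain ⟨V, hV, e, he⟩ := Mero90.exists_frame' hL x
  obtain ⟨V', hV', e', he'⟩ := Mero90.exists_frame' hN x
  have hx : x ∈ V ⊓ V' := ⟨hV, hV'⟩
  have hf := he.res (inf_le_left : V ⊓ V' ≤ V)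
  have hf' := he'.res (inf_le_right : V ⊓ V' ≤ V')
  have hξ : ξ ∈ V ⊓ V' := h.1.mem_open (V ⊓ V').2 hx
  obtain ⟨a, c, h1, h2, h3⟩ := hkey ξ _ hξ _ _ hf hf'
  have hgen : ∀ {M : X.Modules} {g : Γ(M, V ⊓ V')}, IsFrame M (V ⊓ V') g →
      Submodule.span (X.presheaf.stalk x) {M.presheaf.germ (V ⊓ V') x hx g} = ⊤ := fun hg =>
    eq_top_iff.2 fun v _ => Submodule.mem_span_singleton.2 ((Mero90.isGen_germ hg ⟨x, hx⟩).2 v)
  rw [secOrdAt_eq L hX h.1 h.2 _ (hsL ξ) _ (hgen hf) a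
      (by rw [TopCat.Presheaf.germ_stalkSpecializes_apply]; exact h1),
    secOrdAt_eq N hX h.1 h.2 _ (hsN ξ) _ (hgen hf') c
      (by rw [TopCat.Presheaf.germ_stalkSpecializes_apply]; exact h2),
    secOrdAt_eq (CohB1.tensorMod L N) hX h.1 h.2 _ (ht ξ) _ (hgen (Amp73.isFrame_tm hf hf')) (a * c)
      (by rw [TopCat.Presheaf.germ_stalkSpecializes_apply]; exact h3), map_mul]
  have hd1 : ringKrullDim (Cyc.LocQuot x ξ h.1) ≤ 1 :=
    ringKrullDim_locQuot_le_one _ fun w h1 h2 => immediate hX.2.2 h.1 h.2 h1 h2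
  have := krullDimLE_one hd1
  exact Len90.ordFrac_mul _ _ (fun h0 => hsL ξ (h1.trans (smul_mk_eq_zero L h0 _)))
    (fun h0 => hsN ξ (h2.trans (smul_mk_eq_zero N h0 _)))

end Groth.Agent.Cyc90
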