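import Groth.Prelude.Def_Cyc
import Groth.Agent.Cyc90.Gen
import Mathlib.RingTheory.Spectrum.Prime.RingHom
import Mathlib.RingTheory.KrullDimension.Basic

/-! Dimension functions: chains of primes in local rings against drops of the function. -/

universe u

open CategoryTheory AlgebraicGeometry TopologicalSpace IsLocalRing

namespace Groth.Agent.Cyc90

variable {X : Scheme.{u}} {δ : X → ℤ}

lemma isDimFun_of_setup (hX : Cyc.IsSetup X δ) : Cyc.IsDimFun X δ := hX.2.2

lemma delta_lt (h : Cyc.IsDimFun X δ) {x y : X} (hxy : x ⤳ y) (hne : x ≠ y) : δ y < δ x :=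
  (h x y hxy hne).1

lemma delta_le (h : Cyc.IsDimFun X δ) {x y : X} (hxy : x ⤳ y) : δ y ≤ δ x := by
  rcases eq_or_ne x y with rfl | hne
  · exact le_rfl
  · exact (delta_lt h hxy hne).le

lemma eq_of_delta_le (h : Cyc.IsDimFun X δ) {x y : X} (hxy : x ⤳ y) (hle : δ x ≤ δ y) : x = y :=
  by_contra fun hne => (delta_lt h hxy hne).not_ge hle

lemma immediate (h : Cyc.IsDimFun X δ) {x y : X} (_hxy : x ⤳ y) (hd : δ y + 1 = δ x) {z : X}
    (hxz : x ⤳ z) (hzy : z ⤳ y) : z = x ∨ z = y := by
  by_contra hc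
  push Not at hc
  have h1 := delta_lt h hxz (Ne.symm hc.1)
  have h2 := delta_lt h hzy hc.2
  omega

/-- An immediate predecessor of `x` below `ξ`. -/
lemma exists_immediate (h : Cyc.IsDimFun X δ) {ξ x : X} (hξ : ξ ⤳ x) (hne : ξ ≠ x) :
    ∃ z, ξ ⤳ z ∧ z ⤳ x ∧ δ z = δ x + 1 := by
  induction hn : (δ ξ - δ x).toNat using Nat.strong_induction_on generalizing ξ with
  | _ n ih =>
    by_cases hi : ∀ z : X, ξ ⤳ z → z ⤳ x → z = ξ ∨ z = x
    · exact ⟨ξ, specializes_rfl, hξ, (h ξ x hξ hne).2 hi⟩
    · push Not at hi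
      obtain ⟨z, h1, h2, h3, h4⟩ := hi
      have h5 := delta_lt h h1 (Ne.symm h3)
      have h6 := delta_lt h h2 h4
      obtain ⟨w, hw1, hw2, hw3⟩ := ih _ (by omega) h2 h4 rfl
      exact ⟨w, h1.trans hw1, hw2, hw3⟩

/-- The point of a prime of a local ring. -/
noncomputable abbrev ptOf {x : X} (q : PrimeSpectrum (X.presheaf.stalk x)) : X :=
  (X.fromSpecStalk x).base q

lemma ptOf_genPrime {x z : X} (h : z ⤳ x) : ptOf (genPrime h) = z := fromSpecStalk_genPrime h

lemma ptOf_specializes_of_le {x : X} {p q : PrimeSpectrum (X.presheaf.stalk x)} (h : p ≤ q) :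
    ptOf p ⤳ ptOf q :=
  ((PrimeSpectrum.le_iff_specializes p q).mp h).map (X.fromSpecStalk x).continuous

lemma ptOf_injective (x : X) : Function.Injective (ptOf (X := X) (x := x)) :=
  (X.fromSpecStalk x).isEmbedding.injective

lemma delta_ptOf_lt (h : Cyc.IsDimFun X δ) {x : X} {p q : PrimeSpectrum (X.presheaf.stalk x)}
    (hlt : p < q) : δ (ptOf q) < δ (ptOf p) :=
  delta_lt h (ptOf_specializes_of_le hlt.le) fun e => hlt.ne (ptOf_injective x e)

/-- A chain of primes drops `δ` by at least its length. -/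
lemma length_le (h : Cyc.IsDimFun X δ) {x : X} (c : LTSeries (PrimeSpectrum (X.presheaf.stalk x))) :
    (c.length : ℤ) + δ x ≤ δ (ptOf c.head) := by
  have key : ∀ i : ℕ, ∀ hi : i < c.length + 1,
      (i : ℤ) + δ (ptOf (c ⟨i, hi⟩)) ≤ δ (ptOf c.head) := by
    intro i
    induction i with
    | zero => intro hi; simp only [Nat.cast_zero, zero_add]; exact le_rfl
    | succ j ih =>
      intro hi
      have h1 := ih (by omega)
      have h2 : δ (ptOf (c ⟨j + 1, hi⟩)) < δ (ptOf (c ⟨j, by omega⟩)) :=
        delta_ptOf_lt h (c.strictMono (Fin.mk_lt_mk.mpr (Nat.lt_succ_self j)))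
      push_cast
      omega
  have h1 := key c.length (Nat.lt_succ_self _)
  have h2 := delta_le h (fromSpecStalk_specializes (c ⟨c.length, Nat.lt_succ_self _⟩))
  change δ x ≤ δ (ptOf _) at h2
  omega

/-- There is a chain from `ξ` realizing the drop of `δ`. -/
lemma exists_series (h : Cyc.IsDimFun X δ) {ξ x : X} (hξ : ξ ⤳ x) :
    ∃ c : LTSeries (PrimeSpectrum (X.presheaf.stalk x)),
      c.head = genPrime hξ ∧ (c.length : ℤ) = δ ξ - δ x := by
  induction hn : (δ ξ - δ x).toNat using Nat.strong_induction_on generalizing ξ with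
  | _ n ih =>
    rcases eq_or_ne ξ x with rfl | hne
    · exact ⟨RelSeries.singleton _ (genPrime hξ), rfl, by simp⟩
    · -- an immediate successor of `ξ`
      have hex : ∃ z, ξ ⤳ z ∧ z ⤳ x ∧ δ ξ = δ z + 1 := by
        by_contra hno
        push Not at hno
        have aux : ∀ n : ℕ, ∀ z, ξ ⤳ z → z ⤳ x → z ≠ ξ → (δ ξ - δ z).toNat = n → False := by
          intro n
          induction n using Nat.strong_induction_on with
          | _ n ihn =>
            intro z h1 h2 h3 h4
            by_cases hi : ∀ w : X, ξ ⤳ w → w ⤳ z → w = ξ ∨ w = z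
            · exact hno z h1 h2 ((h ξ z h1 (Ne.symm h3)).2 hi)
            · push Not at hi
              obtain ⟨w, w1, w2, w3, w4⟩ := hi
              have w5 := delta_lt h w2 w4
              have w6 := delta_lt h w1 (Ne.symm w3)
              exact ihn _ (by omega) w w1 (w2.trans h2) w3 rfl
        exact aux _ x hξ specializes_rfl hne.symm rfl
      obtain ⟨z, hz1, hz2, hz3⟩ := hex
      have h5 := delta_le h hz2
      obtain ⟨c, hc1, hc2⟩ := ih _ (by omega) hz2 rfl
      refine ⟨c.cons (genPrime hξ) ?_, RelSeries.head_cons _ _ _, ?_⟩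
      · rw [hc1]
        refine lt_of_le_of_ne (show genPrime hξ ≤ genPrime hz2 from
          (genPrime_le_iff hξ hz2).mpr hz1) fun e => ?_
        have := (genPrime_eq_iff hξ hz2).mp e
        rw [this] at hz3
        omega
      · rw [RelSeries.cons_length]
        push_cast
        omega

/-- The kernel of `O_x → κ(ξ)` is the prime of `ξ`. -/
lemma ker_specMap {ξ x : X} (hξ : ξ ⤳ x) :
    RingHom.ker (Cyc.specMap x ξ hξ) = (genPrime hξ).asIdeal := by
  rw [Cyc.specMap, CommRingCat.hom_comp, ← RingHom.comap_ker]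
  exact congrArg _ IsLocalRing.ker_residue

/-- The dimension of `O_{X,x}/𝔭_ξ` is `δ ξ - δ x`. -/
theorem ringKrullDim_locQuot (h : Cyc.IsDimFun X δ) {ξ x : X} (hξ : ξ ⤳ x) :
    ringKrullDim (Cyc.LocQuot x ξ hξ) = (((δ ξ - δ x).toNat : ℕ) : WithBot ℕ∞) := by
  rw [ringKrullDim, Order.krullDim_eq_of_orderIso
    (RingHom.ker (Cyc.specMap x ξ hξ)).primeSpectrumQuotientOrderIsoZeroLocus]
  refine le_antisymm (iSup_le fun c => ?_) ?_
  · have h1 := length_le h (c.map Subtype.val fun _ _ hab => hab)
    have hmem : genPrime hξ ≤ c.head.1 := by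
      change (genPrime hξ).asIdeal ≤ c.head.1.asIdeal
      rw [← ker_specMap]; exact c.head.2
    have h2 := delta_le h (ptOf_specializes_of_le hmem)
    rw [ptOf_genPrime] at h2
    change (c.length : ℤ) + δ x ≤ δ (ptOf c.head.1) at h1
    exact_mod_cast (show c.length ≤ (δ ξ - δ x).toNat by omega)
  · obtain ⟨c, hc1, hc2⟩ := exists_series h hξ
    let c' : LTSeries (PrimeSpectrum.zeroLocus (R := X.presheaf.stalk x)
        (RingHom.ker (Cyc.specMap x ξ hξ) : Set (X.presheaf.stalk x))) :=
      { length := c.length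
        toFun := fun i => ⟨c i, by
          change (RingHom.ker (Cyc.specMap x ξ hξ) : Set (X.presheaf.stalk x)) ⊆
            ((c i).asIdeal : Set (X.presheaf.stalk x))
          rw [ker_specMap, ← hc1]
          exact c.head_le i⟩
        step := fun i => c.step i }
    refine le_of_eq_of_le ?_ (Order.LTSeries.length_le_krullDim c')
    have : c.length = (δ ξ - δ x).toNat := by omega
    rw [← this]

/-- The dimension of a local ring with a greatest generization `η`. -/
theorem ringKrullDim_stalk (h : Cyc.IsDimFun X δ) {η x : X} (hη : η ⤳ x)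
    (hgen : ∀ z, z ⤳ x → η ⤳ z) :
    ringKrullDim (X.presheaf.stalk x) = (((δ η - δ x).toNat : ℕ) : WithBot ℕ∞) := by
  rw [ringKrullDim]
  refine le_antisymm (iSup_le fun c => ?_) ?_
  · have h1 := length_le h c
    have h2 := delta_le h (hgen _ (fromSpecStalk_specializes c.head))
    change δ (ptOf c.head) ≤ δ η at h2
    exact_mod_cast (show c.length ≤ (δ η - δ x).toNat by omega)
  · obtain ⟨c, -, hc2⟩ := exists_series h hη
    refine le_of_eq_of_le ?_ (Order.LTSeries.length_le_krullDim c)
    have : c.length = (δ η - δ x).toNat := by omega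
    rw [← this]

/-- The dimension of a local ring of an irreducible scheme. -/
theorem ringKrullDim_stalk_irreducible [IrreducibleSpace X] (h : Cyc.IsDimFun X δ) (x : X) :
    ringKrullDim (X.presheaf.stalk x) =
      (((δ (genericPoint X) - δ x).toNat : ℕ) : WithBot ℕ∞) :=
  ringKrullDim_stalk h ((genericPoint_spec X).specializes trivial)
    fun _ _ => (genericPoint_spec X).specializes trivial

end Groth.Agent.Cyc90
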