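import Groth.Prelude.Def_W4stkchowintpicEnv
import Mathlib.AlgebraicGeometry.Pullbacks
import Mathlib.AlgebraicGeometry.ResidueField
import Mathlib.AlgebraicGeometry.Morphisms.Preimmersion

/-! Completely decomposed morphisms. -/

universe u

open CategoryTheory CategoryTheory.Limits AlgebraicGeometry

namespace Groth.Agent.Cyc90

variable {X X' Y : Scheme.{u}}

lemma residueFieldMap_surjective (f : X ⟶ Y) [IsPreimmersion f] (x : X) :
    Function.Surjective (f.residueFieldMap x).hom := by
  intro a
  obtain ⟨b, rfl⟩ := X.residue_surjective x a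
  obtain ⟨c, rfl⟩ := f.stalkMap_surjective x b
  exact ⟨Y.residue (f x) c, congr($(Scheme.residue_residueFieldMap f x).hom c)⟩

/-- Completely decomposed morphisms are stable under base change. -/
theorem isCompletelyDecomposed_snd (f : Y ⟶ X) (g : X' ⟶ X) (h : Cyc.IsCompletelyDecomposed f) :
    Cyc.IsCompletelyDecomposed (pullback.snd f g) := by
  intro x'
  obtain ⟨y, hy, hs⟩ := h (g x')
  have : IsIso (f.residueFieldMap y) := (ConcreteCategory.isIso_iff_bijective _).mpr
    ⟨RingHom.injective _, hs⟩
  let a : Spec (X'.residueField x') ⟶ Y :=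
    Spec.map ((inv (f.residueFieldMap y) ≫ (X.residueFieldCongr hy).hom) ≫ g.residueFieldMap x') ≫
      Y.fromSpecResidueField y
  have w : a ≫ f = X'.fromSpecResidueField x' ≫ g := by
    rw [Category.assoc, ← Scheme.Hom.SpecMap_residueFieldMap_fromSpecResidueField,
      ← Scheme.Hom.SpecMap_residueFieldMap_fromSpecResidueField, ← Spec.map_comp_assoc]
    simp only [IsIso.hom_inv_id_assoc, Category.assoc]
    rw [Spec.map_comp, Category.assoc, Scheme.residueFieldCongr_fromSpecResidueField]
  let l := pullback.lift a (X'.fromSpecResidueField x') w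
  let s : Spec (X'.residueField x') := IsLocalRing.closedPoint _
  have hl : l ≫ pullback.snd f g = X'.fromSpecResidueField x' := pullback.lift_snd _ _ _
  refine ⟨l s, ?_, ?_⟩
  · change (l ≫ pullback.snd f g) s = x'
    rw [hl, Scheme.fromSpecResidueField_apply]
  · have hsurj : Function.Surjective ((l ≫ pullback.snd f g).residueFieldMap s).hom := by
      have : IsPreimmersion (l ≫ pullback.snd f g) := hl ▸ inferInstance
      exact residueFieldMap_surjective _ s
    rw [Scheme.residueFieldMap_comp] at hsurj
    intro a
    obtain ⟨b, hb⟩ := hsurj ((l.residueFieldMap s).hom a)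
    exact ⟨b, RingHom.injective (l.residueFieldMap s).hom hb⟩

end Groth.Agent.Cyc90
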