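import Groth.Agent.Cyc90.IsDimFunLft
import Groth.Agent.Cyc90.Envelope
import Groth.Agent.WC97.Dim
import Groth.Agent.E4O.FibreComp
import Groth.Agent.E4O.OpenDim
import Mathlib.AlgebraicGeometry.Morphisms.Flat
import Mathlib.RingTheory.Ideal.GoingDown

/-! Fibre dimension via the induced dimension function, and flat morphisms. -/

universe u

open CategoryTheory CategoryTheory.Limits AlgebraicGeometry TopologicalSpace IsLocalRing

namespace Groth.Agent.Cyc90

variable {X Y : Scheme.{u}}

/-- The residue transcendence degree is the dimension of the closure in the fibre. -/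
theorem trdeg_residueField_eq_fdeg (f : X ⟶ Y) [LocallyOfFiniteType f] (x : X) :
    letI := (f.residueFieldMap x).hom.toAlgebra
    Algebra.trdeg (Y.residueField (f x)) (X.residueField x) = (E4O.fdeg f x : Cardinal.{u}) := by
  obtain ⟨y, hy⟩ : ∃ y, f x = y := ⟨_, rfl⟩
  obtain ⟨z, hz⟩ := E4O.exists_fiberι_eq f hy
  subst hz
  let g : f.fiber y ⟶ Spec (CommRingCat.of (Y.residueField y : Type u)) :=
    f.fiberToSpecResidueField y
  have : LocallyOfFiniteType g := inferInstanceAs (LocallyOfFiniteType (pullback.snd _ _))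
  have : IsPreimmersion (f.fiberι y) := inferInstanceAs (IsPreimmersion (pullback.fst _ _))
  have h1 : E4O.fdeg f (f.fiberι y z) = WC97.tdegN g z := by
    have := (E4O.dim_closure_fiber f y z).symm.trans (WC97.topologicalKrullDim_closure g z)
    exact_mod_cast this
  have h2 : CommRingCat.ofHom (WC97.kStr g z) = (Y.residueFieldCongr hy).inv ≫
      f.residueFieldMap (f.fiberι y z) ≫ (f.fiberι y).residueFieldMap z := by
    apply Spec.map_injective
    rw [← cancel_mono (Y.fromSpecResidueField y)]
    simp only [Spec.map_comp, WC97.kStr_spec, Category.assoc, Scheme.residueFieldCongr_inv,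
      Scheme.residueFieldCongr_fromSpecResidueField]
    rw [Scheme.Hom.SpecMap_residueFieldMap_fromSpecResidueField,
      Scheme.Hom.SpecMap_residueFieldMap_fromSpecResidueField_assoc]
    exact congrArg ((f.fiber y).fromSpecResidueField z ≫ ·) (pullback.condition).symm
  rw [h1, ← WC97.tdeg_eq_natCast]
  letI : Algebra (Y.residueField (f (f.fiberι y z))) (X.residueField (f.fiberι y z)) :=
    (f.residueFieldMap _).hom.toAlgebra
  letI : Algebra (Y.residueField y) ((f.fiber y).residueField z) := (WC97.kStr g z).toAlgebra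
  exact E4O.trdeg_eq_of_ringEquiv (Y.residueFieldCongr hy).commRingCatIsoToRingEquiv
    (RingEquiv.ofBijective ((f.fiberι y).residueFieldMap z).hom
      ⟨RingHom.injective _, residueFieldMap_surjective _ z⟩) (RingHom.ext fun a => by
    change WC97.kStr g z ((Y.residueFieldCongr hy).hom a) = _
    have h3 := congr($(h2).hom ((Y.residueFieldCongr hy).hom a))
    refine h3.trans ?_
    change ((f.fiberι y).residueFieldMap z).hom ((f.residueFieldMap _).hom
      ((Y.residueFieldCongr hy).inv ((Y.residueFieldCongr hy).hom a))) = _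
    rw [Iso.hom_inv_id_apply]
    rfl)

theorem delta_eq_add_fdeg (f : X ⟶ Y) [LocallyOfFiniteType f] {δX : X → ℤ} {δY : Y → ℤ}
    (hδ : Cyc.DeltaCompat f δX δY) (x : X) : δX x = δY (f x) + E4O.fdeg f x := by
  obtain ⟨n, hn, hd⟩ := hδ x
  have := (trdeg_residueField_eq_fdeg f x).symm.trans hn
  rw [hd, Nat.cast_injective this]

/-- At a point maximal in its fibre, a flat morphism does not change the dimension of the local
ring. -/
theorem ringKrullDim_stalk_eq_of_isFibreMax [IsLocallyNoetherian X] [IsLocallyNoetherian Y] (f : X ⟶ Y) [Flat f] (z : X)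
    (hz : E4O.IsFibreMax f z) :
    ringKrullDim (X.presheaf.stalk z) = ringKrullDim (Y.presheaf.stalk (f z)) := by
  algebraize [(f.stalkMap z).hom]
  let φ := (f.stalkMap z).hom
  have : Module.Flat (Y.presheaf.stalk (f z)) (X.presheaf.stalk z) := Flat.stalkMap f z
  let p := maximalIdeal (Y.presheaf.stalk (f z))
  let P := maximalIdeal (X.presheaf.stalk z)
  have hcomap : P.comap φ = p := maximalIdeal_comap φ
  have : P.LiesOver p := ⟨hcomap.symm⟩
  rw [← maximalIdeal_height_eq_ringKrullDim, ← maximalIdeal_height_eq_ringKrullDim]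
  congr 1
  rw [Ideal.height_eq_height_add_of_liesOver_of_hasGoingDown p P]
  suffices h : (P.map (Ideal.Quotient.mk (p.map φ))).height = 0 by
    rw [show p.map (algebraMap _ _) = p.map φ from rfl, h, add_zero]
  have hle : p.map φ ≤ P := by
    rw [Ideal.map_le_iff_le_comap]
    exact hcomap.ge
  have hne : P.map (Ideal.Quotient.mk (p.map φ)) ≠ ⊤ := by
    intro h
    have h1 := congrArg (Ideal.comap (Ideal.Quotient.mk (p.map φ))) h
    rw [Ideal.comap_top, Ideal.comap_map_of_surjective _ Ideal.Quotient.mk_surjective,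
      ← RingHom.ker_eq_comap_bot, Ideal.mk_ker, sup_eq_left.mpr hle] at h1
    exact (maximalIdeal.isMaximal _).ne_top h1
  have : (P.map (Ideal.Quotient.mk (p.map φ))).IsPrime :=
    Ideal.map_isPrime_of_surjective Ideal.Quotient.mk_surjective (by rwa [Ideal.mk_ker])
  rw [Ideal.height_eq_zero_iff]
  refine ⟨⟨this, bot_le⟩, fun q ⟨hq, _⟩ hqP => ?_⟩
  let Q : PrimeSpectrum (X.presheaf.stalk z) := ⟨q.comap (Ideal.Quotient.mk _), inferInstance⟩
  have hpQ : p.map φ ≤ Q.asIdeal := le_of_eq_of_le Ideal.mk_ker.symm (Ideal.comap_mono bot_le)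
  have hQ : PrimeSpectrum.comap φ Q = closedPoint _ :=
    PrimeSpectrum.ext ((maximalIdeal.isMaximal _).eq_of_le
      (Ideal.comap_ne_top _ Q.2.ne_top) (Ideal.map_le_iff_le_comap.mp hpQ)).symm
  have h1 : f (ptOf Q) = f z := by
    change (X.fromSpecStalk z ≫ f) Q = f z
    rw [← Scheme.SpecMap_stalkMap_fromSpecStalk]
    change Y.fromSpecStalk (f z) (PrimeSpectrum.comap φ Q) = _
    rw [hQ]
    exact Y.fromSpecStalk_closedPoint
  have h2 := hz _ (fromSpecStalk_specializes Q) h1
  have h3 : Q = closedPoint _ := by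
    rw [← genPrime_refl]
    exact ptOf_injective z (h2.trans (ptOf_genPrime _).symm)
  rw [← Ideal.map_comap_of_surjective _ Ideal.Quotient.mk_surjective q]
  exact (congrArg (fun t : PrimeSpectrum _ => t.asIdeal.map (Ideal.Quotient.mk (p.map φ))) h3).ge

/-- A flat morphism locally of finite type between irreducible schemes has constant fibre
dimension. -/
theorem fdeg_eq_of_flat_of_irreducible (f : X ⟶ Y) [Flat f] [LocallyOfFiniteType f]
    [IrreducibleSpace X] [IrreducibleSpace Y] {δX : X → ℤ} {δY : Y → ℤ} (hY : Cyc.IsSetup Y δY)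
    (hδ : Cyc.DeltaCompat f δX δY) (z : X) (hz : E4O.IsFibreMax f z) :
    (E4O.fdeg f z : ℤ) = δX (genericPoint X) - δY (genericPoint Y) := by
  have hX := isSetup_of_lft f δY hY δX hδ
  have := hX.1
  have := hY.1
  have h := ringKrullDim_stalk_eq_of_isFibreMax f z hz
  rw [ringKrullDim_stalk_irreducible hX.2.2, ringKrullDim_stalk_irreducible hY.2.2] at h
  have h' : (δX (genericPoint X) - δX z).toNat = (δY (genericPoint Y) - δY (f z)).toNat := by
    exact_mod_cast h
  have h1 := delta_le hX.2.2 ((genericPoint_spec X).specializes (y := z) trivial)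
  have h2 := delta_le hY.2.2 ((genericPoint_spec Y).specializes (y := f z) trivial)
  have h3 := delta_eq_add_fdeg f hδ z
  omega

end Groth.Agent.Cyc90
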