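import Groth.Agent.Cyc90.FiniteTypeDelta
import Groth.Agent.Cat58.Rings

/-! The induced function is a dimension function. -/

universe u

open CategoryTheory AlgebraicGeometry TopologicalSpace IsLocalRing

namespace Groth.Agent.Cyc90

variable {X Y : Scheme.{u}}

lemma one_le_ringKrullDim_locQuot {x y : X} (h : x ⤳ y) (hne : x ≠ y) :
    1 ≤ ringKrullDim (Cyc.LocQuot y x h) := by
  rw [ringKrullDim, Order.krullDim_eq_of_orderIso
    (RingHom.ker (Cyc.specMap y x h)).primeSpectrumQuotientOrderIsoZeroLocus]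
  let a : PrimeSpectrum.zeroLocus (R := X.presheaf.stalk y)
      (RingHom.ker (Cyc.specMap y x h) : Set (X.presheaf.stalk y)) := ⟨genPrime h, (ker_specMap h).le⟩
  let b : PrimeSpectrum.zeroLocus (R := X.presheaf.stalk y)
      (RingHom.ker (Cyc.specMap y x h) : Set (X.presheaf.stalk y)) :=
    ⟨genPrime (specializes_refl y), (ker_specMap h).le.trans ((genPrime_le_iff h (specializes_refl y)).mpr h)⟩
  have hab : a < b := lt_of_le_of_ne ((genPrime_le_iff h (specializes_refl y)).mpr h) fun e =>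
    hne ((genPrime_eq_iff h (specializes_refl y)).mp (congrArg Subtype.val e))
  exact Order.LTSeries.length_le_krullDim ((RelSeries.singleton _ a).snoc b hab)

lemma ringKrullDim_locQuot_le_one {x y : X} (h : x ⤳ y)
    (himm : ∀ z : X, x ⤳ z → z ⤳ y → z = x ∨ z = y) : ringKrullDim (Cyc.LocQuot y x h) ≤ 1 := by
  rw [ringKrullDim, Order.krullDim_eq_of_orderIso
    (RingHom.ker (Cyc.specMap y x h)).primeSpectrumQuotientOrderIsoZeroLocus]
  refine iSup_le fun c => ?_
  by_contra hlt
  have hlen : 2 ≤ c.length := by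
    by_contra hl
    exact hlt (by exact_mod_cast (show c.length ≤ 1 by omega))
  have h01 := c.strictMono (show (⟨0, by omega⟩ : Fin (c.length + 1)) < ⟨1, by omega⟩ from Nat.zero_lt_one)
  have h12 := c.strictMono (show (⟨1, by omega⟩ : Fin (c.length + 1)) < ⟨2, by omega⟩ from Nat.one_lt_two)
  set p₀ := c ⟨0, by omega⟩
  set p₁ := c ⟨1, by omega⟩
  set p₂ := c ⟨2, by omega⟩
  have hle : genPrime h ≤ p₁.1 := (ker_specMap h).ge.trans p₁.2
  have hz1 : x ⤳ ptOf p₁.1 := by
    have := ptOf_specializes_of_le hle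
    rwa [ptOf_genPrime] at this
  rcases himm _ hz1 (fromSpecStalk_specializes p₁.1) with e | e
  · have e' : p₁.1 = genPrime h := ptOf_injective y (e.trans (ptOf_genPrime h).symm)
    have hle0 : genPrime h ≤ p₀.1 := (ker_specMap h).ge.trans p₀.2
    exact (lt_of_lt_of_le (show p₀.1 < p₁.1 from h01) e'.le).not_ge hle0
  · have e' : p₁.1 = closedPoint _ := by
      rw [← genPrime_refl]
      exact ptOf_injective y (e.trans (ptOf_genPrime _).symm)
    exact (e'.ge.trans_lt h12).not_ge (IsLocalRing.le_maximalIdeal p₂.1.2.ne_top)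

theorem isDimFun_of_lft (f : X ⟶ Y) [LocallyOfFiniteType f] (δY : Y → ℤ) (hY : Cyc.IsSetup Y δY) (δX : X → ℤ)
    (hδ : Cyc.DeltaCompat f δX δY) : Cyc.IsDimFun X δX := by
  intro x y h hne
  obtain ⟨n, hn, hd⟩ := delta_sub f δY hY δX hδ h
  have h1 : 1 ≤ n := by
    have := one_le_ringKrullDim_locQuot h hne
    rw [hn] at this
    exact_mod_cast this
  refine ⟨by omega, fun himm => ?_⟩
  have h2 : n ≤ 1 := by
    have := ringKrullDim_locQuot_le_one h himm
    rw [hn] at this
    exact_mod_cast this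
  omega

theorem isSetup_of_lft (f : X ⟶ Y) [LocallyOfFiniteType f] (δY : Y → ℤ) (hY : Cyc.IsSetup Y δY) (δX : X → ℤ)
    (hδ : Cyc.DeltaCompat f δX δY) : Cyc.IsSetup X δX := by
  have : IsLocallyNoetherian Y := hY.1
  have : IsLocallyNoetherian X := LocallyOfFiniteType.isLocallyNoetherian f
  exact ⟨this, (Cat58.universallyCatenary_iff X).mp fun Z g _ =>
    (Cat58.universallyCatenary_iff Y).mpr hY.2.1 Z (g ≫ f) inferInstance, isDimFun_of_lft f δY hY δX hδ⟩

end Groth.Agent.Cyc90
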