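import Groth.Agent.Cyc90.AffLine
import Groth.Agent.Cyc90.IsDimFunLft
import Groth.Agent.Cyc90.FlatRelDim
import Mathlib.AlgebraicGeometry.AffineSpace

/-! Affine-space bundles have affine-space-like fibres. -/

set_option autoImplicit false
universe u

open CategoryTheory AlgebraicGeometry TopologicalSpace IsLocalRing

namespace Groth.Agent.Cyc90

section Comp

variable {X W Y : Scheme.{u}}

/-- Dimension functions induced along a composite. -/
lemma deltaCompat_of_comp (q : X ⟶ W) (π : W ⟶ Y) {δX : X → ℤ} {δW : W → ℤ} {δY : Y → ℤ}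
    (h : Cyc.DeltaCompat (q ≫ π) δX δY) (hπ : Cyc.DeltaCompat π δW δY) : Cyc.DeltaCompat q δX δW := by
  intro x
  obtain ⟨n, hn, hd⟩ := h x
  obtain ⟨m, hm, hd'⟩ := hπ (q x)
  letI a1 : Algebra (Y.residueField (π (q x))) (W.residueField (q x)) := (π.residueFieldMap (q x)).hom.toAlgebra
  letI a2 : Algebra (W.residueField (q x)) (X.residueField x) := (q.residueFieldMap x).hom.toAlgebra
  letI a3 : Algebra (Y.residueField (π (q x))) (X.residueField x) := ((q ≫ π).residueFieldMap x).hom.toAlgebra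
  have : IsScalarTower (Y.residueField (π (q x))) (W.residueField (q x)) (X.residueField x) :=
    IsScalarTower.of_algebraMap_eq' (congrArg CommRingCat.Hom.hom (Scheme.residueFieldMap_comp q π x))
  have hadd := trdeg_add_eq (Y.residueField (π (q x))) (W.residueField (q x)) (A := X.residueField x)
  replace hn : Algebra.trdeg (Y.residueField (π (q x))) (X.residueField x) = n := hn
  rw [hn, hm] at hadd
  obtain ⟨a, ha⟩ := Cardinal.lt_aleph0.1 (lt_of_le_of_lt
    (show Algebra.trdeg (W.residueField (q x)) (X.residueField x) ≤ n from hadd ▸ le_add_self)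
    (Cardinal.natCast_lt_aleph0 (n := n)))
  refine ⟨a, ha, ?_⟩
  rw [ha] at hadd
  have : m + a = n := by exact_mod_cast hadd
  rw [hd, hd']
  change δY (π (q x)) + (n : ℤ) = _
  omega

end Comp

/-- An isomorphism has affine-space-like fibres of dimension zero. -/
lemma isAffFibre_iso {X Y : Scheme.{u}} (f : X ⟶ Y) [IsIso f] {δX : X → ℤ} {δY : Y → ℤ}
    (hδ : Cyc.DeltaCompat f δX δY) (η : Y) : IsAffFibre f δX δY 0 η := by
  obtain ⟨ζ, hζ⟩ := f.surjective η
  have hinj : Function.Injective f := f.isOpenEmbedding.injective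
  have hd : ∀ x, δX x = δY (f x) := fun x =>
    delta_eq_of_surjective f hδ x (residueFieldMap_surjective f x)
  refine ⟨ζ, hζ, by rw [hd ζ, hζ]; simp, ?_, fun x hx => ?_, fun ξ hξ hlt => ?_⟩
  · exact IsLocalRing.map_maximalIdeal_of_surjective _ (ConcreteCategory.bijective_of_isIso (f.stalkMap ζ)).2
  · obtain rfl := hinj (hx.trans hζ.symm)
    exact specializes_rfl
  · rw [hd ξ, hξ] at hlt
    simp at hlt

/-- Affine space over an affine scheme has affine-space-like fibres. -/
theorem isAffFibre_poly : ∀ (r : ℕ) (R B : Type u) [CommRing R] [CommRing B] (φ : R →+* B)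
    (e : B ≃+* MvPolynomial (Fin r) R) (_ : ∀ a, e (φ a) = MvPolynomial.C a)
    (δX : Spec (CommRingCat.of B) → ℤ) (δY : Spec (CommRingCat.of R) → ℤ)
    (_ : Cyc.IsSetup (Spec (CommRingCat.of B)) δX) (_ : Cyc.IsSetup (Spec (CommRingCat.of R)) δY)
    (_ : Cyc.DeltaCompat (Spec.map (CommRingCat.ofHom φ)) δX δY) (η : Spec (CommRingCat.of R)),
    IsAffFibre (Spec.map (CommRingCat.ofHom φ)) δX δY r η := by
  intro r
  induction r with
  | zero =>
    intro R B _ _ φ e he δX δY _ _ hδ η
    have hb : Function.Bijective φ := by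
      have : (φ : R → B) = fun a => e.symm (MvPolynomial.C a) := funext fun a => by rw [← he, e.symm_apply_apply]
      rw [this]
      exact e.symm.bijective.comp ⟨MvPolynomial.C_injective _ _, MvPolynomial.C_surjective _⟩
    have : IsIso (CommRingCat.ofHom φ) := (ConcreteCategory.isIso_iff_bijective _).2 hb
    exact isAffFibre_iso _ hδ η
  | succ r ih =>
    intro R B _ _ φ e he δX δY hX hY hδ η
    let e' : B ≃+* Polynomial (MvPolynomial (Fin r) R) := e.trans (MvPolynomial.finSuccEquiv R r).toRingEquiv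
    let ψ : MvPolynomial (Fin r) R →+* B := e'.symm.toRingHom.comp Polynomial.C
    let φ' : R →+* MvPolynomial (Fin r) R := MvPolynomial.C
    have hψ : ∀ a, e' (ψ a) = Polynomial.C a := fun a => e'.apply_symm_apply _
    have hcomp : ψ.comp φ' = φ := RingHom.ext fun a => e'.injective (by
      rw [RingHom.comp_apply, hψ]
      exact (show MvPolynomial.finSuccEquiv R r (e (φ a)) = Polynomial.C (MvPolynomial.C a) by
        rw [he]; simp [MvPolynomial.finSuccEquiv_apply]).symm)
    let p := Spec.map (CommRingCat.ofHom ψ)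
    let π := Spec.map (CommRingCat.ofHom φ')
    have hpπ : p ≫ π = Spec.map (CommRingCat.ofHom φ) := by
      rw [← Spec.map_comp, ← CommRingCat.ofHom_comp, hcomp]
    have hft : LocallyOfFiniteType π := by
      rw [HasRingHomProperty.Spec_iff (P := @LocallyOfFiniteType)]
      exact RingHom.finiteType_algebraMap.2 (inferInstance : Algebra.FiniteType R (MvPolynomial (Fin r) R))
    let δW : Spec (CommRingCat.of (MvPolynomial (Fin r) R)) → ℤ := fun w => δY (π w) + E4O.fdeg π w
    have hδW : Cyc.DeltaCompat π δW δY := fun w => ⟨_, trdeg_residueField_eq_fdeg π w, rfl⟩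
    have hW := isSetup_of_lft π δY hY δW hδW
    rw [← hpπ] at hδ ⊢
    have hδp : Cyc.DeltaCompat p δX δW := deltaCompat_of_comp p π hδ hδW
    have : Flat p := by
      rw [HasRingHomProperty.Spec_iff (P := @Flat)]
      exact RingHom.Flat.comp (RingHom.flat_algebraMap_iff.2 inferInstance :
        (Polynomial.C : MvPolynomial (Fin r) R →+* _).Flat) (RingHom.Flat.of_bijective e'.symm.bijective)
    exact isAffFibre_comp p π hX hW hδp (shiftAt_line ψ e' hψ hX hδp)
      (fun w => isAffFibre_line ψ e' hψ hX hδp w) η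
      (ih R _ φ' (RingEquiv.refl _) (fun a => rfl) δW δY hW hY hδW η)

section Bundle

variable {X Y : Scheme.{u}} (f : X ⟶ Y) (n : Type u)

/-- A morphism which is affine over each member of a cover is quasi-compact. -/
lemma quasiCompact_of_affineSpace_bundle (hloc : ∀ y : Y, ∃ U : Y.Opens, y ∈ U ∧
    ∃ e : (↑(f ⁻¹ᵁ U) : Scheme.{u}) ≅ 𝔸(n; (↑U : Scheme.{u})),
      e.hom ≫ (𝔸(n; (↑U : Scheme.{u})) ↘ (↑U : Scheme.{u})) = f ∣_ U) : QuasiCompact f :=
  IsZariskiLocalAtTarget.of_forall_exists_morphismRestrict (P := @QuasiCompact) fun y => by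
    obtain ⟨U, hy, e, he⟩ := hloc y
    exact ⟨U, hy, he ▸ inferInstance⟩

theorem isAffFibre_bundle [LocallyOfFiniteType f] {δX : X → ℤ} {δY : Y → ℤ} (hX : Cyc.IsSetup X δX)
    (hY : Cyc.IsSetup Y δY) (hδ : Cyc.DeltaCompat f δX δY) {r : ℕ}
    (hloc : ∀ y : Y, ∃ U : Y.Opens, y ∈ U ∧
      ∃ e : (↑(f ⁻¹ᵁ U) : Scheme.{u}) ≅ 𝔸(ULift.{u} (Fin r); (↑U : Scheme.{u})),
        e.hom ≫ (𝔸(ULift.{u} (Fin r); (↑U : Scheme.{u})) ↘ (↑U : Scheme.{u})) = f ∣_ U) (η : Y) :
    IsAffFibre f δX δY r η := by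
  obtain ⟨U, hη, e, he⟩ := hloc η
  obtain ⟨V, hV, hηV, hVU⟩ := exists_isAffineOpen_mem_and_subset (X := Y) (U := U) hη
  let S := Γ(Y, V)
  let m := ULift.{u} (Fin r)
  have hi : Set.range hV.fromSpec ⊆ Set.range U.ι := by
    rw [hV.range_fromSpec, Scheme.Opens.range_ι]; exact hVU
  let k : Spec S ⟶ (U : Scheme.{u}) := IsOpenImmersion.lift U.ι hV.fromSpec hi
  have hk : k ≫ U.ι = hV.fromSpec := IsOpenImmersion.lift_fac _ _ _
  have : IsOpenImmersion k := by
    have : IsOpenImmersion (k ≫ U.ι) := hk ▸ inferInstance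
    exact IsOpenImmersion.of_comp k U.ι
  have hpb := AffineSpace.isPullback_map (n := m) k
  have : IsOpenImmersion (AffineSpace.map m k) :=
    MorphismProperty.of_isPullback hpb.flip inferInstance
  let φ : S →+* MvPolynomial m S := MvPolynomial.C
  let f' : Spec (CommRingCat.of (MvPolynomial m S)) ⟶ Spec S := Spec.map (CommRingCat.ofHom φ)
  let j : Spec (CommRingCat.of (MvPolynomial m S)) ⟶ X :=
    (AffineSpace.SpecIso m S).inv ≫ AffineSpace.map m k ≫ e.inv ≫ (f ⁻¹ᵁ U).ι
  have hover : e.inv ≫ f ∣_ U = 𝔸(m; (↑U : Scheme.{u})) ↘ (↑U : Scheme.{u}) := by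
    rw [← he, Iso.inv_hom_id_assoc]
  have hsq : j ≫ f = f' ≫ hV.fromSpec := by
    simp only [j, Category.assoc, ← morphismRestrict_ι, reassoc_of% hover]
    rw [AffineSpace.map_over_assoc, AffineSpace.SpecIso_inv_over_assoc, hk]
  have hrange : f ⁻¹' Set.range hV.fromSpec ⊆ Set.range j := by
    rintro x ⟨s, hs⟩
    have hxU : x ∈ f ⁻¹ᵁ U := by
      have := hi ⟨s, hs⟩
      rwa [Scheme.Opens.range_ι] at this
    let w := e.hom ⟨x, hxU⟩
    have hw : (𝔸(m; (↑U : Scheme.{u})) ↘ (↑U : Scheme.{u})) w = k s := by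
      refine U.ι.isOpenEmbedding.injective ?_
      have h1 := congrArg (fun l => U.ι (l ⟨x, hxU⟩)) he
      refine (h1.trans ?_).trans ((congrArg (fun l : Spec S ⟶ Y => l s) hk).trans hs).symm
      exact congrArg (fun l => l ⟨x, hxU⟩) (morphismRestrict_ι f U)
    obtain ⟨v, hv, -⟩ := Scheme.exists_preimage_of_isPullback hpb w s hw
    refine ⟨(AffineSpace.SpecIso m S).hom v, ?_⟩
    change ((AffineSpace.SpecIso m S).hom ≫ j) v = x
    simp only [j, Iso.hom_inv_id_assoc]
    simp only [Scheme.Hom.comp_apply, hv, w]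
    exact congrArg (fun l => (f ⁻¹ᵁ U).ι (l (show ↑(↑(f ⁻¹ᵁ U) : Scheme.{u}) from ⟨x, hxU⟩))) e.hom_inv_id
  obtain ⟨η', rfl⟩ : η ∈ Set.range hV.fromSpec := by rw [hV.range_fromSpec]; exact hηV
  have : IsOpenImmersion j := inferInstance
  have hlft : LocallyOfFiniteType f' := by
    rw [HasRingHomProperty.Spec_iff (P := @LocallyOfFiniteType)]
    exact RingHom.finiteType_algebraMap.2 (inferInstance : Algebra.FiniteType S (MvPolynomial m S))
  let δY' : Spec S → ℤ := fun y => δY (hV.fromSpec y)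
  let δX' : Spec (CommRingCat.of (MvPolynomial m S)) → ℤ := fun z => δX (j z)
  have hY' : Cyc.IsSetup (Spec S) δY' :=
    isSetup_of_lft hV.fromSpec δY hY δY' (deltaCompat_preimmersion hV.fromSpec δY)
  have hX' : Cyc.IsSetup _ δX' := isSetup_of_lft j δX hX δX' (deltaCompat_preimmersion j δX)
  have hjf : Cyc.DeltaCompat (j ≫ f) δX' δY := by
    intro z
    obtain ⟨a, ha, hd⟩ := hδ (j z)
    refine ⟨a, ?_, hd⟩
    letI a1 : Algebra (Y.residueField ((j ≫ f) z)) (X.residueField (j z)) := (f.residueFieldMap (j z)).hom.toAlgebra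
    letI a3 : Algebra (Y.residueField ((j ≫ f) z)) ((Spec (CommRingCat.of (MvPolynomial m S))).residueField z) :=
      ((j ≫ f).residueFieldMap z).hom.toAlgebra
    refine Eq.trans ?_ ha
    refine (AlgEquiv.trdeg_eq (AlgEquiv.ofBijective ⟨(j.residueFieldMap z).hom, fun c => ?_⟩
      ⟨RingHom.injective _, residueFieldMap_surjective j z⟩)).symm
    exact (DFunLike.congr_fun (congrArg CommRingCat.Hom.hom (Scheme.residueFieldMap_comp j f z)) c).symm
  have hcompat : Cyc.DeltaCompat f' δX' δY' := by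
    rw [hsq] at hjf
    exact deltaCompat_of_comp f' hV.fromSpec hjf (deltaCompat_preimmersion hV.fromSpec δY)
  refine isAffFibre_of_square f f' j hV.fromSpec hsq hrange hX η' ?_
  exact isAffFibre_poly r S (MvPolynomial m S) φ (MvPolynomial.renameEquiv S Equiv.ulift).toRingEquiv
    (fun a => MvPolynomial.rename_C _ a) δX' δY' hX' hY' hcompat η'

end Bundle

end Groth.Agent.Cyc90
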