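import Groth.Agent.Cyc90.DimFun
import Mathlib.Topology.JacobsonSpace
import Mathlib.Topology.KrullDimension

/-! Jacobson schemes with a dimension function vanishing at closed points. -/

universe u

open CategoryTheory AlgebraicGeometry TopologicalSpace

namespace Groth.Agent.Cyc90

variable {X : Scheme.{u}} {δ : X → ℤ}

lemma exists_closed_specialization [JacobsonSpace X] (ξ : X) :
    ∃ z, ξ ⤳ z ∧ IsClosed ({z} : Set X) := by
  obtain ⟨z, hz, hz'⟩ := nonempty_inter_closedPoints (Z := closure ({ξ} : Set X))
    ⟨ξ, subset_closure rfl⟩ isClosed_closure.isLocallyClosed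
  exact ⟨z, specializes_iff_mem_closure.mpr hz, hz'⟩

variable [JacobsonSpace X] (h : Cyc.IsDimFun X δ) (h0 : ∀ x : X, IsClosed ({x} : Set X) → δ x = 0)

include h h0 in
lemma delta_nonneg (ξ : X) : 0 ≤ δ ξ := by
  obtain ⟨z, hz, hc⟩ := exists_closed_specialization ξ
  exact (h0 z hc) ▸ delta_le h hz

omit [JacobsonSpace X] in
/-- Points of a closed subspace, ordered by specialization, are its irreducible closed subsets. -/
lemma exists_delta_genericPoint (ξ : X) (Z : IrreducibleCloseds (closure ({ξ} : Set X))) :
    ∃ p : X, ξ ⤳ p ∧ IsGenericPoint p (Subtype.val '' (Z : Set (closure ({ξ} : Set X)))) := by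
  have hirr : IsIrreducible (Subtype.val '' (Z : Set (closure ({ξ} : Set X)))) :=
    Z.isIrreducible.image _ continuous_subtype_val.continuousOn
  have hcl : IsClosed (Subtype.val '' (Z : Set (closure ({ξ} : Set X)))) :=
    isClosed_closure.isClosedMap_subtype_val _ Z.isClosed
  obtain ⟨p, hp⟩ := QuasiSober.sober hirr hcl
  obtain ⟨⟨q, hq⟩, -, hqp⟩ := hp.mem
  refine ⟨p, specializes_iff_mem_closure.mpr ?_, hp⟩
  rw [← hqp]
  exact hq

include h h0 in
/-- The dimension of a closure is `δ`. -/
lemma topologicalKrullDim_closure (ξ : X) :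
    topologicalKrullDim (closure ({ξ} : Set X)) = ((δ ξ).toNat : WithBot ℕ∞) := by
  rw [topologicalKrullDim]
  choose p hp hgen using exists_delta_genericPoint (X := X) ξ
  refine le_antisymm (iSup_le fun c => ?_) ?_
  · have key : ∀ i : ℕ, ∀ hi : i < c.length + 1, (i : ℤ) ≤ δ (p (c ⟨i, hi⟩)) := by
      intro i
      induction i with
      | zero => intro _; simpa using delta_nonneg h h0 _
      | succ j ih =>
        intro hi
        have hlt : c ⟨j, by omega⟩ < c ⟨j + 1, hi⟩ :=
          c.strictMono (Fin.mk_lt_mk.mpr (Nat.lt_succ_self j))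
        have hsub : Subtype.val '' (c ⟨j, by omega⟩ : Set (closure ({ξ} : Set X))) ⊂
            Subtype.val '' (c ⟨j + 1, hi⟩ : Set (closure ({ξ} : Set X))) :=
          ⟨Set.image_mono hlt.le, fun hh =>
            hlt.not_ge ((Set.image_subset_image_iff Subtype.val_injective).mp hh)⟩
        have hs := (hgen (c ⟨j + 1, hi⟩)).specializes (hsub.1 (hgen _).mem)
        have hd : δ (p (c ⟨j, by omega⟩)) < δ (p (c ⟨j + 1, hi⟩)) := delta_lt h hs fun e => by
          have h1 := (hgen (c ⟨j + 1, hi⟩)).def
          rw [e, (hgen _).def] at h1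
          exact hsub.ne h1
        have h3 := ih (by omega)
        push_cast
        omega
    have h1 := key c.length (Nat.lt_succ_self _)
    have h2 := delta_le h (hp (c ⟨c.length, Nat.lt_succ_self _⟩))
    exact_mod_cast (show c.length ≤ (δ ξ).toNat by omega)
  · obtain ⟨z, hz, hzc⟩ := exists_closed_specialization ξ
    obtain ⟨c, hc1, hc2⟩ := exists_series h hz
    have hle : ∀ i, ξ ⤳ ptOf (c i) := fun i => by
      have := ptOf_specializes_of_le (c.head_le i)
      rwa [hc1, ptOf_genPrime] at this
    let pt : Fin (c.length + 1) → closure ({ξ} : Set X) := fun i =>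
      ⟨ptOf (c i), specializes_iff_mem_closure.mp (hle i)⟩
    have emb : Topology.IsEmbedding (Subtype.val : closure ({ξ} : Set X) → X) :=
      Topology.IsEmbedding.subtypeVal
    let c' : LTSeries (IrreducibleCloseds (closure ({ξ} : Set X))) :=
      { length := c.length
        toFun := fun i => ⟨closure {pt i.rev}, isIrreducible_singleton.closure, isClosed_closure⟩
        step := fun i => by
          have hlt : c i.succ.rev < c i.castSucc.rev :=
            c.strictMono (Fin.rev_lt_rev.mpr i.castSucc_lt_succ)
          have hsp : pt i.succ.rev ⤳ pt i.castSucc.rev :=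
            emb.isInducing.specializes_iff.mp (ptOf_specializes_of_le hlt.le)
          refine ⟨hsp.closure_subset, fun hge => ?_⟩
          have hsp' : pt i.castSucc.rev ⤳ pt i.succ.rev :=
            specializes_iff_mem_closure.mpr (hge (subset_closure rfl))
          have := (Inseparable.map (hsp'.antisymm hsp) continuous_subtype_val).eq
          exact hlt.ne (ptOf_injective z this.symm) }
    refine le_of_eq_of_le ?_ (Order.LTSeries.length_le_krullDim c')
    have h00 := h0 z hzc
    have : c.length = (δ ξ).toNat := by omega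
    rw [← this]

end Groth.Agent.Cyc90
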