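import Groth.Agent.TameAlg50.Fibre
import Groth.Agent.Len90.OrdFrac
import Groth.Agent.Len90.Domain
import Groth.Agent.S14503

/-! The norm formula for orders of vanishing along a finite extension of domains. -/

set_option autoImplicit false
universe u

open IsLocalRing

namespace Groth.Agent.Cyc90

section congr

lemma ord_ringEquiv {A A' : Type u} [CommRing A] [CommRing A'] (e : A ≃+* A') (x : A) :
    Ring.ord A' (e x) = Ring.ord A x := by
  let : Algebra A A' := e.toRingHom.toAlgebra
  have : RingHomSurjective (algebraMap A A') := ⟨e.surjective⟩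
  let q : (A ⧸ Ideal.span {x}) ≃+* (A' ⧸ Ideal.span {e x}) :=
    Ideal.quotientEquiv _ _ e (by rw [Ideal.map_span, Set.image_singleton]; rfl)
  let l : (A ⧸ Ideal.span {x}) ≃ₗ[A] (A' ⧸ Ideal.span {e x}) :=
    { q.toAddEquiv with
      map_smul' := fun a z => by
        obtain ⟨w, rfl⟩ := Ideal.Quotient.mk_surjective z
        show q (Ideal.Quotient.mk _ (a * w)) = a • q (Ideal.Quotient.mk _ w)
        rw [map_mul, map_mul]
        rfl }
  rw [Ring.ord, Ring.ord, l.length_eq]
  exact (Module.length_eq_of_surjective (R := A') (S := A) e.surjective).symm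

variable {A A' : Type u} [CommRing A] [IsDomain A] [IsNoetherianRing A] [Ring.KrullDimLE 1 A]
  [CommRing A'] [IsDomain A'] [IsNoetherianRing A'] [Ring.KrullDimLE 1 A']
  {K K' : Type u} [Field K] [Algebra A K] [IsFractionRing A K]
  [Field K'] [Algebra A' K'] [IsFractionRing A' K']

/-- `ordFrac` only depends on the ring up to isomorphism. -/
theorem ordFrac_congr (e : A ≃+* A') (σ : K →+* K')
    (h : ∀ a, σ (algebraMap A K a) = algebraMap A' K' (e a)) (f : K) (hf : f ≠ 0) :
    CycAlg.ordFrac A' K' (σ f) = CycAlg.ordFrac A K f := by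
  obtain ⟨x, y, hy, rfl⟩ := IsFractionRing.div_surjective (A := A) f
  have hy0 : y ≠ 0 := nonZeroDivisors.coe_ne_zero ⟨y, hy⟩
  have hy' : algebraMap A K y ≠ 0 := fun e0 =>
    hy0 (IsFractionRing.injective A K (e0.trans (map_zero _).symm))
  have hx0 : x ≠ 0 := by rintro rfl; simp at hf
  have he := div_mul_cancel₀ (algebraMap A K x) hy'
  rw [Len90.ordFrac_of_mul_eq _ x y hx0 hy0 he, Len90.ordFrac_of_mul_eq _ (e x) (e y)
    (e.map_ne_zero_iff.2 hx0) (e.map_ne_zero_iff.2 hy0) (by rw [← h, ← h, ← map_mul, he]),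
    ord_ringEquiv, ord_ringEquiv]

end congr

variable {A B : Type u} [CommRing A] [IsDomain A] [IsNoetherianRing A] [IsLocalRing A]
  [CommRing B] [IsDomain B] [Algebra A B] [Module.Finite A B]

lemma finite_maximalSpectrum (A B : Type u) [CommRing A] [IsNoetherianRing A] [IsLocalRing A]
    [CommRing B] [Algebra A B] [Module.Finite A B] : Finite (MaximalSpectrum B) := by
  let I := (maximalIdeal A).map (algebraMap A B)
  have : Module.Finite (A ⧸ maximalIdeal A) (B ⧸ I) :=
    .of_restrictScalars_finite A _ _
  have : IsArtinianRing (A ⧸ maximalIdeal A) :=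
    let _ : Field (A ⧸ maximalIdeal A) := Ideal.Quotient.field _
    inferInstance
  have hart : IsArtinianRing (B ⧸ I) := isArtinian_of_tower (A ⧸ maximalIdeal A) inferInstance
  have hI : ∀ P : MaximalSpectrum B, I ≤ P.asIdeal := fun P => by
    have := P.isMaximal
    rw [Ideal.map_le_iff_le_comap, IsLocalRing.eq_maximalIdeal
      (Ideal.isMaximal_comap_of_isIntegral_of_isMaximal (R := A) P.asIdeal)]
  refine Finite.of_injective (β := PrimeSpectrum (B ⧸ I))
    (fun P => ⟨P.asIdeal.map (Ideal.Quotient.mk I), ?_⟩) fun P Q h => ?_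
  · have := P.isMaximal
    exact Ideal.map_isPrime_of_surjective Ideal.Quotient.mk_surjective (by rw [Ideal.mk_ker]; exact hI P)
  · have h' := congrArg (fun t => t.asIdeal.comap (Ideal.Quotient.mk I)) h
    simp only [Ideal.comap_map_of_surjective _ Ideal.Quotient.mk_surjective, ← RingHom.ker_eq_comap_bot,
      Ideal.mk_ker, sup_eq_left.2 (hI P), sup_eq_left.2 (hI Q)] at h'
    exact MaximalSpectrum.ext h'

/-- The residue degree of a maximal ideal over the closed point. -/
noncomputable def degAt (A : Type u) [CommRing A] [IsLocalRing A] {B : Type u} [CommRing B]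
    [Algebra A B] [Module.Finite A B] (P : MaximalSpectrum B) : ℕ :=
  TameAlg50.deg (B := A) (C := B) ⟨maximalIdeal A, maximalIdeal.isMaximal A⟩ P (by
    have := P.isMaximal
    exact (IsLocalRing.eq_maximalIdeal
      (Ideal.isMaximal_comap_of_isIntegral_of_isMaximal (R := A) P.asIdeal)).symm)

lemma locLen_maximalIdeal (N : Type u) [AddCommGroup N] [Module A N] :
    Len90.locLen (maximalIdeal A) N = Module.length A N := by
  rw [Len90.locLen]
  have hu : ∀ s : (maximalIdeal A).primeCompl, IsUnit (s : A) := fun s => by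
    by_contra h; exact s.2 h
  have : IsLocalization (maximalIdeal A).primeCompl A :=
    IsLocalization.self fun x hx => hu ⟨x, hx⟩
  have : IsLocalizedModule (maximalIdeal A).primeCompl (LinearMap.id : N →ₗ[A] N) :=
    { map_units := fun s => by
        rw [Module.End.isUnit_iff]
        obtain ⟨v, hv⟩ := hu s
        refine ⟨fun a b e => ?_, fun b => ⟨(↑v⁻¹ : A) • b, ?_⟩⟩
        · simp only [Module.algebraMap_end_apply] at e
          simpa [← hv, smul_smul] using congrArg ((↑v⁻¹ : A) • ·) e
        · simp [← hv, smul_smul]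
      surj := fun y => ⟨⟨y, 1⟩, by simp⟩
      exists_of_eq := fun {a b} h => ⟨1, by simpa using h⟩ }
  have e : LocalizedModule (maximalIdeal A).primeCompl N ≃ₗ[A] N :=
    IsLocalizedModule.iso (maximalIdeal A).primeCompl LinearMap.id
  have hs : Function.Surjective (algebraMap A (Localization.AtPrime (maximalIdeal A))) :=
    (IsLocalization.atUnits A (maximalIdeal A).primeCompl
      (fun x hx => hu ⟨x, hx⟩) (S := Localization.AtPrime (maximalIdeal A))).surjective
  rw [← Module.length_eq_of_surjective (S := A) hs, e.length_eq]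

lemma toNat_finset_sum {ι : Type*} (s : Finset ι) (f : ι → ℕ∞) (h : ∑ i ∈ s, f i ≠ ⊤) :
    (∑ i ∈ s, f i).toNat = ∑ i ∈ s, (f i).toNat := by
  induction s using Finset.cons_induction with
  | empty => simp
  | cons a s ha ih =>
    rw [Finset.sum_cons] at h ⊢
    rw [Finset.sum_cons, ENat.toNat_add (fun e => h (by rw [e, top_add])) (fun e => h (by rw [e, add_top])),
      ih (fun e => h (by rw [e, add_top]))]

variable {K L : Type u} [Field K] [Field L] [Algebra A K] [IsFractionRing A K]
  [Algebra B L] [IsFractionRing B L] [Algebra K L] [Algebra A L] [IsScalarTower A B L]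
  [IsScalarTower A K L] [FiniteDimensional K L]

/-- The norm formula: the order of the norm is the sum of the orders weighted by residue degrees,
for an element of `B`. -/
theorem ordFrac_norm_algebraMap (hA : ringKrullDim A = 1)
    (hinj : Function.Injective (algebraMap A B)) [Fintype (MaximalSpectrum B)] (r : B) (hr : r ≠ 0) :
    CycAlg.ordFrac A K (Algebra.norm K (algebraMap B L r)) =
      ∑ P : MaximalSpectrum B, (degAt A P : ℤ) *
        ((Ring.ord (Localization.AtPrime P.asIdeal)
          (algebraMap B (Localization.AtPrime P.asIdeal) r)).toNat : ℤ) := by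
  have hB : IsNoetherianRing B := IsNoetherianRing.of_finite A B
  obtain ⟨hfin, hlen⟩ := S14503.result A hA B hinj K L r hr
  rw [← hlen]
  let q : MaximalSpectrum A := ⟨maximalIdeal A, maximalIdeal.isMaximal A⟩
  have hq : ∀ P : MaximalSpectrum B, q.asIdeal = P.asIdeal.comap (algebraMap A B) := fun P => by
    have := P.isMaximal
    exact (IsLocalRing.eq_maximalIdeal
      (Ideal.isMaximal_comap_of_isIntegral_of_isMaximal (R := A) P.asIdeal)).symm
  have h1 := TameAlg50.locLen_fibre (B := A) (C := B) q Finset.univ (fun P => by simpa using hq P)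
    (B ⧸ Ideal.span {r}) (fun p hp => by
      rw [Module.mem_support_iff_of_finite, Ideal.annihilator_quotient] at hp
      have hp0 : p.asIdeal.comap (algebraMap A B) ≠ ⊥ :=
        Ideal.comap_ne_bot_of_integral_mem hr (hp (Ideal.mem_span_singleton_self r))
          (Algebra.IsIntegral.isIntegral r)
      have : Ring.KrullDimLE 1 A := by
        rw [Ring.KrullDimLE, Order.krullDimLE_iff, ← ringKrullDim, hA]; rfl
      have := (Ring.krullDimLE_one_iff_of_noZeroDivisors.1 this) _ hp0 inferInstance
      exact Ideal.isMaximal_of_isIntegral_of_isMaximal_comap p.asIdeal this)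
  rw [locLen_maximalIdeal] at h1
  rw [h1]
  rw [toNat_finset_sum _ _ (h1 ▸ hfin.ne), Nat.cast_sum]
  rw [Finset.sum_attach (Finset.univ : Finset (MaximalSpectrum B)) (fun P =>
    (((TameAlg50.deg q P (hq P) : ℕ∞) * Len90.locLen P.asIdeal (B ⧸ Ideal.span {r})).toNat : ℤ))]
  refine Finset.sum_congr rfl fun P _ => ?_
  rw [ENat.toNat_mul, TameAlg50.ord_localization P.asIdeal r, Nat.cast_mul]
  rfl

lemma krullDimLE_one_of_finite (hA : ringKrullDim A = 1) (hinj : Function.Injective (algebraMap A B)) :
    Ring.KrullDimLE 1 B := by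
  have hA1 : Ring.KrullDimLE 1 A := by
    rw [Ring.KrullDimLE, Order.krullDimLE_iff, ← ringKrullDim, hA]; rfl
  rw [Ring.krullDimLE_one_iff_of_noZeroDivisors]
  intro P hP hPp
  have := hPp
  obtain ⟨r, hrP, hr⟩ := Submodule.exists_mem_ne_zero_of_ne_bot hP
  have hp0 : P.comap (algebraMap A B) ≠ ⊥ :=
    Ideal.comap_ne_bot_of_integral_mem hr hrP (Algebra.IsIntegral.isIntegral r)
  have := (Ring.krullDimLE_one_iff_of_noZeroDivisors.1 hA1) _ hp0 inferInstance
  exact Ideal.isMaximal_of_isIntegral_of_isMaximal_comap P this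

/-- The norm formula for all nonzero elements of the fraction field, the local rings of `B` at its
maximal ideals being given as arbitrary localizations `C P`. -/
theorem ordFrac_norm (hA : ringKrullDim A = 1)
    (hinj : Function.Injective (algebraMap A B)) [Fintype (MaximalSpectrum B)]
    (C : MaximalSpectrum B → Type u) [∀ P, CommRing (C P)] [∀ P, IsDomain (C P)]
    [∀ P, Algebra B (C P)] [∀ P, IsLocalization.AtPrime (C P) P.asIdeal]
    [∀ P, Algebra (C P) L] [∀ P, IsFractionRing (C P) L] [∀ P, IsScalarTower B (C P) L]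
    (g : L) (hg : g ≠ 0) :
    CycAlg.ordFrac A K (Algebra.norm K g) =
      ∑ P : MaximalSpectrum B, (degAt A P : ℤ) * CycAlg.ordFrac (C P) L g := by
  have hB : IsNoetherianRing B := IsNoetherianRing.of_finite A B
  have hA1 : Ring.KrullDimLE 1 A := by
    rw [Ring.KrullDimLE, Order.krullDimLE_iff, ← ringKrullDim, hA]; rfl
  have hB1 := krullDimLE_one_of_finite hA hinj
  have hN : ∀ P, IsNoetherianRing (C P) := fun P =>
    IsLocalization.isNoetherianRing P.asIdeal.primeCompl (C P) hB
  have hC1 : ∀ P, Ring.KrullDimLE 1 (C P) := fun P => by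
    rw [Ring.KrullDimLE, Order.krullDimLE_iff] at hB1 ⊢
    rw [← ringKrullDim] at hB1 ⊢
    have := P.isMaximal
    rw [IsLocalization.AtPrime.ringKrullDim_eq_height P.asIdeal (C P)]
    exact (Ideal.height_le_ringKrullDim_of_ne_top P.isMaximal.ne_top).trans hB1
  have key : ∀ r : B, r ≠ 0 → CycAlg.ordFrac A K (Algebra.norm K (algebraMap B L r)) =
      ∑ P : MaximalSpectrum B, (degAt A P : ℤ) * CycAlg.ordFrac (C P) L (algebraMap B L r) := by
    intro r hr
    rw [ordFrac_norm_algebraMap hA hinj r hr]
    refine Finset.sum_congr rfl fun P _ => ?_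
    congr 1
    let e := (IsLocalization.algEquiv P.asIdeal.primeCompl (Localization.AtPrime P.asIdeal) (C P)).toRingEquiv
    have he : e (algebraMap B _ r) = algebraMap B (C P) r := AlgEquiv.commutes _ r
    rw [IsScalarTower.algebraMap_apply B (C P) L, Len90.ordFrac_algebraMap, ← he, ord_ringEquiv]
    exact fun h => hr (IsLocalization.injective (C P) P.asIdeal.primeCompl_le_nonZeroDivisors
      (h.trans (map_zero _).symm))
  obtain ⟨x, y, hy, rfl⟩ := IsFractionRing.div_surjective (A := B) g
  have hy0 : y ≠ 0 := nonZeroDivisors.coe_ne_zero ⟨y, hy⟩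
  have hx0 : x ≠ 0 := by rintro rfl; simp at hg
  have hy' : algebraMap B L y ≠ 0 := fun e0 =>
    hy0 (IsFractionRing.injective B L (e0.trans (map_zero _).symm))
  have hmul := div_mul_cancel₀ (algebraMap B L x) hy'
  have h1 := key x hx0
  rw [← hmul, map_mul, Len90.ordFrac_mul _ _ (Algebra.norm_ne_zero_iff.2 hg)
    (Algebra.norm_ne_zero_iff.2 hy'), key y hy0] at h1
  have h2 : ∀ P, CycAlg.ordFrac (C P) L (algebraMap B L x / algebraMap B L y * algebraMap B L y) =
      CycAlg.ordFrac (C P) L (algebraMap B L x / algebraMap B L y) +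
        CycAlg.ordFrac (C P) L (algebraMap B L y) := fun P => Len90.ordFrac_mul _ _ hg hy'
  simp only [h2, mul_add, Finset.sum_add_distrib] at h1
  exact add_right_cancel h1

end Groth.Agent.Cyc90
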