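import Groth.Agent.Cyc90.FiniteTypeDelta
import Groth.Agent.Cyc90.OrdNorm
import Mathlib.AlgebraicGeometry.FunctionField

/-! Orders along points of an integral scheme. -/

universe u

open CategoryTheory AlgebraicGeometry TopologicalSpace IsLocalRing

namespace Groth.Agent.Cyc90

variable {X : Scheme.{u}} [IsIntegral X]

lemma gen_specializes (x : X) : genericPoint X ⤳ x := (genericPoint_spec X).specializes trivial

lemma stalk_generic_injective (x : X) :
    Function.Injective (Cyc.specMap x (genericPoint X) (gen_specializes x)) := by
  intro a b hab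
  exact IsFractionRing.injective (X.presheaf.stalk x) X.functionField
    ((show Function.Injective (X.residue (genericPoint X)).hom from RingHom.injective
      (IsLocalRing.residue (X.presheaf.stalk (genericPoint X)) : X.functionField →+* _)) hab)

lemma ker_specMap_generic (x : X) :
    RingHom.ker (Cyc.specMap x (genericPoint X) (gen_specializes x)) = ⊥ :=
  (RingHom.injective_iff_ker_eq_bot _).1 (stalk_generic_injective x)

/-- The stalk of an integral scheme is the local ring of the closure of its generic point. -/
noncomputable def stalkEquivLocQuot (x : X) :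
    X.presheaf.stalk x ≃+* Cyc.LocQuot x (genericPoint X) (gen_specializes x) :=
  RingEquiv.ofBijective (Ideal.Quotient.mk _) ⟨(RingHom.injective_iff_ker_eq_bot _).2
    (Ideal.mk_ker.trans (ker_specMap_generic x)), Ideal.Quotient.mk_surjective⟩

lemma isFractionRing_specMap (x : X) :
    letI := (Cyc.specMap x (genericPoint X) (gen_specializes x)).toAlgebra
    IsFractionRing (X.presheaf.stalk x) (X.residueField (genericPoint X)) := by
  letI := (Cyc.specMap x (genericPoint X) (gen_specializes x)).toAlgebra
  have : FaithfulSMul (X.presheaf.stalk x) (X.residueField (genericPoint X)) :=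
    (faithfulSMul_iff_algebraMap_injective _ _).2 (stalk_generic_injective x)
  refine IsFractionRing.of_field _ _ fun z => ?_
  obtain ⟨a, b, -, h⟩ := IsFractionRing.div_surjective
    (A := Cyc.LocQuot x (genericPoint X) (gen_specializes x)) z
  obtain ⟨a, rfl⟩ := Ideal.Quotient.mk_surjective a
  obtain ⟨b, rfl⟩ := Ideal.Quotient.mk_surjective b
  exact ⟨a, b, h.symm⟩

lemma krullDimLE_one {A : Type u} [CommRing A] (h : ringKrullDim A ≤ 1) : Ring.KrullDimLE 1 A := by
  rw [Ring.KrullDimLE, Order.krullDimLE_iff]
  exact h

variable [IsLocallyNoetherian X]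

/-- On an integral scheme `ordAt` is the order in the stalk. -/
theorem ordAt_generic (x : X) (hx : ringKrullDim (X.presheaf.stalk x) ≤ 1)
    (f : X.residueField (genericPoint X)) (hf : f ≠ 0) :
    Cyc.ordAt x (genericPoint X) (gen_specializes x) f =
      (letI := (Cyc.specMap x (genericPoint X) (gen_specializes x)).toAlgebra
       CycAlg.ordFrac (X.presheaf.stalk x) (X.residueField (genericPoint X)) f) := by
  letI := (Cyc.specMap x (genericPoint X) (gen_specializes x)).toAlgebra
  have := isFractionRing_specMap x
  have := krullDimLE_one hx
  let e := stalkEquivLocQuot x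
  have : IsNoetherianRing (Cyc.LocQuot x (genericPoint X) (gen_specializes x)) :=
    inferInstance
  have : Ring.KrullDimLE 1 (Cyc.LocQuot x (genericPoint X) (gen_specializes x)) :=
    krullDimLE_one ((ringKrullDim_eq_of_ringEquiv e).symm.trans_le hx)
  exact ordFrac_congr (A := X.presheaf.stalk x) (A' := Cyc.LocQuot x (genericPoint X) (gen_specializes x))
    e (RingHom.id _) (fun a => rfl) f hf

end Groth.Agent.Cyc90
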