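import Groth.Agent.Cyc90.PlaceNorm
import Groth.Agent.Cyc90.IntegralOrd
import Groth.Agent.Cyc90.IsDimFunLft
import Groth.Agent.CAlg6.FiniteClosure
import Groth.Agent.CAlg5.NFinite
import Groth.Agent.WC97.Dim
import Groth.Agent.Crv77.Basic
import Groth.Agent.FF30.Degree
import Mathlib.AlgebraicGeometry.ValuativeCriterion
import Mathlib.RingTheory.AlgebraicIndependent.AlgebraicClosure
import Mathlib.FieldTheory.IntermediateField.Adjoin.Algebra

/-! The degree of a principal divisor on a proper curve is zero. -/

set_option autoImplicit false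
universe u

open CategoryTheory AlgebraicGeometry TopologicalSpace IsLocalRing

namespace Groth.Agent.Cyc90

variable {K : Type u} [Field K] {X : Scheme.{u}}

/-- The structure map to a stalk. -/
noncomputable def kStalk (c : X ⟶ Spec (CommRingCat.of K)) (x : X) : K →+* X.presheaf.stalk x :=
  (Spec.preimage (X.fromSpecStalk x ≫ c)).hom

lemma kStalk_spec (c : X ⟶ Spec (CommRingCat.of K)) (x : X) :
    Spec.map (CommRingCat.ofHom (kStalk c x)) = X.fromSpecStalk x ≫ c :=
  Spec.map_preimage _

lemma kStalk_specializes (c : X ⟶ Spec (CommRingCat.of K)) {y x : X} (h : y ⤳ x) :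
    (X.presheaf.stalkSpecializes h).hom.comp (kStalk c x) = kStalk c y := by
  have : CommRingCat.ofHom (kStalk c x) ≫ X.presheaf.stalkSpecializes h =
      CommRingCat.ofHom (kStalk c y) := by
    apply Spec.map_injective
    rw [Spec.map_comp, kStalk_spec, kStalk_spec, Scheme.SpecMap_stalkSpecializes_fromSpecStalk_assoc]
  exact congrArg CommRingCat.Hom.hom this

lemma kStr_eq_residue (c : X ⟶ Spec (CommRingCat.of K)) (x : X) :
    WC97.kStr c x = (X.residue x).hom.comp (kStalk c x) := by
  have : CommRingCat.ofHom (WC97.kStr c x) = CommRingCat.ofHom (kStalk c x) ≫ X.residue x := by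
    apply Spec.map_injective
    rw [Spec.map_comp, kStalk_spec, WC97.kStr_spec]
    rfl
  exact congrArg CommRingCat.Hom.hom this

lemma kStalk_eq_germ (c : X ⟶ Spec (CommRingCat.of K)) {U : X.Opens} (hU : IsAffineOpen U) {x : X}
    (hx : x ∈ U) : kStalk c x = (X.presheaf.germ U x hx).hom.comp (WC97.kSec c hU) := by
  have : CommRingCat.ofHom (kStalk c x) = CommRingCat.ofHom (WC97.kSec c hU) ≫ X.presheaf.germ U x hx := by
    apply Spec.map_injective
    rw [Spec.map_comp, kStalk_spec, ← hU.fromSpecStalk_eq_fromSpecStalk hx, IsAffineOpen.fromSpecStalk,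
      Category.assoc]
    congr 1
    exact (Spec.map_preimage _).symm
  exact congrArg CommRingCat.Hom.hom this

lemma residueDegree_eq_finrank (c : X ⟶ Spec (CommRingCat.of K)) (x : X) :
    c.residueDegree x =
      (letI := (WC97.kStr c x).toAlgebra; Module.finrank K (X.residueField x)) := by
  letI := (WC97.kStr c x).toAlgebra
  letI := (c.residueFieldMap x).hom.toAlgebra
  let ψ := WC97.kStr (𝟙 (Spec (CommRingCat.of K))) (c x)
  have hψ : Function.Surjective ψ := by
    have h1 : IsClosedImmersion (Spec.map (CommRingCat.ofHom ψ)) := by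
      rw [WC97.kStr_spec, Category.comp_id]
      exact IsClosedImmersion.of_isPreimmersion _ (isClosed_discrete _)
    intro z
    obtain ⟨w, hw⟩ := (Spec.map (CommRingCat.ofHom ψ)).app_surjective ⊤ (isAffineOpen_top _)
      ((Scheme.ΓSpecIso _).inv z)
    refine ⟨(Scheme.ΓSpecIso _).hom w, ?_⟩
    have h2 := congr($(Scheme.ΓSpecIso_naturality (CommRingCat.ofHom ψ)).hom w)
    refine (h2.symm.trans ?_)
    exact (congrArg (Scheme.ΓSpecIso _).hom hw).trans (Iso.inv_hom_id_apply _ z)
  refine (Algebra.finrank_eq_of_equiv_equiv (RingEquiv.ofBijective ψ ⟨ψ.injective, hψ⟩)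
    (RingEquiv.refl _) (RingHom.ext fun a => ?_)).symm
  exact (RingHom.congr_fun (WC97.kStr_comp c c (𝟙 _) (Category.comp_id c) x) a).symm

lemma finite_integralClosure_localization (R A F : Type u) [CommRing R] [CommRing A] [Field F]
    [Algebra R A] (M : Submonoid R) [IsLocalization M A] [Algebra A F] [Algebra R F]
    [IsScalarTower R A F] (h : Module.Finite R (integralClosure R F)) :
    Module.Finite A (integralClosure A F) := by
  rw [CAlg5.finite_integralClosure_iff] at h ⊢
  obtain ⟨T, hT, hspan⟩ := h
  refine ⟨T, fun t ht => (hT t ht).tower_top, fun z hz => ?_⟩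
  obtain ⟨m, hm⟩ := IsIntegral.exists_multiple_integral_of_isLocalization M z hz
  have h1 : m • z ∈ Submodule.span A (T : Set F) :=
    Submodule.span_subset_span R A _ (hspan _ hm)
  obtain ⟨v, hv⟩ := IsLocalization.map_units A m
  have h2 := Submodule.smul_mem _ (↑v⁻¹ : A) h1
  rwa [Submonoid.smul_def, ← algebraMap_smul A (m : R) z, smul_smul, ← hv, Units.inv_mul, one_smul] at h2

variable [IsIntegral X] (c : X ⟶ Spec (CommRingCat.of K))

lemma not_isClosed_generic (hdim : topologicalKrullDim X = 1) :
    ¬ IsClosed ({genericPoint X} : Set X) := fun h => by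
  have : Subsingleton X := ⟨fun a b => by
    have key : ∀ z : X, z = genericPoint X := fun z => by
      have := h.closure_eq ▸ specializes_iff_mem_closure.1 ((genericPoint_spec X).specializes (y := z) trivial)
      exact this
    rw [key a, key b]⟩
  have : Subsingleton (IrreducibleCloseds X) := ⟨fun a b => SetLike.coe_injective
    ((Set.eq_univ_of_forall fun z => a.isIrreducible.nonempty.elim fun w hw => Subsingleton.elim w z ▸ hw).trans
      (Set.eq_univ_of_forall fun z => b.isIrreducible.nonempty.elim fun w hw => Subsingleton.elim w z ▸ hw).symm)⟩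
  have h0 : topologicalKrullDim X ≤ 0 := Order.krullDim_nonpos_of_subsingleton
  rw [hdim] at h0
  exact not_lt.2 h0 zero_lt_one

lemma dim_stalk_eq_one [IsLocallyNoetherian X] (hdim : topologicalKrullDim X = 1) {x : X}
    (hx : IsClosed ({x} : Set X)) : ringKrullDim (X.presheaf.stalk x) = 1 := by
  refine le_antisymm ((Crv77.stalk_dim_le x).trans hdim.le) ?_
  rw [ringKrullDim_eq_of_ringEquiv (stalkEquivLocQuot x)]
  exact one_le_ringKrullDim_locQuot _ fun e => not_isClosed_generic hdim (e ▸ hx)

variable [IsProper c]

include c in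
/-- The function field of a proper curve is a function field of one variable. -/
theorem ff_functionField (hdim : topologicalKrullDim X = 1) :
    letI := (kStalk c (genericPoint X)).toAlgebra
    FF30.FF K X.functionField := by
  letI iKF : Algebra K X.functionField := (kStalk c (genericPoint X)).toAlgebra
  obtain ⟨U, hU, hxU, -⟩ := exists_isAffineOpen_mem_and_subset
    (U := ⊤) (show genericPoint X ∈ (⊤ : X.Opens) from trivial)
  have : Nonempty U := ⟨⟨_, hxU⟩⟩
  let iKR : Algebra K Γ(X, U) := (WC97.kSec c hU).toAlgebra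
  have : Algebra.FiniteType K Γ(X, U) := WC97.kSec_finiteType c hU
  have : IsScalarTower K Γ(X, U) X.functionField :=
    IsScalarTower.of_algebraMap_eq' (kStalk_eq_germ c hU hxU)
  have := functionField_isFractionRing_of_isAffineOpen X U hU
  have : Algebra.EssFiniteType Γ(X, U) X.functionField :=
    Algebra.EssFiniteType.of_isLocalization _ (nonZeroDivisors Γ(X, U))
  have hess : Algebra.EssFiniteType K X.functionField := Algebra.EssFiniteType.comp K Γ(X, U) _
  have htr : Algebra.trdeg K X.functionField = 1 := by
    have h1 := WC97.topologicalKrullDim_closure c (genericPoint X)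
    rw [(genericPoint_spec X).def, (Homeomorph.Set.univ X).isHomeomorph.topologicalKrullDim_eq, hdim] at h1
    have h2 : WC97.tdegN c (genericPoint X) = 1 := by exact_mod_cast h1.symm
    have h3 := WC97.tdeg_eq_natCast c (genericPoint X)
    rw [h2, Nat.cast_one, WC97.tdeg] at h3
    refine (@E4O.trdeg_eq_of_ringEquiv K X.functionField K (X.residueField (genericPoint X)) _ _ _ _ _ _ iKF
      (WC97.kStr c (genericPoint X)).toAlgebra (RingEquiv.refl K)
      (RingEquiv.ofBijective ((X.residue (genericPoint X)).hom : X.functionField →+* _) ⟨RingHom.injective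
        (IsLocalRing.residue (X.presheaf.stalk (genericPoint X)) : X.functionField →+* _),
        X.residue_surjective _⟩) ?_).trans h3
    exact kStr_eq_residue c (genericPoint X)
  obtain ⟨s, hs⟩ := exists_isTranscendenceBasis K X.functionField
  have hcard : Cardinal.mk s = 1 := hs.cardinalMk_eq_trdeg.trans htr
  obtain ⟨t, rfl⟩ := Cardinal.mk_set_eq_one_iff.1 hcard
  refine ⟨t, ?_, ?_⟩
  · have := hs.1
    exact (algebraicIndependent_unique_type_iff.1 this)
  · have halg := hs.isAlgebraic_field
    rw [Subtype.range_coe] at halg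
    have : Algebra.EssFiniteType (IntermediateField.adjoin K ({t} : Set X.functionField)) X.functionField :=
      Algebra.EssFiniteType.of_comp K _ _
    exact Algebra.finite_of_essFiniteType_of_isAlgebraic

omit [IsProper c] in
lemma centre_unique_aux {x : X} (P : letI := (kStalk c (genericPoint X)).toAlgebra; FunFld.Place K X.functionField)
    (hP : letI := (kStalk c (genericPoint X)).toAlgebra; Centre P (X.presheaf.stalk x)) :
    letI := (kStalk c (genericPoint X)).toAlgebra
    ∃ l : Spec (CommRingCat.of P.O) ⟶ X, l (closedPoint P.O) = x ∧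
      Spec.map (CommRingCat.ofHom (algebraMap P.O X.functionField)) ≫ l = X.fromSpecStalk (genericPoint X) ∧
      l ≫ c = Spec.map (CommRingCat.ofHom (algebraMap K P.O)) := by
  letI := (kStalk c (genericPoint X)).toAlgebra
  let ψ : X.presheaf.stalk x →+* P.O :=
    (algebraMap (X.presheaf.stalk x) X.functionField).codRestrict P.O fun a => (hP a).1
  have : IsLocalHom ψ := ⟨fun a ha => by
    by_contra hu
    exact (not_isUnit_iff P (ψ a)).2 ((hP a).2 hu) ha⟩
  refine ⟨Spec.map (CommRingCat.ofHom ψ) ≫ X.fromSpecStalk x, ?_, ?_, ?_⟩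
  · have : Spec.map (CommRingCat.ofHom ψ) (closedPoint P.O) = closedPoint (X.presheaf.stalk x) :=
      IsLocalRing.comap_closedPoint ψ
    exact (congrArg (X.fromSpecStalk x) this).trans X.fromSpecStalk_closedPoint
  · rw [← Spec.map_comp_assoc]
    exact Scheme.SpecMap_stalkSpecializes_fromSpecStalk (X := X)
      ((genericPoint_spec X).specializes (y := x) trivial)
  · rw [Category.assoc, ← kStalk_spec, ← Spec.map_comp]
    congr 1
    refine CommRingCat.hom_ext (RingHom.ext fun a => ?_)
    exact Subtype.ext (RingHom.congr_fun (kStalk_specializes c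
      ((genericPoint_spec X).specializes (y := x) trivial)) a)

/-- Every place has exactly one centre, a closed point. -/
theorem existsUnique_centre (hdim : topologicalKrullDim X = 1)
    (P : letI := (kStalk c (genericPoint X)).toAlgebra; FunFld.Place K X.functionField) :
    letI := (kStalk c (genericPoint X)).toAlgebra
    ∃! x : X, IsClosed ({x} : Set X) ∧ Centre P (X.presheaf.stalk x) := by
  letI := (kStalk c (genericPoint X)).toAlgebra
  let sq : ValuativeCommSq c :=
    { R := P.O
      K := X.functionField
      i₁ := X.fromSpecStalk (genericPoint X)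
      i₂ := Spec.map (CommRingCat.ofHom (algebraMap K P.O))
      commSq := ⟨by
        rw [← kStalk_spec, ← Spec.map_comp]
        rfl⟩ }
  have hval : ValuativeCriterion c := by
    have h : IsProper c := inferInstance
    rw [IsProper.eq_valuativeCriterion] at h
    exact h.1.1.1
  obtain ⟨⟨l⟩⟩ := hval.existence sq
  refine ⟨l.l (closedPoint P.O), ?_, fun y hy => ?_⟩
  · set x := l.l (closedPoint P.O)
    let ψ := Scheme.stalkClosedPointTo l.l
    have hψ : ψ ≫ CommRingCat.ofHom (algebraMap P.O X.functionField) =
        X.presheaf.stalkSpecializes ((genericPoint_spec X).specializes (y := x) trivial) := by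
      apply Spec.map_injective
      rw [← cancel_mono (X.fromSpecStalk x), Spec.map_comp, Category.assoc,
        Scheme.Spec_stalkClosedPointTo_fromSpecStalk, Scheme.SpecMap_stalkSpecializes_fromSpecStalk]
      exact l.fac_left
    have hc : Centre P (X.presheaf.stalk x) := fun a => by
      have e : algebraMap (X.presheaf.stalk x) X.functionField a = ((ψ a : P.O) : X.functionField) :=
        (RingHom.congr_fun (congrArg CommRingCat.Hom.hom hψ) a).symm
      rw [e]
      refine ⟨(ψ a).2, fun ha => (not_isUnit_iff P _).1 fun hu => ha ?_⟩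
      exact (inferInstance : IsLocalHom ψ.hom).map_nonunit a hu
    refine ⟨Crv77.isClosed_singleton hdim.le fun e => ?_, hc⟩
    obtain ⟨t, ht0, ht⟩ := FF30.exists_uniformizer (P := P)
    have hall : ∀ z : X.functionField, P.1 z ≤ 1 := by
      intro z
      have hf : IsField (X.presheaf.stalk x) := by rw [e]; exact Field.toIsField X.functionField
      obtain ⟨a, b, hb, rfl⟩ := IsFractionRing.div_surjective (A := X.presheaf.stalk x) z
      obtain ⟨b', hb'⟩ := hf.mul_inv_cancel (nonZeroDivisors.coe_ne_zero ⟨b, hb⟩)
      have h1 := congrArg (algebraMap (X.presheaf.stalk x) X.functionField) hb'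
      rw [map_mul, map_one] at h1
      rw [div_eq_mul_inv, ← eq_inv_of_mul_eq_one_right h1, ← map_mul]
      exact (hc _).1
    have := hall t⁻¹
    rw [map_inv₀, ht, ← WithZero.exp_neg, ← WithZero.exp_zero, WithZero.exp_le_exp] at this
    norm_num at this
  · obtain ⟨m, hm, hm1, hm2⟩ := centre_unique_aux c P hy.2
    have := (hval.uniqueness sq).allEq l ⟨m, hm1, hm2⟩
    rw [this]
    exact hm.symm

/-- The degree of a principal divisor on a proper curve is zero. -/
theorem finsum_residueDegree_mul_ordFrac_eq_zero (hdim : topologicalKrullDim X = 1)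
    (f : X.functionField) (hf : f ≠ 0) :
    ∑ᶠ (x : X) (_ : IsClosed ({x} : Set X)), (c.residueDegree x : ℤ) *
      CycAlg.ordFrac (X.presheaf.stalk x) X.functionField f = 0 := by
  classical
  letI iKF : Algebra K X.functionField := (kStalk c (genericPoint X)).toAlgebra
  have : IsLocallyNoetherian X := LocallyOfFiniteType.isLocallyNoetherian c
  have hFF := ff_functionField c hdim
  choose ctr hctr huniq using existsUnique_centre c hdim
  have hsupp := hFF.finite_support_ord f
  let S := hsupp.toFinset
  have hpt : ∀ x : X, IsClosed ({x} : Set X) →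
      (c.residueDegree x : ℤ) * CycAlg.ordFrac (X.presheaf.stalk x) X.functionField f =
        ∑ P ∈ S.filter (fun P => ctr P = x), (P.deg : ℤ) * P.ord f := by
    intro x hx
    let iKA : Algebra K (X.presheaf.stalk x) := (kStalk c x).toAlgebra
    have : IsScalarTower K (X.presheaf.stalk x) X.functionField :=
      IsScalarTower.of_algebraMap_eq' (kStalk_specializes c _).symm
    have hA := dim_stalk_eq_one hdim hx
    obtain ⟨U, hU, hxU, -⟩ := exists_isAffineOpen_mem_and_subset
      (U := ⊤) (show x ∈ (⊤ : X.Opens) from trivial)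
    have : Nonempty U := ⟨⟨_, hxU⟩⟩
    let iKR : Algebra K Γ(X, U) := (WC97.kSec c hU).toAlgebra
    have : Algebra.FiniteType K Γ(X, U) := WC97.kSec_finiteType c hU
    have := functionField_isFractionRing_of_isAffineOpen X U hU
    let iRA : Algebra Γ(X, U) (X.presheaf.stalk x) :=
      TopCat.Presheaf.algebra_section_stalk X.presheaf ⟨x, hxU⟩
    have : IsLocalization.AtPrime (X.presheaf.stalk x) (hU.primeIdealOf ⟨x, hxU⟩).asIdeal :=
      hU.isLocalization_stalk ⟨x, hxU⟩
    have : IsScalarTower Γ(X, U) (X.presheaf.stalk x) X.functionField :=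
      functionField_isScalarTower X U ⟨x, hxU⟩
    have hfin : Module.Finite (X.presheaf.stalk x) (integralClosure (X.presheaf.stalk x) X.functionField) :=
      finite_integralClosure_localization Γ(X, U) _ _ (hU.primeIdealOf ⟨x, hxU⟩).asIdeal.primeCompl
        (CAlg6.finite_integralClosure K Γ(X, U) X.functionField X.functionField)
    obtain ⟨T, hT, hsum⟩ := ordFrac_eq_sum_places hFF hA hfin
    have hdeg : c.residueDegree x = Module.finrank K (ResidueField (X.presheaf.stalk x)) := by
      rw [residueDegree_eq_finrank]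
      letI := (WC97.kStr c x).toAlgebra
      refine Algebra.finrank_eq_of_equiv_equiv (RingEquiv.refl K) (RingEquiv.refl _) (RingHom.ext fun a => ?_)
      exact (RingHom.congr_fun (kStr_eq_residue c x) a).symm
    rw [hdeg, hsum f hf]
    rw [← Finset.sum_filter_ne_zero]
    conv_rhs => rw [← Finset.sum_filter_ne_zero]
    refine Finset.sum_congr (Finset.ext fun P => ?_) fun _ _ => rfl
    simp only [Finset.mem_filter]
    refine ⟨fun ⟨h1, h2⟩ => ⟨⟨hsupp.mem_toFinset.2 fun e => h2 (by simp [e]),
      (huniq P x ⟨hx, (hT P).1 h1⟩).symm⟩, h2⟩, fun ⟨⟨_, h1⟩, h2⟩ => ⟨(hT P).2 (h1 ▸ (hctr P).2), h2⟩⟩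
  rw [finsum_eq_sum_of_support_subset _ (s := S.image ctr) ?_]
  · rw [Finset.sum_congr rfl (g := fun x => ∑ P ∈ S.filter (fun P => ctr P = x), (P.deg : ℤ) * P.ord f)
      fun x hx => ?_, Finset.sum_fiberwise_of_maps_to (g := ctr) (fun P hP => Finset.mem_image_of_mem _ hP)]
    · have h0 := hFF.deg_div f
      rw [FunFld.Divisor.deg, Finsupp.sum] at h0
      refine (Eq.trans ?_ h0)
      refine (Finset.sum_subset_zero_on_sdiff ?_ ?_ ?_).symm
      · intro P hP
        rw [Finsupp.mem_support_iff, hFF.div_apply] at hP
        exact hsupp.mem_toFinset.2 hP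
      · intro P hP
        rw [Finset.mem_sdiff, Finsupp.notMem_support_iff, hFF.div_apply] at hP
        rw [hP.2, mul_zero]
      · intro P _
        rw [hFF.div_apply, mul_comm]
    · obtain ⟨P, -, rfl⟩ := Finset.mem_image.1 hx
      rw [finsum_eq_if, if_pos (hctr P).1, hpt _ (hctr P).1]
  · intro x hx
    rw [Function.mem_support, finsum_eq_if] at hx
    split_ifs at hx with hc
    · rw [hpt x hc] at hx
      obtain ⟨P, hP, -⟩ := Finset.exists_ne_zero_of_sum_ne_zero hx
      rw [Finset.mem_filter] at hP
      exact Finset.mem_coe.2 (Finset.mem_image.2 ⟨P, hP⟩)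
    · exact absurd rfl hx

end Groth.Agent.Cyc90
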