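import Groth.Agent.Cyc90.PushDiv
import Groth.Agent.Cyc90.CurveDeg
import Mathlib.AlgebraicGeometry.Fiber
import Mathlib.AlgebraicGeometry.Morphisms.Flat
import Groth.Agent.VarGal.GeomReg

/-! Pushforward of principal divisors along morphisms which lower the dimension. -/

set_option autoImplicit false
universe u

open CategoryTheory CategoryTheory.Limits AlgebraicGeometry TopologicalSpace IsLocalRing

namespace Groth.Agent.Cyc90

variable {X Y : Scheme.{u}} [IsIntegral X] [IsIntegral Y]

lemma flat_fiberι_generic (p : X ⟶ Y) {η : Y} (hη : η = genericPoint Y) : Flat (p.fiberι η) := by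
  subst hη
  have : Flat (Y.fromSpecResidueField (genericPoint Y)) := by
    have hb : Function.Bijective (Y.residue (genericPoint Y)).hom :=
      ⟨RingHom.injective (IsLocalRing.residue (Y.presheaf.stalk (genericPoint Y)) : Y.functionField →+* _),
        Y.residue_surjective _⟩
    have : IsIso (Y.residue (genericPoint Y)) := (ConcreteCategory.isIso_iff_bijective _).2 hb
    rw [Scheme.fromSpecResidueField]
    have := VarGal.flat_fromSpecStalk (genericPoint Y)
    infer_instance
  exact inferInstanceAs (Flat (pullback.fst _ _))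

lemma stalkMap_fiberι_bijective (p : X ⟶ Y) {η : Y} (hη : η = genericPoint Y) (z : ↥(p.fiber η)) :
    Function.Bijective ((p.fiberι η).stalkMap z).hom := by
  have : IsPreimmersion (p.fiberι η) := inferInstanceAs (IsPreimmersion (pullback.fst _ _))
  have : Flat (p.fiberι η) := flat_fiberι_generic p hη
  refine ⟨?_, (p.fiberι η).stalkMap_surjective z⟩
  algebraize [((p.fiberι η).stalkMap z).hom]
  have : Module.Flat (X.presheaf.stalk (p.fiberι η z)) ((p.fiber η).presheaf.stalk z) :=
    Flat.stalkMap (p.fiberι η) z
  have : IsLocalHom (algebraMap (X.presheaf.stalk (p.fiberι η z)) ((p.fiber η).presheaf.stalk z)) :=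
    inferInstanceAs (IsLocalHom ((p.fiberι η).stalkMap z).hom)
  have : Module.FaithfullyFlat (X.presheaf.stalk (p.fiberι η z)) ((p.fiber η).presheaf.stalk z) :=
    Module.FaithfullyFlat.of_flat_of_isLocalHom
  exact FaithfulSMul.algebraMap_injective (X.presheaf.stalk (p.fiberι η z)) ((p.fiber η).presheaf.stalk z)

lemma exists_generic_fiber (p : X ⟶ Y) (hdom : p (genericPoint X) = genericPoint Y) :
    ∃ _ : IsIntegral (p.fiber (genericPoint Y)),
      p.fiberι (genericPoint Y) (genericPoint ↥(p.fiber (genericPoint Y))) = genericPoint X := by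
  obtain ⟨ζ, hζ⟩ := E4O.exists_fiberι_eq p hdom
  have hgen : IsGenericPoint ζ (Set.univ : Set ↥(p.fiber (genericPoint Y))) := by
    refine Set.eq_univ_of_forall fun z => specializes_iff_mem_closure.1 ?_
    rw [← E4O.specializes_fiberι_iff p, hζ]
    exact (genericPoint_spec X).specializes trivial
  have : IrreducibleSpace ↥(p.fiber (genericPoint Y)) := (irreducibleSpace_def _).2 (by
    rw [Set.top_eq_univ, ← hgen.def]
    exact isIrreducible_singleton.closure)
  have hred : ∀ z, _root_.IsReduced ((p.fiber (genericPoint Y)).presheaf.stalk z) := fun z =>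
    isReduced_of_injective (RingEquiv.ofBijective _ (stalkMap_fiberι_bijective p rfl z)).symm.toRingHom
      (RingEquiv.ofBijective _ (stalkMap_fiberι_bijective p rfl z)).symm.injective
  have : IsReduced (p.fiber (genericPoint Y)) := @isReduced_of_isReduced_stalk _ hred
  have hint : IsIntegral (p.fiber (genericPoint Y)) := isIntegral_of_irreducibleSpace_of_isReduced _
  refine ⟨hint, ?_⟩
  rw [← hζ]
  exact congrArg _ ((genericPoint_spec _).eq hgen)

lemma residueDegree_fiber (p : X ⟶ Y) [LocallyOfFiniteType p] (y : Y) (z : ↥(p.fiber y))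
    (g : p.fiber y ⟶ Spec (CommRingCat.of (Y.residueField y : Type u)))
    (hg : g = p.fiberToSpecResidueField y) :
    g.residueDegree z = p.residueDegree (p.fiberι y z) := by
  have : IsPreimmersion (p.fiberι y) := inferInstanceAs (IsPreimmersion (pullback.fst _ _))
  have hy : p (p.fiberι y z) = y := E4O.apply_fiberι p y z
  have h2 : CommRingCat.ofHom (WC97.kStr g z) = (Y.residueFieldCongr hy).inv ≫
      p.residueFieldMap (p.fiberι y z) ≫ (p.fiberι y).residueFieldMap z := by
    apply Spec.map_injective
    rw [← cancel_mono (Y.fromSpecResidueField y)]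
    simp only [Spec.map_comp, WC97.kStr_spec, Category.assoc, Scheme.residueFieldCongr_inv,
      Scheme.residueFieldCongr_fromSpecResidueField]
    rw [Scheme.Hom.SpecMap_residueFieldMap_fromSpecResidueField,
      Scheme.Hom.SpecMap_residueFieldMap_fromSpecResidueField_assoc, hg]
    exact congrArg ((p.fiber y).fromSpecResidueField z ≫ ·) (pullback.condition).symm
  rw [residueDegree_eq_finrank, Scheme.Hom.residueDegree]
  letI : Algebra (Y.residueField (p (p.fiberι y z))) (X.residueField (p.fiberι y z)) :=
    (p.residueFieldMap _).hom.toAlgebra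
  letI : Algebra (Y.residueField y) ((p.fiber y).residueField z) := (WC97.kStr g z).toAlgebra
  refine (Algebra.finrank_eq_of_equiv_equiv (Y.residueFieldCongr hy).commRingCatIsoToRingEquiv
    (RingEquiv.ofBijective ((p.fiberι y).residueFieldMap z).hom
      ⟨RingHom.injective _, residueFieldMap_surjective _ z⟩) (RingHom.ext fun a => ?_)).symm
  change WC97.kStr g z ((Y.residueFieldCongr hy).hom a) = _
  refine (congr($(h2).hom ((Y.residueFieldCongr hy).hom a))).trans ?_
  change ((p.fiberι y).residueFieldMap z).hom ((p.residueFieldMap _).hom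
    ((Y.residueFieldCongr hy).inv ((Y.residueFieldCongr hy).hom a))) = _
  rw [Iso.hom_inv_id_apply]
  rfl

/-- The degree of a principal divisor on the generic fibre is zero. -/
theorem sum_generic_fibre_eq_zero {δX : X → ℤ} {δY : Y → ℤ} (hX : Cyc.IsSetup X δX) (p : X ⟶ Y)
    [IsProper p] (hδ : Cyc.DeltaCompat p δX δY) (hdom : p (genericPoint X) = genericPoint Y)
    (hn : δX (genericPoint X) = δY (genericPoint Y) + 1) (ξ : X) (hξ : ξ = genericPoint X)
    (g : X.residueField ξ) (hg : g ≠ 0) :
    ∑ᶠ x ∈ p ⁻¹' {genericPoint Y}, Cyc.divFun δX ξ g x *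
      (if δX x = δY (p x) then (p.residueDegree x : ℤ) else 0) = 0 := by
  classical
  have := hX.1
  obtain ⟨hint, hζ⟩ := exists_generic_fiber p hdom
  set η := genericPoint Y
  let F := p.fiber η
  let ι := p.fiberι η
  let ζ := genericPoint F
  rw [← hζ] at hξ
  subst hξ
  let c : F ⟶ Spec (CommRingCat.of (Y.residueField η : Type u)) := p.fiberToSpecResidueField η
  have hcp : IsProper c := inferInstanceAs (IsProper (pullback.snd _ _))
  have hlft : LocallyOfFiniteType c := inferInstance
  have : IsLocallyNoetherian F := LocallyOfFiniteType.isLocallyNoetherian c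
  have hιgen : ι ζ = genericPoint X := hζ
  have hδζ : δX (ι ζ) = δY η + 1 := by rw [hιgen, hn]
  have hfd : ∀ z : F, δX (ι z) = δY η + E4O.fdeg p (ι z) := fun z => by
    rw [delta_eq_add_fdeg p hδ (ι z), E4O.apply_fiberι]
  have hζdeg : E4O.fdeg p (ι ζ) = 1 := by have := hfd ζ; omega
  have hdim : topologicalKrullDim F = 1 := by
    have h1 := E4O.dim_closure_fiber p η ζ
    rw [(genericPoint_spec F).def, (Homeomorph.Set.univ F).isHomeomorph.topologicalKrullDim_eq, hζdeg] at h1
    exact h1
  have hclosed : ∀ z : F, IsClosed ({z} : Set F) ↔ E4O.fdeg p (ι z) = 0 := fun z => by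
    refine ⟨fun h => ?_, fun h => ?_⟩
    · have h1 := E4O.dim_closure_fiber p η z
      rw [h.closure_eq] at h1
      have : Subsingleton ↥({z} : Set F) := ⟨fun a b => Subtype.ext (a.2.trans b.2.symm)⟩
      have : Subsingleton (IrreducibleCloseds ↥({z} : Set F)) := ⟨fun a b => SetLike.coe_injective
        ((Set.eq_univ_of_forall fun w => a.isIrreducible.nonempty.elim fun v hv => Subsingleton.elim v w ▸ hv).trans
          (Set.eq_univ_of_forall fun w => b.isIrreducible.nonempty.elim fun v hv => Subsingleton.elim v w ▸ hv).symm)⟩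
      have h2 : topologicalKrullDim ↥({z} : Set F) ≤ 0 := Order.krullDim_nonpos_of_subsingleton
      rw [h1] at h2
      exact_mod_cast Nat.le_zero.1 (by exact_mod_cast h2)
    · rw [← closure_subset_iff_isClosed]
      intro w hw
      by_contra hne
      have h1 := E4O.fdeg_lt (f := p) ((E4O.specializes_fiberι_iff p η z w).2
        (specializes_iff_mem_closure.2 hw)) (by rw [E4O.apply_fiberι, E4O.apply_fiberι])
        fun e => hne ((E4O.isEmbedding_fiberι p η).injective e).symm
      have h3 : E4O.fdeg p (p.fiberι η z) = 0 := h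
      omega
  -- the rational function on the fibre
  have hbr : Function.Bijective (F.residue ζ).hom :=
    ⟨RingHom.injective (IsLocalRing.residue (F.presheaf.stalk ζ) : F.functionField →+* _),
      F.residue_surjective _⟩
  let σ : X.residueField (ι ζ) →+* F.functionField :=
    (RingEquiv.ofBijective _ hbr).symm.toRingHom.comp (ι.residueFieldMap ζ).hom
  have hσg : σ g ≠ 0 := (map_ne_zero_iff σ σ.injective).2 hg
  have hsum := finsum_residueDegree_mul_ordFrac_eq_zero c hdim (σ g) hσg
  rw [show p ⁻¹' {η} = Set.range ι from (p.range_fiberι η).symm,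
    finsum_mem_range (E4O.isEmbedding_fiberι p η).injective]
  refine (finsum_congr fun z => ?_).trans hsum
  rw [finsum_eq_if]
  by_cases hz : IsClosed ({z} : Set F)
  · have h0 := (hclosed z).1 hz
    have hz0 := hfd z
    rw [h0] at hz0
    rw [if_pos hz, if_pos (by rw [E4O.apply_fiberι]; simpa using hz0), mul_comm,
      residueDegree_fiber p η z c rfl]
    congr 1
    have hsp : ι ζ ⤳ ι z := ((genericPoint_spec F).specializes (y := z) trivial).map ι.continuous
    rw [divFun_of (ι ζ) (ι z) g hsp (by push_cast at hz0; omega)]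
    let e := RingEquiv.ofBijective _ (stalkMap_fiberι_bijective p (η := η) rfl z)
    have hdimx : ringKrullDim (X.presheaf.stalk (ι z)) ≤ 1 := by
      rw [ringKrullDim_eq_of_ringEquiv e, dim_stalk_eq_one hdim hz]
    rw [ordAt_generic' hιgen hsp hdimx g hg]
    letI := (Cyc.specMap (ι z) (ι ζ) hsp).toAlgebra
    have := isFractionRing_specMap' hιgen hsp
    have := krullDimLE_one hdimx
    have := krullDimLE_one (A := F.presheaf.stalk z) (dim_stalk_eq_one hdim hz).le
    refine (ordFrac_congr (A := X.presheaf.stalk (ι z)) (A' := F.presheaf.stalk z) e σ (fun a => ?_) g hg).symm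
    refine hbr.1 ?_
    change (RingEquiv.ofBijective _ hbr) ((RingEquiv.ofBijective _ hbr).symm _) = _
    rw [RingEquiv.apply_symm_apply]
    exact (specMap_stalkMap ι ((genericPoint_spec F).specializes (y := z) trivial) a).symm
  · rw [if_neg hz, if_neg fun e => hz ((hclosed z).2 ?_), mul_zero]
    have := hfd z
    have e' : δX (ι z) = δY η := e.trans (congrArg δY (E4O.apply_fiberι p η z))
    omega

/-- `p_*(div g) = 0` when `p` lowers the dimension. -/
theorem map_divFun_eq_zero {δX : X → ℤ} {δY : Y → ℤ} (hX : Cyc.IsSetup X δX) (hY : Cyc.IsSetup Y δY)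
    (p : X ⟶ Y) [IsProper p] (hδ : Cyc.DeltaCompat p δX δY)
    (hdom : p (genericPoint X) = genericPoint Y)
    (hn : δX (genericPoint X) ≠ δY (genericPoint Y)) (g : X.residueField (genericPoint X)) (hg : g ≠ 0)
    (α : AlgebraicCycle X ℤ) (hα : ⇑α = Cyc.divFun δX (genericPoint X) g) :
    AlgebraicCycle.map p δX δY α = 0 := by
  refine DFunLike.ext _ _ fun y => ?_
  rw [map_apply_eq, hα]
  change _ = 0
  obtain ⟨n, -, hd⟩ := hδ (genericPoint X)
  rw [hdom] at hd
  by_cases hy : y = genericPoint Y ∧ δX (genericPoint X) = δY (genericPoint Y) + 1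
  · obtain ⟨rfl, hn1⟩ := hy
    exact sum_generic_fibre_eq_zero hX p hδ hdom hn1 _ rfl g hg
  · refine finsum_mem_eq_zero_of_forall_eq_zero fun x hx => ?_
    have hx' : p x = y := hx
    unfold Cyc.divFun
    split_ifs with h1 h2 <;> try simp
    exfalso
    rw [hx'] at h2
    have hle := delta_le hY.2.2 ((genericPoint_spec Y).specializes (y := y) trivial)
    refine hy ⟨(eq_of_delta_le hY.2.2 ((genericPoint_spec Y).specializes (y := y) trivial) ?_).symm, ?_⟩
    · have := h1.2; omega
    · have := h1.2; omega

end Groth.Agent.Cyc90
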