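import Groth.Agent.Cyc90.FibreSum

/-! Flat base change commutes with proper pushforward of cycles. -/

set_option autoImplicit false
universe u

open CategoryTheory CategoryTheory.Limits AlgebraicGeometry TopologicalSpace IsLocalRing

namespace Groth.Agent.Cyc90

variable {X X' Y : Scheme.{u}}

lemma delta_le_of_compat {f : Y ⟶ X} {δY : Y → ℤ} {δ : X → ℤ} (hf : Cyc.DeltaCompat f δY δ) (y : Y) :
    δ (f y) ≤ δY y := by
  obtain ⟨n, -, h⟩ := hf y; omega

/-- Flat base change commutes with pushforward. -/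
theorem pullFun_map (f : Y ⟶ X) (p : X' ⟶ X) [LocallyOfFiniteType f] [QuasiCompact f]
    [IsLocallyNoetherian X'] {δ : X → ℤ} {δ' : X' → ℤ} {δY : Y → ℤ}
    {δY' : ↑(pullback f p) → ℤ} (hX' : Cyc.IsDimFun X' δ') (hf : Cyc.DeltaCompat f δY δ)
    (hf' : Cyc.DeltaCompat (pullback.snd f p) δY' δ') {c : ℤ} (hc : ShiftAt p δ' δ c)
    (α : AlgebraicCycle Y ℤ) (α' : AlgebraicCycle (pullback f p) ℤ)
    (hα' : ⇑α' = Cyc.pullFun (pullback.fst f p) δY' δY c ⇑α) :
    Cyc.pullFun p δ' δ c ⇑(AlgebraicCycle.map f δY δ α) =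
      ⇑(AlgebraicCycle.map (pullback.snd f p) δY' δ' α') := by
  classical
  funext x'
  have hw : ∀ z : ↑(pullback f p), f (pullback.fst f p z) = p (pullback.snd f p z) := fun z =>
    congrArg (fun k : pullback f p ⟶ X => k z) pullback.condition
  have hle := (delta_le_of_shift p hX' hc x').1
  rw [map_apply_eq]
  have hne : ∀ z : ↑(pullback f p), pullback.snd f p z = x' →
      α' z * (if δY' z = δ' (pullback.snd f p z) then ((pullback.snd f p).residueDegree z : ℤ) else 0) ≠ 0 →
      α (pullback.fst f p z) ≠ 0 ∧ δY (pullback.fst f p z) = δ (f (pullback.fst f p z)) ∧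
        δ' x' = δ (p x') + c := by
    intro z hz hne
    rw [hα', Cyc.pullFun] at hne
    split_ifs at hne with h1 h2
    all_goals simp only [mul_zero, zero_mul, ne_eq, not_true_eq_false] at hne
    have h3 := delta_le_of_compat hf (pullback.fst f p z)
    rw [hz] at h2
    rw [hw, hz] at h3 ⊢
    refine ⟨fun h0 => hne (by rw [h0, zero_mul, zero_mul]), by omega, by omega⟩
  unfold Cyc.pullFun
  by_cases hd : δ' x' = δ (p x') + c
  swap
  · rw [if_neg hd]
    refine (finsum_mem_eq_zero_of_forall_eq_zero fun z hz => ?_).symm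
    by_contra h
    exact hd (hne z hz h).2.2
  rw [if_pos hd]
  obtain ⟨V, hV, hxV, -⟩ := exists_isAffineOpen_mem_and_subset (X := X) (x := p x') (U := ⊤) trivial
  have hfin : ((f ⁻¹' {p x'}) ∩ Function.support α).Finite :=
    ((LocallyFiniteSupport.finite_inter_support_of_isCompact (f := (α : Y → ℤ))
      (fun z => α.supportLocallyFiniteWithinDomain' z trivial)
      (f.isCompact_preimage hV.isCompact))).subset
      (Set.inter_subset_inter_left _ (fun y hy => show f y ∈ V from (show f y = p x' from hy) ▸ hxV))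
  let T : Set Y := {y | f y = p x' ∧ α y ≠ 0 ∧ δY y = δ (f y)}
  have hT : T.Finite := hfin.subset fun y hy => ⟨hy.1, hy.2.1⟩
  let S : Y → Set ↑(pullback f p) := fun y =>
    {z | pullback.fst f p z = y ∧ pullback.snd f p z = x'}
  have hS : ∀ y ∈ T, (S y).Finite ∧ (∀ z ∈ S y, (pullback.snd f p).residueDegree z ≠ 0) ∧
      ∑ᶠ z ∈ S y, (pullback.snd f p).residueDegree z *
        (Module.length ((pullback f p).presheaf.stalk z) ((pullback f p).presheaf.stalk z ⧸
          (maximalIdeal (Y.presheaf.stalk (pullback.fst f p z))).map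
            ((pullback.fst f p).stalkMap z).hom)).toNat =
      f.residueDegree y * (Module.length (X'.presheaf.stalk x') (X'.presheaf.stalk x' ⧸
          (maximalIdeal (X.presheaf.stalk (p x'))).map (p.stalkMap x').hom)).toNat := fun y hy =>
    fibre_sum f p y x' hy.1 (finite_residueFieldMap_of_delta_eq f hf y hy.2.2)
  have hL : AlgebraicCycle.map f δY δ α (p x') = ∑ᶠ y ∈ T, α y * (f.residueDegree y : ℤ) := by
    rw [map_apply_eq]
    refine (finsum_mem_inter_support_eq' _ _ T fun y hy => ?_).trans (finsum_mem_congr rfl fun y hy => ?_)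
    · simp only [Function.mem_support, ne_eq, mul_eq_zero, ite_eq_right_iff, not_or, Classical.not_imp] at hy
      exact ⟨fun h => ⟨h, hy.1, hy.2.1⟩, fun h => h.1⟩
    · rw [if_pos hy.2.2]
  have hR : ∑ᶠ z ∈ (pullback.snd f p) ⁻¹' {x'}, α' z *
      (if δY' z = δ' (pullback.snd f p z) then ((pullback.snd f p).residueDegree z : ℤ) else 0) =
      ∑ᶠ y ∈ T, ∑ᶠ z ∈ S y, α' z *
      (if δY' z = δ' (pullback.snd f p z) then ((pullback.snd f p).residueDegree z : ℤ) else 0) := by
    rw [← finsum_mem_biUnion ?_ hT fun y hy => (hS y hy).1]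
    · refine finsum_mem_inter_support_eq' _ _ _ fun z hz => ?_
      simp only [Set.mem_preimage, Set.mem_singleton_iff, Set.mem_iUnion]
      refine ⟨fun h => ⟨pullback.fst f p z, ⟨by rw [hw, h], ?_⟩, rfl, h⟩, fun ⟨y, _, h⟩ => h.2⟩
      exact ⟨(hne z h hz).1, (hne z h hz).2.1⟩
    · exact fun a _ b _ hab => Set.disjoint_left.2 fun z ha hb => hab (ha.1.symm.trans hb.1)
  rw [hL, hR, finsum_mem_eq_finite_toFinset_sum _ hT, finsum_mem_eq_finite_toFinset_sum _ hT, Finset.sum_mul]
  refine Finset.sum_congr rfl fun y hy => ?_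
  rw [Set.Finite.mem_toFinset] at hy
  obtain ⟨hSfin, hSne, hsum⟩ := hS y hy
  have hterm : ∀ z ∈ S y, α' z *
      (if δY' z = δ' (pullback.snd f p z) then ((pullback.snd f p).residueDegree z : ℤ) else 0) =
      α y * (((pullback.snd f p).residueDegree z *
        (Module.length ((pullback f p).presheaf.stalk z) ((pullback f p).presheaf.stalk z ⧸
          (maximalIdeal (Y.presheaf.stalk (pullback.fst f p z))).map
            ((pullback.fst f p).stalkMap z).hom)).toNat : ℕ) : ℤ) := fun z hz => by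
    have h1 := delta_eq_of_residueDegree_ne_zero _ hf' z (hSne z hz)
    have h2 : δY' z = δY (pullback.fst f p z) + c := by
      rw [h1, hz.2, hz.1, hd, hy.2.2, hy.1]
    rw [if_pos h1, hα', Cyc.pullFun, if_pos h2, show α (pullback.fst f p z) = α y from congrArg _ hz.1]
    push_cast
    ring
  rw [finsum_mem_congr rfl hterm, finsum_mem_eq_finite_toFinset_sum _ hSfin, ← Finset.mul_sum,
    ← Nat.cast_sum, ← finsum_mem_eq_finite_toFinset_sum _ hSfin, hsum]
  push_cast
  ring

end Groth.Agent.Cyc90
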