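import Groth.Agent.Cyc90.PullClosed
import Groth.Agent.Cyc90.SecDiv

/-! Flat pullback respects rational equivalence. -/

set_option autoImplicit false
universe u

open CategoryTheory AlgebraicGeometry TopologicalSpace IsLocalRing

namespace Groth.Agent.Cyc90

variable {X Y : Scheme.{u}} {δX : X → ℤ} {δY : Y → ℤ}

lemma exists_nhd_finite_over [IsLocallyNoetherian X] (f : X ⟶ Y) (ξ : Y) (x : X) :
    ∃ N : Set X, IsOpen N ∧ x ∈ N ∧
      ({η : X | f η = ξ ∧ ∀ w, f w = ξ → w ⤳ η → w = η} ∩ N).Finite := by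
  obtain ⟨N, hN, hfin⟩ := exists_nhd_finite_maximal
    (isClosed_closure.preimage f.continuous : IsClosed (f ⁻¹' closure ({ξ} : Set Y))) x
  obtain ⟨U, hUN, hU, hxU⟩ := mem_nhds_iff.1 hN
  refine ⟨U, hU, hxU, hfin.subset ?_⟩
  rintro η ⟨⟨hη, hmax⟩, hηU⟩
  refine ⟨⟨show f η ∈ closure ({ξ} : Set Y) by rw [hη]; exact subset_closure rfl,
    fun z hz hzη => hmax z ?_ hzη⟩, hUN hηU⟩
  exact ((hη ▸ hzη.map f.continuous).antisymm (specializes_iff_mem_closure.2 hz)).eq

theorem ratEquivZero_pullFun (hX : Cyc.IsSetup X δX) (hY : Cyc.IsSetup Y δY) (f : X ⟶ Y) [Flat f]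
    {c : ℤ} (hc : ShiftAt f δX δY c) {k : ℤ} {α : AlgebraicCycle Y ℤ} (h0 : Cyc.RatEquivZero δY k α)
    (α' : AlgebraicCycle X ℤ) (hα' : ⇑α' = Cyc.pullFun f δX δY c ⇑α) :
    Cyc.RatEquivZero δX (k + c) α' := by
  classical
  have := hX.1
  obtain ⟨ι, ξ, g, hk, hg, hlf, hsum⟩ := h0
  let E := fun i => {η : X // f η = ξ i ∧ ∀ w, f w = ξ i → w ⤳ η → w = η}
  let m : (i : ι) → E i → ℤ := fun i η => ((Module.length (X.presheaf.stalk η.1)
    (X.presheaf.stalk η.1 ⧸ (maximalIdeal (Y.presheaf.stalk (f η.1))).map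
      (f.stalkMap η.1).hom)).toNat : ℤ)
  let G : (i : ι) → (η : E i) → X.residueField η.1 := fun i η =>
    f.residueFieldMap η.1 ((Y.residueFieldCongr η.2.1.symm).hom (g i))
  have hG : ∀ i (η : E i), G i η ≠ 0 := fun i η => (map_ne_zero _).2 ((map_ne_zero _).2 (hg i))
  have hN : ∀ x : X, ∃ (N : Set X) (I0 : Finset ι) (t : (i : ι) → Finset (E i)), IsOpen N ∧ x ∈ N ∧
      ∀ i (η : E i), (closure {η.1} ∩ N).Nonempty → i ∈ I0 ∧ η ∈ t i := by
    intro x
    obtain ⟨U, hU, hxU, hfin⟩ := hlf (f x)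
    choose N hN hxN hNfin using fun i => exists_nhd_finite_over f (ξ i) x
    have hpre : ∀ i, {η : E i | η.1 ∈ N i}.Finite := fun i =>
      ((hNfin i).preimage (Subtype.val_injective.injOn (s := _))).subset fun η hη => ⟨η.2, hη⟩
    refine ⟨f ⁻¹' U ∩ ⋂ i ∈ hfin.toFinset, N i, hfin.toFinset, fun i => (hpre i).toFinset,
      (hU.preimage f.continuous).inter (isOpen_biInter_finset fun i _ => hN i),
      ⟨hxU, Set.mem_iInter₂.2 fun i _ => hxN i⟩, fun i η => ?_⟩
    rintro ⟨y, hy, hyU, hyN⟩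
    have hs : η.1 ⤳ y := specializes_iff_mem_closure.2 hy
    have hi : i ∈ hfin.toFinset := hfin.mem_toFinset.2
      ⟨f y, specializes_iff_mem_closure.1 (η.2.1 ▸ hs.map f.continuous), hyU⟩
    exact ⟨hi, (hpre i).mem_toFinset.2 (hs.mem_open (hN i) (Set.mem_iInter₂.1 hyN i hi))⟩
  refine ⟨Σ i, E i, fun q => q.2.1, fun q => G q.1 q.2 ^ m q.1 q.2, fun q => ?_,
    fun q => zpow_ne_zero _ (hG _ _), fun x => ?_, fun x => ?_⟩
  · dsimp only
    rw [hc q.2.1 fun w hw hws => q.2.2.2 w (hw.trans q.2.2.1) hws, q.2.2.1, hk]; ring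
  · obtain ⟨N, I0, t, hN, hxN, hmem⟩ := hN x
    refine ⟨N, hN, hxN, (I0.sigma t).finite_toSet.subset ?_⟩
    rintro ⟨i, η⟩ h
    exact Finset.mem_sigma.2 (hmem i η h)
  · obtain ⟨N, I0, t, hN, hxN, hmem⟩ := hN x
    have hz : ∀ i (η : E i), Cyc.divFun δX η.1 (G i η) x ≠ 0 → i ∈ I0 ∧ η ∈ t i := fun i η h => by
      unfold Cyc.divFun at h
      split_ifs at h with h1
      · exact hmem i η ⟨x, specializes_iff_mem_closure.1 h1.1, hxN⟩
      · exact absurd rfl h
    have hdiv : ∀ i, Cyc.pullFun f δX δY c (Cyc.divFun δY (ξ i) (g i)) x =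
        ∑ᶠ η : E i, m i η * Cyc.divFun δX η.1 (G i η) x := fun i =>
      pullFun_divFun_point hX hY f hc (ξ i) (g i) (hg i) x
    simp only [divFun_zpow hX _ _ (hG _ _)]
    rw [finsum_eq_sum_of_support_subset _ (s := I0.sigma t) (fun q hq =>
        Finset.mem_sigma.2 (hz _ _ (right_ne_zero_of_mul hq))), Finset.sum_sigma]
    have hinner : ∀ i, ∑ η ∈ t i, m i η * Cyc.divFun δX η.1 (G i η) x =
        Cyc.pullFun f δX δY c (Cyc.divFun δY (ξ i) (g i)) x := fun i => by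
      rw [hdiv, finsum_eq_sum_of_support_subset _ (s := t i) (fun η hη =>
        (hz i η (right_ne_zero_of_mul hη)).2)]
    rw [Finset.sum_congr rfl fun i _ => hinner i, hα']
    unfold Cyc.pullFun
    split_ifs with hd
    · obtain ⟨U, hU, hxU, hfin⟩ := hlf (f x)
      rw [hsum, ← Finset.sum_mul]
      by_cases hm : ((Module.length (X.presheaf.stalk x) (X.presheaf.stalk x ⧸
          (maximalIdeal (Y.presheaf.stalk (f x))).map (f.stalkMap x).hom)).toNat : ℤ) = 0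
      · simp only [hm, mul_zero]
      congr 1
      refine finsum_eq_sum_of_support_subset _ fun i hi => ?_
      have h1 : Cyc.pullFun f δX δY c (Cyc.divFun δY (ξ i) (g i)) x ≠ 0 := by
        rw [Cyc.pullFun, if_pos hd]
        exact mul_ne_zero hi hm
      rw [hdiv] at h1
      obtain ⟨η, hη⟩ := exists_ne_zero_of_finsum_mem_ne_zero (s := Set.univ)
        (f := fun η => m i η * Cyc.divFun δX η.1 (G i η) x) (by rwa [finsum_mem_univ])
      exact (hz i η (right_ne_zero_of_mul hη.2)).1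
    · simp

end Groth.Agent.Cyc90
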