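import Groth.Agent.Cyc90.FlatPull
import Groth.Agent.Cyc90.FlatRelDim
import Groth.Agent.E4O.FibreComp

/-! Relative dimension gives the shift hypothesis. -/

set_option autoImplicit false
universe u

open CategoryTheory AlgebraicGeometry

namespace Groth.Agent.Cyc90

theorem shiftAt_of_hasRelDim {X Y : Scheme.{u}} (f : X ⟶ Y) [LocallyOfFiniteType f] {r : ℕ}
    (hr : Cyc.HasRelDim f r) {δX : X → ℤ} {δY : Y → ℤ} (hδ : Cyc.DeltaCompat f δX δY) :
    ShiftAt f δX δY r := fun x hmax => by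
  obtain ⟨Z, hZ, hd⟩ := E4O.exists_component_of_isFibreMax f rfl (fun w h1 h2 => hmax w h2 h1)
  rw [hr _ Z hZ] at hd
  have h : r = E4O.fdeg f x := by exact_mod_cast hd
  rw [delta_eq_add_fdeg f hδ x, h]

end Groth.Agent.Cyc90
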