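import Groth.Agent.Cyc90.TensorGen
import Groth.Agent.Cyc90.RelDimShift

/-! Relative dimension is stable under base change. -/

set_option autoImplicit false
universe u

open CategoryTheory Limits AlgebraicGeometry

namespace Groth.Agent.Cyc90

variable {X Y S : Scheme.{u}}

lemma fdeg_eq_of_hasRelDim (f : X ⟶ S) [LocallyOfFiniteType f] {r : ℕ} (hr : Cyc.HasRelDim f r) {x : X}
    (hx : E4O.IsFibreMax f x) : E4O.fdeg f x = r := by
  obtain ⟨Z, hZ, hd⟩ := E4O.exists_component_of_isFibreMax f rfl hx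
  rw [hr _ Z hZ] at hd
  have h : r = E4O.fdeg f x := by exact_mod_cast hd
  exact h.symm

theorem hasRelDim_pullback_snd (f : X ⟶ S) (g : Y ⟶ S) [LocallyOfFiniteType f] {r : ℕ}
    (hr : Cyc.HasRelDim f r) : Cyc.HasRelDim (pullback.snd f g) r := fun y T hT => by
  obtain ⟨z, -, hmax, hd⟩ := E4O.exists_of_mem_irreducibleComponents_fiber (pullback.snd f g) hT
  set t := (pullback.snd f g).fiberι y z with ht
  have hty : pullback.snd f g t = y := E4O.apply_fiberι _ y z
  obtain ⟨m, hm, -, -, hmι⟩ := E4O.exists_fibre_map_flat (IsPullback.of_hasPullback f g) y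
  have hfx : E4O.IsFibreMax f (pullback.fst f g t) := by
    intro x' hx' hfx'
    have hgy : f x' = g y := by
      rw [hfx', ← hty]; exact congr($(pullback.condition (f := f) (g := g)) t)
    obtain ⟨v, hv⟩ := E4O.exists_fiberι_eq f hgy
    have hvz : v ⤳ m z := by
      refine (E4O.specializes_fiberι_iff f _ _ _).1 ?_
      rw [hmι z, ← ht, hv]; exact hx'
    obtain ⟨v', hv', hmv⟩ := Flat.generalizingMap m hvz
    have h1 : (pullback.snd f g).fiberι y v' = t :=
      hmax _ ((E4O.specializes_fiberι_iff _ _ _ _).2 hv') (by rw [E4O.apply_fiberι, hty])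
    rw [← hv, ← hmv, hmι v', h1]
  rw [hd, fdeg_snd_eq t fun w _ h2 h3 => hmax w h3 h2, fdeg_eq_of_hasRelDim f hr hfx]

end Groth.Agent.Cyc90
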