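import Groth.Agent.Cyc90.SecDiv

/-! Exactness of the Mayer–Vietoris sequence of cycle class groups. -/

set_option autoImplicit false
universe u

open CategoryTheory AlgebraicGeometry TopologicalSpace IsLocalRing

namespace Groth.Agent.Cyc90

variable {X Z : Scheme.{u}} {δ : X → ℤ}

lemma ratEquivZero_neg (hX : Cyc.IsSetup X δ) {k : ℤ} {α : AlgebraicCycle X ℤ}
    (h : Cyc.RatEquivZero δ k α) : Cyc.RatEquivZero δ k (-α) := by
  obtain ⟨ι, ξ, f, hk, hf, hlf, hα⟩ := h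
  refine ⟨ι, ξ, fun i => f i ^ (-1 : ℤ), hk, fun i => zpow_ne_zero _ (hf i), hlf, fun x => ?_⟩
  rw [Function.locallyFinsuppWithin.coe_neg, Pi.neg_apply, hα x, ← finsum_neg_distrib]
  exact finsum_congr fun i => by rw [divFun_zpow hX _ _ (hf i)]; ring

lemma residueDegree_closedImmersion (i : Z ⟶ X) [IsClosedImmersion i] (z : Z) :
    i.residueDegree z = 1 := by
  letI := (i.residueFieldMap z).hom.toAlgebra
  change Module.finrank (X.residueField (i z)) (Z.residueField z) = 1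
  rw [← (AlgEquiv.ofBijective (Algebra.ofId (X.residueField (i z)) (Z.residueField z))
    ⟨RingHom.injective _, residueFieldMap_surjective i z⟩).toLinearEquiv.finrank_eq]
  exact Module.finrank_self _

lemma map_closedImmersion_image (i : Z ⟶ X) [IsClosedImmersion i] (δ : X → ℤ)
    (α : AlgebraicCycle Z ℤ) (z : Z) :
    AlgebraicCycle.map i (fun w => δ (i w)) δ α (i z) = α z := by
  rw [map_apply_eq, show i ⁻¹' {i z} = {z} from
    Set.ext fun w => i.isClosedEmbedding.injective.eq_iff, finsum_mem_singleton, if_pos rfl,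
    residueDegree_closedImmersion]
  simp

lemma map_closedImmersion_notMem (i : Z ⟶ X) [IsClosedImmersion i] (δ : X → ℤ)
    (α : AlgebraicCycle Z ℤ) {x : X} (hx : x ∉ Set.range i) :
    AlgebraicCycle.map i (fun w => δ (i w)) δ α x = 0 := by
  rw [map_apply_eq]
  exact finsum_mem_eq_zero_of_forall_eq_zero fun z hz => absurd ⟨z, hz⟩ hx

lemma map_closedImmersion_neg (i : Z ⟶ X) [IsClosedImmersion i] (δ : X → ℤ) (α : AlgebraicCycle Z ℤ) :
    AlgebraicCycle.map i (fun w => δ (i w)) δ (-α) = -AlgebraicCycle.map i (fun w => δ (i w)) δ α := by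
  refine DFunLike.ext _ _ fun x => ?_
  rw [Function.locallyFinsuppWithin.coe_neg, Pi.neg_apply]
  by_cases hx : x ∈ Set.range i
  · obtain ⟨z, rfl⟩ := hx
    rw [map_closedImmersion_image, map_closedImmersion_image]
    rfl
  · rw [map_closedImmersion_notMem i δ _ hx, map_closedImmersion_notMem i δ _ hx, neg_zero]

lemma divFun_eq_zero_of_notMem {T : Set X} (hT : IsClosed T) {ξ x : X} (hξ : ξ ∈ T) (hx : x ∉ T)
    (f : X.residueField ξ) : Cyc.divFun δ ξ f x = 0 :=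
  dif_neg fun h => hx (h.1.mem_closed hT hξ)

lemma exists_pull_divFun (i : Z ⟶ X) [IsClosedImmersion i] (hX : Cyc.IsSetup X δ) {ξ : X}
    (hξ : ξ ∈ Set.range i) (f : X.residueField ξ) (hf : f ≠ 0) :
    ∃ (ζ : Z) (g : Z.residueField ζ), i ζ = ξ ∧ g ≠ 0 ∧
      ∀ z, Cyc.divFun δ ξ f (i z) = Cyc.divFun (fun w => δ (i w)) ζ g z := by
  obtain ⟨ζ, rfl⟩ := hξ
  exact ⟨ζ, (i.residueFieldMap ζ).hom f, rfl, (map_ne_zero _).2 hf,
    fun z => divFun_closedImmersion i hX ζ z f hf⟩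

/-- The part of a family of divisors supported on a closed subscheme. -/
lemma exists_ratEquivZero_restrict (i : Z ⟶ X) [IsClosedImmersion i] (hX : Cyc.IsSetup X δ) (k : ℤ)
    {ι : Type u} (ξ : ι → X) (f : (j : ι) → X.residueField (ξ j)) (hk : ∀ j, δ (ξ j) = k + 1)
    (hf : ∀ j, f j ≠ 0)
    (hlf : ∀ x : X, ∃ U : Set X, IsOpen U ∧ x ∈ U ∧ {j | (closure {ξ j} ∩ U).Nonempty}.Finite)
    (s : Set ι) (hs : ∀ j ∈ s, ξ j ∈ Set.range i) :
    ∃ ρ : AlgebraicCycle Z ℤ, Cyc.RatEquivZero (fun w => δ (i w)) k ρ ∧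
      ∀ z, ρ z = ∑ᶠ j : s, Cyc.divFun δ (ξ j) (f j) (i z) := by
  choose ζ g hζ hg hdiv using fun j : s => exists_pull_divFun i hX (hs j j.2) (f j) (hf j)
  have hlf' : ∀ z : Z, ∃ U : Set Z, IsOpen U ∧ z ∈ U ∧
      {j : s | (closure {ζ j} ∩ U).Nonempty}.Finite := fun z => by
    obtain ⟨U, hU, hzU, hfin⟩ := hlf (i z)
    refine ⟨i ⁻¹' U, hU.preimage i.continuous, hzU,
      (hfin.preimage Subtype.val_injective.injOn).subset ?_⟩
    rintro j ⟨y, hy, hyU⟩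
    exact ⟨i y, specializes_iff_mem_closure.1
      (hζ j ▸ (specializes_iff_mem_closure.2 hy).map i.continuous), hyU⟩
  refine ⟨divSum (isSetup_closedImmersion i hX) ζ g hg hlf',
    ⟨s, ζ, g, fun j => by dsimp only; rw [hζ j]; exact hk j, hg, hlf', fun z => rfl⟩, fun z => ?_⟩
  rw [divSum_apply]
  exact finsum_congr fun j => (hdiv j z).symm

variable {X₁ X₂ Y : Scheme.{u}}

theorem mayerVietoris_middle (hX : Cyc.IsSetup X δ) (i₁ : X₁ ⟶ X) (i₂ : X₂ ⟶ X) [IsClosedImmersion i₁]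
    [IsClosedImmersion i₂] (hcov : Set.range i₁ ∪ Set.range i₂ = Set.univ) (j₁ : Y ⟶ X₁) (j₂ : Y ⟶ X₂)
    [IsClosedImmersion j₁] [IsClosedImmersion j₂] (hcomm : j₁ ≫ i₁ = j₂ ≫ i₂)
    (hY : Set.range (j₁ ≫ i₁) = Set.range i₁ ∩ Set.range i₂) (k : ℤ)
    (α₁ : AlgebraicCycle X₁ ℤ) (α₂ : AlgebraicCycle X₂ ℤ)
    (h₁ : α₁ ∈ Cyc.Zk X₁ (fun x => δ (i₁ x)) k)
    (h : Cyc.RatEquivZero δ k (AlgebraicCycle.map i₁ (fun x => δ (i₁ x)) δ α₁ +
      AlgebraicCycle.map i₂ (fun x => δ (i₂ x)) δ α₂)) :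
    ∃ β : AlgebraicCycle Y ℤ, β ∈ Cyc.Zk Y (fun y => δ (i₁ (j₁ y))) k ∧
      Cyc.RatEquiv (fun x => δ (i₁ x)) k α₁
        (AlgebraicCycle.map j₁ (fun y => δ (i₁ (j₁ y))) (fun x => δ (i₁ x)) β) ∧
      Cyc.RatEquiv (fun x => δ (i₂ x)) k α₂
        (-AlgebraicCycle.map j₂ (fun y => δ (i₁ (j₁ y))) (fun x => δ (i₂ x)) β) := by
  obtain ⟨ι, ξ, f, hk, hf, hlf, hsum⟩ := h
  let s : Set ι := {j | ξ j ∈ Set.range i₁}
  have hs2 : ∀ j ∈ sᶜ, ξ j ∈ Set.range i₂ := fun j hj =>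
    (hcov.ge (Set.mem_univ (ξ j))).resolve_left hj
  obtain ⟨ρ₁, hρ₁, hρ₁z⟩ := exists_ratEquivZero_restrict i₁ hX k ξ f hk hf hlf s fun j hj => hj
  obtain ⟨ρ₂, hρ₂, hρ₂z⟩ := exists_ratEquivZero_restrict i₂ hX k ξ f hk hf hlf sᶜ hs2
  have hsplit : ∀ x, ∑ᶠ j, Cyc.divFun δ (ξ j) (f j) x =
      ∑ᶠ j : s, Cyc.divFun δ (ξ j) (f j) x + ∑ᶠ j : (sᶜ : Set ι), Cyc.divFun δ (ξ j) (f j) x := by
    intro x
    obtain ⟨U, hU, hxU, hfin⟩ := hlf x
    have hfs : (Function.support fun j => Cyc.divFun δ (ξ j) (f j) x).Finite := hfin.subset fun j hj => by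
      simp only [Function.mem_support, Cyc.divFun] at hj
      split_ifs at hj with h
      · exact ⟨x, specializes_iff_mem_closure.1 h.1, hxU⟩
      · exact absurd rfl hj
    rw [finsum_set_coe_eq_finsum_mem s (f := fun j => Cyc.divFun δ (ξ j) (f j) x),
      finsum_set_coe_eq_finsum_mem sᶜ (f := fun j => Cyc.divFun δ (ξ j) (f j) x),
      ← finsum_mem_union' disjoint_compl_right (hfs.subset Set.inter_subset_right)
        (hfs.subset Set.inter_subset_right), Set.union_compl_self, finsum_mem_univ]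
  have hval : ∀ x, AlgebraicCycle.map i₁ (fun x => δ (i₁ x)) δ α₁ x +
      AlgebraicCycle.map i₂ (fun x => δ (i₂ x)) δ α₂ x = ∑ᶠ j, Cyc.divFun δ (ξ j) (f j) x := fun x => by
    rw [← hsum x]; rfl
  have hz₁ : ∀ x, x ∉ Set.range i₁ → ∑ᶠ j : s, Cyc.divFun δ (ξ j) (f j) x = 0 := fun x hx =>
    finsum_eq_zero_of_forall_eq_zero fun j =>
      divFun_eq_zero_of_notMem i₁.isClosedEmbedding.isClosed_range j.2 hx _
  have hz₂ : ∀ x, x ∉ Set.range i₂ → ∑ᶠ j : (sᶜ : Set ι), Cyc.divFun δ (ξ j) (f j) x = 0 := fun x hx =>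
    finsum_eq_zero_of_forall_eq_zero fun j =>
      divFun_eq_zero_of_notMem i₂.isClosedEmbedding.isClosed_range (hs2 j j.2) hx _
  let β : AlgebraicCycle Y ℤ := restrictClosed j₁ (α₁ - ρ₁)
  have hβ : ∀ y, β y = α₁ (j₁ y) - ρ₁ (j₁ y) := fun y => rfl
  have hδ2 : ∀ y, δ (i₁ (j₁ y)) = δ (i₂ (j₂ y)) := fun y =>
    congrArg δ (show (j₁ ≫ i₁) y = (j₂ ≫ i₂) y by rw [hcomm])
  have hρk : ∀ x, δ (i₁ x) ≠ k → ρ₁ x = 0 := fun x hx => by
    rw [hρ₁z]
    exact finsum_eq_zero_of_forall_eq_zero fun j => dif_neg fun h => hx (by have := hk j; omega)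
  refine ⟨β, fun y hy => by rw [hβ, h₁ _ hy, hρk _ hy, sub_zero], ?_, ?_⟩
  · have e : α₁ - AlgebraicCycle.map j₁ (fun y => δ (i₁ (j₁ y))) (fun x => δ (i₁ x)) β = ρ₁ := by
      refine DFunLike.ext _ _ fun x => ?_
      rw [Function.locallyFinsuppWithin.coe_sub, Pi.sub_apply]
      by_cases hx : x ∈ Set.range j₁
      · obtain ⟨y, rfl⟩ := hx
        rw [map_closedImmersion_image j₁ (fun x => δ (i₁ x)) β y, hβ]; ring
      · rw [map_closedImmersion_notMem j₁ (fun x => δ (i₁ x)) β hx, sub_zero]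
        have hx2 : i₁ x ∉ Set.range i₂ := fun h => hx <| by
          obtain ⟨y, hy⟩ := hY.ge ⟨⟨x, rfl⟩, h⟩
          exact ⟨y, i₁.isClosedEmbedding.injective hy⟩
        have := hval (i₁ x)
        rw [map_closedImmersion_image, map_closedImmersion_notMem i₂ δ _ hx2, hsplit, hz₂ _ hx2,
          ← hρ₁z] at this
        linarith
    unfold Cyc.RatEquiv
    rw [e]
    exact hρ₁
  · have e : α₂ - -AlgebraicCycle.map j₂ (fun y => δ (i₁ (j₁ y))) (fun x => δ (i₂ x)) β = ρ₂ := by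
      refine DFunLike.ext _ _ fun x => ?_
      rw [Function.locallyFinsuppWithin.coe_sub, Pi.sub_apply, Function.locallyFinsuppWithin.coe_neg,
        Pi.neg_apply]
      simp only [hδ2]
      by_cases hx : x ∈ Set.range j₂
      · obtain ⟨y, rfl⟩ := hx
        rw [map_closedImmersion_image j₂ (fun x => δ (i₂ x)) β y, hβ]
        have ey : i₁ (j₁ y) = i₂ (j₂ y) := show (j₁ ≫ i₁) y = (j₂ ≫ i₂) y by rw [hcomm]
        have h2 : AlgebraicCycle.map i₂ (fun x => δ (i₂ x)) δ α₂ (i₁ (j₁ y)) = α₂ (j₂ y) := by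
          rw [ey, map_closedImmersion_image]
        have := hval (i₁ (j₁ y))
        rw [map_closedImmersion_image, h2, hsplit, ← hρ₁z] at this
        rw [hρ₂z, ← ey]
        linarith
      · rw [map_closedImmersion_notMem j₂ (fun x => δ (i₂ x)) β hx, neg_zero, sub_zero]
        have hx1 : i₂ x ∉ Set.range i₁ := fun h => hx <| by
          obtain ⟨y, hy⟩ := hY.ge ⟨h, x, rfl⟩
          rw [hcomm] at hy
          exact ⟨y, i₂.isClosedEmbedding.injective hy⟩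
        have := hval (i₂ x)
        rw [map_closedImmersion_image, map_closedImmersion_notMem i₁ δ _ hx1, hsplit, hz₁ _ hx1,
          ← hρ₂z] at this
        linarith
    unfold Cyc.RatEquiv
    rw [e]
    exact hρ₂

end Groth.Agent.Cyc90
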