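import Groth.Agent.Cyc90.RatPush
import Groth.Agent.Cyc90.MayerVietoris

/-! Families of principal divisors with prescribed support. -/

set_option autoImplicit false
universe u

open CategoryTheory AlgebraicGeometry TopologicalSpace IsLocalRing

namespace Groth.Agent.Cyc90

variable {X Y : Scheme.{u}} {δ : X → ℤ}

/-- A function which is a locally finite sum of principal divisors of points of `T`. -/
def RatFamIn (δ : X → ℤ) (k : ℤ) (T : Set X) (F : X → ℤ) : Prop :=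
  ∃ (ι : Type u) (ξ : ι → X) (f : (i : ι) → X.residueField (ξ i)),
    (∀ i, δ (ξ i) = k + 1) ∧ (∀ i, f i ≠ 0) ∧ (∀ i, ξ i ∈ T) ∧
    (∀ x : X, ∃ U : Set X, IsOpen U ∧ x ∈ U ∧ {i | (closure {ξ i} ∩ U).Nonempty}.Finite) ∧
    ∀ x : X, F x = ∑ᶠ i, Cyc.divFun δ (ξ i) (f i) x

lemma RatFamIn.ratEquivZero {k : ℤ} {T : Set X} {α : AlgebraicCycle X ℤ} (h : RatFamIn δ k T ⇑α) :
    Cyc.RatEquivZero δ k α := by
  obtain ⟨ι, ξ, f, h1, h2, -, h3, h4⟩ := h
  exact ⟨ι, ξ, f, h1, h2, h3, h4⟩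

lemma ratFamIn_of_ratEquivZero {k : ℤ} {α : AlgebraicCycle X ℤ} (h : Cyc.RatEquivZero δ k α) :
    RatFamIn δ k Set.univ ⇑α := by
  obtain ⟨ι, ξ, f, h1, h2, h3, h4⟩ := h
  exact ⟨ι, ξ, f, h1, h2, fun i => trivial, h3, h4⟩

lemma RatFamIn.mono {k : ℤ} {T T' : Set X} {F : X → ℤ} (h : RatFamIn δ k T F) (hT : T ⊆ T') :
    RatFamIn δ k T' F := by
  obtain ⟨ι, ξ, f, h1, h2, h3, h4⟩ := h
  exact ⟨ι, ξ, f, h1, h2, fun i => hT (h3 i), h4⟩

/-- Locally finite sums of families. -/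
theorem ratFamIn_finsum {k : ℤ} {ι : Type u} (T : ι → Set X) (hT : ∀ i, IsClosed (T i))
    (hlf : ∀ x : X, ∃ U : Set X, IsOpen U ∧ x ∈ U ∧ {i | (T i ∩ U).Nonempty}.Finite)
    (F : ι → X → ℤ) (h : ∀ i, RatFamIn δ k (T i) (F i)) (T' : Set X) (hT' : ∀ i, T i ⊆ T') :
    RatFamIn δ k T' (fun x => ∑ᶠ i, F i x) := by
  classical
  choose J ξ f hk hf hmem hJ hsum using h
  have hsub : ∀ i j, closure {ξ i j} ⊆ T i := fun i j =>
    closure_minimal (Set.singleton_subset_iff.2 (hmem i j)) (hT i)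
  refine ⟨Σ i, J i, fun p => ξ p.1 p.2, fun p => f p.1 p.2, fun p => hk _ _, fun p => hf _ _,
    fun p => hT' _ (hmem _ _), fun x => ?_, fun x => ?_⟩
  · obtain ⟨U, hU, hxU, hfin⟩ := hlf x
    choose V hV hxV hVfin using fun i => hJ i x
    refine ⟨U ∩ ⋂ i ∈ hfin.toFinset, V i, hU.inter (isOpen_biInter_finset fun i _ => hV i),
      ⟨hxU, Set.mem_iInter₂.2 fun i _ => hxV i⟩,
      (hfin.toFinset.finite_toSet.biUnion fun i _ => (hVfin i).image (Sigma.mk i)).subset ?_⟩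
    rintro ⟨i, j⟩ ⟨y, hy, hyU, hyV⟩
    have hi : i ∈ hfin.toFinset := hfin.mem_toFinset.2 ⟨y, hsub i j hy, hyU⟩
    exact Set.mem_biUnion (Finset.mem_coe.2 hi) ⟨j, ⟨y, hy, Set.mem_iInter₂.1 hyV i hi⟩, rfl⟩
  · obtain ⟨U, hU, hxU, hfin⟩ := hlf x
    choose V hV hxV hVfin using fun i => hJ i x
    have hdiv : ∀ i j, Cyc.divFun δ (ξ i j) (f i j) x ≠ 0 →
        i ∈ hfin.toFinset ∧ j ∈ (hVfin i).toFinset := fun i j hne => by
      unfold Cyc.divFun at hne
      split_ifs at hne with h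
      · have := specializes_iff_mem_closure.1 h.1
        exact ⟨hfin.mem_toFinset.2 ⟨x, hsub i j this, hxU⟩, (hVfin i).mem_toFinset.2 ⟨x, this, hxV i⟩⟩
      · exact absurd rfl hne
    dsimp only
    rw [finsum_eq_sum_of_support_subset (s := hfin.toFinset) _ fun i hi => ?_,
      finsum_eq_sum_of_support_subset (s := hfin.toFinset.sigma fun i => (hVfin i).toFinset) _
        fun p hp => Finset.mem_coe.2 (Finset.mem_sigma.2 (hdiv p.1 p.2 hp)), Finset.sum_sigma]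
    · exact Finset.sum_congr rfl fun i _ => (hsum i x).trans
        (finsum_eq_sum_of_support_subset _ fun j hj => Finset.mem_coe.2 (hdiv i j hj).2)
    · obtain ⟨j, hj⟩ : ∃ j, Cyc.divFun δ (ξ i j) (f i j) x ≠ 0 := by
        by_contra hall
        push Not at hall
        exact hi ((hsum i x).trans (finsum_eq_zero_of_forall_eq_zero hall))
      exact Finset.mem_coe.2 (hdiv i j hj).1

/-- Rational equivalences push forward into the image. -/
theorem ratFamIn_map {δY : Y → ℤ} (hX : Cyc.IsSetup X δ) (hY : Cyc.IsSetup Y δY) (p : X ⟶ Y)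
    [IsProper p] (hδ : Cyc.DeltaCompat p δ δY) {k : ℤ} {α : AlgebraicCycle X ℤ}
    (h : Cyc.RatEquivZero δ k α) :
    RatFamIn δY k (Set.range p) ⇑(AlgebraicCycle.map p δ δY α) := by
  obtain ⟨κ, η, g, h1, h2, h3, h4, h5⟩ := exists_family_map hX hY p hδ h
  exact ⟨κ, η, g, h1, h2, h5, h3, h4⟩

end Groth.Agent.Cyc90
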