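import Groth.Agent.Cyc90.KeyFormula
import Groth.Agent.Cyc90.C1Push
import Groth.Agent.Cyc90.RatPush
import Groth.Agent.Cyc90.MayerVietoris
import Groth.Agent.Cyc90.RatFamily

/-! The key lemma: commutativity of the first Chern class caps. -/

set_option autoImplicit false
universe u

open CategoryTheory AlgebraicGeometry TopologicalSpace IsLocalRing

namespace Groth.Agent.Cyc90

open Var76.LineBundle

variable {X : Scheme.{u}} {δ : X → ℤ}

lemma ratEquivZero_add {k : ℤ} {α β : AlgebraicCycle X ℤ} (h : Cyc.RatEquivZero δ k α)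
    (h' : Cyc.RatEquivZero δ k β) : Cyc.RatEquivZero δ k (α + β) := by
  obtain ⟨ι, ξ, f, hk, hf, hlf, hsum⟩ := h
  obtain ⟨κ, ζ, g, hk', hg, hlf', hsum'⟩ := h'
  refine ⟨ι ⊕ κ, Sum.elim ξ ζ, fun j => Sum.rec (motive := fun j => X.residueField (Sum.elim ξ ζ j)) f g j,
    fun j => ?_, fun j => ?_, fun x => ?_, fun x => ?_⟩
  · cases j; exacts [hk _, hk' _]
  · cases j; exacts [hf _, hg _]
  · obtain ⟨U, hU, hxU, hfin⟩ := hlf x
    obtain ⟨V, hV, hxV, hfin'⟩ := hlf' x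
    refine ⟨U ∩ V, hU.inter hV, ⟨hxU, hxV⟩, ((hfin.image Sum.inl).union (hfin'.image Sum.inr)).subset ?_⟩
    rintro (i | i) ⟨y, hy, hyU, hyV⟩
    · exact Or.inl ⟨i, ⟨y, hy, hyU⟩, rfl⟩
    · exact Or.inr ⟨i, ⟨y, hy, hyV⟩, rfl⟩
  · have hfin : ∀ {ι : Type u} (ξ : ι → X) (f : (i : ι) → X.residueField (ξ i))
        (_ : ∀ x : X, ∃ U : Set X, IsOpen U ∧ x ∈ U ∧ {i | (closure {ξ i} ∩ U).Nonempty}.Finite),
        (Function.support fun i => Cyc.divFun δ (ξ i) (f i) x).Finite := by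
      intro ι ξ f hlf
      obtain ⟨U, hU, hxU, hfin⟩ := hlf x
      refine hfin.subset fun i hi => ?_
      simp only [Function.mem_support, Cyc.divFun] at hi
      split_ifs at hi with h
      · exact ⟨x, specializes_iff_mem_closure.1 h.1, hxU⟩
      · exact absurd rfl hi
    rw [Function.locallyFinsuppWithin.coe_add, Pi.add_apply, hsum, hsum']
    have h1 := hfin ξ f hlf
    have h2 := hfin ζ g hlf'
    let G : ι ⊕ κ → ℤ := Sum.elim (fun i => Cyc.divFun δ (ξ i) (f i) x) (fun i => Cyc.divFun δ (ζ i) (g i) x)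
    have hG : (Function.support G).Finite := ((h1.image Sum.inl).union (h2.image Sum.inr)).subset (by
      rintro (i | i) hi
      · exact Or.inl ⟨i, hi, rfl⟩
      · exact Or.inr ⟨i, hi, rfl⟩)
    refine Eq.trans ?_ (finsum_congr (f := G) fun j => by cases j <;> rfl)
    rw [← finsum_mem_univ G, show (Set.univ : Set (ι ⊕ κ)) = Set.range Sum.inl ∪ Set.range Sum.inr from
      Set.range_inl_union_range_inr.symm, finsum_mem_union' Set.isCompl_range_inl_range_inr.disjoint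
      (hG.inter_of_right _) (hG.inter_of_right _), finsum_mem_range Sum.inl_injective,
      finsum_mem_range Sum.inr_injective]
    rfl

lemma ratEquiv_trans {k : ℤ} {α β γ : AlgebraicCycle X ℤ} (h : Cyc.RatEquiv δ k α β)
    (h' : Cyc.RatEquiv δ k β γ) : Cyc.RatEquiv δ k α γ := by
  have := ratEquivZero_add h h'
  rwa [sub_add_sub_cancel] at this

lemma ratEquiv_symm (hX : Cyc.IsSetup X δ) {k : ℤ} {α β : AlgebraicCycle X ℤ}
    (h : Cyc.RatEquiv δ k α β) : Cyc.RatEquiv δ k β α := by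
  have := ratEquivZero_neg hX h
  rwa [neg_sub] at this

variable [IsIntegral X]

/-- A rational function is a unit near a point away from finitely many divisors. -/
lemma exists_nhd_unit (hX : Cyc.IsSetup X δ) (f : X.residueField (genericPoint X)) (hf : f ≠ 0) (x : X) :
    ∃ N : Set X, IsOpen N ∧ x ∈ N ∧ {ξ ∈ N | δ ξ + 1 = δ (genericPoint X) ∧
      ¬ ∃ c : X.presheaf.stalk ξ, IsUnit c ∧ Cyc.specMap ξ (genericPoint X) (gen_specializes ξ) c = f}.Finite := by
  have := hX.1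
  obtain ⟨V, hV, hxV, -⟩ := exists_isAffineOpen_mem_and_subset (X := X) (x := x) (U := ⊤) trivial
  have hηV : (genericPoint X) ∈ V := (gen_specializes x).mem_open V.2 hxV
  let := TopCat.Presheaf.algebra_section_stalk X.presheaf ⟨(genericPoint X), hηV⟩
  have := hV.isLocalization_stalk ⟨(genericPoint X), hηV⟩
  obtain ⟨w, hw⟩ := X.residue_surjective (genericPoint X) f
  obtain ⟨a, ⟨b, hb⟩, hab'⟩ := IsLocalization.exists_mk'_eq (hV.primeIdealOf ⟨(genericPoint X), hηV⟩).asIdeal.primeCompl w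
  have hab := IsLocalization.mk'_spec (X.presheaf.stalk (genericPoint X)) a (⟨b, hb⟩ : (hV.primeIdealOf ⟨(genericPoint X), hηV⟩).asIdeal.primeCompl)
  rw [hab'] at hab
  have hbu : IsUnit (X.presheaf.germ V (genericPoint X) hηV b) :=
    IsLocalization.map_units (X.presheaf.stalk (genericPoint X)) (⟨b, hb⟩ : (hV.primeIdealOf ⟨(genericPoint X), hηV⟩).asIdeal.primeCompl)
  have hres : f * X.residue (genericPoint X) (X.presheaf.germ V (genericPoint X) hηV b) = X.residue (genericPoint X) (X.presheaf.germ V (genericPoint X) hηV a) := by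
    rw [← hw, ← map_mul]; exact congrArg (X.residue (genericPoint X)) hab
  have hau : IsUnit (X.presheaf.germ V (genericPoint X) hηV a) := by
    refine (IsLocalRing.residue_ne_zero_iff_isUnit _).1 fun h0 => hf ?_
    exact (mul_eq_zero.1 (hres.trans h0)).resolve_right ((IsLocalRing.residue_ne_zero_iff_isUnit _).2 hbu)
  let T : Set X := ((X.basicOpen a : Set X) ∩ X.basicOpen b)ᶜ
  have hT : IsClosed T := ((X.basicOpen a).2.inter (X.basicOpen b).2).isClosed_compl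
  have hηT : (genericPoint X) ∉ T := fun h => h ⟨(X.mem_basicOpen a (genericPoint X) hηV).2 hau, (X.mem_basicOpen b (genericPoint X) hηV).2 hbu⟩
  obtain ⟨N, hN, hfin⟩ := exists_nhd_finite_maximal hT x
  obtain ⟨W, hWN, hW, hxW⟩ := mem_nhds_iff.1 hN
  refine ⟨V ∩ W, V.2.inter hW, ⟨hxV, hxW⟩, hfin.subset ?_⟩
  rintro ξ ⟨⟨hξV, hξW⟩, hdξ, hnu⟩
  refine ⟨⟨fun h => hnu ?_, fun z hz hzξ => ?_⟩, hWN hξW⟩
  · have h1 := (X.mem_basicOpen a ξ hξV).1 h.1
    have h2 := (X.mem_basicOpen b ξ hξV).1 h.2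
    refine ⟨X.presheaf.germ V ξ hξV a * ↑h2.unit⁻¹, h1.mul (Units.isUnit _), ?_⟩
    have e : ∀ t : Γ(X, V), Cyc.specMap ξ (genericPoint X) (gen_specializes ξ) (X.presheaf.germ V ξ hξV t) =
        X.residue (genericPoint X) (X.presheaf.germ V (genericPoint X) hηV t) := fun t =>
      congrArg (X.residue (genericPoint X)) (TopCat.Presheaf.germ_stalkSpecializes_apply X.presheaf hξV (gen_specializes ξ) t)
    have hb0 : X.residue (genericPoint X) (X.presheaf.germ V (genericPoint X) hηV b) ≠ 0 := (IsLocalRing.residue_ne_zero_iff_isUnit _).2 hbu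
    refine mul_right_cancel₀ hb0 ?_
    rw [hres]
    conv_lhs => rw [← e b, ← map_mul, mul_assoc, IsUnit.val_inv_mul, mul_one, e a]
  · by_contra hne
    have h1 := delta_lt hX.2.2 hzξ hne
    have h2 := delta_le hX.2.2 (gen_specializes z)
    exact hηT (eq_of_delta_le hX.2.2 (gen_specializes z) (by omega) ▸ hz)

lemma symAt_eq_one (hX : Cyc.IsSetup X δ) {ξ : X} (hξ : δ ξ + 1 = δ (genericPoint X))
    (f g : X.residueField (genericPoint X))
    (hf : ∃ c : X.presheaf.stalk ξ, IsUnit c ∧ Cyc.specMap ξ (genericPoint X) (gen_specializes ξ) c = f)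
    (hg : ∃ c : X.presheaf.stalk ξ, IsUnit c ∧ Cyc.specMap ξ (genericPoint X) (gen_specializes ξ) c = g) :
    symAt ξ f g = 1 := by
  have := hX.1
  let iB : Algebra (X.presheaf.stalk ξ) (X.residueField (genericPoint X)) :=
    (Cyc.specMap ξ (genericPoint X) (gen_specializes ξ)).toAlgebra
  have := isFractionRing_specMap ξ
  obtain ⟨c, hc, rfl⟩ := hf
  obtain ⟨d, hd, rfl⟩ := hg
  unfold symAt
  rw [symK_eq (dim_one_of_delta hX hξ) hc.ne_zero one_ne_zero hd.ne_zero one_ne_zero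
    (by rw [map_one, mul_one]; rfl) (by rw [map_one, mul_one]; rfl),
    TameAlg50.symbol_units hc hd, TameAlg50.symbol_units isUnit_one isUnit_one,
    TameAlg50.symbol_units isUnit_one hd, TameAlg50.symbol_units hc isUnit_one]
  simp; rfl

lemma exists_coord {L : X.Modules} (hL : PicF.IsInvertible L) (s : Cyc.secFibre L (genericPoint X)) (hs : s ≠ 0)
    {U : X.Opens} {e : Γ(L, U)} (he : IsFrame L U e) {ξ : X} (hξ : ξ ∈ U) :
    ∃ a : X.presheaf.stalk (genericPoint X), s = a • Submodule.Quotient.mk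
      (L.presheaf.germ U (genericPoint X) ((gen_specializes ξ).mem_open U.2 hξ) e) ∧
      X.residue (genericPoint X) a ≠ 0 := by
  obtain ⟨a, ha⟩ := secFibre_exists_smul hL s _ (mk_germ_frame_ne_zero he ((gen_specializes ξ).mem_open U.2 hξ))
  exact ⟨a, ha, fun h0 => hs (ha.trans (smul_mk_eq_zero L h0 _))⟩

lemma secDivFun_generic (hX : Cyc.IsSetup X δ) {L : X.Modules}
    (s : Cyc.secFibre L (genericPoint X)) (hs : s ≠ 0) {U : X.Opens} {e : Γ(L, U)} (he : IsFrame L U e)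
    {ξ : X} (hξ : ξ ∈ U) (hd : δ ξ + 1 = δ (genericPoint X)) (a : X.presheaf.stalk (genericPoint X))
    (ha : s = a • Submodule.Quotient.mk
      (L.presheaf.germ U (genericPoint X) ((gen_specializes ξ).mem_open U.2 hξ) e)) :
    Cyc.secDivFun δ L (genericPoint X) s ξ =
      (letI := (Cyc.specMap ξ (genericPoint X) (gen_specializes ξ)).toAlgebra
       CycAlg.ordFrac (X.presheaf.stalk ξ) (X.residueField (genericPoint X)) (X.residue (genericPoint X) a)) := by
  have := hX.1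
  rw [Cyc.secDivFun, dif_pos ⟨gen_specializes ξ, hd⟩,
    secOrdAt_eq L hX (gen_specializes ξ) hd s hs _ (span_germ_frame he hξ) a
      (by rw [TopCat.Presheaf.germ_stalkSpecializes_apply]; exact ha),
    ordAt_generic ξ (dim_one_of_delta hX hd).le _ (fun h0 => hs (ha.trans (smul_mk_eq_zero L h0 _)))]

/-- The commutation formula in terms of frames: the two sides differ by divisors of tame symbols,
supported where the first section fails to be the chosen frame. -/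
theorem ratFamIn_secDiv_comm (hX : Cyc.IsSetup X δ) {n : ℤ} (hn : δ (genericPoint X) = n)
    {L N : X.Modules} (hL : PicF.IsInvertible L) (hN : PicF.IsInvertible N)
    (s : Cyc.secFibre L (genericPoint X)) (hs : s ≠ 0) (t : Cyc.secFibre N (genericPoint X)) (ht : t ≠ 0)
    (UL : X → X.Opens) (hUL : ∀ ξ, ξ ∈ UL ξ) (eL : (ξ : X) → Γ(L, UL ξ)) (heL : ∀ ξ, IsFrame L (UL ξ) (eL ξ))
    (UN : X → X.Opens) (hUN : ∀ ξ, ξ ∈ UN ξ) (eN : (ξ : X) → Γ(N, UN ξ)) (heN : ∀ ξ, IsFrame N (UN ξ) (eN ξ))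
    (T : Set X) (hT : ∀ ξ, ξ ∉ T → δ ξ + 1 = δ (genericPoint X) → s = Submodule.Quotient.mk
      (L.presheaf.germ (UL ξ) (genericPoint X) ((gen_specializes ξ).mem_open (UL ξ).2 (hUL ξ)) (eL ξ)) ∨
      t = Submodule.Quotient.mk
      (N.presheaf.germ (UN ξ) (genericPoint X) ((gen_specializes ξ).mem_open (UN ξ).2 (hUN ξ)) (eN ξ))) :
    RatFamIn δ (n - 2) T (fun x =>
      Cyc.c1CapFun δ N (Cyc.secDivFun δ L (genericPoint X) s)
        (fun ξ => Submodule.Quotient.mk (N.presheaf.germ (UN ξ) ξ (hUN ξ) (eN ξ))) x -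
      Cyc.c1CapFun δ L (Cyc.secDivFun δ N (genericPoint X) t)
        (fun ξ => Submodule.Quotient.mk (L.presheaf.germ (UL ξ) ξ (hUL ξ) (eL ξ))) x) := by

  classical
  subst hn
  have := hX.1
  let α : AlgebraicCycle X ℤ := ⟨Cyc.secDivFun δ L (genericPoint X) s, by simp,
    fun x _ => secDivFun_locallyFinite hX hL _ s hs x⟩
  let β : AlgebraicCycle X ℤ := ⟨Cyc.secDivFun δ N (genericPoint X) t, by simp,
    fun x _ => secDivFun_locallyFinite hX hN _ t ht x⟩
  have hmem : ∀ {M : X.Modules} (w : Cyc.secFibre M (genericPoint X)) (x : X),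
      δ x ≠ δ (genericPoint X) - 2 + 1 → Cyc.secDivFun δ M (genericPoint X) w x = 0 := fun w x hx => by
    unfold Cyc.secDivFun
    exact dif_neg fun h => hx (by omega)
  choose aL haL hfne using fun ξ => exists_coord hL s hs (heL ξ) (hUL ξ)
  choose aN haN hgne using fun ξ => exists_coord hN t ht (heN ξ) (hUN ξ)
  let u' : (ξ : X) → Cyc.secFibre N ξ := fun ξ =>
    Submodule.Quotient.mk (N.presheaf.germ (UN ξ) ξ (hUN ξ) (eN ξ))
  let v' : (ξ : X) → Cyc.secFibre L ξ := fun ξ =>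
    Submodule.Quotient.mk (L.presheaf.germ (UL ξ) ξ (hUL ξ) (eL ξ))
  -- the family of tame symbols
  let F : (ξ : X) → X.residueField ξ := fun ξ =>
    symAt ξ (X.residue _ (aL ξ)) (X.residue _ (aN ξ))
  have hFne : ∀ ξ, δ ξ + 1 = δ (genericPoint X) → F ξ ≠ 0 := fun ξ hξ => by
    let := (Cyc.specMap ξ (genericPoint X) (gen_specializes ξ)).toAlgebra
    have := isFractionRing_specMap ξ
    exact symK_ne_zero (dim_one_of_delta hX hξ) (hfne ξ) (hgne ξ)
  let S : Set X := {ξ | δ ξ + 1 = δ (genericPoint X) ∧ F ξ ≠ 1}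
  have hST : S ⊆ T := fun ξ hξ => by
    by_contra h
    refine hξ.2 ?_
    change symAt ξ _ _ = _
    let iB : Algebra (X.presheaf.stalk ξ) (X.residueField (genericPoint X)) :=
      (Cyc.specMap ξ (genericPoint X) (gen_specializes ξ)).toAlgebra
    have := isFractionRing_specMap ξ
    rcases hT ξ h hξ.1 with h0 | h0
    · have h1 : X.residue _ (aL ξ) = X.residue _ 1 := residue_eq_of_smul_eq L
        (((haL ξ).symm.trans h0).trans (one_smul _ _).symm)
        (mk_germ_frame_ne_zero (heL ξ) ((gen_specializes ξ).mem_open (UL ξ).2 (hUL ξ)))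
      rw [h1, map_one]
      exact symK_one_left (dim_one_of_delta hX hξ.1) (hgne ξ)
    · have h1 : X.residue _ (aN ξ) = X.residue _ 1 := residue_eq_of_smul_eq N
        (((haN ξ).symm.trans h0).trans (one_smul _ _).symm)
        (mk_germ_frame_ne_zero (heN ξ) ((gen_specializes ξ).mem_open (UN ξ).2 (hUN ξ)))
      rw [h1, map_one]
      exact symK_one_right (dim_one_of_delta hX hξ.1) (hfne ξ)
  -- comparison with coordinates in a frame around a point
  have hcomp : ∀ {M : X.Modules} (w : Cyc.secFibre M (genericPoint X)) (_ : w ≠ 0) {U U' : X.Opens}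
      {e : Γ(M, U)} {e' : Γ(M, U')} (_ : IsFrame M U e) (_ : IsFrame M U' e') {ξ : X} (hξ : ξ ∈ U) (hξ' : ξ ∈ U')
      (a a' : X.presheaf.stalk (genericPoint X))
      (_ : w = a • Submodule.Quotient.mk (M.presheaf.germ U (genericPoint X) ((gen_specializes ξ).mem_open U.2 hξ) e))
      (_ : w = a' • Submodule.Quotient.mk (M.presheaf.germ U' (genericPoint X) ((gen_specializes ξ).mem_open U'.2 hξ') e')),
      ∃ c : (X.presheaf.stalk ξ)ˣ,
        M.presheaf.germ U ξ hξ e = (c : X.presheaf.stalk ξ) • M.presheaf.germ U' ξ hξ' e' ∧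
        X.residue _ a' = Cyc.specMap ξ (genericPoint X) (gen_specializes ξ) (c : X.presheaf.stalk ξ) * X.residue _ a := by
    intro M w hw U U' e e' he he' ξ hξ hξ' a a' ha ha'
    obtain ⟨c, hc⟩ := Mero90.isGen_span he' ⟨ξ, hξ'⟩ (span_germ_frame he hξ)
    refine ⟨c, hc, ?_⟩
    have h1 := congrArg (M.presheaf.stalkSpecializes (gen_specializes ξ)) hc
    rw [TopCat.Presheaf.germ_stalkSpecializes_apply, stalkSpecializes_smul,
      TopCat.Presheaf.germ_stalkSpecializes_apply] at h1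
    rw [h1, Submodule.Quotient.mk_smul, smul_smul] at ha
    refine (residue_eq_of_smul_eq M (ha'.symm.trans ha) (mk_germ_frame_ne_zero he'
      ((gen_specializes ξ).mem_open U'.2 hξ'))).trans ?_
    rw [map_mul, mul_comm]
    rfl
  have hnhd : ∀ x : X, ∃ N : Set X, IsOpen N ∧ x ∈ N ∧ (N ∩ S).Finite := fun x => by
    obtain ⟨a, ha, hane⟩ := exists_coord hL s hs (heL x) (hUL x)
    obtain ⟨b, hb, hbne⟩ := exists_coord hN t ht (heN x) (hUN x)
    obtain ⟨N₁, hN₁, hxN₁, hfin₁⟩ := exists_nhd_unit hX _ hane x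
    obtain ⟨N₂, hN₂, hxN₂, hfin₂⟩ := exists_nhd_unit hX _ hbne x
    refine ⟨(N₁ ∩ N₂) ∩ ((UL x : Set X) ∩ UN x), (hN₁.inter hN₂).inter ((UL x).2.inter (UN x).2),
      ⟨⟨hxN₁, hxN₂⟩, hUL x, hUN x⟩, (hfin₁.union hfin₂).subset ?_⟩
    rintro ξ ⟨⟨⟨h1, h2⟩, hξL, hξN⟩, hdξ, hF⟩
    by_contra hnot
    simp only [Set.mem_union, Set.mem_ofPred_eq, not_or, not_and, not_not] at hnot
    obtain ⟨⟨c₁, hc₁, e₁⟩, ⟨c₂, hc₂, e₂⟩⟩ := And.intro (hnot.1 h1 hdξ) (hnot.2 h2 hdξ)
    obtain ⟨c, -, hc⟩ := hcomp s hs (heL x) (heL ξ) hξL (hUL ξ) a (aL ξ) ha (haL ξ)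
    obtain ⟨d, -, hd⟩ := hcomp t ht (heN x) (heN ξ) hξN (hUN ξ) b (aN ξ) hb (haN ξ)
    refine hF (symAt_eq_one hX hdξ _ _ ⟨c * c₁, c.isUnit.mul hc₁, ?_⟩ ⟨d * c₂, d.isUnit.mul hc₂, ?_⟩)
    · rw [map_mul, e₁, hc]
    · rw [map_mul, e₂, hd]
  refine ⟨S, fun ξ => ξ.1, fun ξ => F ξ.1, fun ξ => by dsimp only; have := ξ.2.1; omega, fun ξ => hFne _ ξ.2.1,
    fun ξ => hST ξ.2, fun x => ?_, fun x => ?_⟩
  · obtain ⟨N, hN, hxN, hfin⟩ := hnhd x
    refine ⟨N, hN, hxN, (hfin.preimage Subtype.val_injective.injOn).subset ?_⟩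
    rintro ξ ⟨y, hy, hyN⟩
    exact ⟨(specializes_iff_mem_closure.2 hy).mem_open hN hyN, ξ.2⟩
  change (∑ᶠ ξ, α ξ * Cyc.secDivFun δ N ξ (u' ξ) x) - (∑ᶠ ξ, β ξ * Cyc.secDivFun δ L ξ (v' ξ) x) = _
  rw [← finsum_sub_distrib (c1Cap_support_finite α N u' x) (c1Cap_support_finite β L v' x),
    finsum_set_coe_eq_finsum_mem S (f := fun ξ => Cyc.divFun δ ξ (F ξ) x)]
  by_cases hx : δ x + 2 = δ (genericPoint X)
  swap
  · rw [finsum_eq_zero_of_forall_eq_zero fun ξ => ?_, finsum_mem_eq_zero_of_forall_eq_zero fun ξ hξ => ?_]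
    · exact dif_neg fun h => hx (by have := hξ.1; omega)
    · by_cases hd : δ ξ + 1 = δ (genericPoint X)
      · unfold Cyc.secDivFun
        rw [dif_neg fun h => hx (by omega), dif_neg fun h => hx (by omega), mul_zero, mul_zero, sub_zero]
      · change Cyc.secDivFun δ L (genericPoint X) s ξ * _ - Cyc.secDivFun δ N (genericPoint X) t ξ * _ = 0
        rw [hmem s ξ (by omega), hmem t ξ (by omega), zero_mul, zero_mul, sub_zero]
  obtain ⟨a, ha, hane⟩ := exists_coord hL s hs (heL x) (hUL x)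
  obtain ⟨b, hb, hbne⟩ := exists_coord hN t ht (heN x) (hUN x)
  obtain ⟨hHfin, hH⟩ := finsum_ordAt_symAt hX hx (X.residue _ a) (X.residue _ b) hane hbne
  let H := fun ξ => if h : ξ ⤳ x ∧ δ ξ + 1 = δ (genericPoint X) then
    Cyc.ordAt x ξ h.1 (symAt ξ (X.residue _ a) (X.residue _ b)) else 0
  let G := fun ξ => if ξ ∈ S then Cyc.divFun δ ξ (F ξ) x else 0
  have hGfin : (Function.support G).Finite := by
    obtain ⟨N, hN, hxN, hfin⟩ := hnhd x
    refine hfin.subset fun ξ hξ => ?_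
    simp only [Function.mem_support, G] at hξ
    split_ifs at hξ with h
    · refine ⟨?_, h⟩
      unfold Cyc.divFun at hξ
      split_ifs at hξ with h'
      · exact h'.1.mem_open hN hxN
      · exact absurd rfl hξ
    · exact absurd rfl hξ
  have key : ∀ ξ, (α ξ * Cyc.secDivFun δ N ξ (u' ξ) x - β ξ * Cyc.secDivFun δ L ξ (v' ξ) x) = G ξ - H ξ := by
    intro ξ
    change Cyc.secDivFun δ L (genericPoint X) s ξ * _ - Cyc.secDivFun δ N (genericPoint X) t ξ * _ = _
    by_cases hE : ξ ⤳ x ∧ δ ξ + 1 = δ (genericPoint X)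
    swap
    · have hG : G ξ = 0 := by
        simp only [G]
        split_ifs with h
        · exact dif_neg fun h' => hE ⟨h'.1, h.1⟩
        · rfl
      rw [hG, show H ξ = 0 from dif_neg hE]
      by_cases hd : δ ξ + 1 = δ (genericPoint X)
      · have hns : ¬ ξ ⤳ x := fun h => hE ⟨h, hd⟩
        unfold Cyc.secDivFun
        rw [dif_neg (fun h : ξ ⤳ x ∧ _ => hns h.1), dif_neg (fun h : ξ ⤳ x ∧ _ => hns h.1)]
        simp
      · rw [hmem s ξ (by omega), hmem t ξ (by omega)]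
        simp
    obtain ⟨hξx, hdξ⟩ := hE
    have hd : δ x + 1 = δ ξ := by omega
    have hξL : ξ ∈ UL x := hξx.mem_open (UL x).2 (hUL x)
    have hξN : ξ ∈ UN x := hξx.mem_open (UN x).2 (hUN x)
    let iB : Algebra (X.presheaf.stalk ξ) (X.residueField (genericPoint X)) :=
      (Cyc.specMap ξ (genericPoint X) (gen_specializes ξ)).toAlgebra
    have := isFractionRing_specMap ξ
    have hd1 := dim_one_of_delta hX hdξ
    have := krullDimLE_one hd1.le
    obtain ⟨c, hcg, hc⟩ := hcomp s hs (heL x) (heL ξ) hξL (hUL ξ) a (aL ξ) ha (haL ξ)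
    obtain ⟨d, hdg, hdd⟩ := hcomp t ht (heN x) (heN ξ) hξN (hUN ξ) b (aN ξ) hb (haN ξ)
    let c₀ : X.residueField ξ := X.residue ξ (c : X.presheaf.stalk ξ)
    let d₀ : X.residueField ξ := X.residue ξ (d : X.presheaf.stalk ξ)
    have hc0 : c₀ ≠ 0 := (IsLocalRing.residue_ne_zero_iff_isUnit _).2 c.isUnit
    have hd0 : d₀ ≠ 0 := (IsLocalRing.residue_ne_zero_iff_isUnit _).2 d.isUnit
    let A := CycAlg.ordFrac (X.presheaf.stalk ξ) (X.residueField (genericPoint X)) (X.residue _ a)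
    let B := CycAlg.ordFrac (X.presheaf.stalk ξ) (X.residueField (genericPoint X)) (X.residue _ b)
    have hsL : Cyc.secDivFun δ L (genericPoint X) s ξ = A :=
      secDivFun_generic hX s hs (heL x) hξL hdξ a ha
    have hsN : Cyc.secDivFun δ N (genericPoint X) t ξ = B :=
      secDivFun_generic hX t ht (heN x) hξN hdξ b hb
    have hinv : ∀ {M : X.Modules} {U U' : X.Opens} {e : Γ(M, U)} {e' : Γ(M, U')} (_ : IsFrame M U e)
        (_ : IsFrame M U' e') (hxU : x ∈ U) (hξU' : ξ ∈ U') (c : (X.presheaf.stalk ξ)ˣ)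
        (_ : M.presheaf.germ U ξ (hξx.mem_open U.2 hxU) e = (c : X.presheaf.stalk ξ) • M.presheaf.germ U' ξ hξU' e'),
        Cyc.secDivFun δ M ξ (Submodule.Quotient.mk (M.presheaf.germ U' ξ hξU' e')) x =
          -Cyc.ordAt x ξ hξx (X.residue ξ (c : X.presheaf.stalk ξ)) := by
      intro M U U' e e' he he' hxU hξU' c hcg
      rw [Cyc.secDivFun, dif_pos ⟨hξx, hd⟩, secOrdAt_eq M hX hξx hd _ (mk_germ_frame_ne_zero he' hξU') _
        (span_germ_frame he hxU) ↑c⁻¹ (by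
          rw [TopCat.Presheaf.germ_stalkSpecializes_apply, hcg, ← Submodule.Quotient.mk_smul, smul_smul,
            Units.inv_mul, one_smul]), map_units_inv]
      exact ordAt_inv hX hξx hd _ ((IsLocalRing.residue_ne_zero_iff_isUnit _).2 c.isUnit)
    have hF : F ξ = c₀ ^ B * (d₀ ^ A)⁻¹ * symAt ξ (X.residue _ a) (X.residue _ b) := by
      change symAt ξ _ _ = _
      rw [hc, hdd]
      exact symK_unit_mul hd1 c d hane hbne
    have hsym : symAt ξ (X.residue _ a) (X.residue _ b) ≠ 0 := symK_ne_zero hd1 hane hbne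
    have hG : G ξ = Cyc.ordAt x ξ hξx (F ξ) := by
      simp only [G]
      by_cases hmemS : ξ ∈ S
      · rw [if_pos hmemS, Cyc.divFun, dif_pos ⟨hξx, hd⟩]
      · rw [if_neg hmemS]
        have : F ξ = 1 := not_not.1 fun h => hmemS ⟨hdξ, h⟩
        rw [this, ordAt_one hX hξx hd]
    rw [hG, hF, show H ξ = Cyc.ordAt x ξ hξx (symAt ξ (X.residue _ a) (X.residue _ b)) from dif_pos ⟨hξx, hdξ⟩,
      hsL, hsN, hinv (heN x) (heN ξ) (hUN x) (hUN ξ) d hdg, hinv (heL x) (heL ξ) (hUL x) (hUL ξ) c hcg,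
      ordAt_mul hX hξx hd _ _ (mul_ne_zero (zpow_ne_zero _ hc0) (inv_ne_zero (zpow_ne_zero _ hd0))) hsym,
      ordAt_mul hX hξx hd _ _ (zpow_ne_zero _ hc0) (inv_ne_zero (zpow_ne_zero _ hd0)),
      ordAt_inv hX hξx hd _ (zpow_ne_zero _ hd0), ordAt_zpow hX hξx hd _ hc0, ordAt_zpow hX hξx hd _ hd0]
    ring
  rw [finsum_congr key, finsum_sub_distrib hGfin hHfin, hH, sub_zero]
  refine finsum_congr fun ξ => ?_
  exact (finsum_eq_if ..).symm


theorem ratEquiv_c1Cap_secDiv_comm (hX : Cyc.IsSetup X δ) {n : ℤ} (hn : δ (genericPoint X) = n)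
    {L N : X.Modules} (hL : PicF.IsInvertible L) (hN : PicF.IsInvertible N)
    (s : Cyc.secFibre L (genericPoint X)) (hs : s ≠ 0) (t : Cyc.secFibre N (genericPoint X)) (ht : t ≠ 0)
    (u : (ξ : X) → Cyc.secFibre N ξ) (hu : ∀ ξ, u ξ ≠ 0) (v : (ξ : X) → Cyc.secFibre L ξ) (hv : ∀ ξ, v ξ ≠ 0)
    (γ₁ γ₂ : AlgebraicCycle X ℤ) (h₁ : ⇑γ₁ = Cyc.c1CapFun δ N (Cyc.secDivFun δ L (genericPoint X) s) u)
    (h₂ : ⇑γ₂ = Cyc.c1CapFun δ L (Cyc.secDivFun δ N (genericPoint X) t) v) :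
    Cyc.RatEquiv δ (n - 2) γ₁ γ₂ := by

  classical
  subst hn
  have := hX.1
  let α : AlgebraicCycle X ℤ := ⟨Cyc.secDivFun δ L (genericPoint X) s, by simp,
    fun x _ => secDivFun_locallyFinite hX hL _ s hs x⟩
  let β : AlgebraicCycle X ℤ := ⟨Cyc.secDivFun δ N (genericPoint X) t, by simp,
    fun x _ => secDivFun_locallyFinite hX hN _ t ht x⟩
  have hmem : ∀ {M : X.Modules} (w : Cyc.secFibre M (genericPoint X)) (x : X),
      δ x ≠ δ (genericPoint X) - 2 + 1 → Cyc.secDivFun δ M (genericPoint X) w x = 0 := fun w x hx => by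
    unfold Cyc.secDivFun
    exact dif_neg fun h => hx (by omega)
  -- chosen frames
  choose UL hUL eL heL using fun ξ => Mero90.exists_frame' hL ξ
  choose UN hUN eN heN using fun ξ => Mero90.exists_frame' hN ξ
  let u' : (ξ : X) → Cyc.secFibre N ξ := fun ξ =>
    Submodule.Quotient.mk (N.presheaf.germ (UN ξ) ξ (hUN ξ) (eN ξ))
  let v' : (ξ : X) → Cyc.secFibre L ξ := fun ξ =>
    Submodule.Quotient.mk (L.presheaf.germ (UL ξ) ξ (hUL ξ) (eL ξ))
  have hu' : ∀ ξ, u' ξ ≠ 0 := fun ξ => mk_germ_frame_ne_zero (heN ξ) (hUN ξ)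
  have hv' : ∀ ξ, v' ξ ≠ 0 := fun ξ => mk_germ_frame_ne_zero (heL ξ) (hUL ξ)
  obtain ⟨γ₁', hγ₁'⟩ := exists_c1CapCycle hX hN α u' hu'
  obtain ⟨γ₂', hγ₂'⟩ := exists_c1CapCycle hX hL β v' hv'
  have r1 : Cyc.RatEquiv δ (δ (genericPoint X) - 2) γ₁ γ₁' :=
    ratEquiv_of_c1CapFun hX hN _ α (fun x hx => hmem s x hx) u u' (fun ξ _ => hu ξ) (fun ξ _ => hu' ξ) _ _ h₁ hγ₁'
  have r2 : Cyc.RatEquiv δ (δ (genericPoint X) - 2) γ₂' γ₂ :=
    ratEquiv_of_c1CapFun hX hL _ β (fun x hx => hmem t x hx) v' v (fun ξ _ => hv' ξ) (fun ξ _ => hv ξ) _ _ hγ₂' h₂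
  refine ratEquiv_trans r1 (ratEquiv_trans ?_ r2)
  have h := ratFamIn_secDiv_comm hX rfl hL hN s hs t ht UL hUL eL heL UN hUN eN heN Set.univ
    (fun ξ hξ => absurd trivial hξ)
  refine RatFamIn.ratEquivZero (T := Set.univ) ?_
  rw [Function.locallyFinsuppWithin.coe_sub, hγ₁', hγ₂']
  exact h

end Groth.Agent.Cyc90
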