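import Groth.Agent.Cyc90.Envelope
import Groth.Agent.Cyc90.C1Push
import Groth.Agent.Cyc90.C1Comm
import Groth.Agent.Div89.RatPush

/-! The exact sequence of an envelope. -/

set_option autoImplicit false
universe u

open CategoryTheory CategoryTheory.Limits AlgebraicGeometry

namespace Groth.Agent.Cyc90

variable {X Y : Scheme.{u}}

lemma residueDegree_of_surjective (f : Y ⟶ X) (y : Y) (h : Function.Surjective (f.residueFieldMap y).hom) :
    f.residueDegree y = 1 := by
  letI := (f.residueFieldMap y).hom.toAlgebra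
  change Module.finrank (X.residueField (f y)) (Y.residueField y) = 1
  rw [← (AlgEquiv.ofBijective (Algebra.ofId (X.residueField (f y)) (Y.residueField y))
    ⟨RingHom.injective _, h⟩).toLinearEquiv.finrank_eq]
  exact Module.finrank_self _

lemma delta_eq_of_surjective (f : Y ⟶ X) {δY : Y → ℤ} {δ : X → ℤ} (hδ : Cyc.DeltaCompat f δY δ) (y : Y)
    (h : Function.Surjective (f.residueFieldMap y).hom) : δY y = δ (f y) := by
  obtain ⟨n, hn, hd⟩ := hδ y
  letI := (f.residueFieldMap y).hom.toAlgebra
  have : Algebra.IsAlgebraic (X.residueField (f y)) (Y.residueField y) := ⟨fun c => by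
    obtain ⟨a, rfl⟩ := h c
    exact isAlgebraic_algebraMap a⟩
  have h0 : n = 0 := by
    have := trdeg_eq_zero (R := X.residueField (f y)) (A := Y.residueField y)
    exact_mod_cast hn.symm.trans this
  rw [hd, h0]; simp

/-- A pair of points with the same image, the second rational over it, gives a point of the fibre product. -/
lemma exists_pair (f : Y ⟶ X) (y y₀ : Y) (h : f y₀ = f y)
    (hs : Function.Surjective (f.residueFieldMap y₀).hom) :
    ∃ p : ↑(pullback f f), pullback.fst f f p = y ∧ pullback.snd f f p = y₀ ∧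
      Function.Surjective ((pullback.fst f f).residueFieldMap p).hom := by
  have : IsIso (f.residueFieldMap y₀) := (ConcreteCategory.isIso_iff_bijective _).mpr
    ⟨RingHom.injective _, hs⟩
  let a : Spec (Y.residueField y) ⟶ Y :=
    Spec.map ((inv (f.residueFieldMap y₀) ≫ (X.residueFieldCongr h).hom) ≫ f.residueFieldMap y) ≫
      Y.fromSpecResidueField y₀
  have w : Y.fromSpecResidueField y ≫ f = a ≫ f := by
    symm
    rw [Category.assoc, ← Scheme.Hom.SpecMap_residueFieldMap_fromSpecResidueField,
      ← Scheme.Hom.SpecMap_residueFieldMap_fromSpecResidueField, ← Spec.map_comp_assoc]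
    simp only [IsIso.hom_inv_id_assoc, Category.assoc]
    rw [Spec.map_comp, Category.assoc, Scheme.residueFieldCongr_fromSpecResidueField]
  let l := pullback.lift (Y.fromSpecResidueField y) a w
  let s : Spec (Y.residueField y) := IsLocalRing.closedPoint _
  have hl : l ≫ pullback.fst f f = Y.fromSpecResidueField y := pullback.lift_fst _ _ _
  refine ⟨l s, ?_, ?_, ?_⟩
  · change (l ≫ pullback.fst f f) s = y
    rw [hl, Scheme.fromSpecResidueField_apply]
  · change (l ≫ pullback.snd f f) s = y₀
    rw [show l ≫ pullback.snd f f = a from pullback.lift_snd _ _ _]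
    simp only [a, Scheme.Hom.comp_apply, Scheme.fromSpecResidueField_apply]
  · have hsurj : Function.Surjective ((l ≫ pullback.fst f f).residueFieldMap s).hom := by
      have : IsPreimmersion (l ≫ pullback.fst f f) := hl ▸ inferInstance
      exact residueFieldMap_surjective _ s
    rw [Scheme.residueFieldMap_comp] at hsurj
    intro a
    obtain ⟨b, hb⟩ := hsurj ((l.residueFieldMap s).hom a)
    exact ⟨b, RingHom.injective (l.residueFieldMap s).hom hb⟩

/-- Lifting a rational function to a completely decomposed cover. -/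
lemma exists_lift_rat {δY : Y → ℤ} {δ : X → ℤ} (f : Y ⟶ X)
    (hcd : Cyc.IsCompletelyDecomposed f) (hδ : Cyc.DeltaCompat f δY δ) (x : X) (g : X.residueField x)
    (hg : g ≠ 0) : ∃ (y : Y) (g' : Y.residueField y), f y = x ∧ δY y = δ (f y) ∧ g' ≠ 0 ∧
      ∀ z, Cyc.divFun δ (f y) (Cyc.normGen f y g') z = Cyc.divFun δ x g z := by
  obtain ⟨y, rfl, hs⟩ := hcd x
  refine ⟨y, (f.residueFieldMap y).hom g, rfl, delta_eq_of_surjective f hδ y hs, (map_ne_zero _).2 hg,
    fun z => ?_⟩
  have e : Cyc.normGen f y ((f.residueFieldMap y).hom g) = g := by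
    let := (f.residueFieldMap y).hom.toAlgebra
    have h := Algebra.norm_algebraMap (S := Y.residueField y) g
    have h1 : Module.finrank (X.residueField (f y)) (Y.residueField y) = 1 :=
      residueDegree_of_surjective f y hs
    rw [h1, pow_one] at h
    exact h
  rw [e]

theorem exists_ratEquiv_map_sub_map (δ : X → ℤ) (δY : Y → ℤ) (hX : Cyc.IsSetup X δ) (hY : Cyc.IsSetup Y δY)
    (f : Y ⟶ X) [IsProper f] (hcd : Cyc.IsCompletelyDecomposed f) (hδ : Cyc.DeltaCompat f δY δ)
    (δ2 : ↑(pullback f f) → ℤ) (hδ2 : Cyc.DeltaCompat (pullback.fst f f) δ2 δY) (k : ℤ)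
    (β : AlgebraicCycle Y ℤ) (hβ : β ∈ Cyc.Zk Y δY k)
    (h0 : Cyc.RatEquivZero δ k (AlgebraicCycle.map f δY δ β)) :
    ∃ γ : AlgebraicCycle ↑(pullback f f) ℤ, γ ∈ Cyc.Zk (pullback f f) δ2 k ∧
      Cyc.RatEquiv δY k β (AlgebraicCycle.map (pullback.fst f f) δ2 δY γ -
        AlgebraicCycle.map (pullback.snd f f) δ2 δY γ) := by
  classical
  obtain ⟨ι, ξ, g, hk, hg, hlf, hsum⟩ := h0
  choose ζ g' hfζ hdζ hg' hdiv using fun i => exists_lift_rat f hcd hδ (ξ i) (g i) (hg i)
  have himg : ∀ i (U : Set X), (closure {ζ i} ∩ f ⁻¹' U).Nonempty → (closure {ξ i} ∩ U).Nonempty :=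
    fun i U ⟨y, hy, hyU⟩ => ⟨f y, specializes_iff_mem_closure.1
      (hfζ i ▸ (specializes_iff_mem_closure.2 hy).map f.continuous), hyU⟩
  have hlfY : ∀ y : Y, ∃ U : Set Y, IsOpen U ∧ y ∈ U ∧ {i | (closure {ζ i} ∩ U).Nonempty}.Finite := fun y => by
    obtain ⟨U, hU, hyU, hfin⟩ := hlf (f y)
    exact ⟨f ⁻¹' U, hU.preimage f.continuous, hyU, hfin.subset fun i hi => himg i U hi⟩
  have hkY : ∀ i, δY (ζ i) = k + 1 := fun i => by rw [hdζ, hfζ, hk]
  let ρ := divSum hY ζ g' hg' hlfY
  have hmρ : AlgebraicCycle.map f δY δ ρ = AlgebraicCycle.map f δY δ β := DFunLike.ext _ _ fun x => by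
    obtain ⟨U, hU, hxU, hfin⟩ := hlf x
    rw [map_apply_sum f ρ x hfin.toFinset (fun _ => 1) (fun i => divCycle hY (ζ i) (g' i) (hg' i)) fun y hy => ?_,
      hsum x, finsum_eq_sum_of_support_subset (s := hfin.toFinset) _ fun i hi => ?_]
    · refine Finset.sum_congr rfl fun i _ => ?_
      have h1 := congrFun (map_divFun f hY hX hδ (ζ i) (g' i) (hg' i) (divCycle hY (ζ i) (g' i) (hg' i)) rfl) x
      rw [h1, if_pos (hdζ i), one_mul, hdiv]
    · simp only [Function.mem_support, Cyc.divFun] at hi
      split_ifs at hi with h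
      · exact Finset.mem_coe.2 (hfin.mem_toFinset.2 ⟨x, specializes_iff_mem_closure.1 h.1, hxU⟩)
      · exact absurd rfl hi
    · rw [divSum_apply, finsum_eq_sum_of_support_subset (s := hfin.toFinset) _ fun i hi => ?_]
      · simp only [one_mul]; rfl
      simp only [Function.mem_support, Cyc.divFun] at hi
      split_ifs at hi with h
      · exact Finset.mem_coe.2 (hfin.mem_toFinset.2 (himg i U
          ⟨y, specializes_iff_mem_closure.1 h.1, show f y ∈ U from hy ▸ hxU⟩))
      · exact absurd rfl hi
  have hρ : Cyc.RatEquivZero δY k ρ := ⟨ι, ζ, g', hkY, hg', hlfY, fun y => rfl⟩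
  let β' : AlgebraicCycle Y ℤ := β - ρ
  have hβ' : ∀ y, δY y ≠ k → β' y = 0 := fun y hy => by
    rw [Function.locallyFinsuppWithin.coe_sub, Pi.sub_apply, hβ y hy, divSum_apply,
      finsum_eq_zero_of_forall_eq_zero fun i => dif_neg fun h => hy (by have := hkY i; omega), sub_zero]
  have hmap0 : AlgebraicCycle.map f δY δ β' = 0 := by
    rw [map_sub_cycle, hmρ, sub_self]
  choose y₀ hy₀ hs₀ using hcd
  choose P hPf hPs hPr using fun y : Y => exists_pair f y (y₀ (f y)) (hy₀ _) (hs₀ _)
  let γ : AlgebraicCycle ↑(pullback f f) ℤ :=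
    { toFun := fun q => if q = P (pullback.fst f f q) then β' (pullback.fst f f q) else 0
      supportWithinDomain' := by simp
      supportLocallyFiniteWithinDomain' := fun q _ => by
        obtain ⟨t, ht, hfin⟩ := β'.supportLocallyFiniteWithinDomain' (pullback.fst f f q) trivial
        refine ⟨pullback.fst f f ⁻¹' t, (pullback.fst f f).continuous.continuousAt.preimage_mem_nhds ht,
          (hfin.image P).subset ?_⟩
        rintro q' ⟨hq', hne⟩
        simp only [Function.mem_support] at hne
        split_ifs at hne with h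
        · exact ⟨_, ⟨hq', hne⟩, h.symm⟩
        · exact absurd rfl hne }
  have hγd : ∀ q, γ q = if q = P (pullback.fst f f q) then β' (pullback.fst f f q) else 0 := fun _ => rfl
  have hγ : ∀ q, γ q ≠ 0 → q = P (pullback.fst f f q) ∧ γ q = β' (pullback.fst f f q) := fun q hq => by
    rw [hγd] at hq
    split_ifs at hq with h
    · exact ⟨h, (hγd q).trans (if_pos h)⟩
    · exact absurd rfl hq
  have hγP : ∀ y, γ (P y) = β' y := fun y => by
    rw [hγd, hPf, if_pos rfl]
  have hδP : ∀ y, δ2 (P y) = δY y := fun y => by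
    rw [delta_eq_of_surjective _ hδ2 _ (hPr y), hPf]
  refine ⟨γ, fun q hq => ?_, ?_⟩
  · by_contra hne
    obtain ⟨h1, h2⟩ := hγ q hne
    refine hne (h2.trans (hβ' _ fun h => hq ?_))
    rw [h1, hδP, h]
  have hfst : AlgebraicCycle.map (pullback.fst f f) δ2 δY γ = β' := DFunLike.ext _ _ fun y => by
    rw [map_apply_eq, finsum_mem_inter_support_eq' _ _ {P y} fun q hq => ?_, finsum_mem_singleton, hγP,
      if_pos (by rw [hPf]; exact hδP y), residueDegree_of_surjective _ _ (hPr y)]
    · simp
    · obtain ⟨h1, -⟩ := hγ q (left_ne_zero_of_mul (Function.mem_support.1 hq))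
      exact ⟨fun h => h1.trans (congrArg P (show pullback.fst f f q = y from h)),
        fun h => show pullback.fst f f q = y from (show q = P y from h) ▸ hPf y⟩
  have hsnd : AlgebraicCycle.map (pullback.snd f f) δ2 δY γ = 0 := DFunLike.ext _ _ fun z => by
    rw [map_apply_eq]
    by_cases hz : z = y₀ (f z)
    swap
    · refine finsum_mem_eq_zero_of_forall_eq_zero fun q hq => ?_
      by_contra hne
      obtain ⟨h1, -⟩ := hγ q (left_ne_zero_of_mul hne)
      have e : pullback.snd f f q = y₀ (f (pullback.fst f f q)) := by rw [← hPs, ← h1]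
      have hqz : pullback.snd f f q = z := hq
      refine hz (hqz.symm.trans ?_)
      rw [e, ← hqz, e, hy₀]
    have h0 : ∑ᶠ y ∈ f ⁻¹' {f z}, β' y * (if δY y = δ (f y) then (f.residueDegree y : ℤ) else 0) = 0 := by
      rw [← map_apply_eq, hmap0]; rfl
    refine Eq.trans ?_ h0
    have hinj : Set.InjOn P (f ⁻¹' {f z}) := fun a _ b _ e => by rw [← hPf a, e, hPf b]
    refine Eq.trans (finsum_mem_inter_support_eq' _ _ (P '' (f ⁻¹' {f z})) fun q hq => ?_)
      ((finsum_mem_image hinj).trans (finsum_mem_congr rfl fun y hy => ?_))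
    · obtain ⟨h1, -⟩ := hγ q (left_ne_zero_of_mul (Function.mem_support.1 hq))
      have hc : f (pullback.fst f f q) = f (pullback.snd f f q) :=
        congrArg (fun k : pullback f f ⟶ X => k q) pullback.condition
      refine ⟨fun h => ⟨pullback.fst f f q, hc.trans (congrArg f h), h1.symm⟩, ?_⟩
      rintro ⟨y, hy, rfl⟩
      show pullback.snd f f (P y) = z
      rw [hPs, show f y = f z from hy, ← hz]
    · have hyz : f y = f z := hy
      have hdz : δY (pullback.snd f f (P y)) = δ (f y) := by
        rw [hPs, delta_eq_of_surjective f hδ _ (hs₀ _), hy₀]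
      have hdeg : (pullback.snd f f).residueDegree (P y) = f.residueDegree y := by
        have h := Div89.residueDegree_comp (pullback.snd f f) f (P y)
        rw [← pullback.condition, Div89.residueDegree_comp, residueDegree_of_surjective _ _ (hPr y), hPs,
          residueDegree_of_surjective f _ (hs₀ _), hPf] at h
        simpa using h.symm
      rw [hγP, hdz, hδP, hdeg]
  rw [hfst, hsnd, sub_zero]
  unfold Cyc.RatEquiv
  rwa [show β - β' = ρ from sub_sub_cancel β ρ]

end Groth.Agent.Cyc90
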