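import Groth.Agent.Cyc90.SheafLen
import Groth.Agent.Cyc90.FlatFinFibre
import Groth.Agent.QC70.PushClosed
import Groth.Agent.QC70.UnitSub
import Groth.Prelude.Def_ChowK
import Groth.Agent.QC70.CohOps
import Groth.Agent.QC70.DevissageAux

/-! Direct images of coherent modules along finite morphisms and lengths along closed immersions. -/

set_option autoImplicit false
set_option backward.isDefEq.respectTransparency.types false
universe u

open CategoryTheory AlgebraicGeometry TopologicalSpace

namespace Groth.Agent.Cyc90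

/-- Length is unchanged along a surjective ring map. -/
lemma length_eq_of_semilinear {A B M N : Type u} [CommRing A] [CommRing B] [AddCommGroup M] [Module A M]
    [AddCommGroup N] [Module B N] (f : A →+* B) (hf : Function.Surjective f) (e : M ≃+ N)
    (he : ∀ (a : A) (m : M), e (a • m) = f a • e m) : Module.length A M = Module.length B N := by
  algebraize [f]
  let : Module A N := Module.compHom N f
  have : IsScalarTower A B N := ⟨fun a b n => show (f a * b) • n = f a • b • n from mul_smul _ _ _⟩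
  let l : M ≃ₗ[A] N := { e with map_smul' := he }
  rw [l.length_eq]
  exact Module.length_eq_of_surjective (R := B) (S := A) hf

variable {X Y Z : Scheme.{u}}

/-- The length of a stalk of a direct image along a closed immersion. -/
lemma length_stalk_push (i : Z ⟶ X) [IsClosedImmersion i] (H : Z.Modules) (z : Z) :
    Module.length (X.presheaf.stalk (i z)) (((Coh.push i).obj H).presheaf.stalk (i z)) =
      Module.length (Z.presheaf.stalk z) (H.presheaf.stalk z) :=
  length_eq_of_semilinear (i.stalkMap z).hom (i.stalkMap_surjective z)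
    (AddEquiv.ofBijective (QC70.pushStalk i H z) (QC70.bijective_pushStalk i H z))
    (QC70.pushStalk_smul i H z)

theorem subschemeFun_eq_sheafFun (δ : X → ℤ) (i : Z ⟶ X) [IsClosedImmersion i] (k : ℤ)
    [IsLocallyNoetherian X] :
    Cyc.subschemeFun δ k i = Cyc.sheafFun δ k ((Coh.push i).obj (Coh.structureModule Z)) := by
  funext x
  simp only [Cyc.subschemeFun, Cyc.sheafFun]
  split_ifs with hk
  swap
  · rfl
  by_cases hx : x ∈ Set.range i
  · obtain ⟨z, rfl⟩ := hx
    rw [show {z' : Z | i z' = i z} = {z} from Set.ext fun z' =>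
      ⟨fun h => i.isClosedEmbedding.injective h, fun h => congrArg i h⟩, finsum_mem_singleton,
      length_stalk_push]
    exact congrArg (fun n : ℕ∞ => (n.toNat : ℤ)) (QC70.unitStalkEquiv z).length_eq
  · rw [show {z' : Z | i z' = x} = ∅ from Set.eq_empty_of_forall_notMem fun z h => hx ⟨z, h⟩,
      finsum_mem_empty]
    have : Subsingleton (((Coh.push i).obj (Coh.structureModule Z)).presheaf.stalk x) := by
      by_contra hne
      refine hx ?_
      have : IsClosed (Set.range i) := i.isClosedEmbedding.isClosed_range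
      exact (by
        have hlnZ : IsLocallyNoetherian Z := LocallyOfFiniteType.isLocallyNoetherian i
        haveI : (Coh.structureModule Z).IsFiniteType := QC70.isCoh_unit.2
        exact QC70.support_pushforward_subset i (Coh.structureModule Z) hne)
    rw [Module.length_eq_zero]
    simp

variable (π : X ⟶ Y) [IsFinite π]

theorem isCoh_push_of_isFinite [IsLocallyNoetherian Y] (H : X.Modules) (hH : Coh.IsCoh H) :
    Coh.IsCoh ((Coh.push π).obj H) := by
  obtain ⟨_, _⟩ := hH
  haveI := QCqs72.isQuasicoherent_pushforward (M := H) π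
  refine ⟨inferInstance, QC70.isFiniteType_of_finite_sections _ (fun W : Y.affineOpens => W.1)
    (iSup_affineOpens_eq_top Y) (fun W => W.2) fun W => ?_⟩
  let : Algebra Γ(Y, W.1) Γ(X, π ⁻¹ᵁ W.1) := (π.app W.1).hom.toAlgebra
  have : Module.Finite Γ(Y, W.1) Γ(X, π ⁻¹ᵁ W.1) := π.finite_app W.1 W.2
  have : Module.Finite Γ(X, π ⁻¹ᵁ W.1) Γ(H, π ⁻¹ᵁ W.1) :=
    QC70.finite_sections_of_isFiniteType H (W.2.preimage π)
  let : Module Γ(Y, W.1) Γ(H, π ⁻¹ᵁ W.1) := Module.compHom _ (π.app W.1).hom
  have : IsScalarTower Γ(Y, W.1) Γ(X, π ⁻¹ᵁ W.1) Γ(H, π ⁻¹ᵁ W.1) :=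
    ⟨fun a b n => show ((π.app W.1).hom a * b) • n = (π.app W.1).hom a • b • n from mul_smul _ _ _⟩
  have : Module.Finite Γ(Y, W.1) Γ(H, π ⁻¹ᵁ W.1) := Module.Finite.trans Γ(X, π ⁻¹ᵁ W.1) _
  let e : Γ(H, π ⁻¹ᵁ W.1) ≃ₗ[Γ(Y, W.1)] Γ((Coh.push π).obj H, W.1) :=
    { AddEquiv.refl _ with map_smul' := fun a s => (QCqs72.pushforward_smul _ _ _ _).symm }
  exact Module.Finite.equiv e

theorem cohLe_push_of_isFinite [IsLocallyNoetherian Y] {δX : X → ℤ} {δY : Y → ℤ}
    (hδ : Cyc.DeltaCompat π δX δY) (k : ℤ) (F : X.Modules) (hF : Cyc.CohLe δX k F) :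
    Cyc.CohLe δY k ((Coh.push π).obj F) := by
  refine ⟨isCoh_push_of_isFinite π F hF.1, fun y hy => ?_⟩
  have := hF.1.2
  by_cases hyS : y ∈ π '' CohB1.support F
  · obtain ⟨x, hx, rfl⟩ := hyS
    rw [← delta_eq_of_quasiFinite π hδ x]
    exact hF.2 x (not_subsingleton_iff_nontrivial.1 hx)
  · exfalso
    let V : Y.Opens := ⟨(π '' CohB1.support F)ᶜ,
      (π.isClosedMap _ (QC70.isClosed_support F)).isOpen_compl⟩
    refine not_subsingleton_iff_nontrivial.2 hy (subsingleton_of_forall_eq 0 fun e => ?_)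
    obtain ⟨W, hxW, s, rfl⟩ := QC70.germM_exist e
    have hxV : y ∈ W ⊓ V := ⟨hxW, hyS⟩
    rw [← QC70.germM_res (inf_le_left : W ⊓ V ≤ W) hxV s]
    refine (congrArg (QC70.germM _ (W ⊓ V) y hxV) ?_).trans (QC70.germM_zero hxV)
    refine QC70.section_ext F _ _ fun p hp => ?_
    have hps : Subsingleton (F.presheaf.stalk p) := by
      by_contra hne
      exact hp.2 ⟨p, hne, rfl⟩
    obtain ⟨U, hU, hsub⟩ := QC70.exists_nhd_sections_subsingleton p hps
    exact ⟨U ⊓ π ⁻¹ᵁ (W ⊓ V), inf_le_right, ⟨hU, hp⟩, @Subsingleton.elim _ (hsub _ inf_le_left) _ _⟩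

end Groth.Agent.Cyc90
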