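import Groth.Agent.Cyc90.IsDimFunLft
import Groth.Agent.CAlg1.Catenary
import Groth.Agent.EGA4Alg4.Depth

/-! The spectrum of a field as a base. -/

set_option autoImplicit false
universe u

open CategoryTheory AlgebraicGeometry TopologicalSpace IsLocalRing

namespace Groth.Agent.Cyc90

lemma isCohenMacaulayLocalRing_of_dim_zero (R : Type u) [CommRing R] [IsNoetherianRing R] [IsLocalRing R]
    (h : ringKrullDim R = 0) : LocCoh.IsCohenMacaulayLocalRing R := by
  refine ⟨?_⟩
  have h1 := EGA4Alg4.depth_le_supportDim (A := R) (M := R)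
  rw [Module.supportDim_self_eq_ringKrullDim, h] at h1 ⊢
  have : LocCoh.depth R R = 0 := by
    have h2 : LocCoh.depth R R ≤ 0 := by exact_mod_cast h1
    exact nonpos_iff_eq_zero.1 h2
  rw [this]; rfl

lemma isUniversallyCatenary_field (k : Type u) [Field k] : CAlg.IsUniversallyCatenary k := by
  have : LocCoh.IsCohenMacaulayRing k := by
    refine { toIsNoetherian := inferInstance, isCohenMacaulayLocalRing_localization := fun p _ => ?_ }
    have : IsNoetherianRing (Localization.AtPrime p) :=
      IsLocalization.isNoetherianRing p.primeCompl _ inferInstance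
    refine isCohenMacaulayLocalRing_of_dim_zero _ ?_
    rw [IsLocalization.AtPrime.ringKrullDim_eq_height p, Ideal.eq_bot_of_prime p, Ideal.height_bot]
    rfl
  exact CAlg1.isUniversallyCatenary_of_cm k

theorem isSetup_spec_field (k : Type u) [Field k] :
    Cyc.IsSetup (Spec (CommRingCat.of k)) (fun _ => 0) := by
  refine ⟨inferInstance, fun x => ?_,
    fun (x y : PrimeSpectrum k) _ hne => absurd (Subsingleton.elim x y) hne⟩
  revert x
  change ∀ x : PrimeSpectrum k, _
  intro x
  let : Algebra k ((Spec (CommRingCat.of k)).presheaf.stalk x) :=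
    (StructureSheaf.toStalk k x).hom.toAlgebra
  have : IsLocalization.AtPrime ((Spec (CommRingCat.of k)).presheaf.stalk x) x.asIdeal :=
    StructureSheaf.IsLocalization.to_stalk k x
  exact CAlg1.isUniversallyCatenary_of_isLocalization (A := k) x.asIdeal.primeCompl
    (isUniversallyCatenary_field k)

theorem isSetup_of_field {k : Type u} [Field k] {X : Scheme.{u}} (f : X ⟶ Spec (CommRingCat.of k))
    [LocallyOfFiniteType f] (δ : X → ℤ) (hδ : Cyc.DeltaCompat f δ (fun _ => 0)) : Cyc.IsSetup X δ :=
  isSetup_of_lft f _ (isSetup_spec_field k) δ hδ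

end Groth.Agent.Cyc90
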