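import Groth.Agent.Cyc90.C1Tensor
import Groth.Agent.Cyc90.PullRat
import Groth.Agent.Props58.PullTensor
import Groth.Agent.Amp73.PullTensor

/-! The first Chern class cap and flat pullback. -/

set_option autoImplicit false
universe u

open CategoryTheory AlgebraicGeometry TopologicalSpace IsLocalRing

namespace Groth.Agent.Cyc90

open Var76.LineBundle

variable {X Y : Scheme.{u}}

lemma span_germ_frame {M : X.Modules} {U : X.Opens} {e : Γ(M, U)} (he : IsFrame M U e) {x : X}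
    (hx : x ∈ U) : Submodule.span (X.presheaf.stalk x) {M.presheaf.germ U x hx e} = ⊤ :=
  eq_top_iff.2 fun v _ => Submodule.mem_span_singleton.2 ((Mero90.isGen_germ he ⟨x, hx⟩).2 v)

/-- The pullback of a rational section, with its coordinates in any frame. -/
lemma exists_pull_section (f : X ⟶ Y) {L : Y.Modules} (hL : PicF.IsInvertible L) (ξ : X)
    (v : Cyc.secFibre L (f ξ)) (hv : v ≠ 0) :
    ∃ u : Cyc.secFibre ((Scheme.Modules.pullback f).obj L) ξ, u ≠ 0 ∧
      ∀ (U : Y.Opens) (hU : f ξ ∈ U) (e : Γ(L, U)), IsFrame L U e →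
        ∃ a : Y.presheaf.stalk (f ξ), v = a • Submodule.Quotient.mk (L.presheaf.germ U (f ξ) hU e) ∧
          u = (show X.presheaf.stalk ξ from f.stalkMap ξ a) • Submodule.Quotient.mk
            (((Scheme.Modules.pullback f).obj L).presheaf.germ (f ⁻¹ᵁ U) ξ hU (Amp73.pullS f L U e)) := by
  obtain ⟨v₀, rfl⟩ := Submodule.Quotient.mk_surjective _ v
  obtain ⟨U₁, hξ₁, m, rfl⟩ := QC70.germM_exist v₀
  let u : Cyc.secFibre ((Scheme.Modules.pullback f).obj L) ξ := Submodule.Quotient.mk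
    (((Scheme.Modules.pullback f).obj L).presheaf.germ (f ⁻¹ᵁ U₁) ξ hξ₁ (Amp73.pullS f L U₁ m))
  have key : ∀ (U : Y.Opens) (hU : f ξ ∈ U) (e : Γ(L, U)), IsFrame L U e →
      ∃ a : Y.presheaf.stalk (f ξ), (Submodule.Quotient.mk (QC70.germM L U₁ (f ξ) hξ₁ m) :
          Cyc.secFibre L (f ξ)) = a • Submodule.Quotient.mk (L.presheaf.germ U (f ξ) hU e) ∧
        u = (show X.presheaf.stalk ξ from f.stalkMap ξ a) • Submodule.Quotient.mk
          (((Scheme.Modules.pullback f).obj L).presheaf.germ (f ⁻¹ᵁ U) ξ hU (Amp73.pullS f L U e)) := by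
    intro U hU e he
    let W : Y.Opens := U ⊓ U₁
    have hWU : W ≤ U := inf_le_left
    have hW₁ : W ≤ U₁ := inf_le_right
    have hW : f ξ ∈ W := ⟨hU, hξ₁⟩
    obtain ⟨a, ha⟩ := (he W hWU).2 (res L hW₁ m)
    dsimp only at ha
    refine ⟨Y.presheaf.germ W (f ξ) hW a, ?_, ?_⟩
    · rw [← Submodule.Quotient.mk_smul]
      refine congrArg (Submodule.Quotient.mk (p := _)) ?_
      have := congrArg (L.presheaf.germ W (f ξ) hW) ha
      rw [Mero.germ_smul, TopCat.Presheaf.germ_res_apply, TopCat.Presheaf.germ_res_apply] at this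
      exact this.symm
    · rw [show (show X.presheaf.stalk ξ from f.stalkMap ξ (Y.presheaf.germ W (f ξ) hW a)) =
        X.presheaf.germ (f ⁻¹ᵁ W) ξ hW (f.app W a) from Scheme.Hom.germ_stalkMap_apply f W ξ hW a,
        ← Submodule.Quotient.mk_smul]
      refine congrArg (Submodule.Quotient.mk (p := _)) ?_
      have h2 := congrArg (Amp73.pullS f L W) ha
      rw [Amp73.pullS_smul, ← Amp73.res_pullS f L hWU e, ← Amp73.res_pullS f L hW₁ m] at h2
      have := congrArg (((Scheme.Modules.pullback f).obj L).presheaf.germ (f ⁻¹ᵁ W) ξ hW) h2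
      erw [Mero.germ_smul, TopCat.Presheaf.germ_res_apply, TopCat.Presheaf.germ_res_apply] at this
      exact this.symm
  refine ⟨u, fun h0 => ?_, key⟩
  obtain ⟨V, hV, e, he⟩ := Mero90.exists_frame' hL (f ξ)
  obtain ⟨a, h1, h2⟩ := key V hV e he
  have hu : IsUnit a :=
    (IsLocalRing.residue_ne_zero_iff_isUnit a).1 fun h => hv (h1.trans (smul_mk_eq_zero L h _))
  exact mk_germ_frame_ne_zero (Props58.PullTensor.isFrame_pullS f he) (ξ := ξ) hV
    ((hu.map (f.stalkMap ξ).hom).smul_eq_zero.1 (h2.symm.trans h0))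

/-- A chosen pullback of rational sections. -/
noncomputable def pullSec (f : X ⟶ Y) {L : Y.Modules} (hL : PicF.IsInvertible L)
    (v : (η : Y) → Cyc.secFibre L η) (hv : ∀ η, v η ≠ 0) (ξ : X) :
    Cyc.secFibre ((Scheme.Modules.pullback f).obj L) ξ :=
  Classical.choose (exists_pull_section f hL ξ (v (f ξ)) (hv _))

lemma pullSec_ne_zero (f : X ⟶ Y) {L : Y.Modules} (hL : PicF.IsInvertible L)
    (v : (η : Y) → Cyc.secFibre L η) (hv : ∀ η, v η ≠ 0) (ξ : X) : pullSec f hL v hv ξ ≠ 0 :=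
  (Classical.choose_spec (exists_pull_section f hL ξ (v (f ξ)) (hv _))).1

/-- Near a point the divisor of a rational section is principal, compatibly with pullback. -/
lemma secDivFun_local (f : X ⟶ Y) {δX : X → ℤ} {δY : Y → ℤ} (hX : Cyc.IsSetup X δX)
    (hY : Cyc.IsSetup Y δY) {L : Y.Modules} (hL : PicF.IsInvertible L)
    (v : (η : Y) → Cyc.secFibre L η) (hv : ∀ η, v η ≠ 0) (η y : Y) (hηy : η ⤳ y) :
    ∃ g : Y.residueField η, g ≠ 0 ∧ Cyc.secDivFun δY L η (v η) y = Cyc.divFun δY η g y ∧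
      ∀ (ξ x : X) (e : η = f ξ), f x = y →
        Cyc.secDivFun δX ((Scheme.Modules.pullback f).obj L) ξ (pullSec f hL v hv ξ) x =
          Cyc.divFun δX ξ (f.residueFieldMap ξ ((Y.residueFieldCongr e).hom g)) x := by
  obtain ⟨U, hyU, e₀, he⟩ := Mero90.exists_frame' hL y
  have hηU : η ∈ U := hηy.mem_open U.2 hyU
  obtain ⟨a, ha⟩ : ∃ a : Y.presheaf.stalk η,
      v η = a • Submodule.Quotient.mk (L.presheaf.germ U η hηU e₀) :=
    secFibre_exists_smul hL _ _ (mk_germ_frame_ne_zero he hηU)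
  have hne : Y.residue η a ≠ 0 := fun h0 => hv η (ha.trans (smul_mk_eq_zero L h0 _))
  refine ⟨Y.residue η a, hne, ?_, fun ξ x e hxy => ?_⟩
  · unfold Cyc.secDivFun Cyc.divFun
    split_ifs with h
    · exact secOrdAt_eq L hY h.1 h.2 _ (hv η) _ (span_germ_frame he hyU) a
        (by rw [TopCat.Presheaf.germ_stalkSpecializes_apply]; exact ha)
    · rfl
  · subst e
    obtain ⟨b, hb, hu⟩ := (Classical.choose_spec (exists_pull_section f hL ξ (v (f ξ)) (hv _))).2 U hηU e₀ he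
    have hab : Y.residue (f ξ) a = Y.residue (f ξ) b :=
      residue_eq_of_smul_eq L (ha.symm.trans hb) (mk_germ_frame_ne_zero he hηU)
    unfold Cyc.secDivFun Cyc.divFun
    split_ifs with h
    · subst hxy
      rw [secOrdAt_eq _ hX h.1 h.2 _ (pullSec_ne_zero f hL v hv ξ) _
        (span_germ_frame (Props58.PullTensor.isFrame_pullS f he) (x := x) (show x ∈ f ⁻¹ᵁ U from hyU))
        (show X.presheaf.stalk ξ from f.stalkMap ξ b)
        (by erw [TopCat.Presheaf.germ_stalkSpecializes_apply]; exact hu)]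
      congr 1
      simp only [Scheme.residueFieldCongr_refl, Iso.refl_hom, CommRingCat.id_apply]
      rw [hab]
      exact (congr($(Scheme.residue_residueFieldMap f ξ).hom b)).symm
    · rfl

/-- Flat pullback of a cycle as a cycle. -/
noncomputable def pullCycle (f : X ⟶ Y) {δX : X → ℤ} {δY : Y → ℤ} (hX : Cyc.IsSetup X δX) {c : ℤ}
    (hc : ShiftAt f δX δY c) (α : AlgebraicCycle Y ℤ) : AlgebraicCycle X ℤ where
  toFun := Cyc.pullFun f δX δY c ⇑α
  supportWithinDomain' := by simp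
  supportLocallyFiniteWithinDomain' x _ := by
    have := hX.1
    obtain ⟨t, ht, hfin⟩ := α.supportLocallyFiniteWithinDomain' (f x) trivial
    choose N hN hxN hNfin using fun η => exists_nhd_finite_over f η x
    refine ⟨f ⁻¹' t ∩ ⋂ η ∈ hfin.toFinset, N η, Filter.inter_mem
      (f.continuous.continuousAt.preimage_mem_nhds ht)
      ((Filter.biInter_finset_mem _).2 fun η _ => (hN η).mem_nhds (hxN η)), ?_⟩
    refine (hfin.toFinset.finite_toSet.biUnion fun η _ => hNfin η).subset ?_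
    rintro z ⟨⟨hzt, hzN⟩, hz⟩
    simp only [Function.mem_support, Cyc.pullFun] at hz
    split_ifs at hz with h
    · have hmem : f z ∈ hfin.toFinset := hfin.mem_toFinset.2 ⟨hzt, left_ne_zero_of_mul hz⟩
      exact Set.mem_biUnion hmem ⟨⟨rfl, fun w hw hwz => (delta_le_of_shift f hX.2.2 hc z).2 h w hw hwz⟩,
        Set.mem_iInter₂.1 hzN _ hmem⟩
    · exact absurd rfl hz

lemma pullCycle_mem (f : X ⟶ Y) {δX : X → ℤ} {δY : Y → ℤ} (hX : Cyc.IsSetup X δX) {c : ℤ}
    (hc : ShiftAt f δX δY c) {k : ℤ} {α : AlgebraicCycle Y ℤ} (hα : α ∈ Cyc.Zk Y δY k) :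
    pullCycle f hX hc α ∈ Cyc.Zk X δX (k + c) := fun x hx => by
  change Cyc.pullFun f δX δY c ⇑α x = 0
  unfold Cyc.pullFun
  split_ifs with h
  · rw [hα (f x) (fun e => hx (by omega)), zero_mul]
  · rfl

/-- Flat pullback commutes with capping with the first Chern class. -/
theorem pullFun_c1Cap (f : X ⟶ Y) [Flat f] {δX : X → ℤ} {δY : Y → ℤ} (hX : Cyc.IsSetup X δX)
    (hY : Cyc.IsSetup Y δY) {c : ℤ} (hc : ShiftAt f δX δY c) {L : Y.Modules} (hL : PicF.IsInvertible L)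
    (α : AlgebraicCycle Y ℤ) (v : (η : Y) → Cyc.secFibre L η) (hv : ∀ η, v η ≠ 0) :
    Cyc.pullFun f δX δY c (Cyc.c1CapFun δY L ⇑α v) =
      Cyc.c1CapFun δX ((Scheme.Modules.pullback f).obj L) ⇑(pullCycle f hX hc α) (pullSec f hL v hv) := by
  classical
  funext x
  have := hX.1
  obtain ⟨t, ht, hfin⟩ := α.supportLocallyFiniteWithinDomain' (f x) trivial
  obtain ⟨U, hUt, hU, hxU⟩ := mem_nhds_iff.1 ht
  let T : Set Y := {η | α η ≠ 0 ∧ η ⤳ f x}
  have hT : T.Finite := hfin.subset fun η hη => ⟨hUt (hη.2.mem_open hU hxU), hη.1⟩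
  choose N hN hxN hNfin using fun η => exists_nhd_finite_over f η x
  let E : Y → Set X := fun η => {ξ | f ξ = η ∧ (∀ w, f w = η → w ⤳ ξ → w = ξ) ∧ ξ ⤳ x}
  have hE : ∀ η, (E η).Finite := fun η =>
    (hNfin η).subset fun ξ hξ => ⟨⟨hξ.1, hξ.2.1⟩, hξ.2.2.mem_open (hN η) (hxN η)⟩
  let S : X → ℤ := fun ξ => Cyc.pullFun f δX δY c ⇑α ξ *
    Cyc.secDivFun δX ((Scheme.Modules.pullback f).obj L) ξ (pullSec f hL v hv ξ) x
  have hR : ∑ᶠ ξ, S ξ = ∑ᶠ η ∈ T, ∑ᶠ ξ ∈ E η, S ξ := by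
    rw [← finsum_mem_biUnion ?_ hT fun η _ => hE η, ← finsum_mem_univ]
    · refine finsum_mem_inter_support_eq' _ _ _ fun ξ hξ => ?_
      simp only [Set.mem_univ, true_iff, Set.mem_iUnion]
      have h1 : Cyc.pullFun f δX δY c ⇑α ξ ≠ 0 := left_ne_zero_of_mul hξ
      have h2 := right_ne_zero_of_mul (Function.mem_support.1 hξ)
      unfold Cyc.secDivFun at h2
      split_ifs at h2 with hh
      swap
      · exact absurd rfl h2
      unfold Cyc.pullFun at h1
      split_ifs at h1 with hd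
      swap
      · exact absurd rfl h1
      exact ⟨f ξ, ⟨left_ne_zero_of_mul h1, hh.1.map f.continuous⟩, rfl,
        (delta_le_of_shift f hX.2.2 hc ξ).2 hd, hh.1⟩
    · exact fun a _ b _ hab => Set.disjoint_left.2 fun z ha hb => hab (ha.1.symm.trans hb.1)
  change _ = ∑ᶠ ξ, S ξ
  rw [hR]
  have hL' : Cyc.c1CapFun δY L ⇑α v (f x) = ∑ᶠ η ∈ T, α η * Cyc.secDivFun δY L η (v η) (f x) := by
    rw [Cyc.c1CapFun, ← finsum_mem_univ]
    refine finsum_mem_inter_support_eq' _ _ _ fun η hη => ?_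
    have h2 := right_ne_zero_of_mul (Function.mem_support.1 hη)
    unfold Cyc.secDivFun at h2
    split_ifs at h2 with hh
    · exact ⟨fun _ => ⟨left_ne_zero_of_mul (Function.mem_support.1 hη), hh.1⟩, fun _ => trivial⟩
    · exact absurd rfl h2
  have hterm : ∀ η ∈ T, Cyc.pullFun f δX δY c (Cyc.secDivFun δY L η (v η)) x * α η =
      ∑ᶠ ξ ∈ E η, S ξ := by
    intro η hη
    obtain ⟨g, hg, hg1, hg2⟩ := secDivFun_local f hX hY hL v hv η (f x) hη.2
    rw [show Cyc.pullFun f δX δY c (Cyc.secDivFun δY L η (v η)) x =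
        Cyc.pullFun f δX δY c (Cyc.divFun δY η g) x by unfold Cyc.pullFun; rw [hg1],
      pullFun_divFun_point hX hY f hc η g hg x, finsum_mul]
    · rw [← finsum_subtype_eq_finsum_cond (f := fun ξ => S ξ) (fun ξ => ξ ∈ E η)]
      let P : Set X := {ξ | f ξ = η ∧ ∀ w, f w = η → w ⤳ ξ → w = ξ}
      have hterm2 : ∀ ξ : {ξ : X // f ξ = η ∧ ∀ w, f w = η → w ⤳ ξ → w = ξ},
          ((Module.length (X.presheaf.stalk ξ.1) (X.presheaf.stalk ξ.1 ⧸
            (maximalIdeal (Y.presheaf.stalk (f ξ.1))).map (f.stalkMap ξ.1).hom)).toNat : ℤ) *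
          Cyc.divFun δX ξ.1 (f.residueFieldMap ξ.1 ((Y.residueFieldCongr ξ.2.1.symm).hom g)) x * α η =
          S ξ.1 := fun ξ => by
        have hd : δX ξ.1 = δY (f ξ.1) + c := hc ξ.1 fun w hw hws => ξ.2.2 w (hw.trans ξ.2.1) hws
        rw [← hg2 ξ.1 x ξ.2.1.symm rfl]
        simp only [S, Cyc.pullFun, if_pos hd]
        rw [show α (f ξ.1) = α η from congrArg _ ξ.2.1]
        ring
      rw [finsum_congr hterm2]
      refine (finsum_subtype_eq_finsum_cond (f := fun ξ => S ξ) (fun ξ => ξ ∈ P)).trans ?_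
      refine (finsum_mem_inter_support_eq' S P (E η) fun ξ hξ => ?_).trans
        (finsum_subtype_eq_finsum_cond (f := fun ξ => S ξ) (fun ξ => ξ ∈ E η)).symm
      have h2 := right_ne_zero_of_mul (Function.mem_support.1 hξ)
      unfold Cyc.secDivFun at h2
      split_ifs at h2 with hh
      · exact ⟨fun h => ⟨h.1, h.2, hh.1⟩, fun h => ⟨h.1, h.2.1⟩⟩
      · exact absurd rfl h2
  rw [← finsum_mem_congr rfl hterm]
  unfold Cyc.pullFun
  by_cases hd : δX x = δY (f x) + c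
  · simp only [if_pos hd]
    rw [hL', finsum_mem_eq_finite_toFinset_sum _ hT, finsum_mem_eq_finite_toFinset_sum _ hT, Finset.sum_mul]
    exact Finset.sum_congr rfl fun η _ => by ring
  · simp only [if_neg hd, zero_mul]
    exact (finsum_mem_eq_zero_of_forall_eq_zero fun η _ => rfl).symm

theorem ratEquiv_pullFun_c1Cap (f : X ⟶ Y) [Flat f] {δX : X → ℤ} {δY : Y → ℤ} (hX : Cyc.IsSetup X δX)
    (hY : Cyc.IsSetup Y δY) {c : ℤ} (hc : ShiftAt f δX δY c) {L : Y.Modules} (hL : PicF.IsInvertible L)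
    (k : ℤ) (α : AlgebraicCycle Y ℤ) (hα : α ∈ Cyc.Zk Y δY k)
    (v : (η : Y) → Cyc.secFibre L η) (hv : ∀ η, v η ≠ 0)
    (u : (ξ : X) → Cyc.secFibre ((Scheme.Modules.pullback f).obj L) ξ) (hu : ∀ ξ, u ξ ≠ 0)
    (γ₁ γ₂ : AlgebraicCycle X ℤ) (h₁ : ⇑γ₁ = Cyc.pullFun f δX δY c (Cyc.c1CapFun δY L ⇑α v))
    (h₂ : ⇑γ₂ = Cyc.c1CapFun δX ((Scheme.Modules.pullback f).obj L) (Cyc.pullFun f δX δY c ⇑α) u) :
    Cyc.RatEquiv δX (k + c - 1) γ₁ γ₂ := by
  refine ratEquiv_of_c1CapFun hX (Amp73.isInvertible_pullback f hL) (k + c - 1) (pullCycle f hX hc α) ?_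
    _ u (fun ξ _ => pullSec_ne_zero f hL v hv ξ) (fun ξ _ => hu ξ) γ₁ γ₂
    (h₁.trans (pullFun_c1Cap f hX hY hc hL α v hv)) h₂
  rw [sub_add_cancel]
  exact pullCycle_mem f hX hc hα

end Groth.Agent.Cyc90
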