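import Groth.Agent.Cyc90.ClosureSub
import Groth.Agent.Cyc90.PushDivCollapse
import Groth.Agent.E4O.OpenDim
import Mathlib.RingTheory.Norm.Basic

/-! Pushforward of an arbitrary principal divisor along a proper morphism. -/

set_option autoImplicit false
universe u

open CategoryTheory AlgebraicGeometry TopologicalSpace IsLocalRing

namespace Groth.Agent.Cyc90

variable {X Y Z W : Scheme.{u}}

lemma square_residue (i : Z ⟶ X) (j : W ⟶ Y) (q : Z ⟶ W) (p : X ⟶ Y) (h : q ≫ j = i ≫ p) (z : Z) :
    ∃ hz : j (q z) = p (i z),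
      (j.residueFieldMap (q z) ≫ q.residueFieldMap z) =
        (Y.residueFieldCongr hz).hom ≫ p.residueFieldMap (i z) ≫ i.residueFieldMap z := by
  refine ⟨congrArg (fun k : Z ⟶ Y => k z) h, ?_⟩
  rw [← Scheme.residueFieldMap_comp, Scheme.Hom.residueFieldMap_congr h z, Scheme.residueFieldMap_comp]
  rfl

section
variable (i : Z ⟶ X) [IsClosedImmersion i] (j : W ⟶ Y) [IsClosedImmersion j] (q : Z ⟶ W) (p : X ⟶ Y)
  (h : q ≫ j = i ≫ p)

include h in
/-- The identification of the residue field extensions in a square with closed immersions. -/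
lemma exists_residue_equiv (z : Z) :
    ∃ (hz : j (q z) = p (i z)) (eY : Y.residueField (p (i z)) ≃+* W.residueField (q z))
      (eX : X.residueField (i z) ≃+* Z.residueField z),
      (∀ a, eX a = (i.residueFieldMap z).hom a) ∧
      (∀ a, eY a = (j.residueFieldMap (q z)).hom ((Y.residueFieldCongr hz).inv a)) ∧
      (q.residueFieldMap z).hom.comp eY.toRingHom = eX.toRingHom.comp (p.residueFieldMap (i z)).hom := by
  obtain ⟨hz, e⟩ := square_residue i j q p h z
  let eX : X.residueField (i z) ≃+* Z.residueField z := RingEquiv.ofBijective (i.residueFieldMap z).hom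
    ⟨RingHom.injective _, residueFieldMap_surjective i z⟩
  let eJ : Y.residueField (j (q z)) ≃+* W.residueField (q z) :=
    RingEquiv.ofBijective (j.residueFieldMap (q z)).hom
      ⟨RingHom.injective _, residueFieldMap_surjective j (q z)⟩
  let eY := (Y.residueFieldCongr hz).symm.commRingCatIsoToRingEquiv.trans eJ
  refine ⟨hz, eY, eX, fun a => rfl, fun a => rfl, RingHom.ext fun a => ?_⟩
  change (q.residueFieldMap z).hom ((j.residueFieldMap (q z)).hom ((Y.residueFieldCongr hz).inv a)) =
    (i.residueFieldMap z).hom ((p.residueFieldMap (i z)).hom a)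
  refine (congr($(e).hom ((Y.residueFieldCongr hz).inv a))).trans ?_
  change (i.residueFieldMap z).hom ((p.residueFieldMap (i z)).hom
    ((Y.residueFieldCongr hz).hom ((Y.residueFieldCongr hz).inv a))) = _
  rw [Iso.inv_hom_id_apply]

include h in
lemma residueDegree_square (z : Z) : q.residueDegree z = p.residueDegree (i z) := by
  obtain ⟨hz, eY, eX, -, -, hc⟩ := exists_residue_equiv i j q p h z
  rw [Scheme.Hom.residueDegree, Scheme.Hom.residueDegree]
  letI := (q.residueFieldMap z).hom.toAlgebra
  letI := (p.residueFieldMap (i z)).hom.toAlgebra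
  exact (Algebra.finrank_eq_of_equiv_equiv eY eX hc).symm

include h in
lemma deltaCompat_square {δX : X → ℤ} {δY : Y → ℤ} (hδ : Cyc.DeltaCompat p δX δY) :
    Cyc.DeltaCompat q (fun z => δX (i z)) (fun w => δY (j w)) := fun z => by
  obtain ⟨hz, eY, eX, -, -, hc⟩ := exists_residue_equiv i j q p h z
  obtain ⟨n, hn, hd⟩ := hδ (i z)
  refine ⟨n, ?_, by simpa [hz] using hd⟩
  letI := (q.residueFieldMap z).hom.toAlgebra
  letI := (p.residueFieldMap (i z)).hom.toAlgebra
  exact (E4O.trdeg_eq_of_ringEquiv eY eX hc).symm.trans hn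

lemma divFun_congr_point {δ : Y → ℤ} {a b : Y} (e : a = b) (g : Y.residueField b) :
    Cyc.divFun δ b g = Cyc.divFun δ a ((Y.residueFieldCongr e).inv g) := by
  subst e
  simp

include h in
lemma map_divFun_square [IsIntegral Z] [IsIntegral W] [IsProper q] [IsProper p]
    {δX : X → ℤ} {δY : Y → ℤ} (hX : Cyc.IsSetup X δX) (hY : Cyc.IsSetup Y δY)
    (hδ : Cyc.DeltaCompat p δX δY) (hdom : q (genericPoint Z) = genericPoint W)
    (ξ : X) (hξ : i (genericPoint Z) = ξ) (g : X.residueField ξ) (hg : g ≠ 0)
    (α : AlgebraicCycle X ℤ) (hα : ⇑α = Cyc.divFun δX ξ g) :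
    ⇑(AlgebraicCycle.map p δX δY α) =
      if δX ξ = δY (p ξ) then Cyc.divFun δY (p ξ) (Cyc.normGen p ξ g) else 0 := by
  subst hξ
  let δZ : Z → ℤ := fun z => δX (i z)
  let δW : W → ℤ := fun w => δY (j w)
  have hZ : Cyc.IsSetup Z δZ := isSetup_closedImmersion i hX
  have hW : Cyc.IsSetup W δW := isSetup_closedImmersion j hY
  have hq : Cyc.DeltaCompat q δZ δW := deltaCompat_square i j q p h hδ
  obtain ⟨hz, eY, eX, heX, heY, hc⟩ := exists_residue_equiv i j q p h (genericPoint Z)
  let g' : Z.residueField (genericPoint Z) := eX g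
  have hg' : g' ≠ 0 := eX.map_ne_zero_iff.2 hg
  let α' := restrictClosed i α
  have hα' : ⇑α' = Cyc.divFun δZ (genericPoint Z) g' := funext fun z => by
    rw [restrictClosed_apply, hα, divFun_closedImmersion i hX (genericPoint Z) z g hg]
    exact congrArg (fun t => Cyc.divFun δZ (genericPoint Z) t z) (heX g).symm
  have hsupp : ∀ x, α x ≠ 0 → x ∈ Set.range i := fun x hx => by
    rw [hα] at hx
    unfold Cyc.divFun at hx
    split_ifs at hx with h1
    · have hmem : i (genericPoint Z) ∈ Set.range i := ⟨(genericPoint Z), rfl⟩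
      exact i.isClosedEmbedding.isClosed_range.stableUnderSpecialization h1.1 hmem
    · exact absurd rfl hx
  -- coefficients
  have hcoef : ∀ y, AlgebraicCycle.map p δX δY α y =
      ∑ᶠ z ∈ {z : Z | j (q z) = y}, α' z * (if δZ z = δW (q z) then (q.residueDegree z : ℤ) else 0) := by
    intro y
    rw [map_apply_eq]
    have hset : {z : Z | j (q z) = y} = i ⁻¹' (p ⁻¹' {y}) := by
      ext z
      obtain ⟨hz, -⟩ := square_residue i j q p h z
      simp [hz]
    rw [hset, ← finsum_mem_inter_support, ← finsum_mem_inter_support (s := i ⁻¹' (p ⁻¹' {y}))]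
    symm
    refine finsum_mem_eq_of_bijOn i ⟨?_, i.isClosedEmbedding.injective.injOn, ?_⟩ ?_
    · rintro z ⟨hzy, hzs⟩
      refine ⟨hzy, ?_⟩
      obtain ⟨hz', -⟩ := square_residue i j q p h z
      have hdeg := residueDegree_square i j q p h z
      simpa [α', restrictClosed_apply, δZ, δW, hz', hdeg] using hzs
    · rintro x ⟨hxy, hxs⟩
      obtain ⟨z, rfl⟩ := hsupp x (left_ne_zero_of_mul (Function.mem_support.1 hxs))
      refine ⟨z, ⟨hxy, ?_⟩, rfl⟩
      obtain ⟨hz', -⟩ := square_residue i j q p h z
      have hdeg := residueDegree_square i j q p h z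
      simpa [α', restrictClosed_apply, δZ, δW, hz', hdeg] using hxs
    · intro z _
      obtain ⟨hz', -⟩ := square_residue i j q p h z
      have hdeg := residueDegree_square i j q p h z
      simp [α', restrictClosed_apply, δZ, δW, hz', hdeg]
  have hW' : ∀ w, AlgebraicCycle.map q δZ δW α' w = AlgebraicCycle.map p δX δY α (j w) := fun w => by
    rw [hcoef, map_apply_eq]
    refine finsum_mem_congr ?_ fun z _ => rfl
    ext z
    simp [j.isClosedEmbedding.injective.eq_iff]
  funext y
  by_cases hy : y ∈ Set.range j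
  · obtain ⟨w, rfl⟩ := hy
    rw [← hW']
    by_cases hn : δX (i (genericPoint Z)) = δY (p (i (genericPoint Z)))
    · rw [if_pos hn]
      have hn' : δZ (genericPoint Z) = δW (genericPoint W) := by
        rw [← hdom]; simpa [δZ, δW, hz] using hn
      have hWeq := congrFun (map_divFun_eq_divFun_norm hZ hW q hq hdom hn' g' hg' α' hα') w
      rw [hWeq, divFun_congr_point hz]
      have hnorm0 : Cyc.normGen p (i (genericPoint Z)) g ≠ 0 := by
        letI := (p.residueFieldMap (i (genericPoint Z))).hom.toAlgebra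
        have : Module.Finite (Y.residueField (p (i (genericPoint Z)))) (X.residueField (i (genericPoint Z))) :=
          finite_residueFieldMap_of_delta_eq p hδ (i (genericPoint Z)) hn
        exact Algebra.norm_ne_zero_iff.2 hg
      rw [divFun_closedImmersion j hY (q (genericPoint Z)) w _ ((map_ne_zero_iff _ (RingHom.injective _)).2 hnorm0),
        ← heY]
      congr 1
      letI := (q.residueFieldMap (genericPoint Z)).hom.toAlgebra
      letI := (p.residueFieldMap (i (genericPoint Z))).hom.toAlgebra
      change Algebra.norm (W.residueField (q (genericPoint Z))) g' = eY (Algebra.norm (Y.residueField (p (i (genericPoint Z)))) g)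
      rw [Algebra.norm_eq_of_equiv_equiv eY eX hc g, RingEquiv.apply_symm_apply]
    · rw [if_neg hn]
      have hn' : δZ (genericPoint Z) ≠ δW (genericPoint W) := by
        rw [← hdom]; simpa [δZ, δW, hz] using hn
      rw [map_divFun_eq_zero hZ hW q hq hdom hn' g' hg' α' hα']
      rfl
  · rw [hcoef, show {z : Z | j (q z) = y} = ∅ from Set.eq_empty_of_forall_notMem fun z hz => hy ⟨q z, hz⟩,
      finsum_mem_empty]
    split_ifs
    · unfold Cyc.divFun
      rw [dif_neg]
      rintro ⟨h1, -⟩
      refine hy (j.isClosedEmbedding.isClosed_range.stableUnderSpecialization h1 ⟨q (genericPoint Z), hz⟩)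
    · rfl

end

/-- Pushforward of a principal divisor along a proper morphism. -/
theorem map_divFun (p : X ⟶ Y) [IsProper p] {δX : X → ℤ} {δY : Y → ℤ} (hX : Cyc.IsSetup X δX)
    (hY : Cyc.IsSetup Y δY) (hδ : Cyc.DeltaCompat p δX δY) (ξ : X) (g : X.residueField ξ) (hg : g ≠ 0)
    (α : AlgebraicCycle X ℤ) (hα : ⇑α = Cyc.divFun δX ξ g) :
    ⇑(AlgebraicCycle.map p δX δY α) =
      if δX ξ = δY (p ξ) then Cyc.divFun δY (p ξ) (Cyc.normGen p ξ g) else 0 := by
  refine map_divFun_square (clι ξ) (clι (p ξ)) (clMap p ξ) p (clMap_ι p ξ) hX hY hδ ?_ ξ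
    (clι_genericPoint ξ) g hg α hα
  refine (clι (p ξ)).isClosedEmbedding.injective ?_
  rw [clι_genericPoint, ← Scheme.Hom.comp_apply, clMap_ι, Scheme.Hom.comp_apply, clι_genericPoint]

end Groth.Agent.Cyc90
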