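import Groth.Agent.Cyc90.PullDivGeneral
import Groth.Agent.Cyc90.PushDivGeneral
import Groth.Agent.Cyc90.PushLen

/-! Flat pullback commutes with closed immersions; flat pullback of principal divisors. -/

set_option autoImplicit false
universe u

open CategoryTheory CategoryTheory.Limits AlgebraicGeometry TopologicalSpace IsLocalRing

namespace Groth.Agent.Cyc90

variable {X Y W : Scheme.{u}}

/-- The fibre of a point lies in every closed subscheme containing it: on local rings. -/
lemma ker_fst_stalkMap_le (f : X ⟶ Y) (j : W ⟶ Y) [IsClosedImmersion j] (p : ↑(pullback f j)) :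
    RingHom.ker ((pullback.fst f j).stalkMap p).hom ≤
      (maximalIdeal (Y.presheaf.stalk (f (pullback.fst f j p)))).map
        (f.stalkMap (pullback.fst f j p)).hom := by
  set x := pullback.fst f j p with hx
  let J := (maximalIdeal (Y.presheaf.stalk (f x))).map (f.stalkMap x).hom
  have hJ : J ≤ maximalIdeal _ := Ideal.map_le_iff_le_comap.2 (IsLocalRing.maximalIdeal_comap _).ge
  have : Nontrivial (X.presheaf.stalk x ⧸ J) :=
    Ideal.Quotient.nontrivial_iff.2 (ne_top_of_le_ne_top (maximalIdeal.isMaximal _).ne_top hJ)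
  have : IsLocalRing (X.presheaf.stalk x ⧸ J) :=
    IsLocalRing.of_surjective' _ Ideal.Quotient.mk_surjective
  let R := CommRingCat.of (X.presheaf.stalk x ⧸ J)
  let q : X.presheaf.stalk x ⟶ R := CommRingCat.ofHom (Ideal.Quotient.mk J)
  have : IsLocalHom q.hom :=
    IsLocalHom.of_surjective (Ideal.Quotient.mk J) Ideal.Quotient.mk_surjective
  have hw : j (pullback.snd f j p) = f x :=
    congrArg (fun k : pullback f j ⟶ Y => k p) pullback.condition.symm
  let φ : Y.residueField (f x) ⟶ R := CommRingCat.ofHom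
    (Ideal.Quotient.lift (maximalIdeal (Y.presheaf.stalk (f x)))
      ((Ideal.Quotient.mk J).comp (f.stalkMap x).hom) fun a ha =>
        Ideal.Quotient.eq_zero_iff_mem.2 (Ideal.mem_map_of_mem _ ha))
  have hφ : f.stalkMap x ≫ q = Y.residue (f x) ≫ φ := rfl
  have : IsIso (j.residueFieldMap (pullback.snd f j p)) := (ConcreteCategory.isIso_iff_bijective _).mpr
    ⟨RingHom.injective _, residueFieldMap_surjective j _⟩
  let b : Spec R ⟶ W :=
    Spec.map ((inv (j.residueFieldMap (pullback.snd f j p)) ≫ (Y.residueFieldCongr hw).hom) ≫ φ) ≫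
      W.fromSpecResidueField (pullback.snd f j p)
  have hcomm : (Spec.map q ≫ X.fromSpecStalk x) ≫ f = b ≫ j := by
    rw [Category.assoc, ← Scheme.SpecMap_stalkMap_fromSpecStalk, ← Spec.map_comp_assoc, hφ,
      Spec.map_comp, Category.assoc]
    simp only [b, Spec.map_comp, Category.assoc]
    rw [← Scheme.Hom.SpecMap_residueFieldMap_fromSpecResidueField,
      ← Spec.map_comp_assoc (j.residueFieldMap _) (inv _), IsIso.hom_inv_id, Spec.map_id,
      Category.id_comp, Scheme.residueFieldCongr_fromSpecResidueField]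
    rfl
  let l := pullback.lift _ _ hcomm
  have hl : l ≫ pullback.fst f j = Spec.map q ≫ X.fromSpecStalk x := pullback.lift_fst _ _ _
  have hcp : l (closedPoint R) = p := by
    refine (pullback.fst f j).isClosedEmbedding.injective ?_
    refine (congrArg (fun k : Spec R ⟶ X => k (closedPoint R)) hl).trans ?_
    change X.fromSpecStalk x (Spec.map q (closedPoint R)) = x
    rw [show Spec.map q (closedPoint R) = closedPoint (X.presheaf.stalk x) from
      IsLocalRing.comap_closedPoint q.hom, Scheme.fromSpecStalk_closedPoint]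
  obtain ⟨ψ, hψ⟩ : ∃ ψ : (pullback f j).presheaf.stalk p ⟶ R,
      l = Spec.map ψ ≫ (pullback f j).fromSpecStalk p :=
    hcp ▸ ⟨_, (Scheme.Spec_stalkClosedPointTo_fromSpecStalk l).symm⟩
  have hq : (pullback.fst f j).stalkMap p ≫ ψ = q := by
    refine Spec.map_injective ((cancel_mono (X.fromSpecStalk x)).1 ?_)
    rw [Spec.map_comp, Category.assoc, Scheme.SpecMap_stalkMap_fromSpecStalk, ← hl, hψ, Category.assoc]
  intro a ha
  refine Ideal.Quotient.eq_zero_iff_mem.1 ?_
  have := congr($(hq).hom a)
  exact this.symm.trans ((congrArg ψ.hom (RingHom.mem_ker.1 ha)).trans (map_zero _))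

/-- Multiplicities of fibres are unchanged by closed base change. -/
lemma length_fibre_closed (f : X ⟶ Y) (j : W ⟶ Y) [IsClosedImmersion j] (p : ↑(pullback f j)) :
    Module.length ((pullback f j).presheaf.stalk p) ((pullback f j).presheaf.stalk p ⧸
      (maximalIdeal (W.presheaf.stalk (pullback.snd f j p))).map
        ((pullback.snd f j).stalkMap p).hom) =
    Module.length (X.presheaf.stalk (pullback.fst f j p)) (X.presheaf.stalk (pullback.fst f j p) ⧸
      (maximalIdeal (Y.presheaf.stalk (f (pullback.fst f j p)))).map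
        (f.stalkMap (pullback.fst f j p)).hom) := by
  let σ := ((pullback.fst f j).stalkMap p).hom
  let J := (maximalIdeal (Y.presheaf.stalk (f (pullback.fst f j p)))).map
        (f.stalkMap (pullback.fst f j p)).hom
  have hσ : Function.Surjective σ := (pullback.fst f j).stalkMap_surjective p
  have hindep : ∀ g g' : pullback f j ⟶ Y, g = g' →
      (maximalIdeal (Y.presheaf.stalk (g p))).map (g.stalkMap p).hom =
        (maximalIdeal (Y.presheaf.stalk (g' p))).map (g'.stalkMap p).hom := fun g g' e => by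
    subst e; rfl
  have hmap : J.map σ = (maximalIdeal (W.presheaf.stalk (pullback.snd f j p))).map
      ((pullback.snd f j).stalkMap p).hom := by
    have h := hindep _ _ (pullback.condition (f := f) (g := j))
    rw [Scheme.Hom.stalkMap_comp, Scheme.Hom.stalkMap_comp] at h
    change (maximalIdeal (Y.presheaf.stalk (f (pullback.fst f j p)))).map
        (((pullback.fst f j).stalkMap p).hom.comp (f.stalkMap (pullback.fst f j p)).hom) =
      (maximalIdeal (Y.presheaf.stalk (j (pullback.snd f j p)))).map
        (((pullback.snd f j).stalkMap p).hom.comp (j.stalkMap (pullback.snd f j p)).hom) at h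
    rw [← Ideal.map_map, ← Ideal.map_map] at h
    refine h.trans (congrArg (Ideal.map _) ?_)
    have hs : Function.Surjective (j.stalkMap (pullback.snd f j p)).hom := j.stalkMap_surjective _
    have : IsLocalHom (j.stalkMap (pullback.snd f j p)).hom := j.toLRSHom.prop _
    refine le_antisymm (Ideal.map_le_iff_le_comap.2 (IsLocalRing.maximalIdeal_comap _).ge) ?_
    rw [← Ideal.map_comap_of_surjective _ hs (maximalIdeal (W.presheaf.stalk _)),
      IsLocalRing.maximalIdeal_comap]
  have hk : RingHom.ker σ ≤ J := ker_fst_stalkMap_le f j p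
  rw [← hmap]
  refine (length_eq_of_semilinear σ hσ (AddEquiv.ofBijective (Ideal.quotientMap (J.map σ) σ Ideal.le_comap_map).toAddMonoidHom
    ⟨?_, Ideal.quotientMap_surjective (H := Ideal.le_comap_map) hσ⟩) fun a m => ?_).symm
  · refine Ideal.quotientMap_injective' (H := Ideal.le_comap_map) ?_
    rw [Ideal.comap_map_of_surjective _ hσ, ← RingHom.ker_eq_comap_bot, sup_eq_left.2 hk]
  · obtain ⟨m, rfl⟩ := Ideal.Quotient.mk_surjective m
    exact congrArg (Ideal.Quotient.mk (J.map σ)) (map_mul σ a m)

/-- Flat pullback commutes with closed immersions. -/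
theorem pullFun_closed (f : X ⟶ Y) (j : W ⟶ Y) [IsClosedImmersion j] (δX : X → ℤ) (δY : Y → ℤ) (c : ℤ)
    (α : Y → ℤ) (p : ↑(pullback f j)) :
    Cyc.pullFun f δX δY c α (pullback.fst f j p) =
      Cyc.pullFun (pullback.snd f j) (fun z => δX (pullback.fst f j z)) (fun w => δY (j w)) c
        (fun w => α (j w)) p := by
  have hw : f (pullback.fst f j p) = j (pullback.snd f j p) :=
    congrArg (fun k : pullback f j ⟶ Y => k p) pullback.condition
  unfold Cyc.pullFun
  simp only [length_fibre_closed f j p, hw]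

lemma shiftAt_closed (f : X ⟶ Y) (j : W ⟶ Y) [IsClosedImmersion j] {δX : X → ℤ} {δY : Y → ℤ} {c : ℤ}
    (hc : ShiftAt f δX δY c) :
    ShiftAt (pullback.snd f j) (fun z => δX (pullback.fst f j z)) (fun w => δY (j w)) c := by
  intro p hp
  have hw : ∀ z : ↑(pullback f j), f (pullback.fst f j z) = j (pullback.snd f j z) := fun z =>
    congrArg (fun k : pullback f j ⟶ Y => k z) pullback.condition
  dsimp only
  rw [hc (pullback.fst f j p) fun w hw1 hws => ?_, hw]
  obtain ⟨z, rfl⟩ : w ∈ Set.range (pullback.fst f j) := by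
    rw [Scheme.Pullback.range_fst]
    exact ⟨pullback.snd f j p, (hw p).symm.trans hw1.symm⟩
  refine congrArg _ (hp z (j.isClosedEmbedding.injective ?_) ?_)
  · rw [← hw, ← hw, hw1]
  · exact (pullback.fst f j).isClosedEmbedding.isInducing.specializes_iff.1 hws

lemma residue_square_congr {P : Scheme.{u}} (i : P ⟶ X) (j : W ⟶ Y) (q : P ⟶ W) (f : X ⟶ Y)
    (h : q ≫ j = i ≫ f) (z : P) (w : W) (e : q z = w) (e' : j w = f (i z)) (g : Y.residueField (j w)) :
    (i.residueFieldMap z).hom ((f.residueFieldMap (i z)).hom ((Y.residueFieldCongr e').hom g)) =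
      (q.residueFieldMap z).hom ((W.residueFieldCongr e.symm).hom ((j.residueFieldMap w).hom g)) := by
  subst e
  obtain ⟨_, he⟩ := square_residue i j q f h z
  refine (congr($(he).hom g)).symm.trans ?_
  simp

open Classical in
lemma pullFun_divFun_closed [IsIntegral W] {δX : X → ℤ} {δY : Y → ℤ} (hX : Cyc.IsSetup X δX)
    (hY : Cyc.IsSetup Y δY) (f : X ⟶ Y) [Flat f] {c : ℤ} (hc : ShiftAt f δX δY c) (j : W ⟶ Y)
    [IsClosedImmersion j] (g : Y.residueField (j (genericPoint W))) (hg : g ≠ 0) (x : X) :
    Cyc.pullFun f δX δY c (Cyc.divFun δY (j (genericPoint W)) g) x =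
      ∑ᶠ η : {η : X // f η = j (genericPoint W) ∧ ∀ w, f w = j (genericPoint W) → w ⤳ η → w = η},
        ((Module.length (X.presheaf.stalk η.1) (X.presheaf.stalk η.1 ⧸
          (maximalIdeal (Y.presheaf.stalk (f η.1))).map (f.stalkMap η.1).hom)).toNat : ℤ) *
        Cyc.divFun δX η.1 (f.residueFieldMap η.1 ((Y.residueFieldCongr η.2.1.symm).hom g)) x := by
  set T : Set X := Set.range (pullback.fst f j) with hT
  have hTc : IsClosed T := (pullback.fst f j).isClosedEmbedding.isClosed_range
  have hTmem : ∀ y : X, y ∈ T ↔ f y ∈ Set.range j := fun y => by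
    rw [hT, Scheme.Pullback.range_fst]; rfl
  have hw : ∀ z : ↑(pullback f j), j (pullback.snd f j z) = f (pullback.fst f j z) := fun z =>
    (congrArg (fun k : pullback f j ⟶ Y => k z) pullback.condition).symm
  by_cases hx : x ∈ T
  swap
  · rw [finsum_eq_zero_of_forall_eq_zero fun η => ?_]
    · unfold Cyc.pullFun Cyc.divFun
      split_ifs with h1 h2
      · exact absurd ((hTmem x).2 (h2.1.mem_closed j.isClosedEmbedding.isClosed_range ⟨_, rfl⟩)) hx
      all_goals simp
    · rw [Cyc.divFun, dif_neg fun h => hx (h.1.mem_closed hTc ((hTmem _).2 ⟨_, η.2.1.symm⟩)), mul_zero]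
  obtain ⟨p, rfl⟩ := hx
  have hW := isSetup_closedImmersion j hY
  have hP := isSetup_closedImmersion (pullback.fst f j) hX
  have := hW.1
  have hflat : Flat (pullback.snd f j) := inferInstance
  have hg0 : (j.residueFieldMap (genericPoint W)).hom g ≠ 0 := (map_ne_zero _).2 hg
  rw [pullFun_closed f j δX δY c _ p,
    show (fun w => Cyc.divFun δY (j (genericPoint W)) g (j w)) =
      Cyc.divFun (fun w => δY (j w)) (genericPoint W) ((j.residueFieldMap (genericPoint W)).hom g) from
      funext fun w => divFun_closedImmersion j hY _ w g hg,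
    pullFun_divFun_sum hP hW (pullback.snd f j) (shiftAt_closed f j hc) _ hg0 p]
  have hmax : ∀ z : {z : ↑(pullback f j) // (∀ x', x' ⤳ z → x' = z) ∧
      pullback.snd f j z = genericPoint W},
      f (pullback.fst f j z.1) = j (genericPoint W) ∧ ∀ w, f w = j (genericPoint W) →
        w ⤳ pullback.fst f j z.1 → w = pullback.fst f j z.1 := fun z =>
    ⟨by rw [← hw, z.2.2], fun w hw1 hws => by
      obtain ⟨v, rfl⟩ : w ∈ T := (hTmem w).2 ⟨_, hw1.symm⟩
      exact congrArg _ (z.2.1 v ((pullback.fst f j).isClosedEmbedding.isInducing.specializes_iff.1 hws))⟩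
  refine finsum_eq_of_bijective (fun z => ⟨pullback.fst f j z.1, hmax z⟩) ⟨fun a b e => ?_, fun η => ?_⟩
    fun z => ?_
  · exact Subtype.ext ((pullback.fst f j).isClosedEmbedding.injective (congrArg Subtype.val e))
  · obtain ⟨z, hz⟩ : η.1 ∈ T := (hTmem _).2 ⟨_, η.2.1.symm⟩
    have hgen : pullback.snd f j z = genericPoint W :=
      j.isClosedEmbedding.injective (by rw [hw, hz, η.2.1])
    refine ⟨⟨z, fun v hv => ?_, hgen⟩, Subtype.ext hz⟩
    have hv1 : pullback.snd f j v = genericPoint W :=
      ((hgen ▸ hv.map (pullback.snd f j).continuous).antisymm (gen_specializes _)).eq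
    refine (pullback.fst f j).isClosedEmbedding.injective ?_
    refine (η.2.2 _ (by rw [← hw, hv1]) ?_).trans hz.symm
    rw [← hz]; exact hv.map (pullback.fst f j).continuous
  · dsimp only
    have hlen : Module.length ((pullback f j).presheaf.stalk z.1) ((pullback f j).presheaf.stalk z.1) =
        Module.length (X.presheaf.stalk (pullback.fst f j z.1)) (X.presheaf.stalk (pullback.fst f j z.1) ⧸
          (maximalIdeal (Y.presheaf.stalk (f (pullback.fst f j z.1)))).map
            (f.stalkMap (pullback.fst f j z.1)).hom) := by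
      rw [← length_fibre_closed f j z.1]
      have h0 : maximalIdeal (W.presheaf.stalk (pullback.snd f j z.1)) = ⊥ := by
        rw [z.2.2]; exact IsLocalRing.isField_iff_maximalIdeal_eq.1 (Field.toIsField _)
      rw [h0, Ideal.map_bot]
      exact ((Submodule.quotEquivOfEqBot
        (⊥ : Submodule ((pullback f j).presheaf.stalk z.1) ((pullback f j).presheaf.stalk z.1)) rfl)).length_eq.symm
    rw [hlen]
    congr 1
    have hg1 : (f.residueFieldMap (pullback.fst f j z.1)).hom
        ((Y.residueFieldCongr (hmax z).1.symm).hom g) ≠ 0 :=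
      (map_ne_zero _).2 fun e => hg (by simpa using congrArg (Y.residueFieldCongr (hmax z).1.symm).inv e)
    refine Eq.trans ?_ (divFun_closedImmersion (pullback.fst f j) hX z.1 p _ hg1).symm
    rw [residue_square_congr (pullback.fst f j) j (pullback.snd f j) f pullback.condition.symm z.1 _
      z.2.2 (hmax z).1.symm g]

/-- Flat pullback of the principal divisor of a rational function on an integral closed subscheme. -/
theorem pullFun_divFun_point {δX : X → ℤ} {δY : Y → ℤ} (hX : Cyc.IsSetup X δX) (hY : Cyc.IsSetup Y δY)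
    (f : X ⟶ Y) [Flat f] {c : ℤ} (hc : ShiftAt f δX δY c) (ξ : Y) (g : Y.residueField ξ) (hg : g ≠ 0)
    (x : X) :
    Cyc.pullFun f δX δY c (Cyc.divFun δY ξ g) x =
      ∑ᶠ η : {η : X // f η = ξ ∧ ∀ w, f w = ξ → w ⤳ η → w = η},
        ((Module.length (X.presheaf.stalk η.1) (X.presheaf.stalk η.1 ⧸
          (maximalIdeal (Y.presheaf.stalk (f η.1))).map (f.stalkMap η.1).hom)).toNat : ℤ) *
        Cyc.divFun δX η.1 (f.residueFieldMap η.1 ((Y.residueFieldCongr η.2.1.symm).hom g)) x := by
  suffices ∀ ξ' (_ : clι ξ (genericPoint (cl ξ)) = ξ') (g : Y.residueField ξ'), g ≠ 0 →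
      Cyc.pullFun f δX δY c (Cyc.divFun δY ξ' g) x =
      ∑ᶠ η : {η : X // f η = ξ' ∧ ∀ w, f w = ξ' → w ⤳ η → w = η},
        ((Module.length (X.presheaf.stalk η.1) (X.presheaf.stalk η.1 ⧸
          (maximalIdeal (Y.presheaf.stalk (f η.1))).map (f.stalkMap η.1).hom)).toNat : ℤ) *
        Cyc.divFun δX η.1 (f.residueFieldMap η.1 ((Y.residueFieldCongr η.2.1.symm).hom g)) x from
    this ξ (clι_genericPoint ξ) g hg
  intro ξ' e g hg
  subst e
  exact pullFun_divFun_closed hX hY f hc (clι ξ) g hg x

end Groth.Agent.Cyc90
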