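import Groth.Agent.Cyc90.PullRat
import Groth.Agent.Cyc90.PullClosed
import Groth.Agent.Cyc90.PushLen
import Groth.Agent.Cyc90.C1Pull
import Mathlib.AlgebraicGeometry.AffineTransitionLimit

/-! Points of limits of schemes with affine transition maps. -/

set_option autoImplicit false
universe u

open CategoryTheory CategoryTheory.Limits AlgebraicGeometry TopologicalSpace IsLocalRing Opposite

namespace Groth.Agent.Cyc90

section Fibre

variable {X Y : Scheme.{u}} (f : X ⟶ Y)

set_option maxHeartbeats 2000000 in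
-- the instance search through stalks is slow
lemma map_maximalIdeal_le (x : X) :
    (maximalIdeal (Y.presheaf.stalk (f x))).map (f.stalkMap x).hom ≤ maximalIdeal _ :=
  Ideal.map_le_iff_le_comap.2 (IsLocalRing.maximalIdeal_comap _).ge

set_option maxHeartbeats 2000000 in
-- the instance search through stalks is slow
/-- A generization in the same fibre gives a prime over the fibre ideal. -/
lemma map_maximalIdeal_le_genPrime {x w : X} (h : w ⤳ x) (hw : f w = f x) :
    (maximalIdeal (Y.presheaf.stalk (f x))).map (f.stalkMap x).hom ≤ (genPrime h).asIdeal := by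
  have key : ∀ p : PrimeSpectrum (X.presheaf.stalk x),
      f (X.fromSpecStalk x p) = Y.fromSpecStalk (f x) (p.comap (f.stalkMap x).hom) := fun p =>
    (congrArg (fun k : _ ⟶ Y => k p) (Scheme.SpecMap_stalkMap_fromSpecStalk f (x := x))).symm
  have hclosed : Y.fromSpecStalk (f x) (closedPoint (Y.presheaf.stalk (f x))) = f x :=
    Scheme.fromSpecStalk_closedPoint
  refine Ideal.map_le_iff_le_comap.2 (le_of_eq ?_)
  have h1 : (genPrime h).comap (f.stalkMap x).hom = closedPoint (Y.presheaf.stalk (f x)) := by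
    refine (Y.fromSpecStalk (f x)).isEmbedding.injective ?_
    refine (key _).symm.trans (((congrArg f (fromSpecStalk_genPrime h)).trans hw).trans ?_)
    exact hclosed.symm
  exact (congrArg PrimeSpectrum.asIdeal h1).symm

lemma fibre_max_of_map_eq {x : X}
    (h : (maximalIdeal (Y.presheaf.stalk (f x))).map (f.stalkMap x).hom = maximalIdeal _) :
    ∀ w, f w = f x → w ⤳ x → w = x := by
  intro w hw hwx
  have h1 := map_maximalIdeal_le_genPrime f hwx hw
  rw [h] at h1
  have h2 : genPrime hwx = closedPoint (X.presheaf.stalk x) :=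
    PrimeSpectrum.ext ((maximalIdeal.isMaximal _).eq_of_le (genPrime hwx).2.ne_top h1).symm
  rw [← fromSpecStalk_genPrime hwx, h2]
  exact Scheme.fromSpecStalk_closedPoint

lemma length_fibre_eq_one {x : X}
    (h : (maximalIdeal (Y.presheaf.stalk (f x))).map (f.stalkMap x).hom = maximalIdeal _) :
    (Module.length (X.presheaf.stalk x) (X.presheaf.stalk x ⧸
      (maximalIdeal (Y.presheaf.stalk (f x))).map (f.stalkMap x).hom)).toNat = 1 := by
  have : IsSimpleModule (X.presheaf.stalk x) (X.presheaf.stalk x ⧸ maximalIdeal (X.presheaf.stalk x)) :=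
    isSimpleModule_iff_isCoatom.2 (Ideal.isMaximal_def.1 (maximalIdeal.isMaximal _))
  rw [h, Module.length_eq_one]
  rfl

lemma length_fibre_ne_zero [IsLocallyNoetherian X] {x : X} (hmax : ∀ w, f w = f x → w ⤳ x → w = x) :
    (Module.length (X.presheaf.stalk x) (X.presheaf.stalk x ⧸
      (maximalIdeal (Y.presheaf.stalk (f x))).map (f.stalkMap x).hom)).toNat ≠ 0 := by
  let A := X.presheaf.stalk x
  let J := (maximalIdeal (Y.presheaf.stalk (f x))).map (f.stalkMap x).hom
  have hJ : J ≤ maximalIdeal A := map_maximalIdeal_le f x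
  have : Nontrivial (A ⧸ J) :=
    Ideal.Quotient.nontrivial_iff.2 fun h => (maximalIdeal.isMaximal A).ne_top (eq_top_iff.2 (h ▸ hJ))
  have hprime : ∀ P : Ideal A, P.IsPrime → J ≤ P → P = maximalIdeal A := fun P hP hJP => by
    let p : PrimeSpectrum A := ⟨P, hP⟩
    let w := X.fromSpecStalk x p
    have hwx : w ⤳ x := fromSpecStalk_specializes p
    have hfw : f w = f x := by
      have h1 : p.comap (f.stalkMap x).hom = closedPoint (Y.presheaf.stalk (f x)) :=
        PrimeSpectrum.ext ((maximalIdeal.isMaximal _).eq_of_le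
          (Ideal.comap_ne_top _ hP.ne_top) (Ideal.map_le_iff_le_comap.1 hJP)).symm
      refine (congrArg (fun k : _ ⟶ Y => k p) (Scheme.SpecMap_stalkMap_fromSpecStalk f (x := x))).symm.trans ?_
      exact (congrArg (fun q => Y.fromSpecStalk (f x) q) h1).trans Scheme.fromSpecStalk_closedPoint
    have he : p = closedPoint A := (X.fromSpecStalk x).isEmbedding.injective
      ((hmax w hfw hwx).trans Scheme.fromSpecStalk_closedPoint.symm)
    exact congrArg PrimeSpectrum.asIdeal he
  have : Ring.KrullDimLE 0 (A ⧸ J) := Ring.KrullDimLE.mk₀ fun P hP => by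
    have h := hprime (P.comap (Ideal.Quotient.mk J)) (hP.comap _) (fun a ha => by
      simp only [Ideal.mem_comap, Ideal.Quotient.eq_zero_iff_mem.2 ha, zero_mem])
    have h2 : P = (maximalIdeal A).map (Ideal.Quotient.mk J) := by
      rw [← h, Ideal.map_comap_of_surjective _ Ideal.Quotient.mk_surjective]
    exact (Ideal.map_eq_top_or_isMaximal_of_surjective _ Ideal.Quotient.mk_surjective
      (maximalIdeal.isMaximal A)).resolve_left (fun htop => hP.ne_top (h2.trans htop)) |> (h2 ▸ ·)
  have : IsNoetherianRing A := inferInstanceAs (IsNoetherianRing (X.presheaf.stalk x))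
  have : IsArtinianRing (A ⧸ J) := IsNoetherianRing.isArtinianRing_of_krullDimLE_zero
  have e : Module.length A (A ⧸ J) = Module.length (A ⧸ J) (A ⧸ J) :=
    length_eq_of_semilinear (Ideal.Quotient.mk J) Ideal.Quotient.mk_surjective (AddEquiv.refl _) fun a m => by
      obtain ⟨m, rfl⟩ := Ideal.Quotient.mk_surjective m
      rfl
  have hfin : Module.length A (A ⧸ J) ≠ ⊤ := by rw [e]; exact Module.length_ne_top
  have hpos : Module.length A (A ⧸ J) ≠ 0 := (Module.length_pos (R := A) (M := A ⧸ J)).ne'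
  intro h0
  rcases ENat.toNat_eq_zero.1 h0 with h | h
  · exact hpos h
  · exact hfin h

end Fibre

section Limit

variable {J : Type u} [Category.{u} J] [IsCofiltered J] {D : J ⥤ Scheme.{u}} {c : Cone D} (hc : IsLimit c)
  [∀ {i j} (f : i ⟶ j), IsAffineHom (D.map f)]

omit [∀ {i j} (f : i ⟶ j), IsAffineHom (D.map f)] in
lemma π_map_apply {i j : J} (f : j ⟶ i) (x : c.pt) : D.map f (c.π.app j x) = c.π.app i x :=
  congrArg (fun k : c.pt ⟶ D.obj i => k x) (c.w f)

include hc in
/-- Points of the limit are separated by the projections. -/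
lemma exists_π_ne {x y : c.pt} (hxy : x ≠ y) : ∃ i, c.π.app i x ≠ c.π.app i y := by
  by_contra! H
  have key : ∀ U : c.pt.Opens, ∀ x y : c.pt, (∀ i, c.π.app i x = c.π.app i y) → x ∈ U → y ∈ U := by
    intro U x y H hx
    obtain ⟨_, ⟨V, ⟨i, W, hW, hWV⟩, rfl⟩, hxV, hVU⟩ :=
      (isBasis_preimage_isAffineOpen D c hc).exists_subset_of_mem_open hx U.2
    refine hVU ?_
    subst hWV
    change c.π.app i y ∈ W
    rw [← H i]
    exact hxV
  exact hxy (Inseparable.eq (inseparable_iff_forall_isOpen.2 fun U hU =>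
    ⟨key ⟨U, hU⟩ x y H, key ⟨U, hU⟩ y x fun i => (H i).symm⟩))

include hc in
/-- Every element of a stalk of the limit comes from some stage. -/
lemma exists_stalk_preimage (x : c.pt) (a : c.pt.presheaf.stalk x) :
    ∃ i, a ∈ Set.range ((c.π.app i).stalkMap x) := by
  obtain ⟨U, hxU, s, rfl⟩ := c.pt.presheaf.germ_exist a
  obtain ⟨_, ⟨V, ⟨i, W, hW, hWV⟩, rfl⟩, hxV, hVU⟩ :=
    (isBasis_preimage_isAffineOpen D c hc).exists_subset_of_mem_open hxU U.2
  subst hWV
  have (j : Over i) : IsAffine ((opensDiagram D i W).obj j) := hW.preimage (D.map _)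
  let W' : c.pt.Opens := c.π.app i ⁻¹ᵁ W
  let x' : (W' : Scheme.{u}) := ⟨x, hxV⟩
  have htop : (⊤ : (W' : Scheme.{u}).Opens) ≤ W'.ι ⁻¹ᵁ U := fun z _ => hVU z.2
  let s' : Γ((W' : Scheme.{u}), ⊤) :=
    (W' : Scheme.{u}).presheaf.map (homOfLE htop).op (W'.ι.app U s)
  obtain ⟨j, t, ht⟩ := exists_appTop_π_eq_of_isAffine_of_isLimit _ _ (isLimitOpensCone D c hc i W) s'
  let V : (D.obj j.left).Opens := D.map j.hom ⁻¹ᵁ W
  let g : (W' : Scheme.{u}) ⟶ (V : Scheme.{u}) := (opensCone D c i W).π.app j
  let t' : Γ((V : Scheme.{u}), ⊤) := t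
  have ht' : g.appTop t' = s' := ht
  let a' : (W' : Scheme.{u}).presheaf.stalk x' := W'.ι.stalkMap x' (c.pt.presheaf.germ U x hxU s)
  have h1 : a' = g.stalkMap x' ((V : Scheme.{u}).presheaf.germ ⊤ (g x') (TopologicalSpace.Opens.mem_top _) t') := by
    rw [Scheme.Hom.germ_stalkMap_apply]
    have h2 : (W' : Scheme.{u}).presheaf.germ ⊤ x' (TopologicalSpace.Opens.mem_top _) s' = a' := by
      simp only [a', s']
      rw [TopCat.Presheaf.germ_res_apply]
      exact (Scheme.Hom.germ_stalkMap_apply W'.ι U x' hxU s).symm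
    rw [← h2, ← ht']
    rfl
  have hcomp : g ≫ V.ι = W'.ι ≫ c.π.app j.left := Scheme.Hom.resLE_comp_ι _ _
  have hmove : ∀ (k k' : (W' : Scheme.{u}) ⟶ D.obj j.left), k = k' →
      a' ∈ Set.range (k.stalkMap x') → a' ∈ Set.range (k'.stalkMap x') := fun k k' e h => e ▸ h
  have hmem : a' ∈ Set.range ((g ≫ V.ι).stalkMap x') := by
    let b := (V : Scheme.{u}).presheaf.germ ⊤ (g x') (TopologicalSpace.Opens.mem_top _) t'
    obtain ⟨b', hb'⟩ := (ConcreteCategory.bijective_of_isIso (V.ι.stalkMap (g x'))).2 b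
    refine ⟨b', ?_⟩
    rw [Scheme.Hom.stalkMap_comp]
    exact (congrArg (g.stalkMap x') hb').trans h1.symm
  obtain ⟨b, hb⟩ := hmove _ _ hcomp hmem
  refine ⟨j.left, b, (ConcreteCategory.bijective_of_isIso (W'.ι.stalkMap x')).1 ?_⟩
  rw [Scheme.Hom.stalkMap_comp] at hb
  exact hb

/-- The range of stalk maps grows along the diagram. -/
lemma range_stalkMap_mono {i j : J} (f : j ⟶ i) (x : c.pt) :
    Set.range ((c.π.app i).stalkMap x) ⊆ Set.range ((c.π.app j).stalkMap x) := by
  intro a ha
  have h : a ∈ Set.range ((c.π.app j ≫ D.map f).stalkMap x) := by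
    have hmove : ∀ (k k' : c.pt ⟶ D.obj i), k = k' →
        a ∈ Set.range (k.stalkMap x) → a ∈ Set.range (k'.stalkMap x) := fun k k' e h => e ▸ h
    exact hmove _ _ (c.w f).symm ha
  obtain ⟨b, hb⟩ := h
  rw [Scheme.Hom.stalkMap_comp] at hb
  exact ⟨_, hb⟩

include hc in
/-- The maximal ideal of a point of the limit comes from some stage. -/
lemma exists_map_maximalIdeal_eq [IsLocallyNoetherian c.pt] (x : c.pt) :
    ∃ i, ∀ (j : J) (_ : j ⟶ i),
      (maximalIdeal ((D.obj j).presheaf.stalk (c.π.app j x))).map ((c.π.app j).stalkMap x).hom =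
        maximalIdeal (c.pt.presheaf.stalk x) := by
  classical
  obtain ⟨S, hS⟩ := (inferInstance : IsNoetherian (c.pt.presheaf.stalk x) (c.pt.presheaf.stalk x)).noetherian
    (maximalIdeal (c.pt.presheaf.stalk x))
  choose i hi using fun a => exists_stalk_preimage hc x a
  obtain ⟨k, hk⟩ := IsCofiltered.inf_objs_exists (S.image i)
  refine ⟨k, fun j f => le_antisymm (map_maximalIdeal_le _ x) ?_⟩
  conv_lhs => rw [← hS]
  refine Submodule.span_le.2 fun a ha => ?_
  obtain ⟨g⟩ := hk (Finset.mem_image_of_mem i ha)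
  obtain ⟨b, hb⟩ := range_stalkMap_mono (f ≫ g) x (hi a)
  have ha' : a ∈ maximalIdeal (c.pt.presheaf.stalk x) := hS.le (Submodule.subset_span ha)
  rw [← hb]
  refine Ideal.mem_map_of_mem _ ?_
  rw [IsLocalRing.mem_maximalIdeal, mem_nonunits_iff] at ha' ⊢
  exact fun hu => ha' (hb ▸ hu.map ((c.π.app j).stalkMap x).hom)

end Limit

lemma finite_support_of_compactSpace {X : Scheme.{u}} [CompactSpace X] (α : AlgebraicCycle X ℤ) :
    (Function.support α).Finite := by
  have := LocallyFiniteSupport.finite_inter_support_of_isCompact (f := (α : X → ℤ))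
    (fun z => α.supportLocallyFiniteWithinDomain' z trivial) isCompact_univ
  rwa [Set.univ_inter] at this

end Groth.Agent.Cyc90
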