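import Groth.Agent.Cyc90.Gen
import Mathlib.AlgebraicGeometry.Noetherian
import Mathlib.RingTheory.Ideal.MinimalPrime.Localization

/-! Maximal points (generic points of irreducible components). -/

universe u

open CategoryTheory AlgebraicGeometry TopologicalSpace

namespace Groth.Agent.Cyc90

variable {X : Scheme.{u}}

/-- Every point has a maximal generization. -/
lemma exists_maximal (x : X) : ∃ ξ, ξ ⤳ x ∧ ∀ w, w ⤳ ξ → w = ξ := by
  obtain ⟨ξ, hξ⟩ := QuasiSober.sober (irreducibleComponent_mem_irreducibleComponents x).1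
    isClosed_irreducibleComponent
  refine ⟨ξ, hξ.specializes mem_irreducibleComponent, fun w hw => ?_⟩
  have h1 : irreducibleComponent x ⊆ closure {w} := by rw [← hξ.def]; exact hw.closure_subset
  have h2 : irreducibleComponent x = closure {w} :=
    le_antisymm h1 ((irreducibleComponent_mem_irreducibleComponents x).2
      isIrreducible_singleton.closure h1)
  exact (isGenericPoint_closure (x := w)).eq (h2 ▸ hξ)

/-- An affine open of a locally Noetherian scheme has finitely many maximal points. -/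
lemma finite_maximal [IsLocallyNoetherian X] {U : X.Opens} (hU : IsAffineOpen U) :
    {ξ : X | ξ ∈ U ∧ ∀ w, w ⤳ ξ → w = ξ}.Finite := by
  have := IsLocallyNoetherian.component_noetherian ⟨U, hU⟩
  refine Set.Finite.subset ((Set.Finite.preimage (f := PrimeSpectrum.asIdeal)
    (fun _ _ _ _ e => PrimeSpectrum.ext e)
    (minimalPrimes.finite_of_isNoetherianRing Γ(X, U))).image hU.fromSpec.base) ?_
  rintro ξ ⟨hξU, hξ⟩
  refine ⟨hU.primeIdealOf ⟨ξ, hξU⟩, ?_, hU.fromSpec_primeIdealOf _⟩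
  refine ⟨⟨(hU.primeIdealOf ⟨ξ, hξU⟩).isPrime, bot_le⟩, fun q hq hle => ?_⟩
  have hsp : (hU.fromSpec.base ⟨q, hq.1⟩ : X) ⤳ ξ := by
    have h := ((PrimeSpectrum.le_iff_specializes ⟨q, hq.1⟩ (hU.primeIdealOf ⟨ξ, hξU⟩)).mp hle).map
      hU.fromSpec.continuous
    rwa [hU.fromSpec_primeIdealOf] at h
  have he : (⟨q, hq.1⟩ : PrimeSpectrum Γ(X, U)) = hU.primeIdealOf ⟨ξ, hξU⟩ :=
    hU.fromSpec.isOpenEmbedding.injective
      ((hξ _ hsp).trans (hU.fromSpec_primeIdealOf ⟨ξ, hξU⟩).symm)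
  exact (congrArg PrimeSpectrum.asIdeal he).ge

/-- Near `x`, all maximal points generize `x`. -/
lemma exists_nhd_maximal_specializes [IsLocallyNoetherian X] (x : X) :
    ∃ U : X.Opens, x ∈ U ∧ ∀ ξ, ξ ∈ U → (∀ w, w ⤳ ξ → w = ξ) → ξ ⤳ x := by
  obtain ⟨_, ⟨V, hV, rfl⟩, hxV, -⟩ :=
    X.isBasis_affineOpens.exists_subset_of_mem_open (Set.mem_univ x) isOpen_univ
  let bad := {ξ : X | (ξ ∈ V ∧ ∀ w, w ⤳ ξ → w = ξ) ∧ ¬ ξ ⤳ x}
  have hc : IsClosed (⋃ ξ ∈ bad, closure ({ξ} : Set X)) :=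
    ((finite_maximal hV).subset fun ξ h => h.1).isClosed_biUnion fun _ _ => isClosed_closure
  refine ⟨V ⊓ ⟨_, hc.isOpen_compl⟩, ⟨hxV, fun hx => ?_⟩, fun ξ hξ hmax => by_contra fun hn => ?_⟩
  · obtain ⟨ξ, hξ, hx⟩ := Set.mem_iUnion₂.mp hx
    exact hξ.2 (specializes_iff_mem_closure.mpr hx)
  · exact hξ.2 (Set.mem_iUnion₂.mpr ⟨ξ, ⟨⟨hξ.1, hmax⟩, hn⟩, subset_closure rfl⟩)

end Groth.Agent.Cyc90
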