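import Groth.Agent.Cyc90.IsDimFunLft
import Groth.Agent.Cyc90.MaxPts
import Groth.Agent.CAlg1.Chain
import Groth.Agent.CAlg1.CMPoly

/-! Cohen–Macaulay local rings and dimension functions. -/

universe u

open CategoryTheory AlgebraicGeometry TopologicalSpace IsLocalRing

namespace Groth.Agent.Cyc90

theorem coverSucc_of_cm {A : Type u} [CommRing A] [IsNoetherianRing A] [IsLocalRing A]
    (h : LocCoh.IsCohenMacaulayLocalRing A) : EGA4H10.CoverSucc A := by
  intro p q hpq
  refine CAlg1.height_succ_of_covBy (M := A) (show LocCoh.IsCohenMacaulayModule A A from h.supportDim_eq_depth)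
    (Set.eq_univ_of_forall fun x => ?_) hpq
  rw [Module.mem_support_iff_of_finite]
  intro r hr
  rw [Module.mem_annihilator] at hr
  have := hr 1
  rw [smul_eq_mul, mul_one] at this
  exact this ▸ zero_mem _

variable {X : Scheme.{u}}

lemma stalk_dim_eq_height {z x : X} (h : z ⤳ x) :
    ringKrullDim (X.presheaf.stalk z) = ((genPrime h).asIdeal.height : WithBot ℕ∞) := by
  let alg := (X.presheaf.stalkSpecializes h).hom.toAlgebra
  have := isLocalization_genPrime h
  exact IsLocalization.AtPrime.ringKrullDim_eq_height (genPrime h).asIdeal _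

/-- On a regular scheme minus the local dimension is a dimension function. -/
theorem isDimFun_neg_dim [IsLocallyNoetherian X] (hcm : ∀ s : X, LocCoh.IsCohenMacaulayLocalRing (X.presheaf.stalk s))
    (δ : X → ℤ) (hδ : ∀ s : X, ringKrullDim (X.presheaf.stalk s) = ((-δ s).toNat : WithBot ℕ∞) ∧ δ s ≤ 0) :
    Cyc.IsDimFun X δ := by
  intro x y h hne
  have hle := (genPrime_le_iff h (specializes_refl y)).mpr h
  have hlt : genPrime h < genPrime (specializes_refl y) :=
    lt_of_le_of_ne hle fun e => hne ((genPrime_eq_iff h (specializes_refl y)).mp e)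
  have hx : (genPrime h).asIdeal.height = ((-δ x).toNat : ℕ∞) := by
    have := (stalk_dim_eq_height h).symm.trans (hδ x).1
    exact_mod_cast this
  have hy : (genPrime (specializes_refl y)).asIdeal.height = ((-δ y).toNat : ℕ∞) := by
    have := (stalk_dim_eq_height (specializes_refl y)).symm.trans (hδ y).1
    exact_mod_cast this
  have h1 : (-δ x).toNat < (-δ y).toNat := by
    have := Ideal.height_strict_mono_of_isPrime (PrimeSpectrum.asIdeal_lt_asIdeal _ _ |>.mpr hlt)
    rw [hx, hy] at this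
    exact_mod_cast this
  have h2 := (hδ x).2
  have h3 := (hδ y).2
  refine ⟨by omega, fun himm => ?_⟩
  have hcov : genPrime h ⋖ genPrime (specializes_refl y) := by
    refine ⟨hlt, fun q hq1 hq2 => ?_⟩
    have hsp : ptOf q ⤳ y := fromSpecStalk_specializes q
    have hxz : x ⤳ ptOf q := by
      have := ptOf_specializes_of_le hq1.le
      rwa [ptOf_genPrime] at this
    rcases himm _ hxz hsp with e | e
    · exact hq1.ne (ptOf_injective y ((ptOf_genPrime h).trans e.symm))
    · exact hq2.ne (ptOf_injective y (e.trans (ptOf_genPrime _).symm))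
  have := coverSucc_of_cm (hcm y) _ _ hcov
  rw [hx, hy] at this
  have : (-δ y).toNat = (-δ x).toNat + 1 := by exact_mod_cast this
  omega

/-- A Cohen–Macaulay scheme is locally equidimensional. -/
theorem locally_equidim_of_cm {δ : X → ℤ} (hX : Cyc.IsSetup X δ)
    (hcm : ∀ x : X, LocCoh.IsCohenMacaulayLocalRing (X.presheaf.stalk x)) (x : X) :
    ∃ (U : X.Opens) (n : ℤ), x ∈ U ∧ ∀ ξ : X, ξ ∈ U → (∀ ξ' : X, ξ' ⤳ ξ → ξ' = ξ) → δ ξ = n := by
  have : IsLocallyNoetherian X := hX.1
  obtain ⟨U, hxU, hU⟩ := exists_nhd_maximal_specializes x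
  obtain ⟨d, hd⟩ : ∃ d : ℕ, ringKrullDim (X.presheaf.stalk x) = d := by
    obtain ⟨n, hn⟩ := ENat.ne_top_iff_exists.mp
      (Ideal.height_ne_top (I := maximalIdeal (X.presheaf.stalk x)) (maximalIdeal.isMaximal _).ne_top)
    exact ⟨n, by rw [← maximalIdeal_height_eq_ringKrullDim, ← hn]; rfl⟩
  refine ⟨U, δ x + d, hxU, fun ξ hξU hξ => ?_⟩
  have h := hU ξ hξU hξ
  have hmin : (genPrime h).asIdeal ∈ minimalPrimes (X.presheaf.stalk x) := by
    refine ⟨⟨(genPrime h).2, bot_le⟩, fun q hq hle => ?_⟩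
    have hle' : (⟨q, hq.1⟩ : PrimeSpectrum _) ≤ genPrime h := hle
    have hsp := ptOf_specializes_of_le hle'
    rw [ptOf_genPrime] at hsp
    have e := ptOf_injective x ((hξ _ hsp).trans (ptOf_genPrime h).symm)
    exact (congrArg PrimeSpectrum.asIdeal e).ge
  have he := EGA4H10.isEquidim_of_coverSucc (coverSucc_of_cm (hcm x)) _ hmin
  rw [hd, ← ker_specMap h] at he
  have h2 : (((δ ξ - δ x).toNat : ℕ) : WithBot ℕ∞) = d := (ringKrullDim_locQuot hX.2.2 h).symm.trans he
  have h3 : (δ ξ - δ x).toNat = d := by exact_mod_cast h2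
  have h4 := delta_le hX.2.2 h
  omega

end Groth.Agent.Cyc90
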