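import Groth.Agent.E4O.DimFormula
import Groth.Agent.EGA4H10.Catenary
import Groth.Agent.Cat58.Rings
import Groth.Prelude.Def_Found

/-! The dimension formula over universally catenary domains. -/

universe u

namespace Groth.Agent.Cyc90

open Groth.Agent.EGA4H10

theorem height_eq_length {A : Type u} [CommRing A] [IsDomain A] [IsNoetherianRing A]
    (hA : CAlg.IsCatenary A) (t : LTSeries (PrimeSpectrum A)) (ht : Saturated t)
    (hh : t.head.asIdeal = ⊥) : t.last.asIdeal.height = t.length := by
  rw [PrimeSpectrum.height_eq_orderHeight]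
  refine le_antisymm (Order.height_le fun l hl => ?_) (Order.length_le_height le_rfl)
  obtain ⟨b, hb, hbh, hbl⟩ := exists_saturated t.head l.head (show t.head.asIdeal ≤ _ by rw [hh]; exact bot_le)
  obtain ⟨s, hs, hsh, hsl, hlen⟩ := exists_refine l
  have key := hA.2 (RelSeries.smash b s (hbl.trans hsh.symm)) t (by rw [RelSeries.head_smash, hbh])
    (by rw [RelSeries.last_smash, hsl, hl]) (saturated_smash hb hs _) ht
  rw [RelSeries.smash_length] at key
  exact_mod_cast (show l.length ≤ t.length by omega)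

theorem height_comap_eq_add {A S : Type u} [CommRing A] [IsDomain A] [IsNoetherianRing A] [CommRing S]
    [IsDomain S] (hA : CAlg.IsCatenary A) (f : A →+* S) (hf : Function.Surjective f) (q : Ideal S) [q.IsPrime] :
    (q.comap f).height = (RingHom.ker f).height + q.height := by
  have : IsNoetherianRing S := isNoetherianRing_of_surjective A S f hf
  have hS := Cat58.isCatenary_of_surjective f hf hA
  have hK : (RingHom.ker f).IsPrime := RingHom.ker_isPrime f
  obtain ⟨t1, ht1, hh1, hl1⟩ := exists_saturated (⟨⊥, Ideal.isPrime_bot⟩ : PrimeSpectrum A) ⟨_, hK⟩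
    (show (⊥ : Ideal A) ≤ RingHom.ker f from bot_le)
  obtain ⟨t2, ht2, hh2, hl2⟩ := exists_saturated (⟨⊥, Ideal.isPrime_bot⟩ : PrimeSpectrum S) ⟨q, inferInstance⟩
    (show (⊥ : Ideal S) ≤ q from bot_le)
  let g : PrimeSpectrum S ↪o PrimeSpectrum A := OrderEmbedding.ofMapLEIff (PrimeSpectrum.comap f)
    fun a b => Ideal.comap_le_comap_iff_of_surjective f hf _ _
  have hconn : (Set.range g).OrdConnected := by
    rw [show Set.range g = Set.range (PrimeSpectrum.comap f) from rfl, range_comap_of_surjective _ f hf]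
    exact ⟨fun a ha b _ c hc x hx => hc.1 (ha hx)⟩
  let t2' : LTSeries (PrimeSpectrum A) := t2.map g g.strictMono
  have ht2' : Saturated t2' := fun i => (hconn.apply_covBy_apply_iff g).mpr (ht2 i)
  have hj : t1.last = t2'.head := by
    rw [hl1, LTSeries.head_map, hh2]
    exact PrimeSpectrum.ext (RingHom.ker_eq_comap_bot f)
  have e1 : (RingHom.ker f).height = t1.length := by
    have := height_eq_length hA t1 ht1 (by rw [hh1])
    rwa [hl1] at this
  have e2 : q.height = t2.length := by
    have := height_eq_length hS t2 ht2 (by rw [hh2])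
    rwa [hl2] at this
  have e3 := height_eq_length hA (RelSeries.smash t1 t2' hj) (saturated_smash ht1 ht2' hj)
    (by rw [RelSeries.head_smash, hh1])
  rw [RelSeries.last_smash, LTSeries.last_map, hl2, RelSeries.smash_length] at e3
  rw [e1, e2]
  exact e3.trans (by rw [show t2'.length = t2.length from rfl, Nat.cast_add])

/-- EGA IV 5.6: the dimension formula holds over universally catenary domains. -/
theorem height_add_trdeg_eq (R : Type u) [CommRing R] [IsDomain R]
    (hR : CAlg.IsUniversallyCatenary R) (S : Type u) [CommRing S] [IsDomain S] [Algebra R S]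
    [FaithfulSMul R S] [Algebra.FiniteType R S] (p : Ideal R) [p.IsPrime] (q : Ideal S) [q.IsPrime]
    [q.LiesOver p] :
    (q.height : Cardinal.{u}) + Algebra.trdeg (R ⧸ p) (S ⧸ q) =
      (p.height : Cardinal.{u}) + Algebra.trdeg R S := by
  have := hR.1
  obtain ⟨n, f, hf⟩ := Algebra.FiniteType.iff_quotient_mvPolynomial''.1 ‹Algebra.FiniteType R S›
  let A := MvPolynomial (Fin n) R
  let K : Ideal A := RingHom.ker f
  have hK : K.IsPrime := RingHom.ker_isPrime f
  let Q : Ideal A := q.comap f
  have hK0 : K.LiesOver (⊥ : Ideal R) := ⟨by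
    rw [Ideal.under_def]
    show (⊥ : Ideal R) = (RingHom.ker f.toRingHom).comap (algebraMap R A)
    rw [RingHom.comap_ker]
    rw [show f.toRingHom.comp (algebraMap R A) = algebraMap R S from f.comp_algebraMap]
    exact ((RingHom.injective_iff_ker_eq_bot _).1 (FaithfulSMul.algebraMap_injective R S)).symm⟩
  have hQp : Q.LiesOver p := ⟨by
    rw [Ideal.LiesOver.over (p := p) (P := q), Ideal.under_def, Ideal.under_def]
    ext r; simp [Q]⟩
  have h1 := E4O.height_add_trdeg_mvPolynomial R n p Q
  have h2 := E4O.height_add_trdeg_mvPolynomial R n (⊥ : Ideal R) K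
  have hb : (⊥ : Ideal R).height = 0 := by
    rw [Ideal.height_eq_zero_iff, IsDomain.minimalPrimes_eq_singleton_bot]; rfl
  rw [hb, Cardinal.ofENat_zero, zero_add] at h2
  have ht1 : Algebra.trdeg (R ⧸ p) (A ⧸ Q) = Algebra.trdeg (R ⧸ p) (S ⧸ q) := by
    let φ : A ⧸ Q →+* S ⧸ q := Ideal.quotientMap q f.toRingHom le_rfl
    have hb1 : Function.Bijective φ :=
      ⟨Ideal.quotientMap_injective, Ideal.quotientMap_surjective hf⟩
    exact (AlgEquiv.ofRingEquiv (f := RingEquiv.ofBijective φ hb1) (R := R ⧸ p) fun d => by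
      obtain ⟨r, rfl⟩ := Ideal.Quotient.mk_surjective d
      show Ideal.Quotient.mk q (f (algebraMap R A r)) = _
      rw [f.commutes]; rfl).trdeg_eq
  have ht2 : Algebra.trdeg (R ⧸ (⊥ : Ideal R)) (A ⧸ K) = Algebra.trdeg R S := by
    let e1 : (A ⧸ K) ≃ₐ[R] S := Ideal.quotientKerAlgEquivOfSurjective hf
    let ι : R →+* R ⧸ (⊥ : Ideal R) := Ideal.Quotient.mk ⊥
    have hbij : Function.Bijective ι :=
      ⟨(RingHom.injective_iff_ker_eq_bot _).2 Ideal.mk_ker, Ideal.Quotient.mk_surjective⟩
    rw [← e1.trdeg_eq]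
    have : Algebra.IsAlgebraic R (R ⧸ (⊥ : Ideal R)) :=
      ⟨fun x => by obtain ⟨r, rfl⟩ := Ideal.Quotient.mk_surjective x; exact isAlgebraic_algebraMap r⟩
    have : FaithfulSMul R (R ⧸ (⊥ : Ideal R)) := (faithfulSMul_iff_algebraMap_injective _ _).2 hbij.1
    have := trdeg_add_eq R (R ⧸ (⊥ : Ideal R)) (A := A ⧸ K)
    rw [trdeg_eq_zero, zero_add] at this
    exact this
  rw [ht1] at h1
  rw [ht2] at h2
  have hQ : Q.height = K.height + q.height :=
    height_comap_eq_add (hR.2 A inferInstance) f.toRingHom hf q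
  have hKfin : K.height ≠ ⊤ := Ideal.height_ne_top hK.ne_top
  lift K.height to ℕ using hKfin with k hk
  rw [hQ, Cardinal.ofENat_add, Cardinal.ofENat_nat, add_assoc] at h1
  rw [Cardinal.ofENat_nat] at h2
  refine Cardinal.eq_of_add_eq_add_left ?_ (Cardinal.natCast_lt_aleph0 (n := k))
  rw [h1, ← h2, add_left_comm]

end Groth.Agent.Cyc90
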