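import Groth.Prelude.Def_Cyc
import Groth.Agent.LimTop61.DvrDense
import Mathlib.AlgebraicGeometry.IdealSheaf.Subscheme
import Mathlib.RingTheory.DiscreteValuationRing.Basic
import Mathlib.RingTheory.FiniteLength
import Mathlib.RingTheory.Length

/-! Schematic images of quasi-compact open immersions have the same top cycle. -/

set_option autoImplicit false
set_option backward.isDefEq.respectTransparency.types false
universe u

open CategoryTheory CategoryTheory.Limits AlgebraicGeometry

namespace Groth.Agent.Cyc90.ImageGen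

/-- A point with a local ring of finite length has no proper generalization. -/
lemma eq_of_specializes_of_length_ne_top {X : Scheme.{u}} {z y : X} (h : y ⤳ z)
    (hl : Module.length (X.presheaf.stalk z) (X.presheaf.stalk z) ≠ ⊤) : y = z := by
  have : IsArtinianRing (X.presheaf.stalk z) :=
    (isFiniteLength_iff_isNoetherian_isArtinian.mp (Module.length_ne_top_iff.mp hl)).2
  have hy : y ∈ Set.range (X.fromSpecStalk z) := Scheme.range_fromSpecStalk.symm ▸ h
  obtain ⟨p, rfl⟩ := hy
  have hp : p = IsLocalRing.closedPoint (X.presheaf.stalk z) :=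
    PrimeSpectrum.ext (IsLocalRing.eq_maximalIdeal inferInstance)
  rw [hp]
  exact Scheme.fromSpecStalk_closedPoint

lemma isOpenImmersion_toImage {A B : Scheme.{u}} (α : A ⟶ B) [IsOpenImmersion α] :
    IsOpenImmersion α.toImage := by
  have hsnd : pullback.fst α α.imageι ≫ α.toImage = pullback.snd α α.imageι := by
    rw [← cancel_mono α.imageι, Category.assoc, Scheme.Hom.toImage_imageι]
    exact pullback.condition
  have hw : 𝟙 A ≫ α = α.toImage ≫ α.imageι := by
    rw [Category.id_comp, Scheme.Hom.toImage_imageι]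
  have he : IsIso (pullback.lift (𝟙 A) α.toImage hw) := by
    refine ⟨pullback.fst _ _, pullback.lift_fst _ _ _, pullback.hom_ext ?_ ?_⟩
    · rw [Category.assoc, pullback.lift_fst, Category.comp_id, Category.id_comp]
    · rw [Category.assoc, pullback.lift_snd, hsnd, Category.id_comp]
  have : IsOpenImmersion (pullback.snd α α.imageι) :=
    MorphismProperty.pullback_snd (P := @IsOpenImmersion) _ _ inferInstance
  have h := pullback.lift_snd (𝟙 A) α.toImage hw
  rw [← h]
  exact inferInstanceAs (IsOpenImmersion (_ ≫ _))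

lemma length_stalk_eq {A B : Scheme.{u}} (f : A ⟶ B) [IsOpenImmersion f] (a : A) :
    Module.length (A.presheaf.stalk a) (A.presheaf.stalk a) =
      Module.length (B.presheaf.stalk (f a)) (B.presheaf.stalk (f a)) := by
  letI := (f.stalkMap a).hom.toAlgebra
  have hb : Function.Bijective (Algebra.linearMap (B.presheaf.stalk (f a)) (A.presheaf.stalk a)) :=
    ConcreteCategory.bijective_of_isIso (f.stalkMap a)
  rw [← Module.length_eq_of_surjective (S := B.presheaf.stalk (f a)) (R := A.presheaf.stalk a)
    (M := A.presheaf.stalk a) hb.2]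
  exact (LinearEquiv.ofBijective _ hb).length_eq.symm

lemma isOpenImmersion_specMap_fractionRing (R : Type u) [CommRing R] [IsDomain R]
    [IsDiscreteValuationRing R] :
    IsOpenImmersion (Spec.map (CommRingCat.ofHom (algebraMap R (FractionRing R)))) := by
  obtain ⟨ϖ, hϖ⟩ := IsDiscreteValuationRing.exists_irreducible R
  have : IsLocalization.Away ϖ (FractionRing R) := by
    refine ⟨⟨?_, fun z => ?_, fun {a b} e => ⟨1, ?_⟩⟩⟩
    · rintro ⟨_, n, rfl⟩
      exact (isUnit_iff_ne_zero.2 (by simp [hϖ.ne_zero]))
    · obtain ⟨⟨a, b, hb⟩, hz⟩ := IsLocalization.surj (nonZeroDivisors R) z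
      obtain ⟨n, v, rfl⟩ := IsDiscreteValuationRing.eq_unit_mul_pow_irreducible
        (nonZeroDivisors.ne_zero hb) hϖ
      refine ⟨⟨a * ↑v⁻¹, ϖ ^ n, n, rfl⟩, ?_⟩
      simp only [map_mul] at hz ⊢
      rw [← hz, mul_assoc, mul_right_comm (algebraMap R (FractionRing R) v), ← map_mul (algebraMap R (FractionRing R)) (v : R), Units.mul_inv,
        map_one, one_mul]
    · rw [IsFractionRing.injective R (FractionRing R) e]
  exact IsOpenImmersion.of_isLocalization ϖ

lemma finsum_mem_fibre {α β : Type*} {f : α → β} (hf : Function.Injective f) (F : α → ℤ) (a : α) :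
    ∑ᶠ x ∈ {x | f x = f a}, F x = F a := by
  rw [show {x | f x = f a} = {a} from Set.ext fun x => ⟨fun h => hf h, fun h => h ▸ rfl⟩,
    finsum_mem_singleton]

lemma finsum_mem_fibre_zero {α β : Type*} (f : α → β) (F : α → ℤ) (b : β)
    (h : ∀ x, f x = b → F x = 0) : ∑ᶠ x ∈ {x | f x = b}, F x = 0 := by
  exact (finsum_mem_congr rfl h).trans (finsum_mem_zero _)

/-- The cycle of the schematic image of a quasi-compact open immersion is the pushforward cycle. -/
theorem subschemeFun_image {A B X Y : Scheme.{u}} (α : A ⟶ B) [IsOpenImmersion α] [QuasiCompact α]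
    (j : B ⟶ X) (hj : Function.Injective j) (i : A ⟶ Y) (hi : Function.Injective i)
    (κ : Y ⟶ X) (hκ : Function.Injective κ) (hcomm : α ≫ j = i ≫ κ) (t : X) :
    Cyc.subschemeFun (fun _ => (0 : ℤ)) 0 (α.imageι ≫ j) t =
      ∑ᶠ y ∈ {y | κ y = t}, Cyc.subschemeFun (fun _ => (0 : ℤ)) 0 i y := by
  have := isOpenImmersion_toImage α
  have hpt : ∀ a, (α.imageι ≫ j) (α.toImage a) = κ (i a) := by
    intro a
    change (α.toImage ≫ α.imageι ≫ j) a = (i ≫ κ) a
    rw [← hcomm, Scheme.Hom.toImage_imageι_assoc]
  have hinj : Function.Injective (α.imageι ≫ j) :=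
    hj.comp α.imageι.isClosedEmbedding.injective
  simp only [Cyc.subschemeFun, if_true]
  by_cases h : ∃ a, κ (i a) = t
  · obtain ⟨a, rfl⟩ := h
    rw [finsum_mem_fibre hκ (fun y : Y => ∑ᶠ z ∈ {z : A | i z = y},
      ((Module.length (A.presheaf.stalk z) (A.presheaf.stalk z)).toNat : ℤ)) (i a),
      finsum_mem_fibre hi (fun z : A =>
      ((Module.length (A.presheaf.stalk z) (A.presheaf.stalk z)).toNat : ℤ)) a, ← hpt,
      finsum_mem_fibre hinj (fun z : α.image =>
      ((Module.length (α.image.presheaf.stalk z) (α.image.presheaf.stalk z)).toNat : ℤ)) (α.toImage a),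
      length_stalk_eq α.toImage a]
  · simp only [not_exists] at h
    rw [finsum_mem_fibre_zero _ _ _ fun y hy => finsum_mem_fibre_zero _ _ _ fun a ha =>
      absurd (show κ (i a) = t from (congrArg κ ha).trans hy) (h a)]
    refine finsum_mem_fibre_zero _ _ _ fun z hz => ?_
    by_cases hl : Module.length (α.image.presheaf.stalk z) (α.image.presheaf.stalk z) = ⊤
    · simp [hl]
    · obtain ⟨a, ha⟩ := LimTop61.exists_specializes_of_denseRange α.toImage
        α.toImage.denseRange z
      have := eq_of_specializes_of_length_ne_top ha hl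
      exact absurd (by rw [← hz, ← this, hpt]) (h a)

end Groth.Agent.Cyc90.ImageGen
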