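import Groth.Agent.Cyc90.LocalFormula
import Groth.Agent.Cyc90.DimFun
import Groth.Prelude.Def_Cyc
import Mathlib.AlgebraicGeometry.Morphisms.FiniteType
import Mathlib.RingTheory.KrullDimension.Module

/-! The dimension function induced on schemes locally of finite type. -/

universe u

open CategoryTheory AlgebraicGeometry TopologicalSpace IsLocalRing

namespace Groth.Agent.Cyc90

variable {X Y : Scheme.{u}}

instance (x ξ : X) (h : ξ ⤳ x) : IsDomain (Cyc.LocQuot x ξ h) :=
  (Ideal.Quotient.isDomain_iff_prime _).mpr (RingHom.ker_isPrime _)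

lemma locQuot_algebraMap_mk (x ξ : X) (h : ξ ⤳ x) (a : X.presheaf.stalk x) :
    algebraMap (Cyc.LocQuot x ξ h) (X.residueField ξ) (Ideal.Quotient.mk _ a) = Cyc.specMap x ξ h a := rfl

instance isFractionRing_locQuot (x ξ : X) (h : ξ ⤳ x) :
    IsFractionRing (Cyc.LocQuot x ξ h) (X.residueField ξ) := by
  have : FaithfulSMul (Cyc.LocQuot x ξ h) (X.residueField ξ) :=
    (faithfulSMul_iff_algebraMap_injective _ _).2 (RingHom.kerLift_injective _)
  refine IsFractionRing.of_field _ _ fun z => ?_
  obtain ⟨w, rfl⟩ := IsLocalRing.residue_surjective (R := X.presheaf.stalk ξ) z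
  let alg := (X.presheaf.stalkSpecializes h).hom.toAlgebra
  have := isLocalization_genPrime h
  obtain ⟨a, s, rfl⟩ := IsLocalization.exists_mk'_eq (genPrime h).asIdeal.primeCompl w
  refine ⟨Ideal.Quotient.mk _ a, Ideal.Quotient.mk _ s.1, ?_⟩
  rw [locQuot_algebraMap_mk, locQuot_algebraMap_mk, eq_div_iff]
  · change IsLocalRing.residue _ _ * IsLocalRing.residue _ (algebraMap (X.presheaf.stalk x) _ s.1) =
      IsLocalRing.residue _ (algebraMap (X.presheaf.stalk x) _ a)
    exact (map_mul (IsLocalRing.residue (X.presheaf.stalk ξ)) _ _).symm.trans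
      (congrArg _ (IsLocalization.mk'_spec _ _ _))
  · intro h0
    exact s.2 ((ker_specMap h).le h0)

lemma specMap_stalkMap (f : X ⟶ Y) {y x : X} (h : x ⤳ y) (a : Y.presheaf.stalk (f y)) :
    Cyc.specMap y x h (f.stalkMap y a) =
      f.residueFieldMap x (Cyc.specMap (f y) (f x) (h.map f.continuous) a) := by
  have h1 := congrArg (fun φ => φ (Y.presheaf.stalkSpecializes (h.map f.continuous) a))
    (AlgebraicGeometry.Scheme.residue_residueFieldMap f x)
  refine Eq.trans ?_ h1.symm
  exact congrArg (X.residue x) (Scheme.Hom.stalkSpecializes_stalkMap_apply f x y h a).symm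

/-- The map of closures' local rings. -/
noncomputable def locQuotMap (f : X ⟶ Y) {y x : X} (h : x ⤳ y) :
    Cyc.LocQuot (f y) (f x) (h.map f.continuous) →+* Cyc.LocQuot y x h :=
  Ideal.quotientMap _ (f.stalkMap y).hom fun a ha => by
    rw [Ideal.mem_comap, RingHom.mem_ker, specMap_stalkMap, RingHom.mem_ker.mp ha, map_zero]

lemma locQuotMap_comm (f : X ⟶ Y) {y x : X} (h : x ⤳ y) (r : Cyc.LocQuot (f y) (f x) (h.map f.continuous)) :
    algebraMap _ (X.residueField x) (locQuotMap f h r) =
      f.residueFieldMap x (algebraMap _ (Y.residueField (f x)) r) := by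
  obtain ⟨a, rfl⟩ := Ideal.Quotient.mk_surjective r
  exact specMap_stalkMap f h a

/-- The residue map of the local ring of a closure. -/
noncomputable def locQuotResidue (y x : X) (h : x ⤳ y) : Cyc.LocQuot y x h →+* X.residueField y :=
  Ideal.Quotient.lift _ (X.residue y).hom fun a ha => by
    have hle : RingHom.ker (Cyc.specMap y x h) ≤ maximalIdeal _ :=
      IsLocalRing.le_maximalIdeal (RingHom.ker_ne_top _)
    exact (IsLocalRing.residue_eq_zero_iff a).mpr (hle ha)

/-- The key identity. -/
theorem delta_sub (f : X ⟶ Y) [LocallyOfFiniteType f] (δY : Y → ℤ) (hY : Cyc.IsSetup Y δY) (δX : X → ℤ)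
    (hδ : Cyc.DeltaCompat f δX δY) {x y : X} (h : x ⤳ y) :
    ∃ n : ℕ, ringKrullDim (Cyc.LocQuot y x h) = n ∧ δX x - δX y = n := by
  have : IsLocallyNoetherian Y := hY.1
  have : IsLocallyNoetherian X := LocallyOfFiniteType.isLocallyNoetherian f
  have hspec := h.map f.continuous
  let R := Cyc.LocQuot (f y) (f x) hspec
  let L := Cyc.LocQuot y x h
  have : IsLocalRing R := IsLocalRing.of_surjective' _ Ideal.Quotient.mk_surjective
  have : IsLocalRing L := IsLocalRing.of_surjective' _ Ideal.Quotient.mk_surjective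
  let iRL : Algebra R L := (locQuotMap f h).toAlgebra
  let iKK : Algebra (Y.residueField (f x)) (X.residueField x) := (f.residueFieldMap x).hom.toAlgebra
  let iRK : Algebra R (X.residueField x) :=
    ((f.residueFieldMap x).hom.comp (algebraMap R (Y.residueField (f x)))).toAlgebra
  let ikk : Algebra (Y.residueField (f y)) (X.residueField y) := (f.residueFieldMap y).hom.toAlgebra
  let iRk' : Algebra R (Y.residueField (f y)) := (locQuotResidue (f y) (f x) hspec).toAlgebra
  let iLk : Algebra L (X.residueField y) := (locQuotResidue y x h).toAlgebra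
  let iRk : Algebra R (X.residueField y) :=
    ((f.residueFieldMap y).hom.comp (locQuotResidue (f y) (f x) hspec)).toAlgebra
  have t1 : IsScalarTower R (Y.residueField (f x)) (X.residueField x) := IsScalarTower.of_algebraMap_eq fun _ => rfl
  have t2 : IsScalarTower R L (X.residueField x) :=
    IsScalarTower.of_algebraMap_eq fun r => (locQuotMap_comm f h r).symm
  have t3 : IsScalarTower R (Y.residueField (f y)) (X.residueField y) :=
    IsScalarTower.of_algebraMap_eq fun _ => rfl
  have t4 : IsScalarTower R L (X.residueField y) := IsScalarTower.of_algebraMap_eq fun r => by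
    obtain ⟨a, rfl⟩ := Ideal.Quotient.mk_surjective r
    exact congrArg (fun φ => φ a) (AlgebraicGeometry.Scheme.residue_residueFieldMap f y)
  have : FaithfulSMul R L := (faithfulSMul_iff_algebraMap_injective R L).2 fun a b e => by
    refine IsFractionRing.injective R (Y.residueField (f x)) ((f.residueFieldMap x).hom.injective ?_)
    rw [← locQuotMap_comm f h a, ← locQuotMap_comm f h b]
    exact congrArg _ e
  -- finite type chart
  obtain ⟨V, hV, hyV, -⟩ := exists_isAffineOpen_mem_and_subset (show f y ∈ (⊤ : Y.Opens) from trivial)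
  obtain ⟨U, hU, hyU, hUV⟩ := exists_isAffineOpen_mem_and_subset (show y ∈ f ⁻¹ᵁ V from hyV)
  have hUV' : U ≤ f ⁻¹ᵁ V := hUV
  let iVU : Algebra Γ(Y, V) Γ(X, U) := (f.appLE V U hUV').hom.toAlgebra
  have hft : Algebra.FiniteType Γ(Y, V) Γ(X, U) := f.finiteType_appLE hV hU hUV'
  obtain ⟨G, hG⟩ := hft.out
  classical
  let φ : Γ(X, U) →+* L := (Ideal.Quotient.mk _).comp (X.presheaf.germ U y hyU).hom
  let T : Finset L := G.image φ
  have himg : ∀ a : Γ(X, U), φ a ∈ Algebra.adjoin R (T : Set L) := by
    intro a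
    have ha : a ∈ Algebra.adjoin Γ(Y, V) (G : Set Γ(X, U)) := hG ▸ trivial
    induction ha using Algebra.adjoin_induction with
    | mem g hg => exact Algebra.subset_adjoin (Finset.mem_image_of_mem φ hg)
    | algebraMap r =>
      have e : φ (algebraMap Γ(Y, V) Γ(X, U) r) =
          algebraMap R L (Ideal.Quotient.mk _ (Y.presheaf.germ V (f y) hyV r)) := by
        change Ideal.Quotient.mk _ (X.presheaf.germ U y hyU (f.appLE V U hUV' r)) =
          Ideal.Quotient.mk _ (f.stalkMap y (Y.presheaf.germ V (f y) hyV r))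
        rw [Scheme.Hom.germ_stalkMap_apply, Scheme.Hom.appLE, CommRingCat.comp_apply,
          TopCat.Presheaf.germ_res_apply]
      rw [e]; exact Subalgebra.algebraMap_mem _ _
    | add a b _ _ ha hb => rw [map_add]; exact add_mem ha hb
    | mul a b _ _ ha hb => rw [map_mul]; exact mul_mem ha hb
  have hT : ∀ l : L, ∃ a ∈ Algebra.adjoin R (T : Set L), ∃ b ∈ Algebra.adjoin R (T : Set L),
      IsUnit b ∧ l * b = a := by
    intro l
    obtain ⟨w, rfl⟩ := Ideal.Quotient.mk_surjective l
    let alg : Algebra Γ(X, U) (X.presheaf.stalk y) := TopCat.Presheaf.algebra_section_stalk X.presheaf ⟨y, hyU⟩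
    have : IsLocalization.AtPrime (X.presheaf.stalk y) (hU.primeIdealOf ⟨y, hyU⟩).asIdeal :=
      hU.isLocalization_stalk ⟨y, hyU⟩
    obtain ⟨⟨a, s⟩, e⟩ := IsLocalization.surj (hU.primeIdealOf ⟨y, hyU⟩).asIdeal.primeCompl w
    refine ⟨φ a, himg a, φ s.1, himg s.1, (IsLocalization.map_units (X.presheaf.stalk y) s).map (Ideal.Quotient.mk _), ?_⟩
    exact (map_mul (Ideal.Quotient.mk _) _ _).symm.trans (congrArg (Ideal.Quotient.mk _) e)
  -- dimensions
  obtain ⟨n₁, h₁, d₁⟩ := hδ x
  obtain ⟨n₂, h₂, d₂⟩ := hδ y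
  obtain ⟨n, hn⟩ : ∃ n : ℕ, ringKrullDim L = n := by
    obtain ⟨n, hn⟩ := ENat.ne_top_iff_exists.mp (Ideal.height_ne_top (I := maximalIdeal L) (maximalIdeal.isMaximal L).ne_top)
    exact ⟨n, by rw [← maximalIdeal_height_eq_ringKrullDim, ← hn]; rfl⟩
  have huc : CAlg.IsUniversallyCatenary R := by
    obtain ⟨hN, hc⟩ := hY.2.1 (f y)
    refine ⟨inferInstance, fun S _ _ hS => ?_⟩
    let iS : Algebra (Y.presheaf.stalk (f y)) S := Algebra.compHom S (Ideal.Quotient.mk _ : _ →+* R)
    have : IsScalarTower (Y.presheaf.stalk (f y)) R S := IsScalarTower.of_algebraMap_eq fun _ => rfl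
    exact hc S (Algebra.FiniteType.trans (R := Y.presheaf.stalk (f y)) (S := R) inferInstance hS)
  have hk' : Function.Surjective (algebraMap R (Y.residueField (f y))) := fun z => by
    obtain ⟨a, ha⟩ := IsLocalRing.residue_surjective (R := Y.presheaf.stalk (f y)) z
    exact ⟨Ideal.Quotient.mk _ a, ha⟩
  have hk : Function.Surjective (algebraMap L (X.residueField y)) := fun z => by
    obtain ⟨a, ha⟩ := IsLocalRing.residue_surjective (R := X.presheaf.stalk y) z
    exact ⟨Ideal.Quotient.mk _ a, ha⟩
  have key := local_dim_formula (R := R) (L := L) (K' := Y.residueField (f x)) (K := X.residueField x)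
    (k' := Y.residueField (f y)) (k := X.residueField y) huc T hT hk' hk hn
    (ringKrullDim_locQuot hY.2.2 hspec) h₁ h₂
  have hle := delta_le hY.2.2 hspec
  exact ⟨n, hn, by omega⟩

end Groth.Agent.Cyc90
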