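import Groth.Agent.Cyc90.FlatRelDim
import Groth.Agent.E4O.DimFormula
import Mathlib.AlgebraicGeometry.ZariskisMainTheorem

/-! Finiteness over a neighbourhood of a point with zero dimensional fibre. -/

set_option autoImplicit false
universe u

open CategoryTheory CategoryTheory.Limits AlgebraicGeometry TopologicalSpace IsLocalRing Topology

namespace Groth.Agent.Cyc90

variable {X Y : Scheme.{u}}

lemma isOpen_singleton_fibre (p : X ⟶ Y) [IsProper p] (y : Y)
    (hfib : ∀ x, p x = y → E4O.fdeg p x = 0) :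
    DiscreteTopology ↥(p.fiber y) := by
  have hlft : LocallyOfFiniteType (p.fiberToSpecResidueField y) :=
    inferInstanceAs (LocallyOfFiniteType (pullback.snd _ _))
  have hqc : QuasiCompact (p.fiberToSpecResidueField y) :=
    inferInstanceAs (QuasiCompact (pullback.snd _ _))
  have : IsLocallyNoetherian (p.fiber y) :=
    LocallyOfFiniteType.isLocallyNoetherian (p.fiberToSpecResidueField y)
  have : CompactSpace (p.fiber y) := QuasiCompact.compactSpace_of_compactSpace
    (p.fiberToSpecResidueField y)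
  have : IsNoetherian (p.fiber y) := { }
  have hmin : ∀ a b : ↥(p.fiber y), a ⤳ b → a = b := fun a b h => by
    by_contra hne
    have h1 := E4O.fdeg_lt (f := p) ((E4O.specializes_fiberι_iff p y a b).2 h)
      (by rw [E4O.apply_fiberι, E4O.apply_fiberι]) fun e => hne ((E4O.isEmbedding_fiberι p y).injective e)
    rw [hfib _ (E4O.apply_fiberι p y a)] at h1
    omega
  have hclosed : ∀ a : ↥(p.fiber y), IsClosed ({a} : Set ↥(p.fiber y)) := fun a => by
    have : closure ({a} : Set ↥(p.fiber y)) = {a} := Set.eq_singleton_iff_unique_mem.2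
      ⟨subset_closure rfl, fun b hb => (hmin a b (specializes_iff_mem_closure.2 hb)).symm⟩
    exact this ▸ isClosed_closure
  have hT1 : T1Space ↥(p.fiber y) := ⟨hclosed⟩
  have hfinite : Finite ↥(p.fiber y) := by
    have hfin := NoetherianSpace.finite_irreducibleComponents (α := ↥(p.fiber y))
    have : (Set.univ : Set ↥(p.fiber y)).Finite := by
      refine (hfin.biUnion (t := fun Z => Z) fun Z hZ => ?_).subset fun (a : ↥(p.fiber y)) _ =>
        Set.mem_iUnion₂.2 ⟨irreducibleComponent a, irreducibleComponent_mem_irreducibleComponents a,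
          mem_irreducibleComponent⟩
      obtain ⟨z, rfl, -⟩ := E4O.exists_eq_closure_of_mem_irreducibleComponents hZ
      rw [(hclosed z).closure_eq]
      exact Set.finite_singleton _
    exact Set.finite_univ_iff.1 this
  infer_instance

/-- A proper morphism with zero dimensional fibre over `y` is finite near `y`. -/
theorem exists_isFinite_restrict (p : X ⟶ Y) [IsProper p] (y : Y)
    (hfib : ∀ x, p x = y → E4O.fdeg p x = 0) : ∃ W : Y.Opens, y ∈ W ∧ IsFinite (p ∣_ W) := by
  let O : Set X := {x | p.QuasiFiniteAt x}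
  have hO : IsOpen O := p.isOpen_quasiFiniteAt
  have hy : ∀ x, p x = y → x ∈ O := fun x hx => by
    subst hx
    have := isOpen_singleton_fibre p (p x) hfib
    exact Scheme.Hom.quasiFiniteAt_iff_isOpen_singleton_asFiber.2 (isOpen_discrete _)
  let W : Y.Opens := ⟨(p '' Oᶜ)ᶜ, (p.isClosedMap _ hO.isClosed_compl).isOpen_compl⟩
  have hyW : y ∈ W := by
    rintro ⟨x, hx, hxy⟩
    exact hx (hy x hxy)
  refine ⟨W, hyW, ?_⟩
  have hW : IsProper (p ∣_ W) := IsZariskiLocalAtTarget.restrict ‹IsProper p› W
  have : LocallyQuasiFinite (p ∣_ W) := by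
    rw [locallyQuasiFinite_iff_isDiscrete_preimage_singleton]
    intro w
    have hset : (p ∣_ W) ⁻¹' {w} = (p ⁻¹ᵁ W).ι ⁻¹' (p ⁻¹' {W.ι w}) := by
      ext a
      simp only [Set.mem_preimage, Set.mem_singleton_iff]
      rw [← W.ι.isOpenEmbedding.injective.eq_iff, ← Scheme.Hom.comp_apply, morphismRestrict_ι]
      rfl
    have hall : ∀ x, p x = W.ι w → x ∈ O := fun x hx => by
      by_contra hxO
      exact w.2 ⟨x, hxO, hx⟩
    have hdisc : DiscreteTopology ↥(p.fiber (W.ι w)) := by
      refine discreteTopology_iff_isOpen_singleton.2 fun a => ?_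
      have key : ∀ (y' : Y) (a : ↥(p.fiber y')), (∀ x, p x = y' → x ∈ O) → IsOpen {a} := by
        intro y' a h
        obtain ⟨⟨x, hx⟩, rfl⟩ := (p.fiberHomeo y').symm.surjective a
        simp only [Set.mem_preimage, Set.mem_singleton_iff] at hx
        subst hx
        exact Scheme.Hom.quasiFiniteAt_iff_isOpen_singleton_asFiber.1 (h x rfl)
      exact key _ a hall
    have : DiscreteTopology ↥(p ⁻¹' {W.ι w}) := (p.fiberHomeo (W.ι w)).discreteTopology
    rw [hset]
    exact IsDiscrete.preimage ⟨this⟩ (p ⁻¹ᵁ W).ι.continuous.continuousOn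
      (p ⁻¹ᵁ W).ι.isOpenEmbedding.injective
  exact IsFinite.of_isProper_of_locallyQuasiFinite _

variable [IsIntegral X] [IsIntegral Y] [IsLocallyNoetherian Y]

/-- Fibres over codimension one points of a generically finite morphism are zero dimensional. -/
theorem fdeg_eq_zero_of_dim_one (p : X ⟶ Y) [LocallyOfFiniteType p]
    (hgen : p (genericPoint X) = genericPoint Y) (hfin : (p.residueFieldMap (genericPoint X)).hom.Finite)
    {x : X} {y : Y} (hx : p x = y) (hy : ringKrullDim (Y.presheaf.stalk y) = 1) :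
    E4O.fdeg p x = 0 := by
  have hξ : E4O.fdeg p (genericPoint X) = 0 := by
    algebraize [(p.residueFieldMap (genericPoint X)).hom]
    have : Module.Finite (Y.residueField (p (genericPoint X))) (X.residueField (genericPoint X)) := hfin
    have h1 := trdeg_residueField_eq_fdeg p (genericPoint X)
    have : Algebra.IsAlgebraic (Y.residueField (p (genericPoint X))) (X.residueField (genericPoint X)) :=
      Algebra.IsAlgebraic.of_finite _ _
    rw [trdeg_eq_zero] at h1
    exact_mod_cast h1.symm
  obtain ⟨C, ⟨q, rfl⟩, hA⟩ := E4O.exists_chart p x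
  have := hA inferInstance
  have hne : Nonempty (Spec (CommRingCat.of C.B)) := ⟨q⟩
  have hne' : Nonempty (Spec (CommRingCat.of C.A)) := ⟨PrimeSpectrum.comap (algebraMap C.A C.B) q⟩
  have : IsIntegral (Spec (CommRingCat.of C.B)) := isIntegral_of_isOpenImmersion C.e
  have : IsIntegral (Spec (CommRingCat.of C.A)) := isIntegral_of_isOpenImmersion C.j
  have : IsDomain C.B := (affine_isIntegral_iff _).1 ‹IsIntegral (Spec (CommRingCat.of C.B))›
  have : IsDomain C.A := (affine_isIntegral_iff _).1 ‹IsIntegral (Spec (CommRingCat.of C.A))›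
  let b0 : PrimeSpectrum C.B := ⟨⊥, Ideal.isPrime_bot⟩
  let a0 : PrimeSpectrum C.A := ⟨⊥, Ideal.isPrime_bot⟩
  have hb : C.pt b0 = genericPoint X := by
    have h1 : IsGenericPoint (genericPoint X) Set.univ := genericPoint_spec X
    obtain ⟨b, hb⟩ : genericPoint X ∈ Set.range C.pt := (h1.specializes trivial).mem_open C.isOpen_range ⟨q, rfl⟩
    have h2 : C.pt b ⤳ C.pt b0 := hb ▸ h1.specializes trivial
    rw [C.isOpenEmbedding_pt.isInducing.specializes_iff] at h2
    have h3 : b = b0 := le_antisymm ((PrimeSpectrum.le_iff_specializes _ _).2 h2) bot_le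
    rw [← h3, hb]
  have ha : C.ptY a0 = genericPoint Y := by
    have h1 : IsGenericPoint (genericPoint Y) Set.univ := genericPoint_spec Y
    obtain ⟨a, ha⟩ : genericPoint Y ∈ Set.range C.ptY :=
      (h1.specializes trivial).mem_open C.isOpenEmbedding_ptY.isOpen_range ⟨a0, rfl⟩
    have h2 : C.ptY a ⤳ C.ptY a0 := ha ▸ h1.specializes trivial
    rw [C.isOpenEmbedding_ptY.isInducing.specializes_iff] at h2
    have h3 : a = a0 := le_antisymm ((PrimeSpectrum.le_iff_specializes _ _).2 h2) bot_le
    rw [← h3, ha]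
  have hcomap : PrimeSpectrum.comap (algebraMap C.A C.B) b0 = a0 :=
    C.isOpenEmbedding_ptY.injective (by rw [← C.apply, hb, hgen, ha])
  have : FaithfulSMul C.A C.B := (faithfulSMul_iff_algebraMap_injective _ _).2 <|
    (RingHom.injective_iff_ker_eq_bot _).2 (congrArg PrimeSpectrum.asIdeal hcomap)
  let P := PrimeSpectrum.comap (algebraMap C.A C.B) q
  have : q.asIdeal.LiesOver P.asIdeal := ⟨rfl⟩
  have hformula := E4O.height_add_trdeg_le C.A C.B P.asIdeal q.asIdeal
  have ht : Algebra.trdeg C.A C.B = 0 := by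
    have h1 := C.trdeg_eq_fdeg b0
    rw [hb, hξ, Nat.cast_zero] at h1
    have hlo : b0.asIdeal.LiesOver (⊥ : Ideal C.A) := ⟨(congrArg PrimeSpectrum.asIdeal hcomap).symm⟩
    rw [E4O.trdeg_congr_under b0.asIdeal ⊥ (congrArg PrimeSpectrum.asIdeal hcomap)] at h1
    refine (E4O.trdeg_eq_of_ringEquiv (RingEquiv.quotientBot C.A)
      (RingEquiv.quotientBot C.B) (RingHom.ext fun z => ?_)).symm.trans h1
    obtain ⟨z, rfl⟩ := Ideal.Quotient.mk_surjective z
    rfl
  have hP : P.asIdeal.height = 1 := by
    have e : C.ptY P = y := (C.apply q).symm.trans hx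
    have hiso : IsIso (C.j.stalkMap P) := (inferInstance : ∀ z : Spec (CommRingCat.of C.A), IsIso (C.j.stalkMap z)) P
    have h1 := (asIso (C.j.stalkMap P)).commRingCatIsoToRingEquiv
    have h2 : ringKrullDim ((Spec (CommRingCat.of C.A)).presheaf.stalk P) = 1 := by
      rw [← ringKrullDim_eq_of_ringEquiv h1]
      exact (congrArg (fun z => ringKrullDim (Y.presheaf.stalk z)) e).trans hy
    let i1 : Algebra (CommRingCat.of C.A) ((Spec (CommRingCat.of C.A)).presheaf.stalk P) :=
      (StructureSheaf.toStalk (CommRingCat.of C.A) P).hom.toAlgebra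
    have : IsLocalization.AtPrime ((Spec (CommRingCat.of C.A)).presheaf.stalk P) P.asIdeal :=
      StructureSheaf.IsLocalization.to_stalk (CommRingCat.of C.A) P
    rw [IsLocalization.AtPrime.ringKrullDim_eq_height P.asIdeal] at h2
    exact_mod_cast h2
  have hq : 1 ≤ q.asIdeal.height := by
    rw [Order.one_le_iff_ne_zero, ne_eq, Ideal.height_eq_zero_iff_eq_bot]
    intro e
    have : q = b0 := PrimeSpectrum.ext e
    rw [this, hb, hgen] at hx
    rw [← hx] at hy
    have h0 : ringKrullDim (Y.presheaf.stalk (genericPoint Y)) = 0 :=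
      ringKrullDim_eq_zero_of_field Y.functionField
    rw [hy] at h0
    exact one_ne_zero h0
  rw [hP, show Algebra.trdeg (C.A ⧸ P.asIdeal) (C.B ⧸ q.asIdeal) = _ from C.trdeg_eq_fdeg q, ht, add_zero, Cardinal.ofENat_one] at hformula
  have h1 : ((1 : ℕ∞) : Cardinal.{u}) + (E4O.fdeg p (C.pt q) : Cardinal.{u}) ≤ 1 :=
    le_trans (add_le_add (Cardinal.ofENat_le_ofENat.2 hq) le_rfl) hformula
  rw [Cardinal.ofENat_one, ← Nat.cast_one, ← Nat.cast_add] at h1
  have := Nat.cast_le.1 h1
  omega

end Groth.Agent.Cyc90
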