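import Groth.Agent.Cyc90.FinFibre
import Groth.Agent.Cyc90.FiniteNbhd
import Mathlib.FieldTheory.IntermediateField.Adjoin.Algebra

/-! Pushforward of principal divisors along generically finite proper morphisms. -/

set_option autoImplicit false
universe u

open CategoryTheory AlgebraicGeometry TopologicalSpace IsLocalRing

namespace Groth.Agent.Cyc90

variable {X Y : Scheme.{u}} {δX : X → ℤ} {δY : Y → ℤ}

lemma finite_residueFieldMap_of_delta_eq (f : X ⟶ Y) [LocallyOfFiniteType f]
    (hδ : Cyc.DeltaCompat f δX δY) (x : X) (h : δX x = δY (f x)) :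
    (f.residueFieldMap x).hom.Finite := by
  obtain ⟨n, hn, hd⟩ := hδ x
  have h0 : n = 0 := by omega
  subst h0
  algebraize [(f.residueFieldMap x).hom]
  have h1 : (f.stalkMap x).hom.EssFiniteType := LocallyOfFiniteType.stalkMap f _
  have h2 : Algebra.EssFiniteType (Y.residueField (f x)) (X.residueField x) :=
    RingHom.EssFiniteType.residueFieldMap h1
  have : Algebra.IsAlgebraic (Y.residueField (f x)) (X.residueField x) :=
    trdeg_eq_zero_iff.mp (by exact_mod_cast hn)
  exact Algebra.finite_of_essFiniteType_of_isAlgebraic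

lemma divFun_of (ξ x : X) (g : X.residueField ξ) (h : ξ ⤳ x) (hd : δX x + 1 = δX ξ) :
    Cyc.divFun δX ξ g x = Cyc.ordAt x ξ h g := dif_pos ⟨h, hd⟩

lemma map_apply_eq (p : X ⟶ Y) [QuasiCompact p] (α : AlgebraicCycle X ℤ) (y : Y) :
    AlgebraicCycle.map p δX δY α y =
      ∑ᶠ x ∈ p ⁻¹' {y}, α x * (if δX x = δY (p x) then (p.residueDegree x : ℤ) else 0) := by
  change (Function.locallyFinsupp.map _ _ _ α) y = _
  rw [Function.locallyFinsupp.map_apply]
  refine finsum_mem_congr rfl fun x _ => ?_
  unfold AlgebraicCycle.mapCoeff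
  split_ifs <;> simp

variable [IsIntegral X] [IsIntegral Y]

/-- `p_*(div g) = div (Nm g)`. -/
theorem map_divFun_eq_divFun_norm (hX : Cyc.IsSetup X δX) (hY : Cyc.IsSetup Y δY) (p : X ⟶ Y) [IsProper p]
    (hδ : Cyc.DeltaCompat p δX δY) (hdom : p (genericPoint X) = genericPoint Y)
    (hn : δX (genericPoint X) = δY (genericPoint Y)) (g : X.residueField (genericPoint X)) (hg : g ≠ 0)
    (α : AlgebraicCycle X ℤ) (hα : ⇑α = Cyc.divFun δX (genericPoint X) g) :
    ⇑(AlgebraicCycle.map p δX δY α) =
      Cyc.divFun δY (p (genericPoint X)) (Cyc.normGen p (genericPoint X) g) := by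
  have := hX.1
  have := hY.1
  let ξ := genericPoint X
  have hη : δY (p ξ) = δX ξ := by rw [hdom, hn]
  have hfin : (p.residueFieldMap ξ).hom.Finite := finite_residueFieldMap_of_delta_eq p hδ ξ hη.symm
  funext y
  rw [map_apply_eq, hα]
  by_cases hy : δY y + 1 = δY (p ξ)
  · have hspec : p ξ ⤳ y := hdom ▸ (genericPoint_spec Y).specializes trivial
    have hdim : ringKrullDim (Y.presheaf.stalk y) = 1 := by
      rw [ringKrullDim_stalk_irreducible hY.2.2 y]
      have : (δY (genericPoint Y) - δY y).toNat = 1 := by rw [hdom] at hy; omega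
      rw [this]; rfl
    have hf0 : ∀ x, p x = y → E4O.fdeg p x = 0 := fun x hx =>
      fdeg_eq_zero_of_dim_one p hdom hfin hx hdim
    obtain ⟨W, hyW, hW⟩ := exists_isFinite_restrict p y hf0
    obtain ⟨-, -, -, hformula⟩ := finite_fibre_formula p y W hyW hdom hdim hspec g hg
    rw [divFun_of (p ξ) y _ hspec hy, hformula]
    refine finsum_mem_congr rfl fun x hx => ?_
    have hx' : p x = y := hx
    have h0 : δX x = δY y := by
      rw [delta_eq_add_fdeg p hδ x, hf0 x hx', hx']; simp
    rw [divFun_of ξ x g (gen_specializes x) (by omega), if_pos (by rw [hx', h0]), mul_comm]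
  · rw [Cyc.divFun, dif_neg fun h => hy h.2]
    refine finsum_mem_eq_zero_of_forall_eq_zero fun x hx => ?_
    have hx' : p x = y := hx
    unfold Cyc.divFun
    split_ifs with h1 h2 <;> try simp
    have h3 : δY (p x) = δY y := congrArg δY hx'
    exact absurd (show δY y + 1 = δY (p ξ) by have : δX x + 1 = δX ξ := h1.2; omega) hy

end Groth.Agent.Cyc90
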