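import Groth.Agent.Cyc90.PushDiv
import Groth.Agent.SchBasics.Reduced
import Mathlib.AlgebraicGeometry.Morphisms.ClosedImmersion

/-! Closures of points as integral closed subschemes and transport of divisors along closed
immersions. -/

set_option autoImplicit false
universe u

open CategoryTheory AlgebraicGeometry TopologicalSpace IsLocalRing

namespace Groth.Agent.Cyc90

variable {X Y Z : Scheme.{u}}

/-- The closure of a point with its reduced structure. -/
noncomputable def cl (ξ : X) : Scheme.{u} :=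
  (Scheme.IdealSheafData.vanishingIdeal ⟨closure ({ξ} : Set X), isClosed_closure⟩).subscheme

/-- Its closed immersion. -/
noncomputable def clι (ξ : X) : cl ξ ⟶ X :=
  (Scheme.IdealSheafData.vanishingIdeal ⟨closure ({ξ} : Set X), isClosed_closure⟩).subschemeι

instance isClosedImmersion_clι (ξ : X) : IsClosedImmersion (clι ξ) := by
  exact inferInstanceAs (IsClosedImmersion (Scheme.IdealSheafData.subschemeι _))

lemma range_clι (ξ : X) : Set.range (clι ξ) = closure ({ξ} : Set X) :=
  SchBasics.range_vanishingIdeal_subschemeι _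

lemma exists_gen (ξ : X) : ∃ ζ : cl ξ, clι ξ ζ = ξ ∧ IsGenericPoint ζ Set.univ := by
  obtain ⟨ζ, hζ⟩ : ξ ∈ Set.range (clι ξ) := (range_clι ξ).ge (subset_closure rfl)
  refine ⟨ζ, hζ, Set.eq_univ_of_forall fun z => specializes_iff_mem_closure.1 ?_⟩
  rw [← (clι ξ).isClosedEmbedding.isInducing.specializes_iff, hζ]
  exact specializes_iff_mem_closure.2 ((range_clι ξ).le ⟨z, rfl⟩)

instance isIntegral_cl (ξ : X) : IsIntegral (cl ξ) := by
  obtain ⟨ζ, -, hgen⟩ := exists_gen ξ
  have : IsReduced (cl ξ) := SchBasics.isReduced_vanishingIdeal_subscheme _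
  have : IrreducibleSpace (cl ξ) := (irreducibleSpace_def _).2 (by
    rw [Set.top_eq_univ, ← hgen.def]
    exact isIrreducible_singleton.closure)
  exact isIntegral_of_irreducibleSpace_of_isReduced _

lemma clι_genericPoint (ξ : X) : clι ξ (genericPoint (cl ξ)) = ξ := by
  obtain ⟨ζ, hζ, hgen⟩ := exists_gen ξ
  exact (congrArg _ ((genericPoint_spec (cl ξ)).eq hgen)).trans hζ

/-- The induced map of closures. -/
noncomputable def clMap (f : X ⟶ Y) (ξ : X) : cl ξ ⟶ cl (f ξ) :=
  IsClosedImmersion.lift (clι (f ξ)) (clι ξ ≫ f)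
    (SchBasics.ker_le_ker_of_range_subset _ _ (by
      rintro _ ⟨z, rfl⟩
      rw [range_clι]
      exact specializes_iff_mem_closure.1
        ((specializes_iff_mem_closure.2 ((range_clι ξ).le ⟨z, rfl⟩)).map f.continuous)))

lemma clMap_ι (f : X ⟶ Y) (ξ : X) : clMap f ξ ≫ clι (f ξ) = clι ξ ≫ f :=
  IsClosedImmersion.lift_fac _ _ _

instance isProper_clMap (f : X ⟶ Y) [IsProper f] (ξ : X) : IsProper (clMap f ξ) := by
  have : IsProper (clMap f ξ ≫ clι (f ξ)) := by rw [clMap_ι]; infer_instance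
  exact IsProper.of_comp (clMap f ξ) (clι (f ξ))

/-- Closed immersions induce isomorphisms of the local rings of closures. -/
lemma locQuotMap_bijective (i : Z ⟶ X) [IsPreimmersion i] {y x : Z} (h : x ⤳ y) :
    Function.Bijective (locQuotMap i h) := by
  refine ⟨fun a b e => ?_, fun c => ?_⟩
  · refine IsFractionRing.injective _ (X.residueField (i x)) ((i.residueFieldMap x).hom.injective ?_)
    rw [← locQuotMap_comm i h a, ← locQuotMap_comm i h b, e]
  · obtain ⟨c, rfl⟩ := Ideal.Quotient.mk_surjective c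
    obtain ⟨a, rfl⟩ := i.stalkMap_surjective y c
    exact ⟨Ideal.Quotient.mk _ a, rfl⟩

lemma deltaCompat_preimmersion (i : Z ⟶ X) [IsPreimmersion i] (δ : X → ℤ) :
    Cyc.DeltaCompat i (fun z => δ (i z)) δ := fun z => ⟨0, by
  letI := (i.residueFieldMap z).hom.toAlgebra
  have : Algebra.IsAlgebraic (X.residueField (i z)) (Z.residueField z) := ⟨fun c => by
    obtain ⟨a, rfl⟩ := residueFieldMap_surjective i z c
    exact isAlgebraic_algebraMap a⟩
  simp [trdeg_eq_zero], by simp⟩

lemma isSetup_closedImmersion (i : Z ⟶ X) [IsClosedImmersion i] {δ : X → ℤ} (hX : Cyc.IsSetup X δ) :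
    Cyc.IsSetup Z (fun z => δ (i z)) :=
  isSetup_of_lft i δ hX _ (deltaCompat_preimmersion i δ)

/-- Divisors are unchanged along closed immersions. -/
theorem divFun_closedImmersion (i : Z ⟶ X) [IsClosedImmersion i] {δ : X → ℤ} (hX : Cyc.IsSetup X δ)
    (ζ z : Z) (g : X.residueField (i ζ)) (hg : g ≠ 0) :
    Cyc.divFun δ (i ζ) g (i z) =
      Cyc.divFun (fun w => δ (i w)) ζ ((i.residueFieldMap ζ).hom g) z := by
  unfold Cyc.divFun
  have hiff : i ζ ⤳ i z ↔ ζ ⤳ z := i.isClosedEmbedding.isInducing.specializes_iff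
  by_cases h : ζ ⤳ z ∧ δ (i z) + 1 = δ (i ζ)
  · rw [dif_pos ⟨hiff.2 h.1, h.2⟩, dif_pos h]
    have := hX.1
    have hZ := isSetup_closedImmersion i hX
    have := hZ.1
    let e := RingEquiv.ofBijective _ (locQuotMap_bijective i h.1)
    have h1 : ringKrullDim (Cyc.LocQuot (i z) (i ζ) (hiff.2 h.1)) ≤ 1 :=
      ringKrullDim_locQuot_le_one _ fun w h1 h2 => immediate hX.2.2 (hiff.2 h.1) h.2 h1 h2
    have h2 : ringKrullDim (Cyc.LocQuot z ζ h.1) ≤ 1 :=
      (ringKrullDim_eq_of_ringEquiv e).ge.trans h1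
    have := krullDimLE_one h1
    have := krullDimLE_one h2
    exact (ordFrac_congr e (i.residueFieldMap ζ).hom (fun a => (locQuotMap_comm i h.1 a).symm) g hg).symm
  · rw [dif_neg fun h' => h ⟨hiff.1 h'.1, h'.2⟩, dif_neg h]

/-- Pull back a cycle to a closed subscheme. -/
noncomputable def restrictClosed (i : Z ⟶ X) [IsClosedImmersion i] (α : AlgebraicCycle X ℤ) :
    AlgebraicCycle Z ℤ where
  toFun z := α (i z)
  supportWithinDomain' := by simp
  supportLocallyFiniteWithinDomain' z _ := by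
    obtain ⟨t, ht, hfin⟩ := α.supportLocallyFiniteWithinDomain' (i z) trivial
    refine ⟨i ⁻¹' t, i.continuous.continuousAt.preimage_mem_nhds ht, ?_⟩
    refine Set.Finite.subset (hfin.preimage i.isClosedEmbedding.injective.injOn) fun w hw => ?_
    exact ⟨hw.1, hw.2⟩

lemma restrictClosed_apply (i : Z ⟶ X) [IsClosedImmersion i] (α : AlgebraicCycle X ℤ) (z : Z) :
    restrictClosed i α z = α (i z) := rfl

end Groth.Agent.Cyc90
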