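import Groth.Agent.Cyc90.LimitPts
import Groth.Agent.Cyc90.C1Comm
import Groth.Agent.Cyc90.EnvelopeSeq
import Groth.Agent.Cyc90.FlatRelDim

/-! Cycles on affine bundles: the fibrewise criterion. -/

set_option autoImplicit false
universe u

open CategoryTheory AlgebraicGeometry TopologicalSpace IsLocalRing

namespace Groth.Agent.Cyc90

variable {X Y : Scheme.{u}}

/-- A function whose restriction to the fibre over `η` is a finite sum of principal divisors of
subvarieties dominating the closure of `η`. -/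
def FibKilled (f : X ⟶ Y) (δ : X → ℤ) (η : Y) (m : ℤ) (F : X → ℤ) : Prop :=
  ∃ (ι : Type u) (_ : Fintype ι) (ζ : ι → X) (g : (i : ι) → X.residueField (ζ i)),
    (∀ i, f (ζ i) = η ∧ δ (ζ i) = m + 1 ∧ g i ≠ 0) ∧
      ∀ x, f x = η → F x = ∑ i, Cyc.divFun δ (ζ i) (g i) x

open Classical in
/-- The indicator of a point. -/
noncomputable def pointFun (ξ : X) : X → ℤ := fun x => if x = ξ then 1 else 0

/-- The fibre over `η` behaves like an affine space of dimension `r` as far as cycles are concerned. -/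
def IsAffFibre (f : X ⟶ Y) (δX : X → ℤ) (δY : Y → ℤ) (r : ℕ) (η : Y) : Prop :=
  ∃ ζ : X, f ζ = η ∧ δX ζ = δY η + r ∧
    (maximalIdeal (Y.presheaf.stalk (f ζ))).map (f.stalkMap ζ).hom = maximalIdeal _ ∧
    (∀ x, f x = η → ζ ⤳ x) ∧
    ∀ ξ, f ξ = η → δX ξ < δY η + r → FibKilled f δX η (δX ξ) (pointFun ξ)

variable {f : X ⟶ Y} {δ : X → ℤ} {η : Y} {m : ℤ} {F G : X → ℤ}

lemma FibKilled.congr (h : FibKilled f δ η m F) (e : ∀ x, f x = η → F x = G x) : FibKilled f δ η m G := by
  obtain ⟨ι, hι, ζ, g, h1, h2⟩ := h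
  exact ⟨ι, hι, ζ, g, h1, fun x hx => (e x hx).symm.trans (h2 x hx)⟩

lemma fibKilled_zero : FibKilled f δ η m (fun _ => 0) :=
  ⟨PEmpty, inferInstance, fun i => i.elim, fun i => i.elim, fun i => i.elim, fun _ _ => by simp⟩

lemma FibKilled.add (h : FibKilled f δ η m F) (h' : FibKilled f δ η m G) :
    FibKilled f δ η m (fun x => F x + G x) := by
  obtain ⟨ι, hι, ζ, g, h1, h2⟩ := h
  obtain ⟨κ, hκ, ζ', g', h1', h2'⟩ := h'
  refine ⟨ι ⊕ κ, inferInstance, Sum.elim ζ ζ',
    fun j => Sum.rec (motive := fun j => X.residueField (Sum.elim ζ ζ' j)) g g' j, fun j => ?_, fun x hx => ?_⟩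
  · cases j; exacts [h1 _, h1' _]
  · dsimp only
    rw [Fintype.sum_sum_type, h2 x hx, h2' x hx]
    rfl

lemma FibKilled.smul (hX : Cyc.IsSetup X δ) (h : FibKilled f δ η m F) (c : ℤ) :
    FibKilled f δ η m (fun x => c * F x) := by
  obtain ⟨ι, hι, ζ, g, h1, h2⟩ := h
  refine ⟨ι, hι, ζ, fun i => g i ^ c, fun i => ⟨(h1 i).1, (h1 i).2.1, zpow_ne_zero _ (h1 i).2.2⟩, fun x hx => ?_⟩
  simp only [h2 x hx, Finset.mul_sum, divFun_zpow hX _ _ (h1 _).2.2]

lemma fibKilled_sum (hX : Cyc.IsSetup X δ) {κ : Type*} (s : Finset κ) (c : κ → ℤ) (G : κ → X → ℤ)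
    (h : ∀ a ∈ s, FibKilled f δ η m (G a)) : FibKilled f δ η m (fun x => ∑ a ∈ s, c a * G a x) := by
  classical
  induction s using Finset.induction with
  | empty => simpa using fibKilled_zero
  | insert a s ha ih =>
    exact (((h a (Finset.mem_insert_self _ _)).smul hX (c a)).add
      (ih fun b hb => h b (Finset.mem_insert_of_mem hb))).congr fun x _ => by rw [Finset.sum_insert ha]

lemma IsAffFibre.eq_generic {δY : Y → ℤ} (hX : Cyc.IsSetup X δ) {r : ℕ} {η : Y} {ζ x : X}
    (hd : δ ζ = δY η + r) (hspec : ζ ⤳ x) (hx : δY η + r ≤ δ x) : x = ζ := by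
  by_contra hne
  have := (hX.2.2 ζ x hspec (Ne.symm hne)).1
  omega

lemma isAffFibre_unique {δY : Y → ℤ} (hX : Cyc.IsSetup X δ) {r : ℕ} {η : Y}
    (h : IsAffFibre f δ δY r η) {x y : X} (hx : f x = η) (hy : f y = η)
    (hdx : δ x = δY η + r) (hdy : δ y = δY η + r) : x = y := by
  obtain ⟨ζ, -, hd, -, hall, -⟩ := h
  rw [IsAffFibre.eq_generic hX hd (hall x hx) hdx.ge, IsAffFibre.eq_generic hX hd (hall y hy) hdy.ge]

section Global

variable {δX : X → ℤ} {δY : Y → ℤ}

lemma pullFun_affFibre (hX : Cyc.IsSetup X δX) {r : ℕ} (h : ∀ η, IsAffFibre f δX δY r η) (a : Y → ℤ) (x : X) :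
    Cyc.pullFun f δX δY r a x = if δX x = δY (f x) + r then a (f x) else 0 := by
  unfold Cyc.pullFun
  split_ifs with hd
  · obtain ⟨ζ, hfζ, hdζ, hmax, hall, -⟩ := h (f x)
    obtain rfl := IsAffFibre.eq_generic hX hdζ (hall x rfl) hd.ge
    rw [length_fibre_eq_one f hmax]
    simp
  · rfl

lemma delta_le_delta (hδ : Cyc.DeltaCompat f δX δY) (x : X) : δY (f x) ≤ δX x := by
  obtain ⟨n, -, hd⟩ := hδ x
  omega

/-- On an affine morphism with affine-space-like fibres every cycle is a pullback up to rational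
equivalence. -/
theorem exists_pullFun_ratEquiv (hX : Cyc.IsSetup X δX) (hY : Cyc.IsSetup Y δY) [QuasiCompact f]
    (hδ : Cyc.DeltaCompat f δX δY) {r : ℕ} (h : ∀ η, IsAffFibre f δX δY r η) (k : ℤ)
    (β : AlgebraicCycle X ℤ) (hβ : β ∈ Cyc.Zk X δX (k + r)) :
    ∃ (α : AlgebraicCycle Y ℤ) (β' : AlgebraicCycle X ℤ), α ∈ Cyc.Zk Y δY k ∧
      ⇑β' = Cyc.pullFun f δX δY r ⇑α ∧ Cyc.RatEquiv δX (k + r) β β' := by
  classical
  have hfinV : ∀ y : Y, ∀ γ : AlgebraicCycle X ℤ, ∃ V : Y.Opens, y ∈ V ∧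
      ((f ⁻¹' (V : Set Y)) ∩ Function.support γ).Finite := fun y γ => by
    obtain ⟨V, hV, hyV, -⟩ := exists_isAffineOpen_mem_and_subset (X := Y) (x := y) (U := ⊤) trivial
    exact ⟨V, hyV, LocallyFiniteSupport.finite_inter_support_of_isCompact (f := (γ : X → ℤ))
      (fun z => γ.supportLocallyFiniteWithinDomain' z trivial) (f.isCompact_preimage hV.isCompact)⟩
  suffices H : ∀ n : ℕ, ∀ γ : AlgebraicCycle X ℤ, γ ∈ Cyc.Zk X δX (k + r) →
      (∀ x, γ x ≠ 0 → δY (f x) ≤ k + n) →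
      ∃ (α : AlgebraicCycle Y ℤ) (β' : AlgebraicCycle X ℤ), α ∈ Cyc.Zk Y δY k ∧
        ⇑β' = Cyc.pullFun f δX δY r ⇑α ∧ Cyc.RatEquiv δX (k + r) γ β' from
    H r β hβ fun x hx => (delta_le_delta hδ x).trans
      (le_of_eq (by by_contra hne; exact hx (hβ x hne)))
  intro n
  induction n with
  | zero =>
    intro γ hγ hle
    choose ζ hfζ hdζ hmax hall hkill using h
    let α : AlgebraicCycle Y ℤ :=
      { toFun := fun y => if δY y = k then γ (ζ y) else 0
        supportWithinDomain' := by simp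
        supportLocallyFiniteWithinDomain' := fun y _ => by
          obtain ⟨V, hyV, hfin⟩ := hfinV y γ
          refine ⟨V, V.2.mem_nhds hyV, (hfin.image f).subset ?_⟩
          rintro z ⟨hzV, hz⟩
          simp only [Function.mem_support] at hz
          split_ifs at hz with hk
          · exact ⟨ζ z, ⟨show f (ζ z) ∈ V by rw [hfζ]; exact hzV, hz⟩, hfζ z⟩
          · exact absurd rfl hz }
    refine ⟨α, γ, fun y hy => if_neg hy, funext fun x => ?_, ?_⟩
    · rw [pullFun_affFibre hX (fun η => ⟨ζ η, hfζ η, hdζ η, hmax η, hall η, hkill η⟩)]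
      by_cases hγx : γ x = 0
      · rw [hγx]
        split_ifs with hd
        · change 0 = if δY (f x) = k then γ (ζ (f x)) else 0
          rw [← IsAffFibre.eq_generic hX (hdζ (f x)) (hall (f x) x rfl) hd.ge, hγx, ite_self]
        · rfl
      · have h1 : δX x = k + r := by by_contra hne; exact hγx (hγ x hne)
        have h2 : δY (f x) ≤ k := by simpa using hle x hγx
        have h3 : δX x ≤ δY (f x) + r := by
          by_contra hne
          have he := IsAffFibre.eq_generic hX (hdζ (f x)) (hall (f x) x rfl) (by omega)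
          have h0 := hdζ (f x)
          rw [← he] at h0
          omega
        have h4 : δY (f x) = k := by omega
        rw [if_pos (show δX x = δY (f x) + r by omega)]
        change γ x = if δY (f x) = k then γ (ζ (f x)) else 0
        rw [if_pos h4, ← IsAffFibre.eq_generic hX (hdζ (f x)) (hall (f x) x rfl) (by omega)]
    · unfold Cyc.RatEquiv
      rw [sub_self]
      exact ⟨PEmpty, fun i => i.elim, fun i => i.elim, fun i => i.elim, fun i => i.elim,
        fun x => ⟨Set.univ, isOpen_univ, trivial, Set.toFinite _⟩, fun x => (finsum_of_isEmpty _).symm⟩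
  | succ n ih =>
    intro γ hγ hle
    let S : Set X := {ξ | γ ξ ≠ 0 ∧ δY (f ξ) = k + (n + 1)}
    have hkill : ∀ ξ : S, FibKilled f δX (f ξ.1) (k + r) (pointFun ξ.1) := fun ξ => by
      obtain ⟨ζ, -, -, -, -, hk⟩ := h (f ξ.1)
      have hd : δX ξ.1 = k + r := by by_contra hne; exact ξ.2.1 (hγ _ hne)
      have := hk ξ.1 rfl (by rw [hd, ξ.2.2]; omega)
      rwa [hd] at this
    choose ι hι ζ g hζ hsum using hkill
    have hlf : ∀ x : X, ∃ U : Set X, IsOpen U ∧ x ∈ U ∧
        {p : Σ ξ : S, ι ξ | (closure {ζ p.1 p.2} ∩ U).Nonempty}.Finite := fun x => by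
      obtain ⟨V, hxV, hfin⟩ := hfinV (f x) γ
      have hS : {ξ : S | f ξ.1 ∈ V}.Finite :=
        (hfin.preimage Subtype.val_injective.injOn).subset fun ξ hξ => ⟨hξ, ξ.2.1⟩
      refine ⟨f ⁻¹' V, V.2.preimage f.continuous, hxV,
        (hS.biUnion fun ξ _ => Set.finite_range (Sigma.mk ξ)).subset ?_⟩
      rintro ⟨ξ, i⟩ ⟨y, hy, hyV⟩
      refine Set.mem_biUnion (show f ξ.1 ∈ V from ?_) ⟨i, rfl⟩
      exact (hζ ξ i).1 ▸ ((specializes_iff_mem_closure.2 hy).map f.continuous).mem_open V.2 hyV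
    let gg : (p : Σ ξ : S, ι ξ) → X.residueField (ζ p.1 p.2) := fun p => g p.1 p.2 ^ γ p.1.1
    have hgg : ∀ p, gg p ≠ 0 := fun p => zpow_ne_zero _ (hζ p.1 p.2).2.2
    let ρ := divSum hX (fun p : Σ ξ : S, ι ξ => ζ p.1 p.2) gg hgg hlf
    have hρ : Cyc.RatEquivZero δX (k + r) ρ :=
      ⟨_, fun p : Σ ξ : S, ι ξ => ζ p.1 p.2, gg, fun p => (hζ p.1 p.2).2.1, hgg, hlf, fun x => rfl⟩
    have hρmem : ∀ x, δX x ≠ k + r → ρ x = 0 := fun x hx => by
      rw [divSum_apply]
      refine finsum_eq_zero_of_forall_eq_zero fun p => dif_neg fun hh => hx ?_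
      have := (hζ p.1 p.2).2.1
      omega
    have hρtop : ∀ x, k + (n + 1) ≤ δY (f x) → ρ x = if δY (f x) = k + (n + 1) then γ x else 0 := by
      intro x hx
      rw [divSum_apply]
      have hzero : ∀ p : Σ ξ : S, ι ξ, f p.1.1 ≠ f x → Cyc.divFun δX (ζ p.1 p.2) (gg p) x = 0 := by
        intro p hp
        refine dif_neg fun hh => ?_
        have h1 : f p.1.1 ⤳ f x := (hζ p.1 p.2).1 ▸ hh.1.map f.continuous
        have h2 := (hY.2.2 _ _ h1 hp).1
        have := p.1.2.2
        omega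
      split_ifs with hd
      swap
      · exact finsum_eq_zero_of_forall_eq_zero fun p => hzero p fun e => hd (e ▸ p.1.2.2)
      obtain ⟨V, hxV, hfin⟩ := hfinV (f x) γ
      let T : Finset S := ((hfin.preimage Subtype.val_injective.injOn).subset
        (fun (ξ : S) (hξ : f ξ.1 = f x) => ⟨show f ξ.1 ∈ V from hξ ▸ hxV, ξ.2.1⟩)).toFinset
      have hT : ∀ ξ : S, ξ ∈ T ↔ f ξ.1 = f x := fun ξ => Set.Finite.mem_toFinset _
      rw [finsum_eq_sum_of_support_subset (s := T.sigma fun ξ => (Finset.univ : Finset (ι ξ))) _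
        (fun p hp => Finset.mem_coe.2 (Finset.mem_sigma.2 ⟨(hT _).2 (by_contra fun e => hp (hzero p e)),
          Finset.mem_univ _⟩)), Finset.sum_sigma]
      have hinner : ∀ ξ ∈ T, ∑ i, Cyc.divFun δX (ζ ξ i) (gg ⟨ξ, i⟩) x = γ ξ.1 * pointFun ξ.1 x := by
        intro ξ hξ
        rw [hsum ξ x ((hT ξ).1 hξ).symm, Finset.mul_sum]
        exact Finset.sum_congr rfl fun i _ => divFun_zpow hX _ _ (hζ ξ i).2.2 _ _
      rw [Finset.sum_congr rfl hinner]
      by_cases hγx : γ x = 0
      · rw [hγx]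
        refine Finset.sum_eq_zero fun ξ _ => ?_
        simp only [pointFun]
        split_ifs with e
        · exact absurd (e ▸ hγx) ξ.2.1
        · rw [mul_zero]
      · rw [Finset.sum_eq_single ⟨x, hγx, hd⟩]
        · simp [pointFun]
        · intro ξ _ hne
          rw [pointFun, if_neg fun e => hne (Subtype.ext e.symm), mul_zero]
        · exact fun h' => absurd ((hT _).2 rfl) h'
    have hmem : γ - ρ ∈ Cyc.Zk X δX (k + r) := fun x hx => by
      rw [Function.locallyFinsuppWithin.coe_sub, Pi.sub_apply, hγ x hx, hρmem x hx, sub_zero]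
    obtain ⟨α, β', hα, hβ', hr'⟩ := ih (γ - ρ) hmem fun x hx => by
      by_contra hne
      refine hx ?_
      rw [Function.locallyFinsuppWithin.coe_sub, Pi.sub_apply, hρtop x (by push_cast at hne ⊢; omega)]
      split_ifs with hd
      · exact sub_self _
      · rw [sub_zero]
        by_contra hg
        have := hle x hg
        push_cast at this hne hd ⊢
        omega
    refine ⟨α, β', hα, hβ', ?_⟩
    have := ratEquivZero_add hρ hr'
    unfold Cyc.RatEquiv
    rwa [show γ - β' = ρ + (γ - ρ - β') by abel]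

end Global

/-- Transport along open immersions of base and total space. -/
theorem isAffFibre_of_square {X' Y' : Scheme.{u}} (f : X ⟶ Y) (f' : X' ⟶ Y') (j : X' ⟶ X) (i : Y' ⟶ Y)
    [IsOpenImmersion j] [IsOpenImmersion i] (hsq : j ≫ f = f' ≫ i)
    (hrange : f ⁻¹' Set.range i ⊆ Set.range j) {δX : X → ℤ} {δY : Y → ℤ} (hX : Cyc.IsSetup X δX)
    {r : ℕ} (η' : Y') (h : IsAffFibre f' (fun z => δX (j z)) (fun y => δY (i y)) r η') :
    IsAffFibre f δX δY r (i η') := by
  obtain ⟨ζ, hfζ, hdζ, hmax, hall, hkill⟩ := h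
  have hc : ∀ z, f (j z) = i (f' z) := fun z => congrArg (fun k : X' ⟶ Y => k z) hsq
  have hlift : ∀ x, f x = i η' → ∃ z, j z = x ∧ f' z = η' := fun x hx => by
    obtain ⟨z, rfl⟩ := hrange (show f x ∈ Set.range i from ⟨η', hx.symm⟩)
    exact ⟨z, rfl, i.isOpenEmbedding.injective ((hc z).symm.trans hx)⟩
  refine ⟨j ζ, by rw [hc, hfζ], hdζ, ?_, fun x hx => ?_, fun ξ hξ hd => ?_⟩
  · have hmaxid : ∀ {A B : Scheme.{u}} (p : A ⟶ B) [IsOpenImmersion p] (a : A),
        (maximalIdeal (B.presheaf.stalk (p a))).map (p.stalkMap a).hom = maximalIdeal _ := fun p _ a => by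
      have hb : Function.Bijective (p.stalkMap a).hom := ConcreteCategory.bijective_of_isIso _
      exact IsLocalRing.map_maximalIdeal_of_surjective _ hb.2
    have hmove : ∀ (a b : X' ⟶ Y), a = b →
        (maximalIdeal (Y.presheaf.stalk (a ζ))).map (a.stalkMap ζ).hom = maximalIdeal _ →
        (maximalIdeal (Y.presheaf.stalk (b ζ))).map (b.stalkMap ζ).hom = maximalIdeal _ :=
      fun a b e h => e ▸ h
    have hcomp : ∀ {A B C : Scheme.{u}} (a : A ⟶ B) (b : B ⟶ C) (z : A),
        (maximalIdeal (C.presheaf.stalk ((a ≫ b) z))).map ((a ≫ b).stalkMap z).hom =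
          ((maximalIdeal (C.presheaf.stalk (b (a z)))).map (b.stalkMap (a z)).hom).map (a.stalkMap z).hom := by
      intro A B C a b z
      refine Eq.trans ?_ (Ideal.map_map _ _).symm
      exact congrArg (fun φ : _ ⟶ A.presheaf.stalk z => Ideal.map φ.hom _) (Scheme.Hom.stalkMap_comp a b z)
    have h2 : (maximalIdeal (Y.presheaf.stalk ((j ≫ f) ζ))).map ((j ≫ f).stalkMap ζ).hom =
        maximalIdeal _ := by
      refine hmove _ _ hsq.symm ?_
      rw [hcomp]
      exact (congrArg (Ideal.map _) (hmaxid i (f' ζ))).trans hmax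
    rw [hcomp, ← hmaxid j ζ] at h2
    have hb : Function.Bijective (j.stalkMap ζ).hom := ConcreteCategory.bijective_of_isIso _
    exact (Ideal.comap_map_of_bijective _ hb).symm.trans ((congrArg (Ideal.comap _) h2).trans (Ideal.comap_map_of_bijective _ hb))
  · obtain ⟨z, rfl, hz⟩ := hlift x hx
    exact (hall z hz).map j.continuous
  · obtain ⟨z, rfl, hz⟩ := hlift ξ hξ
    obtain ⟨ι, hι, w, g, hw, hsum⟩ := hkill z hz hd
    choose g' hg' using fun a => residueFieldMap_surjective j (w a) (g a)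
    have hne : ∀ a, g' a ≠ 0 := fun a h0 => (hw a).2.2 (by rw [← hg' a, h0, map_zero])
    refine ⟨ι, hι, fun a => j (w a), g', fun a => ⟨by rw [hc, (hw a).1], (hw a).2.1, hne a⟩, fun x hx => ?_⟩
    obtain ⟨z', rfl, hz'⟩ := hlift x hx
    have : pointFun (j z) (j z') = pointFun z z' := by
      simp only [pointFun]
      by_cases h : z' = z
      · rw [if_pos h, if_pos (congrArg (fun w => j w) h)]
      · rw [if_neg h, if_neg fun e => h (j.isOpenEmbedding.injective e)]
    rw [this, hsum z' hz']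
    refine Finset.sum_congr rfl fun a _ => ?_
    rw [divFun_preimmersion j hX (w a) z' (g' a) (hne a), hg' a]

section Comp

variable {W : Scheme.{u}}

/-- Composition with a morphism with line-like fibres. -/
theorem isAffFibre_comp (p : X ⟶ W) [Flat p] (π : W ⟶ Y) {δX : X → ℤ} {δW : W → ℤ} {δY : Y → ℤ}
    (hX : Cyc.IsSetup X δX) (hW : Cyc.IsSetup W δW) [CompactSpace X] (hδ : Cyc.DeltaCompat p δX δW)
    (hc : ShiftAt p δX δW 1) {r : ℕ} (hp : ∀ w, IsAffFibre p δX δW 1 w) (η : Y)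
    (hπ : IsAffFibre π δW δY r η) : IsAffFibre (p ≫ π) δX δY (r + 1) η := by
  classical
  have := hX.1
  obtain ⟨z₀, hfz₀, hdz₀, hmz₀, hall₀, hkill₀⟩ := hπ
  have hp' := hp
  choose Z hpZ hdZ hmZ hallZ hkillZ using hp
  have hgen : ∀ x, δX x ≤ δW (p x) + 1 := fun x => by
    by_contra hne
    have he := IsAffFibre.eq_generic hX (hdZ (p x)) (hallZ (p x) x rfl) (by omega)
    rw [he, hdZ, hpZ] at hne
    omega
  have hspec : ∀ {a b : W}, a ⤳ b → Z a ⤳ Z b := fun {a b} hab => by
    obtain ⟨w, hw, hpw⟩ := Flat.generalizingMap p (show a ⤳ p (Z b) from (hpZ b).symm ▸ hab)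
    exact (hallZ a w hpw).trans hw
  -- pullbacks of killed functions
  have hpull : ∀ w, π w = η → δW w < δY η + r → FibKilled (p ≫ π) δX η (δW w + 1) (pointFun (Z w)) := by
    intro w hw hd
    obtain ⟨ι, hι, ω, h, hω, hsum⟩ := hkill₀ w hw hd
    refine ⟨ι, hι, fun a => Z (ω a), fun a => (p.residueFieldMap (Z (ω a))).hom
      ((W.residueFieldCongr (hpZ (ω a)).symm).hom (h a)), fun a => ⟨?_, ?_, ?_⟩, fun x hx => ?_⟩
    · rw [Scheme.Hom.comp_apply, hpZ]; exact (hω a).1
    · dsimp only; rw [hdZ]; have := (hω a).2.1; omega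
    · exact (map_ne_zero _).2 (map_ne_zero_iff _ (ConcreteCategory.bijective_of_isIso _).1 |>.2 (hω a).2.2)
    · have hterm : ∀ a, Cyc.pullFun p δX δW 1 (Cyc.divFun δW (ω a) (h a)) x =
          Cyc.divFun δX (Z (ω a)) ((p.residueFieldMap (Z (ω a))).hom
            ((W.residueFieldCongr (hpZ (ω a)).symm).hom (h a))) x := fun a => by
        rw [pullFun_divFun_point hX hW p hc (ω a) (h a) (hω a).2.2 x]
        let z₁ : {z : X // p z = ω a ∧ ∀ w, p w = ω a → w ⤳ z → w = z} :=
          ⟨Z (ω a), hpZ _, fun w hw hwz => ((hallZ (ω a) w hw).antisymm hwz).eq.symm⟩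
        rw [finsum_eq_single _ z₁ fun z hz => absurd (Subtype.ext
          (z.2.2 (Z (ω a)) (hpZ _) (hallZ _ z.1 z.2.1)).symm) hz]
        simp only [z₁]
        rw [length_fibre_eq_one p (hmZ (ω a))]
        simp
      simp only [← hterm]
      have e : (∑ a, Cyc.pullFun p δX δW 1 (Cyc.divFun δW (ω a) (h a)) x) =
          if δX x = δW (p x) + 1 then pointFun w (p x) else 0 := by
        have he : ∀ b : W → ℤ, Cyc.pullFun p δX δW 1 b x = if δX x = δW (p x) + 1 then b (p x) else 0 := fun b => by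
          have := pullFun_affFibre hX hp' b x
          simpa using this
        simp only [he]
        split_ifs with hd
        · exact (hsum (p x) (by rw [← hx, Scheme.Hom.comp_apply])).symm
        · exact Finset.sum_const_zero
      rw [e]
      simp only [pointFun]
      by_cases hxw : x = Z w
      · subst hxw
        rw [if_pos rfl, if_pos (by rw [hdZ, hpZ]; norm_num), if_pos (hpZ w)]
      · rw [if_neg hxw]
        split_ifs with h1 h2
        · exact absurd (IsAffFibre.eq_generic hX (hdZ w) (hallZ w x h2) (by rw [h1, h2]; norm_num)) hxw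
        all_goals rfl
  refine ⟨Z z₀, by rw [Scheme.Hom.comp_apply, hpZ, hfz₀], by rw [hdZ, hdz₀]; push_cast; ring, ?_,
    fun x hx => (hspec (hall₀ (p x) (by rw [← hx, Scheme.Hom.comp_apply]))).trans (hallZ (p x) x rfl),
    fun ξ hξ hd => ?_⟩
  · refine (congrArg (fun φ : _ ⟶ X.presheaf.stalk (Z z₀) => Ideal.map φ.hom _)
      (Scheme.Hom.stalkMap_comp p π (Z z₀))).trans ?_
    refine (Ideal.map_map _ _).symm.trans ?_
    refine (congrArg (Ideal.map _) ?_).trans (hmZ z₀)
    have hcast : ∀ (a b : W), a = b → (maximalIdeal (Y.presheaf.stalk (π b))).map (π.stalkMap b).hom = maximalIdeal _ →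
        (maximalIdeal (Y.presheaf.stalk (π a))).map (π.stalkMap a).hom = maximalIdeal _ := fun a b e h => e ▸ h
    exact hcast _ _ (hpZ z₀) hmz₀
  rw [Scheme.Hom.comp_apply] at hξ
  push_cast at hd
  have hlow := delta_le_delta hδ ξ
  by_cases hξZ : δX ξ = δW (p ξ) + 1
  · have e : ξ = Z (p ξ) := IsAffFibre.eq_generic hX (hdZ (p ξ)) (hallZ (p ξ) ξ rfl) (by rw [hξZ]; norm_num)
    have := hpull (p ξ) hξ (by omega)
    rwa [← e, ← hξZ] at this
  have hdξ : δX ξ = δW (p ξ) := by have := hgen ξ; omega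
  obtain ⟨ι, hι, ω, g, hω, hsum⟩ := hkillZ (p ξ) ξ rfl (by omega)
  let D : X → ℤ := fun x => ∑ a, Cyc.divFun δX (ω a) (g a) x
  have hD : FibKilled (p ≫ π) δX η (δX ξ) D := ⟨ι, hι, ω, g,
    fun a => ⟨by rw [Scheme.Hom.comp_apply, (hω a).1, hξ], (hω a).2⟩, fun x _ => rfl⟩
  have hfin : (Function.support D).Finite := by
    refine (Set.finite_iUnion fun a : ι =>
      finite_support_of_compactSpace (divCycle hX (ω a) (g a) (hω a).2.2)).subset fun x hx => ?_
    obtain ⟨a, -, ha⟩ := Finset.exists_ne_zero_of_sum_ne_zero hx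
    exact Set.mem_iUnion.2 ⟨a, ha⟩
  let T : Finset X := hfin.toFinset.filter fun x => π (p x) = η ∧ p x ≠ p ξ
  have hT : ∀ x ∈ T, FibKilled (p ≫ π) δX η (δX ξ) (pointFun x) := by
    intro x hx
    obtain ⟨hxs, hπx, hpx⟩ := Finset.mem_filter.1 hx
    obtain ⟨a, -, ha⟩ := Finset.exists_ne_zero_of_sum_ne_zero (hfin.mem_toFinset.1 hxs)
    unfold Cyc.divFun at ha
    split_ifs at ha with h1
    swap
    · exact absurd rfl ha
    have hdx : δX x = δX ξ := by have := (hω a).2.1; omega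
    have hs : p ξ ⤳ p x := (hω a).1 ▸ h1.1.map p.continuous
    have h2 := (hW.2.2 _ _ hs (Ne.symm hpx)).1
    have h3 := hgen x
    have hw : δW (p x) + 1 = δX ξ := by omega
    have hxZ : x = Z (p x) := IsAffFibre.eq_generic hX (hdZ (p x)) (hallZ (p x) x rfl) (by norm_num; omega)
    have := hpull (p x) hπx (by omega)
    rwa [← hxZ, hw] at this
  refine (hD.add (fibKilled_sum hX T (fun x => -D x) (fun x => pointFun x) hT)).congr fun x hx => ?_
  rw [Scheme.Hom.comp_apply] at hx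
  simp only [pointFun, mul_ite, mul_one, mul_zero, Finset.sum_ite_eq]
  by_cases hpx : p x = p ξ
  · rw [if_neg (fun h => (Finset.mem_filter.1 h).2.2 hpx), add_zero]
    exact (hsum x hpx).symm
  · rw [if_neg (fun e : x = ξ => hpx (congrArg (fun z => p z) e))]
    split_ifs with hxT
    · exact add_neg_cancel _
    · rw [add_zero]
      by_contra hne
      exact hxT (Finset.mem_filter.2 ⟨hfin.mem_toFinset.2 hne, hx, hpx⟩)

end Comp

end Groth.Agent.Cyc90
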