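import Groth.Agent.Cyc90.OrdNorm
import Mathlib.RingTheory.Flat.Rank
import Mathlib.RingTheory.TensorProduct.Quotient
import Mathlib.LinearAlgebra.Dimension.Constructions

/-! Multiplicities in the closed fibre of a finite free algebra over a local ring. -/

set_option autoImplicit false
universe u

open IsLocalRing TensorProduct

namespace Groth.Agent.Cyc90

lemma toNat_finset_sum_of_ne_top {ι : Type*} (s : Finset ι) (f : ι → ℕ∞) (h : ∑ i ∈ s, f i ≠ ⊤) :
    (∑ i ∈ s, f i).toNat = ∑ i ∈ s, (f i).toNat := by
  induction s using Finset.cons_induction with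
  | empty => simp
  | cons a s ha ih =>
    rw [Finset.sum_cons] at h ⊢
    rw [Finset.sum_cons, ENat.toNat_add (fun e => h (by rw [e, top_add])) (fun e => h (by rw [e, add_top])),
      ih (fun e => h (by rw [e, add_top]))]

/-- The length of a quotient of a ring by an ideal is invariant under ring isomorphisms. -/
lemma length_quot_ringEquiv {A A' : Type u} [CommRing A] [CommRing A'] (e : A ≃+* A') (I : Ideal A) :
    Module.length A' (A' ⧸ I.map e.toRingHom) = Module.length A (A ⧸ I) := by
  let : Algebra A A' := e.toRingHom.toAlgebra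
  have : RingHomSurjective (algebraMap A A') := ⟨e.surjective⟩
  let q : (A ⧸ I) ≃+* (A' ⧸ I.map e.toRingHom) := Ideal.quotientEquiv _ _ e rfl
  let l : (A ⧸ I) ≃ₗ[A] (A' ⧸ I.map e.toRingHom) :=
    { q.toAddEquiv with
      map_smul' := fun a z => by
        obtain ⟨w, rfl⟩ := Ideal.Quotient.mk_surjective z
        show q (Ideal.Quotient.mk _ (a * w)) = a • q (Ideal.Quotient.mk _ w)
        rw [map_mul, map_mul]
        rfl }
  rw [l.length_eq]
  exact (Module.length_eq_of_surjective (R := A') (S := A) e.surjective).symm

/-- The length at a prime of a quotient ring. -/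
lemma locLen_quot {B : Type u} [CommRing B] (q : Ideal B) [q.IsPrime] (I : Ideal B) :
    Len90.locLen q (B ⧸ I) =
      Module.length (Localization.AtPrime q)
        (Localization.AtPrime q ⧸ I.map (algebraMap B (Localization.AtPrime q))) := by
  let S := Localization.AtPrime q
  let f := Submodule.toLocalizedQuotient' S q.primeCompl (Algebra.linearMap B S) I
  have e := (IsLocalizedModule.iso q.primeCompl f).extendScalarsOfIsLocalization q.primeCompl S
  rw [Len90.locLen, e.length_eq]
  refine (Submodule.quotEquivOfEq _ _ ?_).length_eq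
  rw [Submodule.localized'_eq_span]
  rfl

lemma locLen_maximalIdeal_of_local {A : Type u} [CommRing A] [IsLocalRing A] (N : Type u) [AddCommGroup N]
    [Module A N] :
    Len90.locLen (maximalIdeal A) N = Module.length A N := by
  rw [Len90.locLen]
  have hu : ∀ s : (maximalIdeal A).primeCompl, IsUnit (s : A) := fun s => by
    by_contra h; exact s.2 h
  have : IsLocalization (maximalIdeal A).primeCompl A :=
    IsLocalization.self fun x hx => hu ⟨x, hx⟩
  have : IsLocalizedModule (maximalIdeal A).primeCompl (LinearMap.id : N →ₗ[A] N) :=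
    { map_units := fun s => by
        rw [Module.End.isUnit_iff]
        obtain ⟨v, hv⟩ := hu s
        refine ⟨fun a b e => ?_, fun b => ⟨(↑v⁻¹ : A) • b, ?_⟩⟩
        · simp only [Module.algebraMap_end_apply] at e
          simpa [← hv, smul_smul] using congrArg ((↑v⁻¹ : A) • ·) e
        · simp [← hv, smul_smul]
      surj := fun y => ⟨⟨y, 1⟩, by simp⟩
      exists_of_eq := fun {a b} h => ⟨1, by simpa using h⟩ }
  have e : LocalizedModule (maximalIdeal A).primeCompl N ≃ₗ[A] N :=
    IsLocalizedModule.iso (maximalIdeal A).primeCompl LinearMap.id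
  have hs : Function.Surjective (algebraMap A (Localization.AtPrime (maximalIdeal A))) :=
    (IsLocalization.atUnits A (maximalIdeal A).primeCompl
      (fun x hx => hu ⟨x, hx⟩) (S := Localization.AtPrime (maximalIdeal A))).surjective
  rw [← Module.length_eq_of_surjective (S := A) hs, e.length_eq]

variable {A B : Type u} [CommRing A] [IsNoetherianRing A] [IsLocalRing A] [CommRing B] [Algebra A B]
  [Module.Finite A B] [Module.Free A B]

lemma length_closedFibre :
    Module.length A (B ⧸ (maximalIdeal A).map (algebraMap A B)) = Module.finrank A B := by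
  let e1 : (B ⧸ (maximalIdeal A).map (algebraMap A B)) ≃ₗ[A] ((A ⧸ maximalIdeal A) ⊗[A] B) :=
    ((TensorProduct.quotTensorEquivQuotSMul B (maximalIdeal A)) ≪≫ₗ
      Submodule.quotEquivOfEq _ _ (Ideal.smul_top_eq_map (maximalIdeal A)) ≪≫ₗ
      Submodule.Quotient.restrictScalarsEquiv A _).symm
  have hs : Function.Surjective (algebraMap A (A ⧸ maximalIdeal A)) := Ideal.Quotient.mk_surjective
  let : Field (A ⧸ maximalIdeal A) := Ideal.Quotient.field _
  rw [e1.length_eq, Module.length_eq_of_surjective (R := A ⧸ maximalIdeal A) hs, Module.length_eq_finrank,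
    Module.finrank_baseChange]

/-- The multiplicities of the closed fibre weighted by the residue degrees sum to the rank. -/
theorem sum_degAt_mul_length [Fintype (MaximalSpectrum B)] (C : MaximalSpectrum B → Type u)
    [∀ P, CommRing (C P)] [∀ P, Algebra B (C P)] [∀ P, IsLocalization.AtPrime (C P) P.asIdeal] :
    ∑ P : MaximalSpectrum B, degAt A P *
      (Module.length (C P) (C P ⧸ (maximalIdeal A).map ((algebraMap B (C P)).comp (algebraMap A B)))).toNat =
      Module.finrank A B := by
  have hB : IsNoetherianRing B := IsNoetherianRing.of_finite A B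
  let q : MaximalSpectrum A := ⟨maximalIdeal A, maximalIdeal.isMaximal A⟩
  have hq : ∀ P : MaximalSpectrum B, q.asIdeal = P.asIdeal.comap (algebraMap A B) := fun P => by
    have := P.isMaximal
    exact (IsLocalRing.eq_maximalIdeal
      (Ideal.isMaximal_comap_of_isIntegral_of_isMaximal (R := A) P.asIdeal)).symm
  let I := (maximalIdeal A).map (algebraMap A B)
  have h1 := TameAlg50.locLen_fibre (B := A) (C := B) q Finset.univ (fun P => by simpa using hq P)
    (B ⧸ I) (fun p hp => by
      rw [Module.mem_support_iff_of_finite, Ideal.annihilator_quotient] at hp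
      refine Ideal.isMaximal_of_isIntegral_of_isMaximal_comap (R := A) p.asIdeal ?_
      have hle : maximalIdeal A ≤ p.asIdeal.comap (algebraMap A B) := Ideal.map_le_iff_le_comap.1 hp
      rw [← (maximalIdeal.isMaximal A).eq_of_le Ideal.IsPrime.ne_top' hle]
      exact maximalIdeal.isMaximal A)
  rw [locLen_maximalIdeal_of_local, length_closedFibre (A := A) (B := B)] at h1
  rw [Finset.sum_attach (Finset.univ : Finset (MaximalSpectrum B)) (fun P =>
    (TameAlg50.deg q P (hq P) : ℕ∞) * Len90.locLen P.asIdeal (B ⧸ I))] at h1
  have h2 := toNat_finset_sum_of_ne_top Finset.univ _ (h1 ▸ ENat.natCast_ne_top _)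
  rw [← h1, ENat.toNat_natCast] at h2
  refine (Finset.sum_congr rfl fun P _ => ?_).trans h2.symm
  rw [ENat.toNat_mul, ENat.toNat_natCast, locLen_quot]
  congr 2
  let e := (IsLocalization.algEquiv P.asIdeal.primeCompl (Localization.AtPrime P.asIdeal) (C P))
  rw [← length_quot_ringEquiv e.toRingEquiv, Ideal.map_map, Ideal.map_map,
    show (e.toRingEquiv.toRingHom.comp (algebraMap B (Localization.AtPrime P.asIdeal))) = algebraMap B (C P)
      from RingHom.ext e.commutes]

end Groth.Agent.Cyc90
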