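import Groth.Agent.Len90.Multiplicity
import Groth.Agent.Cyc90.DimFun
import Groth.Agent.Cyc90.SecDiv
import Groth.Agent.Cyc90.FlatFinAlg
import Groth.Agent.Cyc90.PushLen

/-! The multiplicity formula on a scheme: the length of a quotient by a regular element as a sum of
orders over the generizations of dimension one more. -/

set_option autoImplicit false
universe u

open CategoryTheory AlgebraicGeometry TopologicalSpace IsLocalRing

namespace Groth.Agent.Cyc90

/-- The order in a quotient domain as a length over the ring. -/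
lemma ord_quot_mk {A : Type u} [CommRing A] (p : Ideal A) (a : A) :
    Ring.ord (A ⧸ p) (Ideal.Quotient.mk p a) = Module.length A (A ⧸ (p ⊔ Ideal.span {a})) := by
  let I : Ideal (A ⧸ p) := Ideal.span {Ideal.Quotient.mk p a}
  have hI : I = (Ideal.span {a}).map (Ideal.Quotient.mk p) := by
    rw [Ideal.map_span, Set.image_singleton]
  let e : (A ⧸ (p ⊔ Ideal.span {a})) ≃+* ((A ⧸ p) ⧸ I) :=
    (DoubleQuot.quotQuotEquivQuotSup p (Ideal.span {a})).symm.trans (Ideal.quotEquivOfEq hI.symm)
  refine (length_eq_of_semilinear (Ideal.Quotient.mk p) Ideal.Quotient.mk_surjective e.toAddEquiv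
    fun b m => ?_).symm
  obtain ⟨m, rfl⟩ := Ideal.Quotient.mk_surjective m
  change e (Ideal.Quotient.mk _ (b * m)) = _
  rw [map_mul, map_mul]
  rfl

variable {X : Scheme.{u}} {δ : X → ℤ}

lemma length_localization_eq {x z : X} (h : z ⤳ x) :
    Module.length (X.presheaf.stalk z) (X.presheaf.stalk z) =
      Len90.locLen (genPrime h).asIdeal (X.presheaf.stalk x) := by
  let := (X.presheaf.stalkSpecializes h).hom.toAlgebra
  have := isLocalization_genPrime h
  let p := (genPrime h).asIdeal
  let e : Localization.AtPrime p ≃+* X.presheaf.stalk z :=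
    (IsLocalization.algEquiv p.primeCompl (Localization.AtPrime p) (X.presheaf.stalk z)).toRingEquiv
  have e1 : LocalizedModule p.primeCompl (X.presheaf.stalk x) ≃ₗ[Localization.AtPrime p]
      Localization.AtPrime p :=
    (IsLocalizedModule.iso p.primeCompl (Algebra.linearMap (X.presheaf.stalk x)
      (Localization.AtPrime p))).extendScalarsOfIsLocalization p.primeCompl (Localization.AtPrime p)
  rw [Len90.locLen, e1.length_eq]
  refine (length_eq_of_semilinear e.toRingHom e.surjective e.toAddEquiv fun a m => ?_).symm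
  exact map_mul e a m

open Classical in
/-- `length O_x/(a)` is the sum over the generizations one dimension up of length times order. -/
theorem length_quot_eq_sum (hX : Cyc.IsSetup X δ) {k : ℤ} {x : X} (hx : δ x = k)
    (hdim : ∀ z, z ⤳ x → δ z ≤ k + 1) (a : X.presheaf.stalk x)
    (hinj : Function.Injective (fun b => b * a))
    (hne : ∀ z (h : z ⤳ x), δ z = k + 1 → Cyc.specMap x z h a ≠ 0) :
    ((Module.length (X.presheaf.stalk x) (X.presheaf.stalk x ⧸ Ideal.span {a})).toNat : ℤ) =
      ∑ᶠ z : X, if h : z ⤳ x ∧ δ z = k + 1 then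
        ((Module.length (X.presheaf.stalk z) (X.presheaf.stalk z)).toNat : ℤ) *
          Cyc.ordAt x z h.1 (Cyc.specMap x z h.1 a) else 0 := by
  have := hX.1
  let A := X.presheaf.stalk x
  by_cases hz0 : ∃ z, z ⤳ x ∧ δ z = k + 1
  swap
  · -- the local ring is Artinian
    rw [finsum_eq_zero_of_forall_eq_zero fun z => dif_neg fun h => hz0 ⟨z, h⟩]
    have hmax : ∀ z, z ⤳ x → z = x := fun z hz => by
      by_contra hne'
      have := delta_lt hX.2.2 hz hne'
      have := hdim z hz
      exact hz0 ⟨z, hz, by omega⟩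
    have : Ring.KrullDimLE 0 A := Ring.krullDimLE_zero_iff.mpr fun I hI => by
      have h1 := genPrime_fromSpecStalk (⟨I, hI⟩ : PrimeSpectrum A)
      have h2 := hmax _ (fromSpecStalk_specializes (⟨I, hI⟩ : PrimeSpectrum A))
      have h3 : (⟨I, hI⟩ : PrimeSpectrum A) = closedPoint A := by
        rw [← h1, ← genPrime_refl x]
        exact (genPrime_eq_iff _ _).2 h2
      rw [show I = maximalIdeal A from congrArg PrimeSpectrum.asIdeal h3]
      exact maximalIdeal.isMaximal A
    have : IsArtinianRing A := isArtinianRing_iff_krullDimLE_zero.2 this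
    obtain ⟨b, hb⟩ := IsArtinian.surjective_of_injective_endomorphism
      (LinearMap.mulRight A a) hinj 1
    have hu : IsUnit a := IsUnit.of_mul_eq_one_right b hb
    have : Subsingleton (A ⧸ Ideal.span {a}) :=
      Ideal.Quotient.subsingleton_iff.2 (Ideal.span_singleton_eq_top.2 hu)
    rw [Module.length_eq_zero]
    simp
  obtain ⟨z0, hz0, hd0⟩ := hz0
  have hA : ringKrullDim A = 1 := by
    rw [ringKrullDim]
    refine le_antisymm (iSup_le fun c => ?_) ?_
    · have h1 := length_le hX.2.2 c
      have h2 := hdim _ (fromSpecStalk_specializes c.head)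
      change δ (ptOf c.head) ≤ k + 1 at h2
      exact_mod_cast (show c.length ≤ 1 by omega)
    · obtain ⟨c, -, hc⟩ := exists_series hX.2.2 hz0
      refine le_of_eq_of_le ?_ (Order.LTSeries.length_le_krullDim c)
      have : c.length = 1 := by omega
      rw [this]; rfl
  have hmin : ∀ z (h : z ⤳ x), (genPrime h).asIdeal ∈ minimalPrimes A ↔ δ z = k + 1 := by
    intro z h
    refine ⟨fun hm => ?_, fun hd => ⟨⟨(genPrime h).2, bot_le⟩, fun I hI hle => ?_⟩⟩
    · by_contra hne'
      have h1 := delta_le hX.2.2 h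
      have h2 := hdim z h
      have hzx : z = x := eq_of_delta_le hX.2.2 h (by omega)
      subst hzx
      have h3 : (genPrime hz0).asIdeal ≤ (genPrime h).asIdeal := (genPrime_le_iff hz0 h).2 hz0
      have h4 := (genPrime_le_iff h hz0).1 (hm.2 ⟨(genPrime hz0).2, bot_le⟩ h3)
      rw [h4.antisymm hz0 |>.eq] at hx
      omega
    · let q : PrimeSpectrum A := ⟨I, hI.1⟩
      have hq := genPrime_fromSpecStalk q
      have hqz : X.fromSpecStalk x q ⤳ z := by
        rw [← genPrime_le_iff (fromSpecStalk_specializes q) h, hq]; exact hle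
      have := hdim _ (fromSpecStalk_specializes q)
      have e := eq_of_delta_le hX.2.2 hqz (by omega)
      have : genPrime (fromSpecStalk_specializes q) = genPrime h := (genPrime_eq_iff _ _).2 e
      rw [hq] at this
      exact (congrArg PrimeSpectrum.asIdeal this).ge
  have ha : ∀ p ∈ minimalPrimes A, a ∉ p := fun p hp hap => by
    let q : PrimeSpectrum A := ⟨p, hp.1.1⟩
    have hq := genPrime_fromSpecStalk q
    have hd := (hmin _ (fromSpecStalk_specializes q)).1 (by rw [hq]; exact hp)
    refine hne _ (fromSpecStalk_specializes q) hd (RingHom.mem_ker.1 ?_)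
    rw [ker_specMap, hq]; exact hap
  obtain ⟨-, hc, hsum⟩ := Len90.multiplicity_formula hA A a ha
  have hk : Len90.kerLen (LinearMap.lsmul A A a) = 0 := by
    rw [Len90.kerLen, LinearMap.ker_eq_bot.mpr (fun b c e => hinj
      ((mul_comm b a).trans ((show a * b = a * c from e).trans (mul_comm a c))))]
    exact Module.length_eq_zero
  rw [hk, zero_add] at hsum
  have hco : Len90.coker (LinearMap.lsmul A A a) = Module.length A (A ⧸ Ideal.span {a}) := by
    refine (Submodule.quotEquivOfEq _ _ ?_).length_eq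
    ext b
    simp [LinearMap.mem_range, Ideal.mem_span_singleton', mul_comm]
  have hfin := Len90.finite_minimal (A := A)
  rw [hco, Len90.multSum_eq a A hfin] at hsum
  rw [hco] at hc
  rw [hsum, toNat_finset_sum_of_ne_top _ _ (hsum ▸ hc), Nat.cast_sum,
    ← finsum_mem_eq_finite_toFinset_sum (fun p : PrimeSpectrum A => (((Len90.locLen p.asIdeal A *
      Module.length A (A ⧸ (p.asIdeal ⊔ Ideal.span {a})))).toNat : ℤ)) hfin]
  have hsupp : Function.support (fun z : X => if h : z ⤳ x ∧ δ z = k + 1 then
      ((Module.length (X.presheaf.stalk z) (X.presheaf.stalk z)).toNat : ℤ) *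
        Cyc.ordAt x z h.1 (Cyc.specMap x z h.1 a) else 0) ⊆ {z | z ⤳ x ∧ δ z = k + 1} := fun z hz => by
    by_contra hn
    exact hz (dif_neg hn)
  conv_rhs => rw [← finsum_mem_univ, finsum_mem_inter_support_eq _ Set.univ {z | z ⤳ x ∧ δ z = k + 1}
    (by rw [Set.univ_inter, Set.inter_eq_right.2 hsupp])]
  refine finsum_mem_eq_of_bijOn (fun p => X.fromSpecStalk x p) ⟨?_, ?_, ?_⟩ ?_
  · intro p hp
    refine ⟨fromSpecStalk_specializes p, (hmin _ (fromSpecStalk_specializes p)).1 ?_⟩
    rw [genPrime_fromSpecStalk]; exact hp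
  · exact fun p _ q _ e => (X.fromSpecStalk x).isEmbedding.injective e
  · rintro z ⟨hz, hd⟩
    exact ⟨genPrime hz, (hmin z hz).2 hd, fromSpecStalk_genPrime hz⟩
  · intro p hp
    have hz := fromSpecStalk_specializes p
    have hg : genPrime hz = p := genPrime_fromSpecStalk p
    have hd : δ (X.fromSpecStalk x p) = k + 1 := (hmin _ hz).1 (hg.symm ▸ hp)
    rw [dif_pos ⟨hz, hd⟩, ENat.toNat_mul, Nat.cast_mul, length_localization_eq hz, hg]
    congr 1
    have h1 : ringKrullDim (Cyc.LocQuot x (X.fromSpecStalk x p) hz) ≤ 1 :=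
      ringKrullDim_locQuot_le_one _ fun w h1 h2 => immediate hX.2.2 hz (by omega) h1 h2
    have := krullDimLE_one h1
    have h0 : Ideal.Quotient.mk (RingHom.ker (Cyc.specMap x _ hz)) a ≠ 0 := fun e =>
      hne _ hz hd (RingHom.mem_ker.1 (Ideal.Quotient.eq_zero_iff_mem.1 e))
    rw [Cyc.ordAt, show Cyc.specMap x _ hz a = algebraMap (Cyc.LocQuot x _ hz) _
      (Ideal.Quotient.mk _ a) from rfl, Len90.ordFrac_algebraMap _ h0, ord_quot_mk, ker_specMap, hg]

end Groth.Agent.Cyc90
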