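import Mathlib

/-! Primes of a polynomial ring in one variable over a fixed prime of the base. -/

set_option autoImplicit false
universe u

open Polynomial

namespace Groth.Agent.Cyc90.PolyPrimes

variable {R B : Type u} [CommRing R] [CommRing B] (φ : R →+* B) (e : B ≃+* R[X]) (he : ∀ a, e (φ a) = C a)
  (p : Ideal R) [p.IsPrime]

/-- The map to the polynomial ring over the residue field. -/
noncomputable def toFib : B →+* p.ResidueField[X] :=
  (mapRingHom (algebraMap R p.ResidueField)).comp e.toRingHom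

include he in
lemma toFib_apply (a : R) : toFib e p (φ a) = C (algebraMap R p.ResidueField a) := by
  simp [toFib, he]

include he in
lemma ker_toFib : RingHom.ker (toFib e p) = p.map φ := by
  have h1 : RingHom.ker (mapRingHom (algebraMap R p.ResidueField)) = p.map (C : R →+* R[X]) := by
    rw [Polynomial.ker_mapRingHom, Ideal.ker_algebraMap_residueField]
  rw [toFib, ← RingHom.comap_ker, h1]
  ext b
  rw [Ideal.mem_comap]
  have hC : (C : R →+* R[X]) = e.toRingHom.comp φ := RingHom.ext fun a => (he a).symm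
  rw [hC, ← Ideal.map_map]
  constructor
  · intro hb
    obtain ⟨c, hc, hec⟩ := (Ideal.mem_map_iff_of_surjective e.toRingHom e.surjective).1 hb
    exact e.injective hec ▸ hc
  · exact fun hb => Ideal.mem_map_of_mem _ hb

include he in
lemma toFib_surj (h : p.ResidueField[X]) :
    ∃ s ∉ p, ∃ b, toFib e p b = C (algebraMap R p.ResidueField s) * h := by
  induction h using Polynomial.induction_on' with
  | add h h' ih ih' =>
    obtain ⟨s, hs, b, hb⟩ := ih
    obtain ⟨s', hs', b', hb'⟩ := ih'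
    refine ⟨s * s', fun hm => (Ideal.IsPrime.mem_or_mem inferInstance hm).elim hs hs',
      φ s' * b + φ s * b', ?_⟩
    rw [map_add, map_mul, map_mul, hb, hb', toFib_apply φ e he, toFib_apply φ e he, map_mul, map_mul]
    ring
  | monomial n c =>
    obtain ⟨a, d, hd, rfl⟩ := IsFractionRing.div_surjective (A := R ⧸ p) c
    obtain ⟨a, rfl⟩ := Ideal.Quotient.mk_surjective a
    obtain ⟨d, rfl⟩ := Ideal.Quotient.mk_surjective d
    have hdp : d ∉ p := fun h => nonZeroDivisors.ne_zero hd (Ideal.Quotient.eq_zero_iff_mem.2 h)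
    refine ⟨d, hdp, φ a * e.symm X ^ n, ?_⟩
    rw [map_mul, map_pow, toFib_apply φ e he, show toFib e p (e.symm X) = X by simp [toFib],
      Ideal.algebraMap_quotient_residueField_mk, Ideal.algebraMap_quotient_residueField_mk,
      C_mul_monomial, C_mul_X_pow_eq_monomial]
    congr 1
    have h0 : algebraMap R p.ResidueField d ≠ 0 := fun h => hdp (Ideal.algebraMap_residueField_eq_zero.1 h)
    field_simp

include he in
lemma map_ne_top {P : Ideal B} [P.IsPrime] (hP : P.comap φ = p) : p.map φ ≤ P ∧ ∀ s ∉ p, φ s ∉ P :=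
  ⟨Ideal.map_le_iff_le_comap.2 hP.ge, fun s hs h => hs (hP ▸ h)⟩

include he in
lemma exists_of_mem_map {P : Ideal B} (h : p.ResidueField[X]) (hh : h ∈ P.map (toFib e p)) :
    ∃ s ∉ p, ∃ b ∈ P, toFib e p b = C (algebraMap R p.ResidueField s) * h := by
  induction hh using Submodule.span_induction with
  | mem x hx =>
    obtain ⟨b, hb, rfl⟩ := hx
    exact ⟨1, (Ideal.ne_top_iff_one p).1 (Ideal.IsPrime.ne_top inferInstance), b, hb, by simp⟩
  | zero =>
    exact ⟨1, (Ideal.ne_top_iff_one p).1 (Ideal.IsPrime.ne_top inferInstance), 0, zero_mem _, by simp⟩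
  | add x y _ _ ih ih' =>
    obtain ⟨s, hs, b, hbP, hb⟩ := ih
    obtain ⟨s', hs', b', hbP', hb'⟩ := ih'
    refine ⟨s * s', fun hm => (Ideal.IsPrime.mem_or_mem inferInstance hm).elim hs hs',
      φ s' * b + φ s * b', add_mem (P.mul_mem_left _ hbP) (P.mul_mem_left _ hbP'), ?_⟩
    rw [map_add, map_mul, map_mul, hb, hb', toFib_apply φ e he, toFib_apply φ e he, map_mul, map_mul]
    ring
  | smul a x _ ih =>
    obtain ⟨s, hs, b, hbP, hb⟩ := ih
    obtain ⟨t, ht, c, hc⟩ := toFib_surj φ e he p a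
    refine ⟨t * s, fun hm => (Ideal.IsPrime.mem_or_mem inferInstance hm).elim ht hs, c * b,
      P.mul_mem_left _ hbP, ?_⟩
    rw [map_mul, hb, hc, map_mul, map_mul, smul_eq_mul]
    ring

include he in
/-- A prime over `p` other than `pB` is cut out, near itself, by one element. -/
theorem exists_generator (P : Ideal B) [P.IsPrime] (hP : P.comap φ = p) (hne : P ≠ p.map φ) :
    ∃ g ∈ P, g ∉ p.map φ ∧ (∀ Q : Ideal B, Q.IsPrime → Q.comap φ = p → g ∈ Q → Q = P) ∧
      ∀ a ∈ P, ∃ s ∉ p, φ s * a ∈ Ideal.span {g} ⊔ p.map φ := by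
  obtain ⟨hle, hs0⟩ := map_ne_top φ e he p hP
  let I := P.map (toFib e p)
  have hker := ker_toFib φ e he p
  have hback : ∀ (Q : Ideal B), p.map φ ≤ Q → (∀ s ∉ p, φ s ∉ Q) → Q.IsPrime →
      ∀ a, toFib e p a ∈ Q.map (toFib e p) → a ∈ Q := by
    intro Q hQ hQs hQp a ha
    obtain ⟨s, hs, b, hbQ, hb⟩ := exists_of_mem_map φ e he p _ ha
    have h1 : φ s * a - b ∈ p.map φ := by
      rw [← hker, RingHom.mem_ker, map_sub, map_mul, toFib_apply φ e he, hb, sub_self]
    have h2 : φ s * a ∈ Q := by simpa using add_mem (hQ h1) hbQ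
    exact (hQp.mem_or_mem h2).resolve_left (hQs s hs)
  have hItop : ∀ (Q : Ideal B), p.map φ ≤ Q → (∀ s ∉ p, φ s ∉ Q) → Q.IsPrime → Q.map (toFib e p) ≠ ⊤ :=
    fun Q h1 h2 h3 ht => h3.ne_top ((Ideal.eq_top_iff_one Q).2 (hback Q h1 h2 h3 1 (ht ▸ Submodule.mem_top)))
  have hIprime : I.IsPrime := by
    refine ⟨hItop P hle hs0 inferInstance, fun {u v} huv => ?_⟩
    obtain ⟨s, hs, b, hb⟩ := toFib_surj φ e he p u
    obtain ⟨t, ht, c, hc⟩ := toFib_surj φ e he p v
    have hmem : toFib e p (b * c) ∈ I := by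
      rw [map_mul, hb, hc, show C (algebraMap R p.ResidueField s) * u * (C (algebraMap R p.ResidueField t) * v) =
        (C (algebraMap R p.ResidueField s) * C (algebraMap R p.ResidueField t)) * (u * v) by ring]
      exact I.mul_mem_left _ huv
    have hunit : ∀ s ∉ p, IsUnit (C (algebraMap R p.ResidueField s)) := fun s hs =>
      isUnit_C.2 (isUnit_iff_ne_zero.2 fun h => hs (Ideal.algebraMap_residueField_eq_zero.1 h))
    rcases Ideal.IsPrime.mem_or_mem inferInstance (hback P hle hs0 inferInstance _ hmem) with h | h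
    · exact Or.inl ((Ideal.unit_mul_mem_iff_mem _ (hunit s hs)).1 (hb ▸ Ideal.mem_map_of_mem _ h))
    · exact Or.inr ((Ideal.unit_mul_mem_iff_mem _ (hunit t ht)).1 (hc ▸ Ideal.mem_map_of_mem _ h))
  have hI0 : I ≠ ⊥ := fun h => hne (le_antisymm
    (fun a ha => hker ▸ RingHom.mem_ker.2 (Ideal.mem_bot.1 (h ▸ Ideal.mem_map_of_mem _ ha))) hle)
  have hImax : I.IsMaximal := hIprime.isMaximal hI0
  obtain ⟨g', hg'⟩ := (IsPrincipalIdealRing.principal I).principal
  rw [Ideal.submodule_span_eq] at hg'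
  obtain ⟨s, hs, g, hgP, hg⟩ := exists_of_mem_map φ e he p g'
    (show g' ∈ I from hg'.symm ▸ Ideal.mem_span_singleton_self g')
  have hu : IsUnit (C (algebraMap R p.ResidueField s)) :=
    isUnit_C.2 (isUnit_iff_ne_zero.2 fun h => hs (Ideal.algebraMap_residueField_eq_zero.1 h))
  have hIg : I = Ideal.span {toFib e p g} := by
    rw [hg, Ideal.span_singleton_mul_left_unit hu, hg']
  have hgq : g ∉ p.map φ := fun h => hI0 (by
    rw [hIg, show toFib e p g = 0 from RingHom.mem_ker.1 (hker ▸ h)]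
    exact Ideal.span_singleton_eq_bot.2 rfl)
  refine ⟨g, hgP, hgq, fun Q hQ hQp hgQ => ?_, fun a ha => ?_⟩
  · obtain ⟨hleQ, hsQ⟩ := map_ne_top φ e he p hQp
    have hIQ : I = Q.map (toFib e p) := hImax.eq_of_le (hItop Q hleQ hsQ hQ) (by
      rw [hIg, Ideal.span_singleton_le_iff_mem]; exact Ideal.mem_map_of_mem _ hgQ)
    exact le_antisymm (fun a ha => hback P hle hs0 inferInstance a (show toFib e p a ∈ I by
        rw [hIQ]; exact Ideal.mem_map_of_mem _ ha))
      (fun a ha => hback Q hleQ hsQ hQ a (by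
        rw [← hIQ]; exact Ideal.mem_map_of_mem _ ha))
  · have hmemI : toFib e p a ∈ Ideal.span {toFib e p g} := by
      rw [← hIg]; exact Ideal.mem_map_of_mem _ ha
    obtain ⟨h, hh⟩ := Ideal.mem_span_singleton'.1 hmemI
    obtain ⟨t, ht, b, hb⟩ := toFib_surj φ e he p h
    refine ⟨t, ht, ?_⟩
    have : φ t * a - b * g ∈ p.map φ := by
      rw [← hker, RingHom.mem_ker, map_sub, map_mul, map_mul, toFib_apply φ e he, hb, ← hh]
      ring
    have h2 := Submodule.add_mem_sup (Ideal.mul_mem_left _ b (Ideal.mem_span_singleton_self g)) this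
    simpa using h2

end Groth.Agent.Cyc90.PolyPrimes
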