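import Groth.Agent.Cyc90.AffBundle
import Groth.Agent.Cyc90.PolyPrimes
import Groth.Agent.Cyc90.DimFun
import Groth.Agent.Cyc90.FiniteTypeDelta
import Groth.Agent.Cyc90.LocalMult

/-! The affine line over an affine scheme has affine-space-like fibres. -/

set_option autoImplicit false
universe u

open CategoryTheory AlgebraicGeometry TopologicalSpace IsLocalRing Polynomial

namespace Groth.Agent.Cyc90

section SpecStalk

variable {R B : Type u} [CommRing R] [CommRing B]

instance specPointPrime (x : Spec (CommRingCat.of R)) : x.asIdeal.IsPrime := x.2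

/-- The map to the stalk of `Spec R`. -/
noncomputable def toSt (x : Spec (CommRingCat.of R)) :
    R →+* (Spec (CommRingCat.of R)).presheaf.stalk x :=
  (StructureSheaf.toStalk R x).hom

lemma toSt_stalkSpecializes {x y : Spec (CommRingCat.of R)} (h : x ⤳ y) (r : R) :
    (Spec (CommRingCat.of R)).presheaf.stalkSpecializes h (toSt y r) = toSt x r :=
  DFunLike.congr_fun (congrArg CommRingCat.Hom.hom (StructureSheaf.toStalk_stalkSpecializes h)) r

lemma toSt_stalkMap (φ : R →+* B) (x : Spec (CommRingCat.of B)) (r : R) :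
    ((Spec.map (CommRingCat.ofHom φ)).stalkMap x).hom (toSt (Spec.map (CommRingCat.ofHom φ) x) r) =
      toSt x (φ r) :=
  AlgebraicGeometry.stalkMap_toStalk_apply (CommRingCat.ofHom φ) x r

lemma map_toSt_eq_maximalIdeal (x : Spec (CommRingCat.of R)) :
    x.asIdeal.map (toSt x) = maximalIdeal ((Spec (CommRingCat.of R)).presheaf.stalk x) := by
  letI : Algebra R ((Spec (CommRingCat.of R)).presheaf.stalk x) := (toSt x).toAlgebra
  haveI : IsLocalization.AtPrime ((Spec (CommRingCat.of R)).presheaf.stalk x) x.asIdeal :=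
    StructureSheaf.IsLocalization.to_stalk R x
  exact IsLocalization.AtPrime.map_eq_maximalIdeal x.asIdeal _

lemma isUnit_toSt_iff (x : Spec (CommRingCat.of R)) (r : R) : IsUnit (toSt x r) ↔ r ∉ x.asIdeal := by
  letI : Algebra R ((Spec (CommRingCat.of R)).presheaf.stalk x) := (toSt x).toAlgebra
  haveI : IsLocalization.AtPrime ((Spec (CommRingCat.of R)).presheaf.stalk x) x.asIdeal :=
    StructureSheaf.IsLocalization.to_stalk R x
  exact IsLocalization.AtPrime.isUnit_to_map_iff _ x.asIdeal r

lemma residue_toSt_eq_zero_iff (x : Spec (CommRingCat.of R)) (r : R) :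
    (Spec (CommRingCat.of R)).residue x (toSt x r) = 0 ↔ r ∈ x.asIdeal := by
  refine (IsLocalRing.residue_eq_zero_iff (toSt x r)).trans ?_
  rw [IsLocalRing.mem_maximalIdeal, mem_nonunits_iff, isUnit_toSt_iff, not_not]

end SpecStalk

section Line

variable {R B : Type u} [CommRing R] [CommRing B] (φ : R →+* B) (e : B ≃+* R[X])
  (he : ∀ a, e (φ a) = C a)

include he in
lemma map_eq_comap_line (p : Ideal R) : p.map φ = (p.map (C : R →+* R[X])).comap e.toRingHom := by
  have hC : (C : R →+* R[X]) = e.toRingHom.comp φ := RingHom.ext fun a => (he a).symm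
  rw [hC, ← Ideal.map_map]
  exact (Ideal.comap_map_of_bijective e.toRingHom e.bijective).symm

include he in
lemma isPrime_map_line (p : Ideal R) [p.IsPrime] : (p.map φ).IsPrime := by
  rw [map_eq_comap_line φ e he]
  infer_instance

include he in
lemma comap_map_line (p : Ideal R) : (p.map φ).comap φ = p := by
  refine le_antisymm (fun a ha => ?_) Ideal.le_comap_map
  rw [Ideal.mem_comap, map_eq_comap_line φ e he, Ideal.mem_comap,
    show e.toRingHom (φ a) = C a from he a, Ideal.mem_map_C_iff] at ha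
  simpa using ha 0

local notation "f" => Spec.map (CommRingCat.ofHom φ)

/-- The generic point of the fibre of a line. -/
def lineGen (p : Spec (CommRingCat.of R)) (h : (p.asIdeal.map φ).IsPrime) : Spec (CommRingCat.of B) :=
  (⟨p.asIdeal.map φ, h⟩ : PrimeSpectrum B)

include he in
lemma f_lineGen (p : Spec (CommRingCat.of R)) :
    f (lineGen φ p (isPrime_map_line φ e he p.asIdeal)) = p :=
  PrimeSpectrum.ext (comap_map_line φ e he p.asIdeal)

lemma comap_eq_of_apply_eq {x : Spec (CommRingCat.of B)} {p : Spec (CommRingCat.of R)} (hx : f x = p) :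
    x.asIdeal.comap φ = p.asIdeal := by
  subst hx; rfl

include he in
lemma lineGen_specializes {x : Spec (CommRingCat.of B)} {p : Spec (CommRingCat.of R)} (hx : f x = p) :
    lineGen φ p (isPrime_map_line φ e he p.asIdeal) ⤳ x :=
  (PrimeSpectrum.le_iff_specializes _ _).1
    (Ideal.map_le_iff_le_comap.2 (comap_eq_of_apply_eq φ hx).ge)

include he in
lemma map_maximalIdeal_lineGen (p : Spec (CommRingCat.of R)) :
    let ζ := lineGen φ p (isPrime_map_line φ e he p.asIdeal)
    (maximalIdeal ((Spec (CommRingCat.of R)).presheaf.stalk (f ζ))).map ((f).stalkMap ζ).hom =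
      maximalIdeal _ := by
  intro ζ
  refine le_antisymm (map_maximalIdeal_le _ ζ) ?_
  rw [← map_toSt_eq_maximalIdeal ζ, show ζ.asIdeal = p.asIdeal.map φ from rfl, Ideal.map_map,
    Ideal.map_le_iff_le_comap]
  intro a ha
  rw [Ideal.mem_comap, RingHom.comp_apply, ← toSt_stalkMap φ ζ a]
  refine Ideal.mem_map_of_mem _ ?_
  rw [← map_toSt_eq_maximalIdeal (f ζ), f_lineGen φ e he p]
  exact Ideal.mem_map_of_mem _ ha

variable {δX : Spec (CommRingCat.of B) → ℤ} {δY : Spec (CommRingCat.of R) → ℤ}

include he in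
/-- A rational point in every fibre other than the generic point. -/
lemma exists_zero_point (hδ : Cyc.DeltaCompat f δX δY) (p : Spec (CommRingCat.of R)) :
    ∃ x₀, f x₀ = p ∧ x₀ ≠ lineGen φ p (isPrime_map_line φ e he p.asIdeal) ∧ δX x₀ = δY p := by
  let ψ : B →+* R := (evalRingHom 0).comp e.toRingHom
  have hψ : ψ.comp φ = RingHom.id R := RingHom.ext fun a => by simp [ψ, he]
  let s := Spec.map (CommRingCat.ofHom ψ)
  have hs : s ≫ f = 𝟙 _ := by
    rw [← Spec.map_comp, ← CommRingCat.ofHom_comp, hψ]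
    exact Spec.map_id _
  refine ⟨s p, congrArg (fun k : _ ⟶ Spec (CommRingCat.of R) => k p) hs, fun h => ?_, ?_⟩
  · have hX : e.symm X ∈ (s p).asIdeal := by
      change ψ (e.symm X) ∈ p.asIdeal
      simp [ψ]
    rw [h] at hX
    change e.symm X ∈ p.asIdeal.map φ at hX
    rw [map_eq_comap_line φ e he, Ideal.mem_comap, show e.toRingHom (e.symm X) = X from e.apply_symm_apply X,
      Ideal.mem_map_C_iff] at hX
    have := hX 1
    rw [coeff_X_one] at this
    exact p.2.ne_top ((Ideal.eq_top_iff_one _).2 this)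
  · have hid : Function.Surjective ((s ≫ f).residueFieldMap p).hom := by
      have hmove : ∀ (k k' : Spec (CommRingCat.of R) ⟶ Spec (CommRingCat.of R)), k = k' →
          Function.Surjective (k'.residueFieldMap p).hom → Function.Surjective (k.residueFieldMap p).hom :=
        fun k k' e h => e ▸ h
      refine hmove _ _ hs ?_
      rw [Scheme.residueFieldMap_id]
      exact fun a => ⟨a, rfl⟩
    rw [Scheme.residueFieldMap_comp] at hid
    have h2 : Function.Surjective (s.residueFieldMap p).hom := fun a => by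
      obtain ⟨b, hb⟩ := hid a
      exact ⟨_, hb⟩
    have h1 : Function.Surjective ((f).residueFieldMap (s p)).hom := fun a => by
      obtain ⟨b, hb⟩ := hid ((s.residueFieldMap p).hom a)
      exact ⟨b, (s.residueFieldMap p).hom.injective hb⟩
    rw [delta_eq_of_surjective _ hδ (s p) h1]
    exact congrArg (fun k : _ ⟶ Spec (CommRingCat.of R) => δY (k p)) hs

include he in
lemma eq_or_eq_of_between {x z : Spec (CommRingCat.of B)} {p : Spec (CommRingCat.of R)} (hx : f x = p)
    (hζz : lineGen φ p (isPrime_map_line φ e he p.asIdeal) ⤳ z) (hzx : z ⤳ x) :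
    z = lineGen φ p (isPrime_map_line φ e he p.asIdeal) ∨ z = x := by
  by_cases hz : z.asIdeal = p.asIdeal.map φ
  · exact Or.inl (PrimeSpectrum.ext hz)
  have hle : z.asIdeal ≤ x.asIdeal := (PrimeSpectrum.le_iff_specializes z x).2 hzx
  have hge : p.asIdeal.map φ ≤ z.asIdeal := (PrimeSpectrum.le_iff_specializes _ z).2 hζz
  have hzp : z.asIdeal.comap φ = p.asIdeal :=
    le_antisymm ((Ideal.comap_mono hle).trans (comap_eq_of_apply_eq φ hx).le) (Ideal.map_le_iff_le_comap.1 hge)
  obtain ⟨g, hgz, -, huniq, -⟩ := PolyPrimes.exists_generator φ e he p.asIdeal z.asIdeal hzp hz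
  exact Or.inr (PrimeSpectrum.ext (huniq x.asIdeal x.2 (comap_eq_of_apply_eq φ hx) (hle hgz)).symm)

include he in
lemma delta_fibre (hX : Cyc.IsSetup (Spec (CommRingCat.of B)) δX) (hδ : Cyc.DeltaCompat f δX δY)
    (p : Spec (CommRingCat.of R)) :
    δX (lineGen φ p (isPrime_map_line φ e he p.asIdeal)) = δY p + 1 ∧
      ∀ x, f x = p → x ≠ lineGen φ p (isPrime_map_line φ e he p.asIdeal) → δX x = δY p := by
  have hstep : ∀ x, f x = p → x ≠ lineGen φ p (isPrime_map_line φ e he p.asIdeal) →
      δX (lineGen φ p (isPrime_map_line φ e he p.asIdeal)) = δX x + 1 := fun x hx hne =>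
    (hX.2.2 _ x (lineGen_specializes φ e he hx) (Ne.symm hne)).2
      fun z h1 h2 => eq_or_eq_of_between φ e he hx h1 h2
  obtain ⟨x₀, hx₀, hne₀, hd₀⟩ := exists_zero_point φ e he hδ p
  have h := hstep x₀ hx₀ hne₀
  exact ⟨by omega, fun x hx hne => by have := hstep x hx hne; omega⟩

include he in
theorem shiftAt_line (hX : Cyc.IsSetup (Spec (CommRingCat.of B)) δX) (hδ : Cyc.DeltaCompat f δX δY) :
    ShiftAt f δX δY 1 := fun x hmax => by
  have h := hmax _ (f_lineGen φ e he (f x)) (lineGen_specializes φ e he rfl)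
  have h2 := (delta_fibre φ e he hX hδ (f x)).1
  rw [h] at h2
  exact h2

include he in
/-- The affine line has affine-space-like fibres. -/
theorem isAffFibre_line (hX : Cyc.IsSetup (Spec (CommRingCat.of B)) δX) (hδ : Cyc.DeltaCompat f δX δY)
    (p : Spec (CommRingCat.of R)) : IsAffFibre f δX δY 1 p := by
  classical
  have := hX.1
  let ζ := lineGen φ p (isPrime_map_line φ e he p.asIdeal)
  obtain ⟨hdζ', hdx⟩ := delta_fibre φ e he hX hδ p
  have hdζ : δX ζ = δY p + 1 := hdζ'
  refine ⟨ζ, f_lineGen φ e he p, by simpa using hdζ, map_maximalIdeal_lineGen φ e he p,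
    fun x hx => lineGen_specializes φ e he hx, fun ξ hξ hd => ?_⟩
  have hξne : ξ ≠ ζ := fun h => by rw [h] at hd; push_cast at hd; omega
  obtain ⟨g, hgξ, hgq, huniq, hgen⟩ := PolyPrimes.exists_generator φ e he p.asIdeal ξ.asIdeal
    (comap_eq_of_apply_eq φ hξ) (fun h => hξne (PrimeSpectrum.ext h))
  have hdξ := hdx ξ hξ hξne
  let γ : (Spec (CommRingCat.of B)).residueField ζ := (Spec (CommRingCat.of B)).residue ζ (toSt ζ g)
  refine ⟨PUnit, inferInstance, fun _ => ζ, fun _ => γ, fun _ => ⟨f_lineGen φ e he p, by dsimp only; omega,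
    fun h => hgq ((residue_toSt_eq_zero_iff ζ g).1 h)⟩, fun x hx => ?_⟩
  rw [Fintype.sum_unique]
  dsimp only
  by_cases hxζ : x = ζ
  · subst hxζ
    rw [pointFun, if_neg (Ne.symm hξne), Cyc.divFun, dif_neg fun h => by omega]
  have hdxx := hdx x hx hxζ
  have hspec : ζ ⤳ x := lineGen_specializes φ e he hx
  rw [Cyc.divFun, dif_pos ⟨hspec, by omega⟩]
  have h1 : ringKrullDim (Cyc.LocQuot x ζ hspec) ≤ 1 :=
    ringKrullDim_locQuot_le_one _ fun w h1 h2 => immediate hX.2.2 hspec (by omega) h1 h2
  have := krullDimLE_one h1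
  let q := Ideal.Quotient.mk (RingHom.ker (Cyc.specMap x ζ hspec))
  have hmapγ : ∀ b, Cyc.specMap x ζ hspec (toSt x b) = (Spec (CommRingCat.of B)).residue ζ (toSt ζ b) :=
    fun b => congrArg ((Spec (CommRingCat.of B)).residue ζ) (toSt_stalkSpecializes hspec b)
  have hqne : q (toSt x g) ≠ 0 := fun h => hgq <| (residue_toSt_eq_zero_iff ζ g).1 <| by
    rw [← hmapγ]
    exact RingHom.mem_ker.1 (Ideal.Quotient.eq_zero_iff_mem.1 h)
  have halg : algebraMap (Cyc.LocQuot x ζ hspec) _ (q (toSt x g)) = γ := hmapγ g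
  rw [Cyc.ordAt, ← halg, Len90.ordFrac_algebraMap _ hqne, ord_quot_mk]
  simp only [pointFun]
  split_ifs with hxξ
  · subst hxξ
    have hsup : RingHom.ker (Cyc.specMap x ζ hspec) ⊔ Ideal.span {toSt x g} =
        maximalIdeal ((Spec (CommRingCat.of B)).presheaf.stalk x) := by
      refine le_antisymm (sup_le (IsLocalRing.le_maximalIdeal (RingHom.ker_ne_top _)) ?_) ?_
      · rw [Ideal.span_singleton_le_iff_mem, ← map_toSt_eq_maximalIdeal]
        exact Ideal.mem_map_of_mem _ hgξ
      · rw [← map_toSt_eq_maximalIdeal, Ideal.map_le_iff_le_comap]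
        intro a ha
        obtain ⟨s, hs, hsa⟩ := hgen a ha
        rw [Ideal.mem_comap]
        have hu : IsUnit (toSt x (φ s)) := (isUnit_toSt_iff x _).2 fun h =>
          hs ((comap_eq_of_apply_eq φ hx) ▸ h)
        rw [← Ideal.unit_mul_mem_iff_mem _ hu, ← map_mul]
        have hle : (Ideal.span {g} ⊔ p.asIdeal.map φ).map (toSt x) ≤
            RingHom.ker (Cyc.specMap x ζ hspec) ⊔ Ideal.span {toSt x g} := by
          rw [Ideal.map_sup, Ideal.map_span, Set.image_singleton, sup_comm]
          refine sup_le_sup_right (Ideal.map_le_iff_le_comap.2 fun b hb => ?_) _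
          rw [Ideal.mem_comap, RingHom.mem_ker, hmapγ, residue_toSt_eq_zero_iff]
          exact hb
        exact hle (Ideal.mem_map_of_mem _ hsa)
    have : IsSimpleModule ((Spec (CommRingCat.of B)).presheaf.stalk x)
        ((Spec (CommRingCat.of B)).presheaf.stalk x ⧸ maximalIdeal _) :=
      isSimpleModule_iff_isCoatom.2 (Ideal.isMaximal_def.1 (maximalIdeal.isMaximal _))
    rw [hsup, Module.length_eq_one]
    rfl
  · have hgx : IsUnit (toSt x g) := (isUnit_toSt_iff x g).2 fun h =>
      hxξ (PrimeSpectrum.ext (huniq x.asIdeal x.2 (comap_eq_of_apply_eq φ hx) h))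
    rw [Ideal.span_singleton_eq_top.2 hgx, sup_top_eq]
    simp

end Line

end Groth.Agent.Cyc90
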