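import Groth.Agent.Cyc90.LocalMult
import Groth.Agent.Mero90.Triv

/-! The zero scheme of a regular section and the first Chern class of the fundamental cycle. -/

set_option autoImplicit false
universe u

open CategoryTheory AlgebraicGeometry TopologicalSpace IsLocalRing

namespace Groth.Agent.Cyc90

lemma exists_stalk_gen {X : Scheme.{u}} {L : X.Modules} (hL : PicF.IsInvertible L) (x : X) :
    ∃ t : L.presheaf.stalk x, Submodule.span (X.presheaf.stalk x) {t} = ⊤ := by
  obtain ⟨U, hxU, e, he⟩ := Mero90.exists_frame' hL x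
  refine ⟨L.presheaf.germ U x hxU e, eq_top_iff.2 fun v _ => Submodule.mem_span_singleton.2 ?_⟩
  exact (Mero90.isGen_germ he ⟨x, hxU⟩).2 v

variable {X : Scheme.{u}} {δ : X → ℤ}

theorem zeroSectionFun_eq_c1CapFun (hX : Cyc.IsSetup X δ) {L : X.Modules} (hL : PicF.IsInvertible L)
    (k : ℤ) (hdim : ∀ y : X, δ y ≤ k + 1) (s : L.presheaf.obj (Opposite.op ⊤))
    (hne : ∀ ξ : X, δ ξ = k + 1 →
      (Submodule.Quotient.mk ((L.presheaf.germ ⊤ ξ trivial) s) : Cyc.secFibre L ξ) ≠ 0)
    (hreg : ∀ y : X, δ y = k →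
      Function.Injective (fun a : X.presheaf.stalk y => a • (L.presheaf.germ ⊤ y trivial) s)) :
    Cyc.zeroSectionFun δ k L s = Cyc.c1CapFun δ L (Cyc.subschemeFun δ (k + 1) (𝟙 X))
      (fun ξ => Submodule.Quotient.mk ((L.presheaf.germ ⊤ ξ trivial) s)) := by
  classical
  funext y
  have hw : ∀ ξ, Cyc.subschemeFun δ (k + 1) (𝟙 X) ξ = if δ ξ = k + 1 then
      ((Module.length (X.presheaf.stalk ξ) (X.presheaf.stalk ξ)).toNat : ℤ) else 0 := fun ξ => by
    rw [Cyc.subschemeFun]
    simp only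
    split_ifs
    · rw [show {z : X | (𝟙 X : X ⟶ X) z = ξ} = {ξ} from Set.ext fun z => Iff.rfl, finsum_mem_singleton]
    · rfl
  unfold Cyc.zeroSectionFun Cyc.c1CapFun
  by_cases hy : δ y = k
  swap
  · simp only [if_neg hy]
    refine (finsum_eq_zero_of_forall_eq_zero fun ξ => ?_).symm
    rw [hw]
    unfold Cyc.secDivFun
    split_ifs with h1 h2
    · exact absurd (by omega) hy
    all_goals simp
  simp only [if_pos hy]
  have ht := exists_stalk_gen hL y
  rw [dif_pos ht]
  have hts : Submodule.span (X.presheaf.stalk y) {Classical.choose ht} = ⊤ := Classical.choose_spec ht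
  have hf : ∃ f : X.presheaf.stalk y, (L.presheaf.germ ⊤ y trivial) s = f • Classical.choose ht := by
    obtain ⟨f, hf⟩ := Submodule.mem_span_singleton.1
      (hts.ge (Submodule.mem_top (x := (L.presheaf.germ ⊤ y trivial) s)))
    exact ⟨f, hf.symm⟩
  rw [dif_pos hf]
  have hfs := Classical.choose_spec hf
  set f := Classical.choose hf
  set t := Classical.choose ht
  have hspec : ∀ ξ (h : ξ ⤳ y), (Submodule.Quotient.mk ((L.presheaf.germ ⊤ ξ trivial) s) : Cyc.secFibre L ξ) =
      (show X.presheaf.stalk ξ from X.presheaf.stalkSpecializes h f) •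
        (Submodule.Quotient.mk ((L.presheaf.stalkSpecializes h) t) : Cyc.secFibre L ξ) := fun ξ h => by
    rw [← Submodule.Quotient.mk_smul, ← stalkSpecializes_smul, ← hfs]
    exact congrArg _ (TopCat.Presheaf.germ_stalkSpecializes_apply L.presheaf (U := ⊤) trivial h s).symm
  have hnz : ∀ ξ (h : ξ ⤳ y), δ ξ = k + 1 → Cyc.specMap y ξ h f ≠ 0 := fun ξ h hd h0 =>
    hne ξ hd (by rw [hspec ξ h]; exact smul_mk_eq_zero L h0 _)
  rw [length_quot_eq_sum hX hy (fun z _ => hdim z) f (fun b c e => hreg y hy (by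
    change b • (L.presheaf.germ ⊤ y trivial) s = c • (L.presheaf.germ ⊤ y trivial) s
    rw [hfs, smul_smul, smul_smul, show b * f = c * f from e])) hnz]
  refine finsum_congr fun ξ => ?_
  rw [hw]
  unfold Cyc.secDivFun
  by_cases h : ξ ⤳ y ∧ δ ξ = k + 1
  · rw [dif_pos h, if_pos h.2, dif_pos ⟨h.1, by omega⟩,
      secOrdAt_eq L hX h.1 (by omega) _ (hne ξ h.2) t hts _ (hspec ξ h.1)]
    rfl
  · rw [dif_neg h]
    split_ifs with h1 h2
    · exact absurd ⟨h2.1, h1⟩ h
    all_goals simp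

end Groth.Agent.Cyc90
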