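import Groth.Agent.Cyc90.SecDiv
import Groth.Agent.Cyc90.ZeroSection

/-! The first Chern class cap is independent of the rational sections up to rational equivalence. -/

set_option autoImplicit false
universe u

open CategoryTheory AlgebraicGeometry TopologicalSpace IsLocalRing

namespace Groth.Agent.Cyc90

variable {X : Scheme.{u}} {δ : X → ℤ} {L : X.Modules}

lemma secFibre_gen (hL : PicF.IsInvertible L) {ξ x : X} (h : ξ ⤳ x) (t : L.presheaf.stalk x)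
    (ht : Submodule.span (X.presheaf.stalk x) {t} = ⊤) (v : Cyc.secFibre L ξ) :
    ∃ φ : X.presheaf.stalk ξ,
      v = φ • (Submodule.Quotient.mk ((L.presheaf.stalkSpecializes h) t) : Cyc.secFibre L ξ) := by
  obtain ⟨U, hxU, e, he⟩ := Mero90.exists_frame' hL x
  obtain ⟨c, hc⟩ := Submodule.mem_span_singleton.1 (ht.ge (Submodule.mem_top (x := L.presheaf.germ U x hxU e)))
  obtain ⟨w, rfl⟩ := Submodule.Quotient.mk_surjective _ v
  obtain ⟨a, ha⟩ := (Mero90.isGen_germ he ⟨ξ, h.mem_open U.2 hxU⟩).2 w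
  refine ⟨a * (show X.presheaf.stalk ξ from X.presheaf.stalkSpecializes h c), ?_⟩
  have e1 : L.presheaf.germ U ξ (h.mem_open U.2 hxU) e =
      (L.presheaf.stalkSpecializes h) (c • t) := by
    rw [hc]
    exact (TopCat.Presheaf.germ_stalkSpecializes_apply L.presheaf hxU h e).symm
  rw [← ha, mul_smul, ← Submodule.Quotient.mk_smul, ← Submodule.Quotient.mk_smul,
    ← stalkSpecializes_smul]
  exact congrArg (fun q => (Submodule.Quotient.mk (a • q) : Cyc.secFibre L ξ)) e1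

lemma secFibre_exists_smul (hL : PicF.IsInvertible L) {ξ : X} (v v' : Cyc.secFibre L ξ) (hv' : v' ≠ 0) :
    ∃ ψ : X.presheaf.stalk ξ, v = ψ • v' := by
  obtain ⟨t, ht⟩ := exists_stalk_gen hL ξ
  obtain ⟨a, ha⟩ := secFibre_gen hL (specializes_refl ξ) t ht v
  obtain ⟨b, hb⟩ := secFibre_gen hL (specializes_refl ξ) t ht v'
  have hbu : IsUnit b := (IsLocalRing.residue_ne_zero_iff_isUnit _).1 fun h0 =>
    hv' (hb.trans (smul_mk_eq_zero L h0 _))
  refine ⟨a * ↑hbu.unit⁻¹, ?_⟩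
  rw [ha, hb, smul_smul, mul_assoc, IsUnit.val_inv_mul, mul_one]

lemma secDivFun_sub (hX : Cyc.IsSetup X δ) (hL : PicF.IsInvertible L) (ξ x : X)
    (v v' : Cyc.secFibre L ξ) (hv : v ≠ 0) (hv' : v' ≠ 0) (ψ : X.presheaf.stalk ξ) (e : v = ψ • v') :
    Cyc.secDivFun δ L ξ v x - Cyc.secDivFun δ L ξ v' x = Cyc.divFun δ ξ (X.residue ξ ψ) x := by
  unfold Cyc.secDivFun Cyc.divFun
  split_ifs with h
  swap
  · rw [sub_zero]
  obtain ⟨t, ht⟩ := exists_stalk_gen hL x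
  obtain ⟨φ', hφ'⟩ := secFibre_gen hL h.1 t ht v'
  have hφ : v = (ψ * φ') •
      (Submodule.Quotient.mk ((L.presheaf.stalkSpecializes h.1) t) : Cyc.secFibre L ξ) := by
    rw [mul_smul, ← hφ', e]
  rw [secOrdAt_eq L hX h.1 h.2 v hv t ht _ hφ, secOrdAt_eq L hX h.1 h.2 v' hv' t ht _ hφ', map_mul]
  have := hX.1
  have h1 : ringKrullDim (Cyc.LocQuot x ξ h.1) ≤ 1 :=
    ringKrullDim_locQuot_le_one _ fun w h1 h2 => immediate hX.2.2 h.1 h.2 h1 h2
  have := krullDimLE_one h1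
  have n1 : X.residue ξ ψ ≠ 0 := fun h0 => hv (e.trans (smul_mk_eq_zero L h0 _))
  have n2 : X.residue ξ φ' ≠ 0 := fun h0 => hv' (hφ'.trans (smul_mk_eq_zero L h0 _))
  rw [Cyc.ordAt, Len90.ordFrac_mul _ _ n1 n2, ← Cyc.ordAt, ← Cyc.ordAt, add_sub_cancel_right]

/-- `c₁(L) ∩ α` does not depend on the rational sections, up to rational equivalence. -/
theorem ratEquiv_of_c1CapFun (hX : Cyc.IsSetup X δ) (hL : PicF.IsInvertible L) (k : ℤ)
    (α : AlgebraicCycle X ℤ) (hα : α ∈ Cyc.Zk X δ (k + 1)) (s t : (ξ : X) → Cyc.secFibre L ξ)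
    (hs : ∀ ξ, α ξ ≠ 0 → s ξ ≠ 0) (ht : ∀ ξ, α ξ ≠ 0 → t ξ ≠ 0) (γ₁ γ₂ : AlgebraicCycle X ℤ)
    (h₁ : ⇑γ₁ = Cyc.c1CapFun δ L ⇑α s) (h₂ : ⇑γ₂ = Cyc.c1CapFun δ L ⇑α t) :
    Cyc.RatEquiv δ k γ₁ γ₂ := by
  have := hX.1
  have hex : ∀ i : {ξ : X // α ξ ≠ 0}, ∃ ψ : X.presheaf.stalk i.1, s i.1 = ψ • t i.1 :=
    fun i => secFibre_exists_smul hL _ _ (ht _ i.2)
  choose ψ hψ using hex
  have hne : ∀ i, X.residue _ (ψ i) ≠ 0 := fun i h0 =>
    hs _ i.2 ((hψ i).trans (smul_mk_eq_zero L h0 _))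
  refine ⟨{ξ : X // α ξ ≠ 0}, fun i => i.1, fun i => X.residue i.1 (ψ i) ^ α i.1, fun i => ?_,
    fun i => zpow_ne_zero _ (hne i), fun x => ?_, fun x => ?_⟩
  · by_contra h
    exact i.2 (hα i.1 h)
  · obtain ⟨N, hN, hfin⟩ := α.supportLocallyFiniteWithinDomain' x trivial
    obtain ⟨U, hUt, hU, hxU⟩ := mem_nhds_iff.1 hN
    refine ⟨U, hU, hxU, (hfin.preimage Subtype.val_injective.injOn).subset ?_⟩
    rintro i ⟨y, hy, hyU⟩
    exact ⟨hUt ((specializes_iff_mem_closure.2 hy).mem_open hU hyU), i.2⟩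
  · obtain ⟨N, hN, hfin⟩ := α.supportLocallyFiniteWithinDomain' x trivial
    have hsupp : ∀ v : (ξ : X) → Cyc.secFibre L ξ,
        (Function.support fun ξ => α ξ * Cyc.secDivFun δ L ξ (v ξ) x) ⊆ N ∩ Function.support α := by
      intro v ξ hξ
      simp only [Function.mem_support, ne_eq, mul_eq_zero, not_or] at hξ
      refine ⟨?_, hξ.1⟩
      unfold Cyc.secDivFun at hξ
      split_ifs at hξ with h
      · obtain ⟨U, hUt, hU, hxU⟩ := mem_nhds_iff.1 hN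
        exact hUt (h.1.mem_open hU hxU)
      · exact absurd rfl hξ.2
    rw [Function.locallyFinsuppWithin.coe_sub, Pi.sub_apply, h₁, h₂, Cyc.c1CapFun, Cyc.c1CapFun,
      ← finsum_sub_distrib (hfin.subset (hsupp s)) (hfin.subset (hsupp t))]
    simp only [divFun_zpow hX _ _ (hne _)]
    rw [← finsum_mem_univ]
    refine Eq.trans ?_ (finsum_set_coe_eq_finsum_mem (s := {ξ | α ξ ≠ 0})
      (f := fun ξ => α ξ * Cyc.secDivFun δ L ξ (s ξ) x - α ξ * Cyc.secDivFun δ L ξ (t ξ) x)).symm |>.trans ?_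
    · refine finsum_mem_inter_support_eq _ _ _ ?_
      rw [Set.univ_inter, Set.inter_eq_right.2]
      intro ξ h h0
      exact h (by simp [show α ξ = 0 from h0])
    · refine finsum_congr fun i => ?_
      rw [← mul_sub, secDivFun_sub hX hL i.1 x _ _ (hs _ i.2) (ht _ i.2) _ (hψ i)]

end Groth.Agent.Cyc90
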