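import Groth.Agent.Cyc90.C1Comm
import Groth.Agent.Cyc90.RatFamily

/-! Capping with first Chern classes: commutativity on each closed subvariety. -/

set_option autoImplicit false
universe u

open CategoryTheory AlgebraicGeometry TopologicalSpace IsLocalRing

namespace Groth.Agent.Cyc90

open Var76.LineBundle

variable {X : Scheme.{u}} {δ : X → ℤ}

/-- The divisor of a rational section along a closed immersion. -/
lemma secDivFun_closedImmersion {Z : Scheme.{u}} (i : Z ⟶ X) [IsClosedImmersion i] (hX : Cyc.IsSetup X δ)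
    {L : X.Modules} (hL : PicF.IsInvertible L) (v : (η : X) → Cyc.secFibre L η) (hv : ∀ η, v η ≠ 0)
    (ζ z : Z) :
    Cyc.secDivFun (fun w => δ (i w)) ((Scheme.Modules.pullback i).obj L) ζ (pullSec i hL v hv ζ) z =
      Cyc.secDivFun δ L (i ζ) (v (i ζ)) (i z) := by
  by_cases h : i ζ ⤳ i z
  · obtain ⟨g, hg, h1, h2⟩ :=
      secDivFun_local i (isSetup_closedImmersion i hX) hX hL v hv (i ζ) (i z) h
    rw [h1, h2 ζ z rfl rfl, divFun_closedImmersion i hX ζ z g hg]
    simp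
  · unfold Cyc.secDivFun
    rw [dif_neg fun h' => h (h'.1.map i.continuous), dif_neg fun h' => h h'.1]

lemma secDivFun_eq_zero_of_notMem {T : Set X} (hT : IsClosed T) {ξ x : X} (hξ : ξ ∈ T) (hx : x ∉ T)
    (L : X.Modules) (s : Cyc.secFibre L ξ) : Cyc.secDivFun δ L ξ s x = 0 :=
  dif_neg fun h => hx (h.1.mem_closed hT hξ)

/-- On the closure of a point, `c₁(N) ∩ div_L(a)` and `c₁(L) ∩ div_N(b)` differ by divisors of
rational functions on subvarieties of it. -/
theorem ratFamIn_c1Cap_comm (hX : Cyc.IsSetup X δ) {L N : X.Modules} (hL : PicF.IsInvertible L)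
    (hN : PicF.IsInvertible N) {k : ℤ} (ξ : X) (hk : δ ξ = k + 2)
    (a : Cyc.secFibre L ξ) (ha : a ≠ 0) (b : Cyc.secFibre N ξ) (hb : b ≠ 0)
    (v : (η : X) → Cyc.secFibre L η) (hv : ∀ η, v η ≠ 0)
    (u : (η : X) → Cyc.secFibre N η) (hu : ∀ η, u η ≠ 0) :
    RatFamIn δ k (closure {ξ}) (fun x => Cyc.c1CapFun δ N (Cyc.secDivFun δ L ξ a) u x -
      Cyc.c1CapFun δ L (Cyc.secDivFun δ N ξ b) v x) := by
  classical
  let i : cl ξ ⟶ X := clι ξ
  have hi : IsClosedImmersion i := isClosedImmersion_clι ξ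
  have hZ := isSetup_closedImmersion i hX
  have hη : i (genericPoint (cl ξ)) = ξ := clι_genericPoint ξ
  let va : (η : X) → Cyc.secFibre L η := Function.update v ξ a
  let ub : (η : X) → Cyc.secFibre N η := Function.update u ξ b
  have hva : ∀ η, va η ≠ 0 := fun η => by
    by_cases h : η = ξ
    · subst h; simpa [va] using ha
    · simpa [va, Function.update_of_ne h] using hv η
  have hub : ∀ η, ub η ≠ 0 := fun η => by
    by_cases h : η = ξ
    · subst h; simpa [ub] using hb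
    · simpa [ub, Function.update_of_ne h] using hu η
  have hLZ := Amp73.isInvertible_pullback i hL
  have hNZ := Amp73.isInvertible_pullback i hN
  let α : AlgebraicCycle (cl ξ) ℤ := ⟨Cyc.secDivFun (fun z => δ (i z)) ((Scheme.Modules.pullback i).obj L)
    (genericPoint _) (pullSec i hL va hva _), by simp,
    fun z _ => secDivFun_locallyFinite hZ hLZ _ _ (pullSec_ne_zero i hL va hva _) z⟩
  let β : AlgebraicCycle (cl ξ) ℤ := ⟨Cyc.secDivFun (fun z => δ (i z)) ((Scheme.Modules.pullback i).obj N)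
    (genericPoint _) (pullSec i hN ub hub _), by simp,
    fun z _ => secDivFun_locallyFinite hZ hNZ _ _ (pullSec_ne_zero i hN ub hub _) z⟩
  obtain ⟨γ₁, hγ₁⟩ := exists_c1CapCycle hZ hNZ α (pullSec i hN u hu) (pullSec_ne_zero i hN u hu)
  obtain ⟨γ₂, hγ₂⟩ := exists_c1CapCycle hZ hLZ β (pullSec i hL v hv) (pullSec_ne_zero i hL v hv)
  have key := ratEquiv_c1Cap_secDiv_comm hZ (n := δ (i (genericPoint _))) rfl hLZ hNZ _
    (pullSec_ne_zero i hL va hva _) _ (pullSec_ne_zero i hN ub hub _) _ (pullSec_ne_zero i hN u hu) _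
    (pullSec_ne_zero i hL v hv) γ₁ γ₂ hγ₁ hγ₂
  have hkk : δ (i (genericPoint (cl ξ))) - 2 = k := by rw [hη]; omega
  rw [hkk] at key
  have hfam := ratFamIn_map hZ hX i (deltaCompat_preimmersion i δ) key
  rw [show Set.range i = closure {ξ} from range_clι ξ] at hfam
  have hpush : ∀ {M : X.Modules} (hM : PicF.IsInvertible M) (w : (η : X) → Cyc.secFibre M η)
      (hw : ∀ η, w η ≠ 0) (c : Cyc.secFibre M ξ) (_ : w ξ = c) (D : AlgebraicCycle (cl ξ) ℤ)
      (_ : ⇑D = Cyc.secDivFun (fun z => δ (i z)) ((Scheme.Modules.pullback i).obj M)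
        (genericPoint _) (pullSec i hM w hw _)),
      ⇑(AlgebraicCycle.map i (fun z => δ (i z)) δ D) = Cyc.secDivFun δ M ξ c := by
    intro M hM w hw c hc D hD
    subst hc
    funext x
    by_cases hx : x ∈ Set.range i
    · obtain ⟨z, rfl⟩ := hx
      rw [map_closedImmersion_image, hD, secDivFun_closedImmersion i hX hM w hw _ z, hη]
    · rw [map_closedImmersion_notMem i δ _ hx,
        secDivFun_eq_zero_of_notMem i.isClosedEmbedding.isClosed_range ⟨_, hη⟩ hx]
  have e1 := map_c1Cap hZ hX i (deltaCompat_preimmersion i δ) hN α u hu γ₁ hγ₁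
  have e2 := map_c1Cap hZ hX i (deltaCompat_preimmersion i δ) hL β v hv γ₂ hγ₂
  rw [hpush hL va hva a (Function.update_self ..) α rfl] at e1
  rw [hpush hN ub hub b (Function.update_self ..) β rfl] at e2
  rw [map_sub_cycle, Function.locallyFinsuppWithin.coe_sub, e1, e2] at hfam
  exact hfam

lemma c1CapFun_finsum_apply (hX : Cyc.IsSetup X δ) (L : X.Modules) (v : (η : X) → Cyc.secFibre L η)
    {ι : Type*} (I : Finset ι) (c : ι → ℤ) (D : ι → AlgebraicCycle X ℤ) (a : X → ℤ) (x : X)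
    (h : ∀ η, η ⤳ x → a η = ∑ i ∈ I, c i * D i η) :
    Cyc.c1CapFun δ L a v x = ∑ i ∈ I, c i * Cyc.c1CapFun δ L ⇑(D i) v x := by
  simp only [Cyc.c1CapFun, mul_finsum]
  rw [← finsum_sum_comm I _ fun i _ => ((c1Cap_support_finite (δ := δ) (D i) L v x).subset
    (fun η hη => right_ne_zero_of_mul (Function.mem_support.1 hη)))]
  refine finsum_congr fun η => ?_
  by_cases hη : η ⤳ x
  · rw [h η hη, Finset.sum_mul]
    exact Finset.sum_congr rfl fun i _ => by ring
  · have h0 : Cyc.secDivFun δ L η (v η) x = 0 := dif_neg fun h' => hη h'.1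
    rw [h0, mul_zero]
    exact (Finset.sum_eq_zero fun i _ => by dsimp only; rw [h0, mul_zero, mul_zero]).symm

/-- `c₁(L) ∩ div(f)` is a sum of divisors on subvarieties of the closure. -/
theorem ratFamIn_c1Cap_divFun (hX : Cyc.IsSetup X δ) {L : X.Modules} (hL : PicF.IsInvertible L) {k : ℤ}
    (ξ : X) (hk : δ ξ = k + 2) (f : X.residueField ξ) (hf : f ≠ 0)
    (v : (η : X) → Cyc.secFibre L η) (hv : ∀ η, v η ≠ 0) :
    RatFamIn δ k (closure {ξ}) (Cyc.c1CapFun δ L (Cyc.divFun δ ξ f) v) := by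
  classical
  obtain ⟨φ, hφ⟩ := X.residue_surjective ξ f
  subst hφ
  have hu : IsUnit φ := (IsLocalRing.residue_ne_zero_iff_isUnit _).1 hf
  have hne : φ • v ξ ≠ 0 := fun h => hv ξ (hu.smul_left_cancel.1 (h.trans (smul_zero φ).symm))
  obtain ⟨ι, ζ, g, h1, h2, h3, h4, h5⟩ :=
    ratFamIn_c1Cap_comm hX hL hL ξ hk (φ • v ξ) hne (v ξ) (hv ξ) v hv v hv
  refine ⟨ι, ζ, g, h1, h2, h3, h4, fun x => ?_⟩
  rw [← h5 x]
  let A : AlgebraicCycle X ℤ := ⟨Cyc.secDivFun δ L ξ (φ • v ξ), by simp,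
    fun z _ => secDivFun_locallyFinite hX hL _ _ hne z⟩
  let B : AlgebraicCycle X ℤ := ⟨Cyc.secDivFun δ L ξ (v ξ), by simp,
    fun z _ => secDivFun_locallyFinite hX hL _ _ (hv ξ) z⟩
  rw [c1CapFun_finsum_apply hX L v Finset.univ ![1, -1] ![A, B] (Cyc.divFun δ ξ _) x fun η _ => ?_]
  · simp [Fin.sum_univ_two, sub_eq_add_neg]; rfl
  · rw [← secDivFun_sub hX hL ξ η _ _ hne (hv ξ) φ rfl]
    simp [Fin.sum_univ_two, sub_eq_add_neg]; rfl

end Groth.Agent.Cyc90
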