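import Groth.Agent.Cyc90.C1Rat

/-! The first Chern class cap on rational equivalence classes, and commutativity. -/

set_option autoImplicit false
universe u

open CategoryTheory AlgebraicGeometry TopologicalSpace IsLocalRing

namespace Groth.Agent.Cyc90

variable {X : Scheme.{u}} {δ : X → ℤ}

lemma ratFamIn_smul (hX : Cyc.IsSetup X δ) {k : ℤ} {T : Set X} {F : X → ℤ} (h : RatFamIn δ k T F) (c : ℤ) :
    RatFamIn δ k T (fun x => c * F x) := by
  obtain ⟨ι, ξ, f, h1, h2, h3, h4, h5⟩ := h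
  refine ⟨ι, ξ, fun i => f i ^ c, h1, fun i => zpow_ne_zero _ (h2 i), h3, h4, fun x => ?_⟩
  simp only [h5 x, mul_finsum, divFun_zpow hX _ _ (h2 _)]

/-- `c₁(L) ∩ -` kills cycles rationally equivalent to zero, with supports. -/
theorem ratFamIn_c1Cap (hX : Cyc.IsSetup X δ) {L : X.Modules} (hL : PicF.IsInvertible L) {k : ℤ}
    {T : Set X} {a : X → ℤ} (h : RatFamIn δ (k + 1) T a) (hT : IsClosed T)
    (v : (η : X) → Cyc.secFibre L η) (hv : ∀ η, v η ≠ 0) :
    RatFamIn δ k T (Cyc.c1CapFun δ L a v) := by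
  classical
  obtain ⟨ι, ξ, f, hk, hf, hmem, hlf, hsum⟩ := h
  have hF : ∀ i, RatFamIn δ k (closure {ξ i}) (Cyc.c1CapFun δ L (Cyc.divFun δ (ξ i) (f i)) v) :=
    fun i => ratFamIn_c1Cap_divFun hX hL (ξ i) (by rw [hk i]; ring) (f i) (hf i) v hv
  convert ratFamIn_finsum (fun i => closure {ξ i}) (fun i => isClosed_closure) hlf _ hF T
    (fun i => closure_minimal (Set.singleton_subset_iff.2 (hmem i)) hT) using 1
  funext x
  obtain ⟨U, hU, hxU, hfin⟩ := hlf x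
  let D : ι → AlgebraicCycle X ℤ := fun i => divCycle hX (ξ i) (f i) (hf i)
  rw [c1CapFun_finsum_apply hX L v hfin.toFinset (fun _ => 1) D a x fun η hη => ?_,
    finsum_eq_sum_of_support_subset (s := hfin.toFinset) _ fun i hi => ?_]
  · simp only [one_mul]; rfl
  · obtain ⟨η, hη⟩ : ∃ η, Cyc.divFun δ (ξ i) (f i) η * Cyc.secDivFun δ L η (v η) x ≠ 0 := by
      by_contra hall
      push Not at hall
      exact hi (finsum_eq_zero_of_forall_eq_zero hall)
    refine Finset.mem_coe.2 (hfin.mem_toFinset.2 ⟨x, ?_, hxU⟩)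
    have h1 := left_ne_zero_of_mul hη
    have h2 := right_ne_zero_of_mul hη
    unfold Cyc.divFun at h1
    unfold Cyc.secDivFun at h2
    split_ifs at h1 h2 with h h'
    · exact specializes_iff_mem_closure.1 (h.1.trans h'.1)
    all_goals exact absurd rfl ‹(0 : ℤ) ≠ 0›
  · rw [hsum η, finsum_eq_sum_of_support_subset (s := hfin.toFinset) _ fun i hi => ?_]
    · simp only [one_mul]; rfl
    refine Finset.mem_coe.2 (hfin.mem_toFinset.2 ⟨η, ?_, hη.mem_open hU hxU⟩)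
    simp only [Function.mem_support, Cyc.divFun] at hi
    split_ifs at hi with h
    · exact specializes_iff_mem_closure.1 h.1
    · exact absurd rfl hi

theorem ratEquivZero_c1Cap (hX : Cyc.IsSetup X δ) {L : X.Modules} (hL : PicF.IsInvertible L) {k : ℤ}
    {α : AlgebraicCycle X ℤ} (h : Cyc.RatEquivZero δ (k + 1) α) (v : (η : X) → Cyc.secFibre L η)
    (hv : ∀ η, v η ≠ 0) (γ : AlgebraicCycle X ℤ) (hγ : ⇑γ = Cyc.c1CapFun δ L ⇑α v) :
    Cyc.RatEquivZero δ k γ :=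
  RatFamIn.ratEquivZero
    (hγ ▸ ratFamIn_c1Cap hX hL (ratFamIn_of_ratEquivZero h) isClosed_univ v hv)

theorem c1CapFun_c1CapFun (hX : Cyc.IsSetup X δ) (L : X.Modules) {N : X.Modules}
    (hN : PicF.IsInvertible N) (α : AlgebraicCycle X ℤ)
    (v : (η : X) → Cyc.secFibre L η) (u : (η : X) → Cyc.secFibre N η) (hu : ∀ η, u η ≠ 0) (x : X) :
    Cyc.c1CapFun δ L (Cyc.c1CapFun δ N ⇑α u) v x =
      ∑ᶠ ξ, α ξ * Cyc.c1CapFun δ L (Cyc.secDivFun δ N ξ (u ξ)) v x := by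
  classical
  obtain ⟨t, ht, hfin⟩ := α.supportLocallyFiniteWithinDomain' x trivial
  obtain ⟨U, hUt, hU, hxU⟩ := mem_nhds_iff.1 ht
  let D : X → AlgebraicCycle X ℤ := fun ξ => ⟨Cyc.secDivFun δ N ξ (u ξ), by simp,
    fun z _ => secDivFun_locallyFinite hX hN ξ _ (hu ξ) z⟩
  rw [c1CapFun_finsum_apply hX L v hfin.toFinset (fun ξ => α ξ) D _ x fun η hη => ?_,
    finsum_eq_sum_of_support_subset (s := hfin.toFinset) _ fun ξ hξ => ?_]
  · rfl
  · have h1 := left_ne_zero_of_mul (Function.mem_support.1 hξ)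
    obtain ⟨η, hη⟩ : ∃ η, Cyc.secDivFun δ N ξ (u ξ) η * Cyc.secDivFun δ L η (v η) x ≠ 0 := by
      by_contra hall
      push Not at hall
      exact right_ne_zero_of_mul (Function.mem_support.1 hξ) (finsum_eq_zero_of_forall_eq_zero hall)
    have h2 := left_ne_zero_of_mul hη
    have h3 := right_ne_zero_of_mul hη
    unfold Cyc.secDivFun at h2 h3
    split_ifs at h2 h3 with h h'
    · exact Finset.mem_coe.2 (hfin.mem_toFinset.2 ⟨hUt ((h.1.trans h'.1).mem_open hU hxU), h1⟩)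
    all_goals exact absurd rfl ‹(0 : ℤ) ≠ 0›
  · rw [Cyc.c1CapFun, finsum_eq_sum_of_support_subset (s := hfin.toFinset) _ fun ξ hξ => ?_]
    · rfl
    have h1 := left_ne_zero_of_mul (Function.mem_support.1 hξ)
    have h2 := right_ne_zero_of_mul (Function.mem_support.1 hξ)
    unfold Cyc.secDivFun at h2
    split_ifs at h2 with h
    · exact Finset.mem_coe.2 (hfin.mem_toFinset.2 ⟨hUt ((h.1.trans hη).mem_open hU hxU), h1⟩)
    · exact absurd rfl h2

/-- The caps with two first Chern classes commute. -/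
theorem ratEquiv_c1Cap_comm (hX : Cyc.IsSetup X δ) {L N : X.Modules} (hL : PicF.IsInvertible L)
    (hN : PicF.IsInvertible N) {k : ℤ} (α : AlgebraicCycle X ℤ) (hα : α ∈ Cyc.Zk X δ (k + 2))
    (sL sL' : (ξ : X) → Cyc.secFibre L ξ) (sN sN' : (ξ : X) → Cyc.secFibre N ξ) (hsL : ∀ ξ, sL ξ ≠ 0)
    (hsL' : ∀ ξ, sL' ξ ≠ 0) (hsN : ∀ ξ, sN ξ ≠ 0) (hsN' : ∀ ξ, sN' ξ ≠ 0) (γ₁ γ₂ : AlgebraicCycle X ℤ)
    (h₁ : ⇑γ₁ = Cyc.c1CapFun δ L (Cyc.c1CapFun δ N ⇑α sN) sL)
    (h₂ : ⇑γ₂ = Cyc.c1CapFun δ N (Cyc.c1CapFun δ L ⇑α sL') sN') : Cyc.RatEquiv δ k γ₁ γ₂ := by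
  classical
  have hF : ∀ j : {ξ : X // α ξ ≠ 0}, RatFamIn δ k (closure {j.1}) fun x => α j.1 *
      (Cyc.c1CapFun δ L (Cyc.secDivFun δ N j.1 (sN j.1)) sL x -
        Cyc.c1CapFun δ N (Cyc.secDivFun δ L j.1 (sL' j.1)) sN' x) := fun j =>
    ratFamIn_smul hX (ratFamIn_c1Cap_comm hX hN hL j.1 (by by_contra h; exact j.2 (hα j.1 h))
      _ (hsN _) _ (hsL' _) sN' hsN' sL hsL) _
  have h := ratFamIn_finsum (fun j : {ξ : X // α ξ ≠ 0} => closure {j.1}) (fun j => isClosed_closure)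
    (fun x => by
      obtain ⟨N, hN, hfin⟩ := α.supportLocallyFiniteWithinDomain' x trivial
      obtain ⟨U, hUt, hU, hxU⟩ := mem_nhds_iff.1 hN
      refine ⟨U, hU, hxU, (hfin.preimage Subtype.val_injective.injOn).subset ?_⟩
      rintro j ⟨y, hy, hyU⟩
      exact ⟨hUt ((specializes_iff_mem_closure.2 hy).mem_open hU hyU), j.2⟩) _ hF Set.univ
    (fun j => Set.subset_univ _)
  unfold Cyc.RatEquiv
  refine RatFamIn.ratEquivZero (T := Set.univ) ?_
  convert h using 1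
  funext x
  rw [Function.locallyFinsuppWithin.coe_sub, Pi.sub_apply, h₁, h₂, c1CapFun_c1CapFun hX L hN α sL sN hsN x,
    c1CapFun_c1CapFun hX N hL α sN' sL' hsL' x]
  obtain ⟨t, ht, hfin⟩ := α.supportLocallyFiniteWithinDomain' x trivial
  obtain ⟨U, hUt, hU, hxU⟩ := mem_nhds_iff.1 ht
  have hs : ∀ {A B : X.Modules} (a : (η : X) → Cyc.secFibre A η) (b : (η : X) → Cyc.secFibre B η),
      (Function.support fun ξ => α ξ * Cyc.c1CapFun δ B (Cyc.secDivFun δ A ξ (a ξ)) b x) ⊆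
        ↑hfin.toFinset := by
    intro A B a b ξ hξ
    have h1 := left_ne_zero_of_mul (Function.mem_support.1 hξ)
    obtain ⟨η, hη⟩ : ∃ η, Cyc.secDivFun δ A ξ (a ξ) η * Cyc.secDivFun δ B η (b η) x ≠ 0 := by
      by_contra hall
      push Not at hall
      exact right_ne_zero_of_mul (Function.mem_support.1 hξ) (finsum_eq_zero_of_forall_eq_zero hall)
    have h2 := left_ne_zero_of_mul hη
    have h3 := right_ne_zero_of_mul hη
    unfold Cyc.secDivFun at h2 h3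
    split_ifs at h2 h3 with h h'
    · exact Finset.mem_coe.2 (hfin.mem_toFinset.2 ⟨hUt ((h.1.trans h'.1).mem_open hU hxU), h1⟩)
    all_goals exact absurd rfl ‹(0 : ℤ) ≠ 0›
  rw [← finsum_sub_distrib (hfin.toFinset.finite_toSet.subset (hs sN sL))
    (hfin.toFinset.finite_toSet.subset (hs sL' sN'))]
  simp only [← mul_sub]
  rw [← finsum_mem_univ]
  refine Eq.trans ?_ (finsum_set_coe_eq_finsum_mem (s := {ξ | α ξ ≠ 0})
    (f := fun ξ => α ξ * (Cyc.c1CapFun δ L (Cyc.secDivFun δ N ξ (sN ξ)) sL x -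
      Cyc.c1CapFun δ N (Cyc.secDivFun δ L ξ (sL' ξ)) sN' x))).symm
  refine finsum_mem_inter_support_eq' _ _ _ fun ξ hξ => ?_
  simp only [Set.mem_univ, true_iff]
  exact left_ne_zero_of_mul (Function.mem_support.1 hξ)

end Groth.Agent.Cyc90
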