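import Groth.Agent.Cyc90.CohMultAlg
import Groth.Agent.Cyc90.LocalMult
import Groth.Agent.Div89.Stalk
import Groth.Prelude.Def_Coh
import Mathlib.RingTheory.Ideal.AssociatedPrime.Localization

/-! The multiplicity formula for a coherent module on a scheme. -/

set_option autoImplicit false
set_option backward.isDefEq.respectTransparency.types false
set_option linter.style.haveILetI false
universe u

open CategoryTheory AlgebraicGeometry TopologicalSpace IsLocalRing

namespace Groth.Agent.Cyc90.CohMult

variable {X : Scheme.{u}} (F : X.Modules)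

/-- The stalk at a generization as a module over the local ring of the point. -/
@[implicit_reducible]
noncomputable def specModule {p z : X} (h : z ⤳ p) :
    Module (X.presheaf.stalk p) (F.presheaf.stalk z) :=
  Module.compHom (F.presheaf.stalk z) (X.presheaf.stalkSpecializes h).hom

/-- The specialization map of stalks, linear. -/
noncomputable def specLin {p z : X} (h : z ⤳ p) :
    letI := specModule F h
    F.presheaf.stalk p →ₗ[X.presheaf.stalk p] F.presheaf.stalk z :=
  letI := specModule F h
  { toFun := fun m => F.presheaf.stalkSpecializes h m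
    map_add' := fun a b => map_add _ a b
    map_smul' := fun r m => stalkSpecializes_smul F h r m }

theorem isLocalizedModule_specLin (hF : Coh.IsQCoh F) {p z : X} (h : z ⤳ p) :
    letI := specModule F h
    IsLocalizedModule (genPrime h).asIdeal.primeCompl (specLin F h) := by
  letI := specModule F h
  obtain ⟨U, hpV⟩ : ∃ U : X.affineOpens, p ∈ U.1 := by
    obtain ⟨V, hV, hpV, -⟩ := exists_isAffineOpen_mem_and_subset (X := X) (x := p) (U := ⊤) trivial
    exact ⟨⟨V, hV⟩, hpV⟩
  have hzV : z ∈ U.1 := h.mem_open U.1.2 hpV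
  letI := Div89.stalkModule F U.1 p hpV
  haveI hp := Div89.isLocalizedModule_germLin F hF U p hpV
  have hgR : ∀ t : Γ(X, U.1), X.presheaf.stalkSpecializes h (X.presheaf.germ U.1 p hpV t) =
      X.presheaf.germ U.1 z hzV t := fun t =>
    TopCat.Presheaf.germ_stalkSpecializes_apply X.presheaf hpV h t
  have hgM : ∀ m : Γ(F, U.1), F.presheaf.stalkSpecializes h (F.presheaf.germ U.1 p hpV m) =
      F.presheaf.germ U.1 z hzV m := fun m =>
    TopCat.Presheaf.germ_stalkSpecializes_apply F.presheaf hpV h m
  have hmem : ∀ t : Γ(X, U.1), X.presheaf.germ U.1 p hpV t ∈ (genPrime h).asIdeal.primeCompl ↔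
      t ∈ (Div89.primeAt U z hzV).primeCompl := fun t => by
    refine Iff.trans ?_ (Div89.germ_isUnit_iff U z hzV t)
    rw [← hgR t]
    exact (not_congr (mem_nonunits_iff)).trans not_not
  have hunit : ∀ s : (genPrime h).asIdeal.primeCompl,
      IsUnit (X.presheaf.stalkSpecializes h (s : X.presheaf.stalk p)) :=
    fun s => not_not.1 ((not_congr mem_nonunits_iff).1 s.2)
  constructor
  · intro s
    rw [Module.End.isUnit_iff]
    exact ((hunit s).smul_bijective : Function.Bijective
      (fun e : F.presheaf.stalk z => X.presheaf.stalkSpecializes h (s : X.presheaf.stalk p) • e))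
  · intro e
    obtain ⟨⟨m, t⟩, hm⟩ :=
      letI := Div89.stalkModule F U.1 z hzV
      haveI := Div89.isLocalizedModule_germLin F hF U z hzV
      IsLocalizedModule.surj (Div89.primeAt U z hzV).primeCompl (Div89.germLin F U.1 z hzV) e
    refine ⟨⟨F.presheaf.germ U.1 p hpV m, ⟨X.presheaf.germ U.1 p hpV t.1, (hmem _).2 t.2⟩⟩, ?_⟩
    change X.presheaf.stalkSpecializes h (X.presheaf.germ U.1 p hpV t.1) • e =
      F.presheaf.stalkSpecializes h (F.presheaf.germ U.1 p hpV m)
    rw [hgR, hgM]
    exact hm
  · intro a b hab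
    obtain ⟨⟨m, ta⟩, hma⟩ := IsLocalizedModule.surj (Div89.primeAt U p hpV).primeCompl
      (Div89.germLin F U.1 p hpV) a
    obtain ⟨⟨m', tb⟩, hmb⟩ := IsLocalizedModule.surj (Div89.primeAt U p hpV).primeCompl
      (Div89.germLin F U.1 p hpV) b
    replace hma : X.presheaf.germ U.1 p hpV ta.1 • a = F.presheaf.germ U.1 p hpV m := hma
    replace hmb : X.presheaf.germ U.1 p hpV tb.1 • b = F.presheaf.germ U.1 p hpV m' := hmb
    change F.presheaf.stalkSpecializes h a = F.presheaf.stalkSpecializes h b at hab
    have hza : ∀ (t : Γ(X, U.1)) (e : F.presheaf.stalk p) (n : Γ(F, U.1)),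
        X.presheaf.germ U.1 p hpV t • e = F.presheaf.germ U.1 p hpV n →
        X.presheaf.germ U.1 z hzV t • F.presheaf.stalkSpecializes h e = F.presheaf.germ U.1 z hzV n :=
      fun t e n he => by
        rw [← hgM, ← he, stalkSpecializes_smul F h]
        exact congrArg (· • _) (hgR t).symm
    have h0 : F.presheaf.germ U.1 z hzV (tb.1 • m - ta.1 • m') = 0 := by
      rw [map_sub, Div89.germ_smul, Div89.germ_smul, ← hza _ _ _ hma, ← hza _ _ _ hmb, hab,
        smul_comm, sub_self]
    obtain ⟨u, hu⟩ :=
      letI := Div89.stalkModule F U.1 z hzV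
      haveI := Div89.isLocalizedModule_germLin F hF U z hzV
      (IsLocalizedModule.eq_zero_iff (Div89.primeAt U z hzV).primeCompl (Div89.germLin F U.1 z hzV)).1 h0
    have hup : ∀ t : (Div89.primeAt U p hpV).primeCompl,
        X.presheaf.germ U.1 p hpV t.1 ∈ (genPrime h).asIdeal.primeCompl := fun t hmem' =>
      ((Ideal.IsPrime.ne_top (genPrime h).2) ∘ fun hu => Ideal.eq_top_of_isUnit_mem _ hmem' hu)
        ((Div89.germ_isUnit_iff U p hpV t.1).2 t.2)
    refine ⟨⟨_, (hmem u.1).2 u.2⟩ * (⟨_, hup ta⟩ * ⟨_, hup tb⟩), ?_⟩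
    rw [Submonoid.smul_def, Submonoid.smul_def, ← sub_eq_zero, ← smul_sub]
    simp only [Submonoid.coe_mul]
    rw [smul_sub, mul_smul, mul_smul, mul_smul, mul_smul]
    conv_lhs => arg 1; rw [smul_comm (X.presheaf.germ U.1 p hpV ta.1), hma]
    rw [hmb, ← smul_sub, ← Div89.germ_smul, ← Div89.germ_smul, ← map_sub, ← Div89.germ_smul]
    exact (congrArg (F.presheaf.germ U.1 p hpV) hu).trans (map_zero _)

/-- The length of the stalk at a generization is a local length at the point. -/
theorem length_stalk_eq_locLen (hF : Coh.IsQCoh F) {p z : X} (h : z ⤳ p) :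
    Module.length (X.presheaf.stalk z) (F.presheaf.stalk z) =
      Len90.locLen (genPrime h).asIdeal (F.presheaf.stalk p) := by
  letI := specModule F h
  letI := (X.presheaf.stalkSpecializes h).hom.toAlgebra
  haveI := isLocalization_genPrime h
  haveI := isLocalizedModule_specLin F hF h
  let P := (genPrime h).asIdeal
  let e : Localization.AtPrime P ≃+* X.presheaf.stalk z :=
    (IsLocalization.algEquiv P.primeCompl (Localization.AtPrime P) (X.presheaf.stalk z)).toRingEquiv
  let l := IsLocalizedModule.iso P.primeCompl (specLin F h)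
  refine (length_eq_of_semilinear e.toRingHom e.surjective l.toAddEquiv fun a m => ?_).symm
  obtain ⟨r, s, rfl⟩ := IsLocalization.exists_mk'_eq P.primeCompl a
  refine (not_not.1 ((not_congr mem_nonunits_iff).1 s.2) :
    IsUnit (X.presheaf.stalkSpecializes h (s : X.presheaf.stalk p))).smul_left_cancel.1 ?_
  have he : ∀ c : X.presheaf.stalk p,
      e (algebraMap _ (Localization.AtPrime P) c) = X.presheaf.stalkSpecializes h c :=
    fun c => (IsLocalization.algEquiv P.primeCompl (Localization.AtPrime P) (X.presheaf.stalk z)).commutes c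
  calc (s : X.presheaf.stalk p) • l (IsLocalization.mk' _ r s • m)
      = l (r • m) := by
        rw [← map_smul, ← algebraMap_smul (Localization.AtPrime P) (s : X.presheaf.stalk p), smul_smul,
          IsLocalization.mk'_spec', algebraMap_smul]
    _ = X.presheaf.stalkSpecializes h r • l m := map_smul l r m
    _ = X.presheaf.stalkSpecializes h (s : X.presheaf.stalk p) • (e (IsLocalization.mk' _ r s) • l m) := by
        rw [smul_smul, ← he (s : X.presheaf.stalk p), ← map_mul, IsLocalization.mk'_spec', he]

lemma nontrivial_stalk_iff_mem_support (hF : Coh.IsQCoh F) {p z : X} (h : z ⤳ p) :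
    Nontrivial (F.presheaf.stalk z) ↔ genPrime h ∈ Module.support (X.presheaf.stalk p) (F.presheaf.stalk p) := by
  rw [Module.mem_support_iff, ← Module.length_pos_iff (R := X.presheaf.stalk z),
    length_stalk_eq_locLen F hF h, Len90.locLen, Module.length_pos_iff]

/-- An element outside the primes of the associated points is injective on the stalk. -/
theorem injective_smul_of_assPoint [IsLocallyNoetherian X] (hF : Coh.IsQCoh F) {p : X}
    (a : X.presheaf.stalk p)
    (ha : ∀ z (h : z ⤳ p), IsAssociatedPrime (maximalIdeal (X.presheaf.stalk z)) (F.presheaf.stalk z) →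
      Cyc.specMap p z h a ≠ 0) :
    Function.Injective (fun m : F.presheaf.stalk p => a • m) := by
  intro m m' e
  by_contra hne
  have hmem : a ∈ ⋃ q ∈ associatedPrimes (X.presheaf.stalk p) (F.presheaf.stalk p), (q : Set (X.presheaf.stalk p)) := by
    rw [biUnion_associatedPrimes_eq_zero_divisors]
    exact ⟨m - m', sub_ne_zero.2 hne, by rw [smul_sub]; exact sub_eq_zero.2 e⟩
  simp only [Set.mem_iUnion, SetLike.mem_coe] at hmem
  obtain ⟨q, hq, haq⟩ := hmem
  let q' : PrimeSpectrum (X.presheaf.stalk p) := ⟨q, IsAssociatedPrime.isPrime hq⟩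
  have h := fromSpecStalk_specializes q'
  have hg : genPrime h = q' := genPrime_fromSpecStalk q'
  refine ha _ h ?_ (RingHom.mem_ker.1 (by rw [ker_specMap, hg]; exact haq))
  letI := specModule F h
  letI := (X.presheaf.stalkSpecializes h).hom.toAlgebra
  haveI := isLocalization_genPrime h
  haveI := isLocalizedModule_specLin F hF h
  haveI : IsScalarTower (X.presheaf.stalk p) (X.presheaf.stalk (X.fromSpecStalk p q'))
      (F.presheaf.stalk (X.fromSpecStalk p q')) :=
    IsScalarTower.of_algebraMap_smul fun _ _ => rfl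
  refine Module.associatedPrimes.mem_associatedPrimes_of_comap_mem_associatedPrimes_of_isLocalizedModule
    (genPrime h).asIdeal.primeCompl (specLin F h) _ ?_
  convert hq using 1
  exact (IsLocalization.AtPrime.under_maximalIdeal (X.presheaf.stalk _) (genPrime h).asIdeal).trans
    (congrArg PrimeSpectrum.asIdeal hg)

variable {δ : X → ℤ}

omit F in
open Classical in
/-- `length M/aM` is the sum over the generizations one dimension up of local length times order,
for a finite module over a local ring of `X`. -/
theorem length_coker_eq_sum_module (hX : Cyc.IsSetup X δ) {k : ℤ} {p : X} (M : Type u) [AddCommGroup M]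
    [Module (X.presheaf.stalk p) M] [Module.Finite (X.presheaf.stalk p) M] (hp : δ p = k)
    (hdim : ∀ z (h : z ⤳ p), genPrime h ∈ Module.support (X.presheaf.stalk p) M → δ z ≤ k + 1)
    (a : X.presheaf.stalk p) (hinj : Function.Injective (fun m : M => a • m))
    (hne : ∀ z (h : z ⤳ p), genPrime h ∈ Module.support (X.presheaf.stalk p) M → δ z = k + 1 →
      Cyc.specMap p z h a ≠ 0) :
    ((Len90.coker (LinearMap.lsmul (X.presheaf.stalk p) M a)).toNat : ℤ) =
      ∑ᶠ z : X, if h : z ⤳ p ∧ δ z = k + 1 then
        ((Len90.locLen (genPrime h.1).asIdeal M).toNat : ℤ) *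
          Cyc.ordAt p z h.1 (Cyc.specMap p z h.1 a) else 0 := by
  have := hX.1
  let A := X.presheaf.stalk p
  let S : Set (PrimeSpectrum A) := {q | δ (X.fromSpecStalk p q) = k + 1 ∧ q ∈ Module.support A M}
  have hsp : ∀ q ∈ Module.support A M, q = closedPoint A ∨ q ∈ S := fun q hq => by
    have hz := fromSpecStalk_specializes q
    have hg : genPrime hz = q := genPrime_fromSpecStalk q
    have h1 : δ (X.fromSpecStalk p q) ≤ k + 1 := hdim _ hz (hg.symm ▸ hq)
    have h2 := delta_le hX.2.2 hz
    by_cases h3 : δ (X.fromSpecStalk p q) = k + 1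
    · exact Or.inr ⟨h3, hq⟩
    · refine Or.inl (hg.symm.trans ?_)
      rw [← genPrime_refl p]
      exact (genPrime_eq_iff _ _).2 (eq_of_delta_le hX.2.2 hz (by omega))
  have hle : ∀ q ∈ S, ∀ q' ∈ Module.support A M, q' ≤ q → q' = q := fun q hq q' hq' hle => by
    have hz := fromSpecStalk_specializes q
    have hz' := fromSpecStalk_specializes q'
    have hg : genPrime hz = q := genPrime_fromSpecStalk q
    have hg' : genPrime hz' = q' := genPrime_fromSpecStalk q'
    have h1 : X.fromSpecStalk p q' ⤳ X.fromSpecStalk p q :=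
      (genPrime_le_iff hz' hz).1 (by rw [hg, hg']; exact hle)
    have h2 : δ (X.fromSpecStalk p q') ≤ k + 1 := hdim _ hz' (hg'.symm ▸ hq')
    rw [← hg', ← hg]
    exact (genPrime_eq_iff _ _).2 (eq_of_delta_le hX.2.2 h1 (by have := hq.1; omega))
  have hfin : S.Finite := by
    refine (((Module.annihilator A M).finite_minimalPrimes_of_isNoetherianRing A).preimage
      fun _ _ _ _ e => PrimeSpectrum.ext e).subset fun q hq => ?_
    refine ⟨⟨q.2, Module.mem_support_iff_of_finite.1 hq.2⟩, fun J hJ hJq => ?_⟩
    exact (congrArg PrimeSpectrum.asIdeal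
      (hle q hq ⟨J, hJ.1⟩ (Module.mem_support_iff_of_finite.2 hJ.2) hJq)).ge
  have hT : ∀ q ∈ hfin.toFinset, a ∉ q.asIdeal := fun q hq haq => by
    rw [hfin.mem_toFinset] at hq
    refine hne _ (fromSpecStalk_specializes q) (by rw [genPrime_fromSpecStalk]; exact hq.2) hq.1
      (RingHom.mem_ker.1 ?_)
    rw [ker_specMap, genPrime_fromSpecStalk]
    exact haq
  obtain ⟨-, hc, hsum⟩ := multiplicity_formula_on hfin.toFinset a hT
    (fun hcl => by
      rw [hfin.mem_toFinset] at hcl
      have := hcl.1
      rw [show X.fromSpecStalk p (closedPoint A) = p from Scheme.fromSpecStalk_closedPoint] at this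
      omega)
    (fun q hq q' hq' h => hle q' (hfin.mem_toFinset.1 hq') q (hfin.mem_toFinset.1 hq).2 h)
    M (fun q hq => (hsp q hq).imp id fun h => hfin.mem_toFinset.2 h)
  have hk : Len90.kerLen (LinearMap.lsmul A M a) = 0 := by
    rw [Len90.kerLen, LinearMap.ker_eq_bot.mpr fun b c e => hinj e]
    exact Module.length_eq_zero
  rw [hk, zero_add] at hsum
  rw [hsum] at hc ⊢
  rw [multSumOn] at hc ⊢
  rw [toNat_finset_sum_of_ne_top _ _ hc, Nat.cast_sum,
    finsum_eq_sum_of_support_subset _ (s := hfin.toFinset.image fun q => X.fromSpecStalk p q) ?_,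
    Finset.sum_image fun q _ q' _ e => (X.fromSpecStalk p).isEmbedding.injective e]
  · refine Finset.sum_congr rfl fun q hq => ?_
    rw [hfin.mem_toFinset] at hq
    have hz := fromSpecStalk_specializes q
    have hg : genPrime hz = q := genPrime_fromSpecStalk q
    rw [dif_pos ⟨hz, hq.1⟩, ENat.toNat_mul, Nat.cast_mul, hg]
    congr 1
    have h1 : ringKrullDim (Cyc.LocQuot p (X.fromSpecStalk p q) hz) ≤ 1 :=
      ringKrullDim_locQuot_le_one _ fun w h1 h2 =>
        immediate hX.2.2 hz (by have := hq.1; omega) h1 h2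
    have := krullDimLE_one h1
    have h0 : Ideal.Quotient.mk (RingHom.ker (Cyc.specMap p _ hz)) a ≠ 0 := fun e =>
      hne _ hz (hg.symm ▸ hq.2) hq.1 (RingHom.mem_ker.1 (Ideal.Quotient.eq_zero_iff_mem.1 e))
    rw [Cyc.ordAt, show Cyc.specMap p _ hz a = algebraMap (Cyc.LocQuot p _ hz) _
      (Ideal.Quotient.mk _ a) from rfl, Len90.ordFrac_algebraMap _ h0, ord_quot_mk, ker_specMap, hg]
  · intro z hz
    rw [Function.mem_support] at hz
    split_ifs at hz with hd
    · have hs : genPrime hd.1 ∈ Module.support A M := by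
        by_contra hn
        rw [Module.notMem_support_iff] at hn
        simp [Len90.locLen, Module.length_eq_zero] at hz
      refine Finset.mem_image.2 ⟨genPrime hd.1, hfin.mem_toFinset.2 ⟨?_, hs⟩, fromSpecStalk_genPrime _⟩
      exact (congrArg δ (fromSpecStalk_genPrime hd.1)).trans hd.2
    · exact absurd rfl hz

open Classical in
/-- `length F_p/aF_p` is the sum over the generizations one dimension up of length times order. -/
theorem length_coker_eq_sum (hX : Cyc.IsSetup X δ) (hF : Coh.IsQCoh F) {k : ℤ} {p : X}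
    [Module.Finite (X.presheaf.stalk p) (F.presheaf.stalk p)] (hp : δ p = k)
    (hdim : ∀ z, z ⤳ p → Nontrivial (F.presheaf.stalk z) → δ z ≤ k + 1) (a : X.presheaf.stalk p)
    (hinj : Function.Injective (fun m : F.presheaf.stalk p => a • m))
    (hne : ∀ z (h : z ⤳ p), Nontrivial (F.presheaf.stalk z) → δ z = k + 1 → Cyc.specMap p z h a ≠ 0) :
    ((Len90.coker (LinearMap.lsmul (X.presheaf.stalk p) (F.presheaf.stalk p) a)).toNat : ℤ) =
      ∑ᶠ z : X, if h : z ⤳ p ∧ δ z = k + 1 then
        ((Module.length (X.presheaf.stalk z) (F.presheaf.stalk z)).toNat : ℤ) *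
          Cyc.ordAt p z h.1 (Cyc.specMap p z h.1 a) else 0 := by
  rw [length_coker_eq_sum_module hX (F.presheaf.stalk p) hp
    (fun z h hs => hdim z h ((nontrivial_stalk_iff_mem_support F hF h).2 hs)) a hinj
    fun z h hs => hne z h ((nontrivial_stalk_iff_mem_support F hF h).2 hs)]
  refine finsum_congr fun z => ?_
  split_ifs with h
  · rw [length_stalk_eq_locLen F hF h.1]
  · rfl

end Groth.Agent.Cyc90.CohMult
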