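import Groth.Agent.Len90.Multiplicity
import Mathlib.RingTheory.Support
import Mathlib.RingTheory.Ideal.Quotient.Noetherian

/-! The multiplicity formula for a module whose support has dimension at most one. -/

set_option autoImplicit false
universe u

open LinearMap

namespace Groth.Agent.Cyc90.CohMult

variable {A : Type u} [CommRing A] [IsNoetherianRing A] [IsLocalRing A]

/-- The right-hand side, over a finite set of primes. -/
noncomputable def multSumOn (T : Finset (PrimeSpectrum A)) (a : A) (M : Type u) [AddCommGroup M]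
    [Module A M] : ℕ∞ :=
  ∑ p ∈ T, Len90.locLen p.asIdeal M * Module.length A (A ⧸ (p.asIdeal ⊔ Ideal.span {a}))

/-- `l(M/aM) = l(ₐM) + Σ l(M_p) l(A/(p + aA))` when the support of `M` is `T` and the closed point. -/
theorem multiplicity_formula_on (T : Finset (PrimeSpectrum A)) (a : A)
    (hT : ∀ p ∈ T, a ∉ p.asIdeal) (hTm : IsLocalRing.closedPoint A ∉ T)
    (hinc : ∀ p ∈ T, ∀ q ∈ T, p ≤ q → p = q)
    (M : Type u) [AddCommGroup M] [Module A M] [Module.Finite A M] :
    (∀ p ∈ Module.support A M, p = IsLocalRing.closedPoint A ∨ p ∈ T) →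
    Len90.kerLen (lsmul A M a) ≠ ⊤ ∧ Len90.coker (lsmul A M a) ≠ ⊤ ∧
      Len90.coker (lsmul A M a) = Len90.kerLen (lsmul A M a) + multSumOn T a M := by
  induction ‹Module.Finite A M› using IsNoetherianRing.induction_on_isQuotientEquivQuotientPrime with
  | subsingleton N =>
    intro _
    have h0 : multSumOn T a N = 0 := by
      refine Finset.sum_eq_zero fun p _ => ?_
      have : Subsingleton (LocalizedModule p.asIdeal.primeCompl N) :=
        ⟨fun x y => by induction x, y using LocalizedModule.induction_on₂ with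
          | h a b s t => exact LocalizedModule.mk_eq.mpr ⟨1, Subsingleton.elim _ _⟩⟩
      rw [Len90.locLen, Module.length_eq_zero, zero_mul]
    simp [Len90.coker, Len90.kerLen, h0]
  | quotient N P e =>
    intro hsupp
    have h1 : Len90.coker (lsmul A N a) = Len90.coker (lsmul A (A ⧸ P.asIdeal) a) ∧
        Len90.kerLen (lsmul A N a) = Len90.kerLen (lsmul A (A ⧸ P.asIdeal) a) := by
      constructor
      · refine (Submodule.Quotient.equiv _ _ e ?_).length_eq
        ext x
        obtain ⟨y, rfl⟩ := e.surjective x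
        simp [Submodule.mem_map_equiv, ← map_smul, e.injective.eq_iff]
        exact ⟨fun ⟨z, hz⟩ => ⟨e z, by rw [← map_smul, hz]⟩,
          fun ⟨z, hz⟩ => ⟨e.symm z, by rw [← map_smul, hz, e.symm_apply_apply]⟩⟩
      · refine (e.ofSubmodules _ _ ?_).length_eq
        ext x
        simp [Submodule.mem_map_equiv, ← map_smul]
    have hs : multSumOn T a N = multSumOn T a (A ⧸ P.asIdeal) :=
      Finset.sum_congr rfl fun p _ => by rw [Len90.locLen_congr p.asIdeal e]
    rw [h1.1, h1.2, hs]
    have hcok : Len90.coker (lsmul A (A ⧸ P.asIdeal) a) =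
        Module.length A (A ⧸ (P.asIdeal ⊔ Ideal.span {a})) := by
      refine ((Submodule.quotEquivOfEq _ _ ?_).trans
        (Submodule.quotientQuotientEquivQuotient P.asIdeal _ le_sup_left)).length_eq
      ext x
      obtain ⟨y, rfl⟩ := Ideal.Quotient.mk_surjective x
      constructor
      · rintro ⟨z, hz⟩
        obtain ⟨z, rfl⟩ := Ideal.Quotient.mk_surjective z
        exact ⟨a * z, Submodule.mem_sup_right (Ideal.mem_span_singleton.mpr (dvd_mul_right a z)), hz⟩
      · rintro ⟨z, hz, hzy⟩
        obtain ⟨u, hu, v, hv, rfl⟩ := Submodule.mem_sup.mp hz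
        obtain ⟨w, rfl⟩ := Ideal.mem_span_singleton.mp hv
        refine ⟨Ideal.Quotient.mk _ w, ?_⟩
        rw [← hzy, LinearMap.lsmul_apply]
        refine Ideal.Quotient.eq.mpr ?_
        have : a • w - (u + a * w) = -u := by simp
        rw [this]
        exact neg_mem hu
    have hsupp' : ∀ q : PrimeSpectrum A, P ≤ q → q = IsLocalRing.closedPoint A ∨ q ∈ T := fun q hq => by
      refine hsupp q ?_
      rw [e.support_eq, Module.mem_support_iff_of_finite, Ideal.annihilator_quotient]
      exact hq
    rcases hsupp' P le_rfl with hP | hP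
    · have hm : P.asIdeal = IsLocalRing.maximalIdeal A := congrArg PrimeSpectrum.asIdeal hP
      have hne : Module.length A (A ⧸ P.asIdeal) ≠ ⊤ := by
        rw [hm, Module.length_eq_one_iff.2 (isSimpleModule_iff_isCoatom.2
          (Ideal.isMaximal_def.mp (IsLocalRing.maximalIdeal.isMaximal A)))]
        exact ENat.one_ne_top
      have hsum : multSumOn T a (A ⧸ P.asIdeal) = 0 := by
        refine Finset.sum_eq_zero fun p hp => ?_
        rw [Len90.locLen_quot_of_not_le p.asIdeal, zero_mul]
        intro hle
        refine hTm ?_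
        convert hp
        exact PrimeSpectrum.ext ((IsLocalRing.maximalIdeal.isMaximal A).eq_of_le p.isPrime.ne_top
          (hm ▸ hle))
      have hkc : Len90.kerLen (lsmul A (A ⧸ P.asIdeal) a) = Len90.coker (lsmul A (A ⧸ P.asIdeal) a) := by
        by_cases hap : a ∈ P.asIdeal
        · have h0 : lsmul A (A ⧸ P.asIdeal) a = 0 := LinearMap.ext fun x => by
            change a • x = 0
            rw [Algebra.smul_def, show algebraMap A (A ⧸ P.asIdeal) a = 0 from
              Ideal.Quotient.eq_zero_iff_mem.mpr hap, zero_mul]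
          rw [h0, Len90.kerLen, Len90.coker, LinearMap.ker_zero, LinearMap.range_zero,
            Module.length_top, (Submodule.quotEquivOfEqBot _ rfl).length_eq]
        · have hu : IsUnit a := IsLocalRing.notMem_maximalIdeal.mp (hm ▸ hap)
          obtain ⟨u, rfl⟩ := hu
          rw [Len90.kerLen, Len90.coker, LinearMap.ker_eq_bot.mpr (fun x y h => by
              simpa [smul_smul] using congrArg ((u⁻¹ : Aˣ).1 • ·) h),
            LinearMap.range_eq_top.mpr (fun y => ⟨(u⁻¹ : Aˣ).1 • y, by simp [smul_smul]⟩)]
          simp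
      rw [hkc, hsum, add_zero]
      exact ⟨ne_top_of_le_ne_top hne (Module.length_le_of_surjective _ (Submodule.mkQ_surjective _)),
        ne_top_of_le_ne_top hne (Module.length_le_of_surjective _ (Submodule.mkQ_surjective _)), rfl⟩
    · have hk : Len90.kerLen (lsmul A (A ⧸ P.asIdeal) a) = 0 := by
        rw [Len90.kerLen, LinearMap.ker_eq_bot.mpr]
        · exact Module.length_eq_zero
        · intro x y h
          simp only [LinearMap.lsmul_apply, Algebra.smul_def] at h
          exact mul_left_cancel₀ (fun h' => hT P hP (Ideal.Quotient.eq_zero_iff_mem.mp h')) h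
      have hsum : multSumOn T a (A ⧸ P.asIdeal) = Module.length A (A ⧸ (P.asIdeal ⊔ Ideal.span {a})) := by
        rw [multSumOn, Finset.sum_eq_single P]
        · rw [Len90.locLen_quot_self, one_mul]
        · intro p hp hne
          rw [Len90.locLen_quot_of_not_le p.asIdeal, zero_mul]
          exact fun hle => hne (hinc P hP p hp hle).symm
        · exact fun h => absurd hP h
      have hne : Len90.coker (lsmul A (A ⧸ P.asIdeal) a) ≠ ⊤ := by
        rw [hcok]
        have : IsArtinianRing (A ⧸ (P.asIdeal ⊔ Ideal.span {a})) := by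
          rw [isArtinianRing_iff_krullDimLE_zero, Ring.krullDimLE_zero_iff]
          intro Q hQ
          let Q' : PrimeSpectrum A := ⟨Q.comap (Ideal.Quotient.mk _), hQ.comap _⟩
          have hle : P.asIdeal ⊔ Ideal.span {a} ≤ Q'.asIdeal := fun z hz => by
            rw [Ideal.mem_comap, Ideal.Quotient.eq_zero_iff_mem.mpr hz]; exact Q.zero_mem
          rcases hsupp' Q' (le_sup_left.trans hle) with hmax | hQT
          · rw [← Ideal.map_comap_of_surjective _ Ideal.Quotient.mk_surjective Q,
              show Q.comap (Ideal.Quotient.mk _) = IsLocalRing.maximalIdeal A from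
                congrArg PrimeSpectrum.asIdeal hmax]
            exact Ideal.IsMaximal.map_of_surjective_of_ker_le Ideal.Quotient.mk_surjective
              (by rw [Ideal.mk_ker]; exact hle.trans (congrArg PrimeSpectrum.asIdeal hmax).le)
          · exact absurd (hle (Submodule.mem_sup_right (Ideal.mem_span_singleton_self a))) (hT _ hQT)
        rw [Module.length_ne_top_iff, isFiniteLength_iff_isNoetherian_isArtinian]
        exact ⟨isNoetherian_quotient _,
          isArtinian_of_surjective_algebraMap
            (Ideal.Quotient.mk_surjective (I := P.asIdeal ⊔ Ideal.span {a}))⟩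
      exact ⟨by rw [hk]; exact ENat.zero_ne_top, hne, by rw [hk, hsum, hcok, zero_add]⟩
  | exact N₁ N₂ N₃ f g hf hg hfg h1 h3 =>
    intro hsupp
    obtain ⟨k1, c1, e1⟩ := h1 fun p hp => hsupp p (Module.support_subset_of_injective f hf hp)
    obtain ⟨k3, c3, e3⟩ := h3 fun p hp => hsupp p (Module.support_subset_of_surjective g hg hp)
    obtain ⟨s1, -, -, s4, s5, -⟩ := Len90.euler f g hf hg (LinearMap.exact_iff.mp hfg).symm
      (lsmul A N₁ a) (lsmul A N₂ a) (lsmul A N₃ a) (LinearMap.ext fun x => by simp)
      (LinearMap.ext fun x => by simp)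
    have k2 := ne_top_of_le_ne_top (WithTop.add_ne_top.mpr ⟨k1, k3⟩) s5
    have c2 := ne_top_of_le_ne_top (WithTop.add_ne_top.mpr ⟨c1, c3⟩) s4
    refine ⟨k2, c2, ?_⟩
    have hadd : multSumOn T a N₂ = multSumOn T a N₁ + multSumOn T a N₃ := by
      rw [multSumOn, multSumOn, multSumOn, ← Finset.sum_add_distrib]
      exact Finset.sum_congr rfl fun p _ => by rw [Len90.locLen_exact p.asIdeal f g hf hg hfg, add_mul]
    have m1 : multSumOn T a N₁ ≠ ⊤ := ne_top_of_le_ne_top c1 (e1 ▸ le_add_self)
    have m3 : multSumOn T a N₃ ≠ ⊤ := ne_top_of_le_ne_top c3 (e3 ▸ le_add_self)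
    rw [hadd]
    lift Len90.kerLen (lsmul A N₁ a) to ℕ using k1 with x1
    lift Len90.kerLen (lsmul A N₂ a) to ℕ using k2 with x2
    lift Len90.kerLen (lsmul A N₃ a) to ℕ using k3 with x3
    lift Len90.coker (lsmul A N₁ a) to ℕ using c1 with y1
    lift Len90.coker (lsmul A N₂ a) to ℕ using c2 with y2
    lift Len90.coker (lsmul A N₃ a) to ℕ using c3 with y3
    lift multSumOn T a N₁ to ℕ using m1 with z1
    lift multSumOn T a N₃ to ℕ using m3 with z3
    norm_cast at s1 e1 e3 ⊢
    omega

end Groth.Agent.Cyc90.CohMult
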