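import Groth.Prelude.Def_ChowK
import Groth.Agent.Cyc90.ClosureSub
import Groth.Agent.Cyc90.PushLen
import Groth.Agent.Cyc90.SheafLen
import Groth.Agent.Cyc90.DimFun
import Groth.Agent.QC70.PushClosed
import Groth.Agent.QC70.CoprodStalk
import Groth.Agent.QC70.DevissageAux
import Groth.Agent.QC70.Colim
import Groth.Agent.QC70.CohOps

/-! The coherent module attached to a cycle. -/

set_option autoImplicit false
set_option backward.isDefEq.respectTransparency.types false
universe u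

open CategoryTheory CategoryTheory.Limits AlgebraicGeometry TopologicalSpace DirectSum

namespace Groth.Agent.Cyc90.CycSh

variable {X : Scheme.{u}}

lemma css_eq (ζ : X) :
    Cyc.closureStructureSheaf ζ = (Coh.push (clι ζ)).obj (Coh.structureModule (cl ζ)) := rfl

lemma isCoh_css [IsLocallyNoetherian X] (ζ : X) : Coh.IsCoh (Cyc.closureStructureSheaf ζ) := by
  rw [css_eq]
  have : IsLocallyNoetherian (cl ζ) := LocallyOfFiniteType.isLocallyNoetherian (clι ζ)
  exact QC70.isCoh_pushforward (clι ζ) _ (QC70.isCoh_unit)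

lemma specializes_of_mem_support [IsLocallyNoetherian X] {ζ x : X}
    (h : x ∈ CohB1.support (Cyc.closureStructureSheaf ζ)) : ζ ⤳ x := by
  have : IsLocallyNoetherian (cl ζ) := LocallyOfFiniteType.isLocallyNoetherian (clι ζ)
  have := (QC70.isCoh_unit (X := cl ζ)).2
  rw [css_eq] at h
  have h1 := QC70.support_pushforward_subset (clι ζ) (Coh.structureModule (cl ζ)) h
  exact specializes_iff_mem_closure.2 ((range_clι ζ).le h1)

lemma length_css (ζ : X) :
    Module.length (X.presheaf.stalk ζ) ((Cyc.closureStructureSheaf ζ).presheaf.stalk ζ) = 1 := by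
  have key : ∀ z : cl ζ, z = genericPoint (cl ζ) → ∀ x : X, clι ζ z = x →
      Module.length (X.presheaf.stalk x) ((Cyc.closureStructureSheaf ζ).presheaf.stalk x) = 1 := by
    rintro z rfl x rfl
    rw [css_eq, length_stalk_push]
    exact ((QC70.unitStalkEquiv _).symm.length_eq).trans (Module.length_eq_one (cl ζ).functionField (cl ζ).functionField)
  exact key _ rfl _ (clι_genericPoint ζ)

section Coprod

variable {κ : Type u} (M : κ → X.Modules)

lemma exists_stalk_proj {J : Type u} [Fintype J] (a : J → κ) (ha : Function.Injective a) (x : X)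
    (h0 : ∀ j, j ∉ Set.range a → Subsingleton ((M j).presheaf.stalk x)) :
    Nonempty ((∐ M).presheaf.stalk x ≃ₗ[X.presheaf.stalk x] ((i : J) → (M (a i)).presheaf.stalk x)) := by
  classical
  let L : (⨁ j, (M j).presheaf.stalk x) →ₗ[X.presheaf.stalk x] ((i : J) → (M (a i)).presheaf.stalk x) :=
    LinearMap.pi fun i => DirectSum.component _ _ (fun j => (M j).presheaf.stalk x) (a i)
  have hL : Function.Bijective L := by
    constructor
    · intro u v e
      refine DirectSum.ext_component (X.presheaf.stalk x) fun j => ?_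
      by_cases hj : j ∈ Set.range a
      · obtain ⟨i, rfl⟩ := hj
        exact congrFun e i
      · exact @Subsingleton.elim _ (h0 j hj) _ _
    · intro b
      refine ⟨∑ i, DirectSum.lof (X.presheaf.stalk x) κ (fun j => (M j).presheaf.stalk x) (a i) (b i), ?_⟩
      funext i
      simp only [L, LinearMap.pi_apply, map_sum]
      rw [Finset.sum_eq_single i]
      · exact DirectSum.component.lof_self _ _ _
      · intro i' _ hne
        rw [DirectSum.component.of, dif_neg (fun e => hne (ha e))]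
      · simp
  exact ⟨(QC70.coprodStalkEquiv M x).symm.trans (LinearEquiv.ofBijective L hL)⟩

lemma subsingleton_coprod_stalk (x : X) (h0 : ∀ j, Subsingleton ((M j).presheaf.stalk x)) :
    Subsingleton ((∐ M).presheaf.stalk x) := by
  obtain ⟨e⟩ := exists_stalk_proj M (J := PEmpty.{u+1}) (fun i => i.elim) (fun i => i.elim) x
    fun j _ => h0 j
  exact e.toEquiv.subsingleton

/-- A coproduct of coherent modules with locally finite supports is coherent. -/
theorem isCoh_coproduct [IsLocallyNoetherian X] (hM : ∀ j, Coh.IsCoh (M j))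
    (hlf : ∀ x : X, ∃ U : Set X, IsOpen U ∧ x ∈ U ∧ {j | (CohB1.support (M j) ∩ U).Nonempty}.Finite) :
    Coh.IsCoh (∐ M) := by
  classical
  refine ⟨QC70.isQuasicoherent_coproduct M fun j => (hM j).1, ?_⟩
  choose U hUo hxU hUf using hlf
  let n : X → ℕ := fun x => (hUf x).toFinset.card
  let a : (x : X) → Fin (n x) → κ := fun x i => ((hUf x).toFinset.equivFin.symm i).1
  let B : X → X.Modules := fun x => ⨁ fun i => M (a x i)
  have hB : ∀ x, Coh.IsCoh (B x) := fun x => QC70.isCoh_biproduct _ fun i => hM _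
  choose V ι fι s hxV hs using fun x => @QC70.exists_locGenBy X (B x) (hB x).2 x
  let ψ : (x : X) → B x ⟶ ∐ M := fun x => biproduct.desc fun i => Sigma.ι M (a x i)
  have hsurj : ∀ x, ∀ q ∈ U x, Function.Surjective (QC70.stalkMapM (ψ x) q) := by
    intro x q hq e
    obtain ⟨t, ht⟩ := QC70.exists_finset_stalk M q e
    rw [QC70.stalkMapM_sum] at ht
    have hmem : ∀ j, QC70.stalkMapM (QC70.coprojection M j ≫ Sigma.ι M j) q e ∈
        LinearMap.range (QC70.stalkLinear (ψ x) q) := by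
      intro j
      rw [QC70.stalkMapM_comp]
      by_cases hj : j ∈ (hUf x).toFinset
      · refine ⟨QC70.stalkMapM (biproduct.ι (fun i => M (a x i)) ((hUf x).toFinset.equivFin ⟨j, hj⟩)) q
          (QC70.stalkMapM (QC70.coprojection M (a x ((hUf x).toFinset.equivFin ⟨j, hj⟩))) q e), ?_⟩
        change QC70.stalkMapM (ψ x) q _ = _
        rw [← QC70.stalkMapM_comp (biproduct.ι (fun i => M (a x i)) _) (ψ x), biproduct.ι_desc]
        have key : ∀ j', j' = j → QC70.stalkMapM (Sigma.ι M j') q (QC70.stalkMapM (QC70.coprojection M j') q e) =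
            QC70.stalkMapM (Sigma.ι M j) q (QC70.stalkMapM (QC70.coprojection M j) q e) := by
          rintro _ rfl; rfl
        exact key _ (by simp [a])
      · have : Subsingleton ((M j).presheaf.stalk q) := by
          by_contra hne
          exact hj ((hUf x).mem_toFinset.2 ⟨q, hne, hq⟩)
        refine ⟨0, ?_⟩
        rw [map_zero, Subsingleton.elim (QC70.stalkMapM (QC70.coprojection M j) q e) 0]
        exact (map_zero (QC70.stalkLinear (Sigma.ι M j) q)).symm
    obtain ⟨w, hw⟩ : e ∈ LinearMap.range (QC70.stalkLinear (ψ x) q) := ht ▸ Submodule.sum_mem _ fun j _ => hmem j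
    exact ⟨w, hw⟩
  refine QC70.isFiniteType_of_locGenBy _ (fun x : X => V x ⊓ ⟨U x, hUo x⟩)
    (IsOpenCover.mk (top_le_iff.mp fun x _ => Opens.mem_iSup.mpr ⟨x, hxV x, hxU x⟩)) fun p => ?_
  letI := fι p
  refine ⟨ι p, fι p, fun i => (ψ p).app _ (QC70.res (B p) inf_le_left (s p i)), fun W hW x q hq => ?_⟩
  obtain ⟨e, he⟩ := hsurj p q (hW hq).2 (QC70.germM (∐ M) W q hq x)
  obtain ⟨W₁, hq₁, z, rfl⟩ := QC70.germM_exist e
  rw [QC70.stalkMapM_germ] at he
  obtain ⟨W₂, hq₂, i₁, i₂, e'⟩ := TopCat.Presheaf.germ_eq (∐ M).presheaf q hq₁ hq _ _ he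
  obtain ⟨W', h₂, h₃, c, hq', ec⟩ := (hs p).mono (inf_le_left : V p ⊓ ⟨U p, hUo p⟩ ≤ V p) W₂
    (i₂.le.trans hW) (QC70.res (B p) i₁.le z) q hq₂
  refine ⟨W', h₂.trans i₂.le, h₃, c, hq', ?_⟩
  have := congrArg ((ψ p).app W') ec
  rw [QC70.app_res, QC70.app_res, map_sum] at this
  rw [← QC70.res_res i₂.le h₂, show QC70.res (∐ M) i₂.le x = QC70.res (∐ M) i₁.le ((ψ p).app W₁ z) from e'.symm]
  exact this.trans (Finset.sum_congr rfl fun i _ => by rw [Scheme.Modules.Hom.app_smul, QC70.app_res])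

end Coprod

variable {δ : X → ℤ} {k : ℤ}

lemma support_pos [IsLocallyNoetherian X] (α : X → ℤ) {x : X}
    (h : Nontrivial ((Cyc.cycleSheafPos α).presheaf.stalk x)) : ∃ ζ, 0 < α ζ ∧ ζ ⤳ x := by
  classical
  by_contra hcon
  push Not at hcon
  refine not_subsingleton_iff_nontrivial.2 h (subsingleton_coprod_stalk _ x fun j => ?_)
  by_contra hne
  exact hcon _ j.1.2 (specializes_of_mem_support hne)

theorem isCoh_pos (hX : Cyc.IsSetup X δ) (α : X → ℤ)
    (hlf : ∀ x : X, ∃ U : Set X, IsOpen U ∧ x ∈ U ∧ {ζ | 0 < α ζ ∧ ζ ∈ U}.Finite) :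
    Coh.IsCoh (Cyc.cycleSheafPos α) := by
  have := hX.1
  refine isCoh_coproduct _ (fun j => isCoh_css _) fun x => ?_
  obtain ⟨U, hU, hxU, hf⟩ := hlf x
  refine ⟨U, hU, hxU, ?_⟩
  have hf' : {ζ : {ζ : X // 0 < α ζ} | ζ.1 ∈ U}.Finite :=
    (hf.preimage Subtype.val_injective.injOn).subset fun ζ hζ => ⟨ζ.2, hζ⟩
  refine (hf'.biUnion fun ζ _ => Set.finite_range fun m => (⟨ζ, m⟩ : Σ ζ : {ζ : X // 0 < α ζ}, Fin (α ζ.1).toNat)).subset ?_
  rintro ⟨ζ, m⟩ ⟨y, hy, hyU⟩
  exact Set.mem_biUnion (show ζ.1 ∈ U from (specializes_of_mem_support hy).mem_open hU hyU) ⟨m, rfl⟩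

theorem cohLe_pos (hX : Cyc.IsSetup X δ) (α : X → ℤ)
    (hlf : ∀ x : X, ∃ U : Set X, IsOpen U ∧ x ∈ U ∧ {ζ | 0 < α ζ ∧ ζ ∈ U}.Finite)
    (hk : ∀ ζ, 0 < α ζ → δ ζ = k) : Cyc.CohLe δ k (Cyc.cycleSheafPos α) := by
  have := hX.1
  refine ⟨isCoh_pos hX α hlf, fun x hx => ?_⟩
  obtain ⟨ζ, hpos, hζ⟩ := support_pos α hx
  exact (delta_le hX.2.2 hζ).trans (hk ζ hpos).le

theorem sheafFun_pos (hX : Cyc.IsSetup X δ) (α : X → ℤ) (hk : ∀ ζ, 0 < α ζ → δ ζ = k) (x : X) :
    Cyc.sheafFun δ k (Cyc.cycleSheafPos α) x = if 0 < α x then α x else 0 := by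
  classical
  have := hX.1
  rw [Cyc.sheafFun]
  by_cases hx : δ x = k
  swap
  · rw [if_neg hx, if_neg fun h => hx (hk x h)]
  rw [if_pos hx]
  let a : ULift.{u} {m : Fin (α x).toNat // 0 < α x} → Σ ζ : {ζ : X // 0 < α ζ}, Fin (α ζ.1).toNat :=
    fun m => ⟨⟨x, m.down.2⟩, m.down.1⟩
  have hsub : ∀ j, j ∉ Set.range a →
      Subsingleton ((Cyc.closureStructureSheaf j.1.1).presheaf.stalk x) := by
    rintro ⟨⟨ζ, hζ⟩, m⟩ hj
    by_contra hne
    have h1 := eq_of_delta_le hX.2.2 (specializes_of_mem_support hne) (by rw [hk ζ hζ, hx])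
    subst h1
    exact hj ⟨⟨m, hζ⟩, rfl⟩
  obtain ⟨e⟩ := exists_stalk_proj
    (fun j : Σ ζ : {ζ : X // 0 < α ζ}, Fin (α ζ.1).toNat => Cyc.closureStructureSheaf j.1.1) a
    (fun m m' h => by
      obtain ⟨⟨m, hm⟩⟩ := m
      obtain ⟨⟨m', hm'⟩⟩ := m'
      simp only [a, Sigma.mk.inj_iff, heq_eq_eq, true_and] at h
      subst h; rfl) x hsub
  rw [Cyc.cycleSheafPos, e.length_eq, Module.length_pi_of_fintype,
    Finset.sum_congr rfl fun i _ => length_css (a i).1.1, Finset.sum_const, Finset.card_univ,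
    nsmul_one]
  change (((Fintype.card _ : ℕ∞)).toNat : ℤ) = _
  rw [ENat.toNat_natCast, Fintype.card_ulift, Fintype.card_subtype]
  split_ifs with h
  · simp [h, Int.toNat_of_nonneg h.le]
  · simp [h]

end Groth.Agent.Cyc90.CycSh
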