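import Groth.Agent.Cyc90.FlatRelDim
import Groth.Agent.Cyc90.FieldSetup
import Groth.Agent.Ega11.DimEq
import Mathlib.RingTheory.DiscreteValuationRing.Basic

/-! The spectrum of a discrete valuation ring as a base, and dimension functions on the two fibres. -/

set_option autoImplicit false
set_option linter.style.haveILetI false
universe u

open CategoryTheory CategoryTheory.Limits AlgebraicGeometry TopologicalSpace IsLocalRing

namespace Groth.Agent.Cyc90.DVR

variable (R : Type u) [CommRing R] [IsDomain R] [IsDiscreteValuationRing R]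

/-- The generic point. -/
noncomputable abbrev ηPt : ↥(Spec (CommRingCat.of R)) := genericPoint ↥(Spec (CommRingCat.of R))

/-- The closed point. -/
noncomputable abbrev sPt : ↥(Spec (CommRingCat.of R)) := IsLocalRing.closedPoint R

lemma eq_or (x : ↥(Spec (CommRingCat.of R))) : x = ηPt R ∨ x = sPt R := by
  obtain ⟨P, hP⟩ := x
  by_cases h : P = ⊥
  · refine Or.inl ?_
    subst h
    rw [ηPt, genericPoint_eq_bot_of_affine]
    rfl
  · exact Or.inr (PrimeSpectrum.ext (IsLocalRing.eq_maximalIdeal (hP.isMaximal h)))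

lemma ηPt_ne_sPt : ηPt R ≠ sPt R := fun e =>
  IsDiscreteValuationRing.not_a_field R
    (congrArg PrimeSpectrum.asIdeal ((genericPoint_eq_bot_of_affine (CommRingCat.of R)).symm.trans e)).symm

open Classical in
/-- The dimension function of the base. -/
noncomputable def δR (x : ↥(Spec (CommRingCat.of R))) : ℤ := if x = sPt R then 0 else 1

lemma δR_η : δR R (ηPt R) = 1 := if_neg (ηPt_ne_sPt R)

lemma δR_s : δR R (sPt R) = 0 := if_pos rfl

theorem isSetup_spec : Cyc.IsSetup (Spec (CommRingCat.of R)) (δR R) := by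
  refine ⟨inferInstance, fun x => ?_, fun x y h hne => ?_⟩
  · have : LocCoh.IsCohenMacaulayRing R := ⟨fun p _ => by
      refine Ega11.DimEq.isCohenMacaulayLocalRing_of_dim_le_one ?_
      rw [IsLocalization.AtPrime.ringKrullDim_eq_height p (Localization.AtPrime p)]
      exact (Ideal.height_le_ringKrullDim_of_ne_top (Ideal.IsPrime.ne_top ‹_›)).trans
        (Ring.krullDimLE_iff.mp (inferInstance : Ring.KrullDimLE 1 R))⟩
    revert x
    change ∀ x : PrimeSpectrum R, _
    intro x
    let : Algebra R ((Spec (CommRingCat.of R)).presheaf.stalk x) :=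
      (StructureSheaf.toStalk R x).hom.toAlgebra
    have : IsLocalization.AtPrime ((Spec (CommRingCat.of R)).presheaf.stalk x) x.asIdeal :=
      StructureSheaf.IsLocalization.to_stalk R x
    exact CAlg1.isUniversallyCatenary_of_isLocalization (A := R) x.asIdeal.primeCompl
      (CAlg1.isUniversallyCatenary_of_cm R)
  · rcases eq_or R x with rfl | rfl <;> rcases eq_or R y with rfl | rfl
    · exact absurd rfl hne
    · exact ⟨by rw [δR_η, δR_s]; norm_num, fun _ => by rw [δR_η, δR_s]; norm_num⟩
    · exact absurd ((gen_specializes_spec R (sPt R)).antisymm h).eq.symm hne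
    · exact absurd rfl hne
where
  gen_specializes_spec (R : Type u) [CommRing R] [IsDomain R] (x : ↥(Spec (CommRingCat.of R))) :
      genericPoint ↥(Spec (CommRingCat.of R)) ⤳ x :=
    (genericPoint_spec ↥(Spec (CommRingCat.of R))).specializes trivial

variable {R}
variable {X : Scheme.{u}} (a : X ⟶ Spec (CommRingCat.of R)) [LocallyOfFiniteType a]

/-- The dimension function on a scheme over a discrete valuation ring. -/
noncomputable def δT (x : X) : ℤ := δR R (a x) + E4O.fdeg a x

lemma deltaCompat_δT : Cyc.DeltaCompat a (δT a) (δR R) := fun x =>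
  ⟨_, trdeg_residueField_eq_fdeg a x, rfl⟩

theorem isSetup_δT : Cyc.IsSetup X (δT a) := isSetup_of_lft a (δR R) (isSetup_spec R) _ (deltaCompat_δT a)

theorem δT_fiberι {y : ↥(Spec (CommRingCat.of R))} {δy : ↥(a.fiber y) → ℤ}
    (h : Cyc.DeltaCompat (a.fiberToSpecResidueField y) δy (fun _ => 0)) (z : ↥(a.fiber y)) :
    δT a (a.fiberι y z) = δR R y + δy z := by
  let g : a.fiber y ⟶ Spec (CommRingCat.of ((Spec (CommRingCat.of R)).residueField y : Type u)) :=
    a.fiberToSpecResidueField y
  have : LocallyOfFiniteType g := inferInstanceAs (LocallyOfFiniteType (pullback.snd _ _))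
  have h1 : E4O.fdeg a (a.fiberι y z) = WC97.tdegN g z := by
    have := (E4O.dim_closure_fiber a y z).symm.trans (WC97.topologicalKrullDim_closure g z)
    exact_mod_cast this
  have h2 : E4O.fdeg g z = WC97.tdegN g z := by
    have hs : ∀ w : ↥(Spec (CommRingCat.of ((Spec (CommRingCat.of R)).residueField y : Type u))), w = g z :=
      fun w => Subsingleton.elim (α := PrimeSpectrum ((Spec (CommRingCat.of R)).residueField y)) w (g z)
    have e : closure {z} ∩ g ⁻¹' {g z} = closure ({z} : Set ↥(a.fiber y)) :=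
      Set.inter_eq_left.2 fun w _ => hs (g w)
    rw [E4O.fdeg, e, WC97.topologicalKrullDim_closure g z]
    exact Int.toNat_natCast _
  have h3 := delta_eq_add_fdeg g h z
  rw [h2, ← h1] at h3
  rw [δT, E4O.apply_fiberι, h3, zero_add]

lemma δT_η {δη : ↥(a.fiber (ηPt R)) → ℤ}
    (h : Cyc.DeltaCompat (a.fiberToSpecResidueField (ηPt R)) δη (fun _ => 0)) (z : ↥(a.fiber (ηPt R))) :
    δT a (a.fiberι (ηPt R) z) = δη z + 1 := by
  rw [δT_fiberι a h z, δR_η, add_comm]

lemma δT_s {δs : ↥(a.fiber (sPt R)) → ℤ}
    (h : Cyc.DeltaCompat (a.fiberToSpecResidueField (sPt R)) δs (fun _ => 0)) (z : ↥(a.fiber (sPt R))) :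
    δT a (a.fiberι (sPt R) z) = δs z := by
  rw [δT_fiberι a h z, δR_s, zero_add]

end Groth.Agent.Cyc90.DVR
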