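import Groth.Agent.Cyc90.P1Chart
import Groth.Agent.Cyc90.PushLen
import Groth.Agent.Cyc90.EnvelopeSeq

/-! The sections `0`, `∞` of `P¹_X → X` and their pullbacks to closed subschemes. -/

set_option autoImplicit false
universe u

open CategoryTheory CategoryTheory.Limits AlgebraicGeometry TopologicalSpace IsLocalRing

namespace Groth.Agent.Cyc90.P1L

variable (X : Scheme.{u})

/-- The projection to the projective line over the integers. -/
noncomputable abbrev pr : CohB1.ProjSpaceOver 1 X ⟶ PZ.{u} := pullback.fst _ _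

lemma sect_toBase (i : Fin (1 + 1)) : P1.sect X i ≫ CohB1.ProjSpaceOver.toBase 1 X = 𝟙 X :=
  pullback.lift_snd _ _ _

lemma sect_pr (i : Fin (1 + 1)) : P1.sect X i ≫ pr X = specULiftZIsTerminal.from X ≫ pt i :=
  pullback.lift_fst _ _ _

lemma isPullback_sect (i : Fin (1 + 1)) :
    IsPullback (P1.sect X i) (specULiftZIsTerminal.from X) (pr X) (pt i) := by
  refine IsPullback.of_right (h₁₂ := CohB1.ProjSpaceOver.toBase 1 X) (v₁₃ := specULiftZIsTerminal.from X)
    (h₂₂ := CohB1.ProjSpace.toSpec 1 P1.R0.{u}) ?_ (sect_pr X i) (IsPullback.of_hasPullback _ _).flip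
  have h1 : pt.{u} i ≫ CohB1.ProjSpace.toSpec 1 P1.R0.{u} = 𝟙 _ := specULiftZIsTerminal.hom_ext _ _
  rw [sect_toBase]
  exact Eq.subst (motive := fun g => IsPullback (𝟙 X) (specULiftZIsTerminal.from X) (specULiftZIsTerminal.from X) g)
    h1.symm (IsPullback.of_horiz_isIso ⟨by simp⟩)

instance isClosedImmersion_sect (i : Fin (1 + 1)) : IsClosedImmersion (P1.sect X i) :=
  MorphismProperty.of_isPullback (isPullback_sect X i).flip inferInstance

/-- The chart `T_i ≠ 0` of `P¹_X`. -/
noncomputable abbrev V (i : Fin (1 + 1)) : (CohB1.ProjSpaceOver 1 X).Opens := pr X ⁻¹ᵁ U i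

/-- The coordinate on the chart. -/
noncomputable def co (i : Fin (1 + 1)) : Γ(CohB1.ProjSpaceOver 1 X, V X i) := (pr X).app (U i) (c i)

lemma sect_mem_V (i : Fin (1 + 1)) (x : X) : P1.sect X i x ∈ V X i := by
  change pr X (P1.sect X i x) ∈ U i
  rw [show pr X (P1.sect X i x) = pt i (specULiftZIsTerminal.from X x) from
    congrArg (fun k : X ⟶ PZ.{u} => k x) (sect_pr X i)]
  exact point_mem_U i _

lemma ker_sect (i : Fin (1 + 1)) (x : X) :
    RingHom.ker ((P1.sect X i).stalkMap x).hom =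
      Ideal.span {(CohB1.ProjSpaceOver 1 X).presheaf.germ (V X i) _ (sect_mem_V X i x) (co X i)} := by
  let e := (isPullback_sect X i).isoPullback
  have he : e.hom ≫ pullback.fst (pr X) (pt i) = P1.sect X i := IsPullback.isoPullback_hom_fst _
  have key : ∀ (g : X ⟶ CohB1.ProjSpaceOver 1 X), g = e.hom ≫ pullback.fst (pr X) (pt i) → ∀ (h : g x ∈ V X i),
      RingHom.ker (g.stalkMap x).hom =
        Ideal.span {(CohB1.ProjSpaceOver 1 X).presheaf.germ (V X i) _ h (co X i)} := by
    rintro g rfl h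
    have hw : pt i (pullback.snd (pr X) (pt i) (e.hom x)) ∈ U i := point_mem_U i _
    have hk := ker_fst_stalkMap_eq (pr X) (pt i) (e.hom x) (U i) (c i) h hw (ker_stalkMap_point i _)
    refine Eq.trans ?_ hk
    have hb : Function.Bijective (e.hom.stalkMap x).hom := ConcreteCategory.bijective_of_isIso _
    refine (congrArg RingHom.ker (congrArg CommRingCat.Hom.hom
      (Scheme.Hom.stalkMap_comp e.hom (pullback.fst (pr X) (pt i)) x))).trans ?_
    exact RingHom.ker_comp_of_injective _ hb.1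
  exact key _ he.symm _

lemma mem_range_sect_iff (i : Fin (1 + 1)) (p : CohB1.ProjSpaceOver 1 X) (hp : p ∈ V X i) :
    p ∈ Set.range (P1.sect X i) ↔
      ¬ IsUnit ((CohB1.ProjSpaceOver 1 X).presheaf.germ (V X i) p hp (co X i)) := by
  constructor
  · rintro ⟨x, rfl⟩ hu
    have h := hu.map ((P1.sect X i).stalkMap x).hom
    rw [RingHom.mem_ker.1 ((ker_sect X i x).ge (Ideal.mem_span_singleton_self _))] at h
    exact not_isUnit_zero h
  · intro hu
    have h1 : pr X p ∈ Set.range (pt i) := by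
      rw [mem_range_point_iff i _ hp]
      intro h2
      refine hu ?_
      have := h2.map ((pr X).stalkMap p).hom
      rwa [show ((pr X).stalkMap p).hom (PZ.{u}.presheaf.germ (U i) _ hp (c i)) =
        (CohB1.ProjSpaceOver 1 X).presheaf.germ (V X i) p hp (co X i) from
        Scheme.Hom.germ_stalkMap_apply (pr X) (U i) p hp (c i)] at this
    obtain ⟨w, hw⟩ := h1
    obtain ⟨x, hx, -⟩ := Scheme.exists_preimage_of_isPullback (isPullback_sect X i) p w hw.symm
    exact ⟨x, hx⟩

lemma mem_V_or (p : CohB1.ProjSpaceOver 1 X) : p ∈ V X 0 ∨ p ∈ V X 1 := sup_U (pr X p)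

lemma germ_co_mul (p : CohB1.ProjSpaceOver 1 X) (h0 : p ∈ V X 0) (h1 : p ∈ V X 1) :
    (CohB1.ProjSpaceOver 1 X).presheaf.germ (V X 0) p h0 (co X 0) *
      (CohB1.ProjSpaceOver 1 X).presheaf.germ (V X 1) p h1 (co X 1) = 1 := by
  have e := congrArg ((pr X).stalkMap p).hom (germ_c_mul (pr X p) h0 h1)
  rw [map_mul, map_one] at e
  refine Eq.trans (congrArg₂ (· * ·) ?_ ?_) e
  · exact (Scheme.Hom.germ_stalkMap_apply (pr X) (U 0) p h0 (c 0)).symm
  · exact (Scheme.Hom.germ_stalkMap_apply (pr X) (U 1) p h1 (c 1)).symm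

lemma mem_other_iff (i : Fin (1 + 1)) (p : CohB1.ProjSpaceOver 1 X) (hp : p ∈ V X i) :
    p ∈ V X (oth i) ↔ p ∉ Set.range (P1.sect X i) := by
  rw [mem_range_sect_iff X i p hp, not_not]
  constructor
  · intro h
    fin_cases i
    · exact IsUnit.of_mul_eq_one _ (germ_co_mul X p hp h)
    · exact IsUnit.of_mul_eq_one _ ((mul_comm _ _).trans (germ_co_mul X p h hp))
  · intro hu
    by_contra hn
    obtain ⟨w, hw⟩ := mem_range_of_notMem_U i (pr X p) hp hn
    obtain ⟨x, hx, -⟩ := Scheme.exists_preimage_of_isPullback (isPullback_sect X i) p w hw.symm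
    exact (mem_range_sect_iff X i p hp).1 ⟨x, hx⟩ hu

end Groth.Agent.Cyc90.P1L
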