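import Groth.Agent.Cyc90.FlatFinFibre
import Groth.Agent.Cyc90.PullClosed
import Groth.Agent.FlatMor68.FibreStalk
import Groth.Agent.E4O.BaseChangeDim

/-! Degrees and multiplicities in a base change over a point with finite residue extension. -/

set_option autoImplicit false
universe u

open CategoryTheory CategoryTheory.Limits AlgebraicGeometry TopologicalSpace IsLocalRing TensorProduct

namespace Groth.Agent.Cyc90

lemma residueDegree_preimmersion_square {X Y Z W : Scheme.{u}} (i : Z ⟶ X) [IsPreimmersion i] (j : W ⟶ Y)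
    [IsPreimmersion j] (q : Z ⟶ W) (p : X ⟶ Y) (h : q ≫ j = i ≫ p) (z : Z) :
    q.residueDegree z = p.residueDegree (i z) := by
  obtain ⟨hz, e⟩ := square_residue i j q p h z
  let eX : X.residueField (i z) ≃+* Z.residueField z := RingEquiv.ofBijective (i.residueFieldMap z).hom
    ⟨RingHom.injective _, residueFieldMap_surjective i z⟩
  let eJ : Y.residueField (j (q z)) ≃+* W.residueField (q z) :=
    RingEquiv.ofBijective (j.residueFieldMap (q z)).hom
      ⟨RingHom.injective _, residueFieldMap_surjective j (q z)⟩
  let eY := (Y.residueFieldCongr hz).symm.commRingCatIsoToRingEquiv.trans eJ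
  rw [Scheme.Hom.residueDegree, Scheme.Hom.residueDegree]
  letI := (q.residueFieldMap z).hom.toAlgebra
  letI := (p.residueFieldMap (i z)).hom.toAlgebra
  refine (Algebra.finrank_eq_of_equiv_equiv eY eX (RingHom.ext fun a => ?_)).symm
  change (q.residueFieldMap z).hom ((j.residueFieldMap (q z)).hom ((Y.residueFieldCongr hz).inv a)) =
    (i.residueFieldMap z).hom ((p.residueFieldMap (i z)).hom a)
  refine (congr($(e).hom ((Y.residueFieldCongr hz).inv a))).trans ?_
  change (i.residueFieldMap z).hom ((p.residueFieldMap (i z)).hom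
    ((Y.residueFieldCongr hz).hom ((Y.residueFieldCongr hz).inv a))) = _
  rw [Iso.inv_hom_id_apply]

lemma length_fiber_stalk {X S : Scheme.{u}} (f : X ⟶ S) (s : S) (z : f.fiber s) :
    Module.length ((f.fiber s).presheaf.stalk z) ((f.fiber s).presheaf.stalk z) =
      Module.length (X.presheaf.stalk (f.fiberι s z)) (X.presheaf.stalk (f.fiberι s z) ⧸
        (maximalIdeal (S.presheaf.stalk (f (f.fiberι s z)))).map (f.stalkMap (f.fiberι s z)).hom) := by
  rw [← FlatMor68.FibreStalk.ker_fiberι_stalkMap f s z]
  refine (length_eq_of_semilinear ((f.fiberι s).stalkMap z).hom ((f.fiberι s).stalkMap_surjective z)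
    (RingHom.quotientKerEquivOfSurjective (f := ((f.fiberι s).stalkMap z).hom)
      ((f.fiberι s).stalkMap_surjective z)).toAddEquiv fun a m => ?_).symm
  obtain ⟨m, rfl⟩ := Ideal.Quotient.mk_surjective m
  exact map_mul ((f.fiberι s).stalkMap z).hom a m

/-- The multiplicity in the source of a flat map. -/
lemma length_self_flat {X Y : Scheme.{u}} (m : X ⟶ Y) [Flat m] (x : X) :
    Module.length (X.presheaf.stalk x) (X.presheaf.stalk x) =
      Module.length (Y.presheaf.stalk (m x)) (Y.presheaf.stalk (m x)) *
        Module.length (X.presheaf.stalk x) (X.presheaf.stalk x ⧸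
          (maximalIdeal (Y.presheaf.stalk (m x))).map (m.stalkMap x).hom) := by
  let iA : Algebra (Y.presheaf.stalk (m x)) (X.presheaf.stalk x) := (m.stalkMap x).hom.toAlgebra
  have : Module.Flat (Y.presheaf.stalk (m x)) (X.presheaf.stalk x) := Flat.stalkMap m x
  have : IsLocalHom (algebraMap (Y.presheaf.stalk (m x)) (X.presheaf.stalk x)) := m.toLRSHom.prop x
  refine Eq.trans ?_ (IsLocalRing.length_baseChange (Y.presheaf.stalk (m x)) (X.presheaf.stalk x)
    (Y.presheaf.stalk (m x)))
  exact (TensorProduct.AlgebraTensorModule.rid (Y.presheaf.stalk (m x)) (X.presheaf.stalk x)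
    (X.presheaf.stalk x)).length_eq.symm

variable {X X' Y : Scheme.{u}}

/-- Over a point with finite residue extension the degrees weighted by multiplicities add up. -/
theorem fibre_sum (f : Y ⟶ X) (p : X' ⟶ X) [IsLocallyNoetherian X'] [LocallyOfFiniteType f] (y : Y) (x' : X')
    (hyx : f y = p x') (hfin : (f.residueFieldMap y).hom.Finite) :
    let S := {y' : ↑(pullback f p) | pullback.fst f p y' = y ∧ pullback.snd f p y' = x'}
    S.Finite ∧ (∀ y' ∈ S, (pullback.snd f p).residueDegree y' ≠ 0) ∧
      ∑ᶠ y' ∈ S, (pullback.snd f p).residueDegree y' *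
        (Module.length ((pullback f p).presheaf.stalk y') ((pullback f p).presheaf.stalk y' ⧸
          (maximalIdeal (Y.presheaf.stalk (pullback.fst f p y'))).map
            ((pullback.fst f p).stalkMap y').hom)).toNat =
      f.residueDegree y * (Module.length (X'.presheaf.stalk x') (X'.presheaf.stalk x' ⧸
          (maximalIdeal (X.presheaf.stalk (p x'))).map (p.stalkMap x').hom)).toNat := by
  intro S
  have hsq : IsPullback (pullback.snd f p) (pullback.fst f p) p f := (IsPullback.of_hasPullback f p).flip
  let q := pullback.fst f p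
  let m : q.fiber y ⟶ p.fiber (f y) := pullback.lift (q.fiberι y ≫ pullback.snd f p)
    (q.fiberToSpecResidueField y ≫ Spec.map (f.residueFieldMap y)) (by
      show (pullback.fst _ _ ≫ pullback.snd f p) ≫ p = (pullback.snd _ _ ≫ _) ≫ _
      rw [Category.assoc, Category.assoc, hsq.w, pullback.condition_assoc,
        Scheme.Hom.SpecMap_residueFieldMap_fromSpecResidueField])
  have hm1 : m ≫ p.fiberι (f y) = q.fiberι y ≫ pullback.snd f p := pullback.lift_fst _ _ _
  have hm : IsPullback m (q.fiberToSpecResidueField y) (p.fiberToSpecResidueField (f y))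
      (Spec.map (f.residueFieldMap y)) := by
    refine IsPullback.of_right ?_ (pullback.lift_snd _ _ _) (IsPullback.of_hasPullback p _)
    erw [pullback.lift_fst, Scheme.Hom.SpecMap_residueFieldMap_fromSpecResidueField]
    exact (IsPullback.of_hasPullback q (Y.fromSpecResidueField y)).paste_horiz hsq
  let iκ : Algebra (X.residueField (f y)) (Y.residueField y) := (f.residueFieldMap y).hom.toAlgebra
  have : Module.Finite (X.residueField (f y)) (Y.residueField y) := hfin
  have hF : (f.residueFieldMap y).hom.Flat :=
    (inferInstance : Module.Flat (X.residueField (f y)) (Y.residueField y))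
  have hfS : IsFinite (Spec.map (f.residueFieldMap y)) := (IsFinite.SpecMap_iff _).2 hfin
  have hflS : Flat (Spec.map (f.residueFieldMap y)) := Flat.SpecMap_iff.2 hF
  have hflat : Flat m := MorphismProperty.of_isPullback (P := @Flat) hm.flip hflS
  have hfinm : IsFinite m := MorphismProperty.of_isPullback (P := @IsFinite) hm.flip hfS
  obtain ⟨a, rfl⟩ := E4O.exists_fiberι_eq p hyx.symm
  have hNoeth : IsNoetherianRing ((p.fiber (f y)).presheaf.stalk a) :=
    isNoetherianRing_of_surjective _ _ ((p.fiberι (f y)).stalkMap a).hom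
      ((p.fiberι (f y)).stalkMap_surjective a)
  have hdeg : m.finrank a = f.residueDegree y := by
    rw [Scheme.Hom.finrank_of_isPullback _ _ _ _ hm.flip a,
      Scheme.Hom.finrank_SpecMap_eq_finrank hfin hF]
    change Module.rankAtStalk (R := X.residueField (f y)) (Y.residueField y) _ = _
    refine (congrFun Module.rankAtStalk_eq_finrank_of_free _).trans ?_
    rfl
  have hinjι : Function.Injective (q.fiberι y) := (q.fiberι y).isEmbedding.injective
  have hmz : ∀ z, p.fiberι (f y) (m z) = pullback.snd f p (q.fiberι y z) := fun z =>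
    congrArg (fun k : q.fiber y ⟶ X' => k z) hm1
  have hS : S = q.fiberι y '' (m ⁻¹' {a}) := by
    refine Set.ext fun y' => ⟨fun h => ?_, ?_⟩
    · obtain ⟨z, rfl⟩ := E4O.exists_fiberι_eq q h.1
      exact ⟨z, (p.fiberι (f y)).isEmbedding.injective ((hmz z).trans h.2), rfl⟩
    · rintro ⟨z, hz, rfl⟩
      exact ⟨E4O.apply_fiberι q y z, (hmz z).symm.trans (congrArg _ hz)⟩
  obtain ⟨hfz, hne, hsum⟩ := finite_flat_fibre' m a
  have hres : ∀ z, (pullback.snd f p).residueDegree (q.fiberι y z) = m.residueDegree z := fun z =>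
    (residueDegree_preimmersion_square (q.fiberι y) (p.fiberι (f y)) m (pullback.snd f p) hm1 z).symm
  refine ⟨hS ▸ hfz.image _, fun y' hy' => ?_, ?_⟩
  · obtain ⟨z, hz, rfl⟩ := hS.le hy'
    rw [hres]; exact hne z hz
  rw [hS, finsum_mem_image hinjι.injOn]
  have hterm : ∀ z ∈ m ⁻¹' {a}, (pullback.snd f p).residueDegree (q.fiberι y z) *
      (Module.length ((pullback f p).presheaf.stalk (q.fiberι y z))
        ((pullback f p).presheaf.stalk (q.fiberι y z) ⧸
          (maximalIdeal (Y.presheaf.stalk (pullback.fst f p (q.fiberι y z)))).map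
            ((pullback.fst f p).stalkMap (q.fiberι y z)).hom)).toNat =
      (Module.length ((p.fiber (f y)).presheaf.stalk a) ((p.fiber (f y)).presheaf.stalk a)).toNat *
        (m.residueDegree z * (Module.length ((q.fiber y).presheaf.stalk z) ((q.fiber y).presheaf.stalk z ⧸
          (maximalIdeal ((p.fiber (f y)).presheaf.stalk (m z))).map (m.stalkMap z).hom)).toNat) := by
    intro z hz
    rw [hres, ← length_fiber_stalk q y z, length_self_flat m z, ENat.toNat_mul]
    have hz' : m z = a := hz
    subst hz'
    ring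
  rw [finsum_mem_congr rfl hterm, finsum_mem_eq_finite_toFinset_sum _ hfz, ← Finset.mul_sum,
    ← finsum_mem_eq_finite_toFinset_sum _ hfz, hsum, hdeg, length_fiber_stalk p (f y) a, mul_comm]

end Groth.Agent.Cyc90
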