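import Groth.Agent.Cyc90.ZeroPull
import Groth.Agent.Cyc90.C1Push
import Groth.Agent.Cyc90.FibreSum
import Groth.Agent.Cyc90.MayerVietoris

/-! Gysin maps and base change. -/

set_option autoImplicit false
universe u

open CategoryTheory CategoryTheory.Limits AlgebraicGeometry TopologicalSpace IsLocalRing Opposite

namespace Groth.Agent.Cyc90

open Var76.LineBundle

variable {X Y D : Scheme.{u}}

lemma gysinChoice_ne_zero {M : X.Modules} (s : M.presheaf.obj (op ⊤)) (w : (ξ : X) → Cyc.secFibre M ξ)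
    (hw : ∀ ξ, w ξ ≠ 0) (ξ : X) : Cyc.gysinChoice M s w ξ ≠ 0 := by
  unfold Cyc.gysinChoice
  dsimp only
  split_ifs with h
  · exact h
  · exact hw ξ

lemma gysinChoice_of_notMem {M : X.Modules} {i : D ⟶ X} {s : M.presheaf.obj (op ⊤)}
    (hD : Cyc.IsZeroSchemeOf i M s) (w : (ξ : X) → Cyc.secFibre M ξ) {ξ : X} (hξ : ξ ∉ Set.range i) :
    Cyc.gysinChoice M s w ξ = Submodule.Quotient.mk (M.presheaf.germ ⊤ ξ trivial s) :=
  if_pos fun h0 => hξ (hD.1.ge h0)

/-- The pullback of the value of a global section is the value of the pulled back section. -/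
lemma pullSec_eq_germ (f : X ⟶ Y) {L : Y.Modules} (hL : PicF.IsInvertible L)
    (v : (η : Y) → Cyc.secFibre L η) (hv : ∀ η, v η ≠ 0) (s : Γ(L, ⊤)) (ξ : X)
    (hs : v (f ξ) = Submodule.Quotient.mk (L.presheaf.germ ⊤ (f ξ) trivial s)) :
    pullSec f hL v hv ξ = Submodule.Quotient.mk (((Scheme.Modules.pullback f).obj L).presheaf.germ ⊤ ξ trivial
      (Amp73.pullS f L ⊤ s)) := by
  obtain ⟨U, hU, e, he⟩ := Mero90.exists_frame' hL (f ξ)
  obtain ⟨c, hc⟩ := (he U le_rfl).2 (res L le_top s)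
  dsimp only at hc
  rw [Amp73.res_self] at hc
  have hg : L.presheaf.germ ⊤ (f ξ) trivial s =
      Y.presheaf.germ U (f ξ) hU c • L.presheaf.germ U (f ξ) hU e := by
    have := congrArg (L.presheaf.germ U (f ξ) hU) hc
    rw [Mero.germ_smul, TopCat.Presheaf.germ_res_apply] at this
    exact this.symm
  obtain ⟨b, hb, hu⟩ := (Classical.choose_spec (exists_pull_section f hL ξ (v (f ξ)) (hv _))).2 U hU e he
  rw [hs, hg, Submodule.Quotient.mk_smul] at hb
  have hres := residue_eq_of_smul_eq L hb (mk_germ_frame_ne_zero he hU)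
  rw [germ_pullS f U e s c hc ξ hU, Submodule.Quotient.mk_smul]
  refine hu.trans ?_
  erw [← Scheme.Hom.germ_stalkMap_apply f U ξ hU c]
  rw [← sub_eq_zero, ← sub_smul]
  refine smul_mk_eq_zero _ ?_ _
  rw [map_sub, sub_eq_zero]
  have h1 := congr($(Scheme.residue_residueFieldMap f ξ).hom b)
  have h2 := congr($(Scheme.residue_residueFieldMap f ξ).hom (Y.presheaf.germ U (f ξ) hU c))
  exact h1.symm.trans ((congrArg (f.residueFieldMap ξ).hom hres.symm).trans h2)

/-- Restricted to a closed subscheme, caps computed by choices agreeing off it are rationally equivalent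
there. -/
theorem ratEquiv_restrict_c1Cap {δ : X → ℤ} (hX : Cyc.IsSetup X δ) (i : D ⟶ X) [IsClosedImmersion i]
    {M : X.Modules} (hM : PicF.IsInvertible M) (k : ℤ) (α : AlgebraicCycle X ℤ)
    (hα : α ∈ Cyc.Zk X δ (k + 1)) (s t : (ξ : X) → Cyc.secFibre M ξ) (hs : ∀ ξ, s ξ ≠ 0)
    (ht : ∀ ξ, t ξ ≠ 0)
    (hoff : ∀ ξ, ξ ∉ Set.range i → ∀ x, Cyc.secDivFun δ M ξ (s ξ) x = Cyc.secDivFun δ M ξ (t ξ) x)
    (γ₁ γ₂ : AlgebraicCycle D ℤ) (h₁ : ∀ d, γ₁ d = Cyc.c1CapFun δ M ⇑α s (i d))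
    (h₂ : ∀ d, γ₂ d = Cyc.c1CapFun δ M ⇑α t (i d)) :
    Cyc.RatEquiv (fun d => δ (i d)) k γ₁ γ₂ := by
  have hex : ∀ j : {ξ : X // α ξ ≠ 0}, ∃ ψ : X.presheaf.stalk j.1, s j.1 = ψ • t j.1 :=
    fun j => secFibre_exists_smul hM _ _ (ht _)
  choose ψ hψ using hex
  have hne : ∀ j, X.residue _ (ψ j) ≠ 0 := fun j h0 => hs _ ((hψ j).trans (smul_mk_eq_zero M h0 _))
  let S : Set {ξ : X // α ξ ≠ 0} := {j | j.1 ∈ Set.range i}
  obtain ⟨ρ, hρ, hρd⟩ := exists_ratEquivZero_restrict i hX k (fun j : {ξ : X // α ξ ≠ 0} => j.1)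
    (fun j => X.residue j.1 (ψ j) ^ α j.1)
    (fun j => by by_contra h; exact j.2 (hα j.1 h)) (fun j => zpow_ne_zero _ (hne j))
    (fun x => by
      obtain ⟨N, hN, hfin⟩ := α.supportLocallyFiniteWithinDomain' x trivial
      obtain ⟨U, hUt, hU, hxU⟩ := mem_nhds_iff.1 hN
      refine ⟨U, hU, hxU, (hfin.preimage Subtype.val_injective.injOn).subset ?_⟩
      rintro j ⟨y, hy, hyU⟩
      exact ⟨hUt ((specializes_iff_mem_closure.2 hy).mem_open hU hyU), j.2⟩) S (fun j hj => hj)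
  have e : γ₁ - γ₂ = ρ := by
    refine DFunLike.ext _ _ fun d => ?_
    rw [Function.locallyFinsuppWithin.coe_sub, Pi.sub_apply, h₁, h₂, Cyc.c1CapFun, Cyc.c1CapFun,
      ← finsum_sub_distrib (c1Cap_support_finite α M s (i d)) (c1Cap_support_finite α M t (i d)), hρd]
    simp only [divFun_zpow hX _ _ (hne _)]
    refine Eq.trans ?_ (finsum_congr (f := fun j : S => α j.1.1 *
      (Cyc.secDivFun δ M j.1.1 (s j.1.1) (i d) - Cyc.secDivFun δ M j.1.1 (t j.1.1) (i d))) fun j => by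
        rw [secDivFun_sub hX hM j.1.1 (i d) _ _ (hs _) (ht _) _ (hψ j.1)])
    rw [← finsum_mem_univ, finsum_set_coe_eq_finsum_mem S
      (f := fun j : {ξ : X // α ξ ≠ 0} => α j.1 *
        (Cyc.secDivFun δ M j.1 (s j.1) (i d) - Cyc.secDivFun δ M j.1 (t j.1) (i d)))]
    refine (finsum_mem_inter_support_eq' _ _ (Subtype.val '' S) fun ξ hξ => ?_).trans
      ((finsum_mem_image Subtype.val_injective.injOn).trans (finsum_mem_congr rfl fun j _ => by ring))
    simp only [Set.mem_univ, true_iff]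
    rw [Function.mem_support, ← mul_sub] at hξ
    refine ⟨⟨ξ, left_ne_zero_of_mul hξ⟩, ?_, rfl⟩
    by_contra h
    exact right_ne_zero_of_mul hξ (sub_eq_zero.2 (hoff ξ h _))
  unfold Cyc.RatEquiv
  rw [e]
  exact hρ

end Groth.Agent.Cyc90

namespace Groth.Agent.Cyc90

variable {X Y D : Scheme.{u}}

lemma map_restrict_square (f : X ⟶ Y) [QuasiCompact f] (i : D ⟶ Y) [IsClosedImmersion i] (δX : X → ℤ)
    (δY : Y → ℤ) (γ : AlgebraicCycle X ℤ) (d : D) :
    AlgebraicCycle.map f δX δY γ (i d) =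
      AlgebraicCycle.map (pullback.snd f i) (fun z => δX (pullback.fst f i z)) (fun d => δY (i d))
        (restrictClosed (pullback.fst f i) γ) d := by
  have hw : ∀ z : ↑(pullback f i), i (pullback.snd f i z) = f (pullback.fst f i z) := fun z =>
    (congrArg (fun k : pullback f i ⟶ Y => k z) pullback.condition).symm
  rw [map_apply_eq, map_apply_eq,
    show f ⁻¹' {i d} = pullback.fst f i '' ((pullback.snd f i) ⁻¹' {d}) from Set.ext fun x => by
      constructor
      · intro hx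
        obtain ⟨z, rfl⟩ : x ∈ Set.range (pullback.fst f i) := by
          rw [Scheme.Pullback.range_fst]; exact ⟨d, hx.symm⟩
        exact ⟨z, i.isClosedEmbedding.injective ((hw z).trans hx), rfl⟩
      · rintro ⟨z, hz, rfl⟩
        exact (hw z).symm.trans (congrArg _ hz),
    finsum_mem_image (pullback.fst f i).isClosedEmbedding.injective.injOn]
  refine finsum_mem_congr rfl fun z _ => ?_
  rw [restrictClosed_apply, hw,
    residueDegree_preimmersion_square (pullback.fst f i) i (pullback.snd f i) f pullback.condition.symm z]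

theorem ratEquiv_gysin_map {δ : Y → ℤ} {δ' : X → ℤ} (hY : Cyc.IsSetup Y δ) (hX : Cyc.IsSetup X δ')
    (f : X ⟶ Y) [IsProper f] (hδ : Cyc.DeltaCompat f δ' δ) {L : Y.Modules} (hL : PicF.IsInvertible L)
    (s : L.presheaf.obj (op ⊤)) (i : D ⟶ Y) [IsClosedImmersion i] (hD : Cyc.IsZeroSchemeOf i L s)
    (s' : ((Scheme.Modules.pullback f).obj L).presheaf.obj (op ⊤))
    (hD' : Cyc.IsZeroSchemeOf (pullback.fst f i) ((Scheme.Modules.pullback f).obj L) s') (k : ℤ)
    (α' : AlgebraicCycle X ℤ) (hα' : α' ∈ Cyc.Zk X δ' (k + 1))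
    (w : (ξ : Y) → Cyc.secFibre L ξ) (hw : ∀ ξ, w ξ ≠ 0)
    (w' : (ξ : X) → Cyc.secFibre ((Scheme.Modules.pullback f).obj L) ξ) (hw' : ∀ ξ, w' ξ ≠ 0)
    (γ : AlgebraicCycle D ℤ)
    (hγ : ∀ d, γ d = Cyc.c1CapFun δ L ⇑(AlgebraicCycle.map f δ' δ α') (Cyc.gysinChoice L s w) (i d))
    (γ' : AlgebraicCycle ↑(pullback f i) ℤ)
    (hγ' : ∀ z, γ' z = Cyc.c1CapFun δ' ((Scheme.Modules.pullback f).obj L) ⇑α'
      (Cyc.gysinChoice ((Scheme.Modules.pullback f).obj L) s' w') (pullback.fst f i z)) :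
    Cyc.RatEquiv (fun d => δ (i d)) k γ
      (AlgebraicCycle.map (pullback.snd f i) (fun z => δ' (pullback.fst f i z)) (fun d => δ (i d)) γ') := by
  have hv := gysinChoice_ne_zero s w hw
  have hLp := Amp73.isInvertible_pullback f hL
  obtain ⟨γ₀, hγ₀⟩ := exists_c1CapCycle hX hLp α' (pullSec f hL (Cyc.gysinChoice L s w) hv)
    (pullSec_ne_zero f hL _ hv)
  have hmap := map_c1Cap hX hY f hδ hL α' (Cyc.gysinChoice L s w) hv γ₀ hγ₀
  have hs'' := isZeroSchemeOf_pullback f hL hD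
  have hD1 := isSetup_closedImmersion i hY
  have hD2 := isSetup_closedImmersion (pullback.fst f i) hX
  have hr : Cyc.RatEquiv (fun z => δ' (pullback.fst f i z)) k (restrictClosed (pullback.fst f i) γ₀) γ' := by
    refine ratEquiv_restrict_c1Cap hX (pullback.fst f i) hLp k α' hα' _ _
      (pullSec_ne_zero f hL (Cyc.gysinChoice L s w) hv) (gysinChoice_ne_zero s' w' hw') (fun ξ hξ x => ?_)
      _ γ' (fun z => congrFun hγ₀ _) hγ'
    have hfξ : f ξ ∉ Set.range i := fun h => hξ (by rw [Scheme.Pullback.range_fst]; exact h)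
    rw [pullSec_eq_germ f hL _ hv s ξ (gysinChoice_of_notMem hD w hfξ), gysinChoice_of_notMem hD' w' hξ]
    exact secDivFun_eq_of_zeroScheme hX hLp hs'' hD' hξ x
  have e : γ = AlgebraicCycle.map (pullback.snd f i) (fun z => δ' (pullback.fst f i z))
      (fun d => δ (i d)) (restrictClosed (pullback.fst f i) γ₀) := DFunLike.ext _ _ fun d => by
    rw [hγ, ← hmap, map_restrict_square]
  rw [e]
  unfold Cyc.RatEquiv
  rw [← map_sub_cycle]
  exact ratEquivZero_map hD2 hD1 (pullback.snd f i)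
    (deltaCompat_square (pullback.fst f i) i (pullback.snd f i) f pullback.condition.symm hδ) hr

end Groth.Agent.Cyc90
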