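import Groth.Agent.Cyc90.SuppComm

/-! Gysin maps on rational equivalence classes and their commutation with first Chern classes. -/

set_option autoImplicit false
universe u

open CategoryTheory CategoryTheory.Limits AlgebraicGeometry TopologicalSpace IsLocalRing Opposite

namespace Groth.Agent.Cyc90

variable {X D D' : Scheme.{u}} {δ : X → ℤ}

/-- `c₁(L) ∩ div(f)` computed with sections that are good off `A` is supported, as a family, on `A`. -/
theorem ratFamIn_c1Cap_divFun_supp (hX : Cyc.IsSetup X δ) {L : X.Modules} (hL : PicF.IsInvertible L)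
    {k : ℤ} (ξ : X) (hk : δ ξ = k + 2) (f : X.residueField ξ) (hf : f ≠ 0)
    {A : Set X} (hA : IsClosed A) {v : (η : X) → Cyc.secFibre L η} (hv : GoodOff v A) (hv0 : ∀ η, v η ≠ 0) :
    RatFamIn δ k (A ∩ closure {ξ}) (Cyc.c1CapFun δ L (Cyc.divFun δ ξ f) v) := by
  classical
  obtain ⟨φ, hφ⟩ := X.residue_surjective ξ f
  subst hφ
  have hu : IsUnit φ := (IsLocalRing.residue_ne_zero_iff_isUnit _).1 hf
  have hne : φ • v ξ ≠ 0 := fun h => hv0 ξ (hu.smul_left_cancel.1 (h.trans (smul_zero φ).symm))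
  have G := fun (b : Cyc.secFibre L ξ) (hb : b ≠ 0) => ratFamIn_comm_supp hX hL hL ξ hk (v ξ) (hv0 ξ) b hb hA
    isClosed_univ hv hv0 (goodOff_univ v) hv0 (fun _ => rfl) (fun h => absurd trivial h)
  have h := ratFamIn_sub hX ((hA.inter isClosed_univ).inter isClosed_closure) (G (v ξ) (hv0 ξ)) (G (φ • v ξ) hne)
  refine (h.congr fun x => ?_).mono (fun x hx => ⟨hx.1.1, hx.2⟩)
  let P : AlgebraicCycle X ℤ := ⟨Cyc.secDivFun δ L ξ (φ • v ξ), by simp,
    fun z _ => secDivFun_locallyFinite hX hL _ _ hne z⟩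
  let Q : AlgebraicCycle X ℤ := ⟨Cyc.secDivFun δ L ξ (v ξ), by simp,
    fun z _ => secDivFun_locallyFinite hX hL _ _ (hv0 ξ) z⟩
  rw [c1CapFun_finsum_apply hX L v Finset.univ ![1, -1] ![P, Q] (Cyc.divFun δ ξ _) x fun η _ => ?_]
  · simp [Fin.sum_univ_two, sub_eq_add_neg]; rfl
  · rw [← secDivFun_sub hX hL ξ η _ _ hne (hv0 ξ) φ rfl]
    simp [Fin.sum_univ_two, sub_eq_add_neg]; rfl

/-- The Gysin map kills cycles rationally equivalent to zero. -/
theorem ratEquivZero_gysin (hX : Cyc.IsSetup X δ) {L : X.Modules} (hL : PicF.IsInvertible L)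
    {s : L.presheaf.obj (op ⊤)} (i : D ⟶ X) [IsClosedImmersion i] (hD : Cyc.IsZeroSchemeOf i L s)
    {k : ℤ} {α : AlgebraicCycle X ℤ} (h0 : Cyc.RatEquivZero δ (k + 1) α)
    (t : (ξ : X) → Cyc.secFibre L ξ) (ht : ∀ ξ, t ξ ≠ 0) (γ : AlgebraicCycle D ℤ)
    (hγ : ∀ d : D, γ d = Cyc.c1CapFun δ L ⇑α (Cyc.gysinChoice L s t) (i d)) :
    Cyc.RatEquivZero (fun d => δ (i d)) k γ := by
  classical
  obtain ⟨ι, ξ, f, hk, hf, hlf, hsum⟩ := h0
  have hcl := i.isClosedEmbedding.isClosed_range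
  have hv := goodOff_gysinChoice hL hD t
  have hF : ∀ j, RatFamIn δ k (Set.range i ∩ closure {ξ j})
      (Cyc.c1CapFun δ L (Cyc.divFun δ (ξ j) (f j)) (Cyc.gysinChoice L s t)) := fun j =>
    ratFamIn_c1Cap_divFun_supp hX hL (ξ j) (by rw [hk j]; ring) (f j) (hf j) hcl hv
      (gysinChoice_ne_zero s t ht)
  have fam := ratFamIn_finsum (fun j => Set.range i ∩ closure {ξ j}) (fun j => hcl.inter isClosed_closure)
    (fun x => by
      obtain ⟨U, hU, hxU, hfin⟩ := hlf x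
      exact ⟨U, hU, hxU, hfin.subset fun j ⟨y, hy, hyU⟩ => ⟨y, hy.2, hyU⟩⟩) _ hF (Set.range i)
    (fun j => Set.inter_subset_left)
  refine ratEquivZero_restrict_famIn hX i fam γ fun d => ?_
  rw [hγ]
  obtain ⟨U, hU, hxU, hfin⟩ := hlf (i d)
  let P : ι → AlgebraicCycle X ℤ := fun j => divCycle hX (ξ j) (f j) (hf j)
  rw [c1CapFun_finsum_apply hX L (Cyc.gysinChoice L s t) hfin.toFinset (fun _ => 1) P ⇑α (i d) fun η hη => ?_]
  · simp only [one_mul]
    refine (finsum_eq_sum_of_support_subset _ fun j hj => ?_).symm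
    obtain ⟨η, hη⟩ : ∃ η, Cyc.divFun δ (ξ j) (f j) η *
        Cyc.secDivFun δ L η (Cyc.gysinChoice L s t η) (i d) ≠ 0 := by
      by_contra hall
      push Not at hall
      exact hj (finsum_eq_zero_of_forall_eq_zero hall)
    refine Finset.mem_coe.2 (hfin.mem_toFinset.2 ⟨i d, ?_, hxU⟩)
    have h1 := left_ne_zero_of_mul hη
    have h2 := right_ne_zero_of_mul hη
    unfold Cyc.divFun at h1
    unfold Cyc.secDivFun at h2
    split_ifs at h1 h2 with h h'
    · exact specializes_iff_mem_closure.1 (h.1.trans h'.1)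
    all_goals exact absurd rfl ‹(0 : ℤ) ≠ 0›
  · rw [hsum η, finsum_eq_sum_of_support_subset (s := hfin.toFinset) _ fun j hj => ?_]
    · simp only [one_mul]; rfl
    refine Finset.mem_coe.2 (hfin.mem_toFinset.2 ⟨η, ?_, hη.mem_open hU hxU⟩)
    simp only [Function.mem_support, Cyc.divFun] at hj
    split_ifs at hj with h
    · exact specializes_iff_mem_closure.1 h.1
    · exact absurd rfl hj

lemma c1CapFun_secDiv_eq_zero {L N : X.Modules} (ξ : X) (a : Cyc.secFibre L ξ)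
    (u : (η : X) → Cyc.secFibre N η) (x : X) (h : ¬ ξ ⤳ x) :
    Cyc.c1CapFun δ N (Cyc.secDivFun δ L ξ a) u x = 0 :=
  finsum_eq_zero_of_forall_eq_zero fun η => by
    by_cases hη : ξ ⤳ η
    · have h2 : ¬ η ⤳ x := fun h' => h (hη.trans h')
      rw [show Cyc.secDivFun δ N η (u η) x = 0 from dif_neg fun h' => h2 h'.1, mul_zero]
    · rw [show Cyc.secDivFun δ L ξ a η = 0 from dif_neg fun h' => hη h'.1, zero_mul]

/-- Two caps commute, with supports. -/
theorem ratFamIn_c1Cap_c1Cap_supp (hX : Cyc.IsSetup X δ) {L N : X.Modules} (hL : PicF.IsInvertible L)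
    (hN : PicF.IsInvertible N) {k : ℤ} (α : AlgebraicCycle X ℤ) (hα : α ∈ Cyc.Zk X δ (k + 2))
    {A B : Set X} (hA : IsClosed A) (hB : IsClosed B) {v : (η : X) → Cyc.secFibre L η} (hv : GoodOff v A)
    (hv0 : ∀ η, v η ≠ 0) {u : (η : X) → Cyc.secFibre N η} (hu : GoodOff u B) (hu0 : ∀ η, u η ≠ 0) :
    RatFamIn δ k (A ∩ B) (fun x => Cyc.c1CapFun δ N (Cyc.c1CapFun δ L ⇑α v) u x -
      Cyc.c1CapFun δ L (Cyc.c1CapFun δ N ⇑α u) v x) := by
  classical
  have hF : ∀ j : {ξ : X // α ξ ≠ 0}, RatFamIn δ k (A ∩ B ∩ closure {j.1}) fun x => α j.1 *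
      (Cyc.c1CapFun δ N (Cyc.secDivFun δ L j.1 (v j.1)) u x -
        Cyc.c1CapFun δ L (Cyc.secDivFun δ N j.1 (u j.1)) v x) := fun j =>
    ratFamIn_smul hX (ratFamIn_comm_supp hX hL hN j.1 (by by_contra h; exact j.2 (hα j.1 h))
      _ (hv0 _) _ (hu0 _) hA hB hv hv0 hu hu0 (fun _ => rfl) (fun _ => rfl)) _
  have fam := ratFamIn_finsum (fun j : {ξ : X // α ξ ≠ 0} => A ∩ B ∩ closure {j.1})
    (fun j => (hA.inter hB).inter isClosed_closure)
    (fun x => by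
      obtain ⟨N, hN, hfin⟩ := α.supportLocallyFiniteWithinDomain' x trivial
      obtain ⟨U, hUt, hU, hxU⟩ := mem_nhds_iff.1 hN
      refine ⟨U, hU, hxU, (hfin.preimage Subtype.val_injective.injOn).subset ?_⟩
      rintro j ⟨y, hy, hyU⟩
      exact ⟨hUt ((specializes_iff_mem_closure.2 hy.2).mem_open hU hyU), j.2⟩) _ hF (A ∩ B)
    (fun j => Set.inter_subset_left)
  refine fam.congr fun x => ?_
  rw [c1CapFun_c1CapFun hX N hL α u v hv0 x, c1CapFun_c1CapFun hX L hN α v u hu0 x]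
  have hs : ∀ {A B : X.Modules} (a : (η : X) → Cyc.secFibre A η) (b : (η : X) → Cyc.secFibre B η),
      (Function.support fun ξ => α ξ * Cyc.c1CapFun δ B (Cyc.secDivFun δ A ξ (a ξ)) b x).Finite := by
    intro A B a b
    obtain ⟨t, ht, hfin⟩ := α.supportLocallyFiniteWithinDomain' x trivial
    obtain ⟨U, hUt, hU, hxU⟩ := mem_nhds_iff.1 ht
    refine hfin.subset fun ξ hξ => ⟨hUt ?_, left_ne_zero_of_mul (Function.mem_support.1 hξ)⟩
    by_contra h
    exact right_ne_zero_of_mul (Function.mem_support.1 hξ)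
      (c1CapFun_secDiv_eq_zero ξ (a ξ) b x fun h' => h (h'.mem_open hU hxU))
  rw [← finsum_sub_distrib (hs v u) (hs u v)]
  simp only [← mul_sub]
  rw [← finsum_mem_univ (fun ξ => α ξ * _)]
  refine (finsum_set_coe_eq_finsum_mem (s := {ξ | α ξ ≠ 0}) (f := fun ξ => α ξ *
    (Cyc.c1CapFun δ N (Cyc.secDivFun δ L ξ (v ξ)) u x -
      Cyc.c1CapFun δ L (Cyc.secDivFun δ N ξ (u ξ)) v x))).trans ?_
  refine finsum_mem_inter_support_eq' _ _ _ fun ξ hξ => ?_
  simp only [Set.mem_univ, iff_true]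
  exact left_ne_zero_of_mul (Function.mem_support.1 hξ)

/-- The Gysin cycle on the zero scheme, and its pushforward. -/
lemma map_restrict_gysin (hX : Cyc.IsSetup X δ) {L : X.Modules} (hL : PicF.IsInvertible L)
    {s : L.presheaf.obj (op ⊤)} (i : D ⟶ X) [IsClosedImmersion i] (hD : Cyc.IsZeroSchemeOf i L s)
    (w : (ξ : X) → Cyc.secFibre L ξ) (a : X → ℤ) (A : AlgebraicCycle X ℤ)
    (hA : ⇑A = Cyc.c1CapFun δ L a (Cyc.gysinChoice L s w)) :
    AlgebraicCycle.map i (fun d => δ (i d)) δ (restrictClosed i A) = A := DFunLike.ext _ _ fun x => by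
  by_cases hx : x ∈ Set.range i
  · obtain ⟨d, rfl⟩ := hx
    rw [map_closedImmersion_image, restrictClosed_apply]
  · rw [map_closedImmersion_notMem i δ _ hx, hA,
      c1CapFun_goodOff_eq_zero hX (goodOff_gysinChoice hL hD w) a hx]

lemma restrict_gysin_mem {L : X.Modules} (i : D ⟶ X) [IsClosedImmersion i] {k : ℤ}
    (α : AlgebraicCycle X ℤ) (hα : α ∈ Cyc.Zk X δ (k + 1))
    (v : (ξ : X) → Cyc.secFibre L ξ) (A : AlgebraicCycle X ℤ) (hA : ⇑A = Cyc.c1CapFun δ L ⇑α v) :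
    restrictClosed i A ∈ Cyc.Zk D (fun d => δ (i d)) k := fun d hd => by
  rw [restrictClosed_apply, hA]
  refine finsum_eq_zero_of_forall_eq_zero fun ξ => ?_
  by_cases h : α ξ = 0
  · rw [h, zero_mul]
  · have hk : δ ξ = k + 1 := by by_contra h'; exact h (hα ξ h')
    rw [show Cyc.secDivFun δ L ξ (v ξ) (i d) = 0 from dif_neg fun h' => hd (by dsimp only; omega), mul_zero]

/-- The Gysin map commutes with the first Chern class. -/
theorem ratEquiv_gysin_c1Cap (hX : Cyc.IsSetup X δ) {L N : X.Modules} (hL : PicF.IsInvertible L)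
    (hN : PicF.IsInvertible N) (s : L.presheaf.obj (op ⊤)) (i : D ⟶ X) [IsClosedImmersion i]
    (hD : Cyc.IsZeroSchemeOf i L s) (k : ℤ) (α : AlgebraicCycle X ℤ) (hα : α ∈ Cyc.Zk X δ k)
    (w : (ξ : X) → Cyc.secFibre L ξ) (hw : ∀ ξ, w ξ ≠ 0) (v : (ξ : X) → Cyc.secFibre N ξ)
    (hv : ∀ ξ, v ξ ≠ 0) (t : (d : D) → Cyc.secFibre ((Scheme.Modules.pullback i).obj N) d)
    (ht : ∀ d, t d ≠ 0) (β : AlgebraicCycle X ℤ) (hβ : ⇑β = Cyc.c1CapFun δ N ⇑α v) (γ : D → ℤ)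
    (hγ : γ = fun d => Cyc.c1CapFun δ L ⇑α (Cyc.gysinChoice L s w) (i d)) (ζ₁ ζ₂ : AlgebraicCycle D ℤ)
    (h₁ : ∀ d, ζ₁ d = Cyc.c1CapFun δ L ⇑β (Cyc.gysinChoice L s w) (i d))
    (h₂ : ⇑ζ₂ = Cyc.c1CapFun (fun d => δ (i d)) ((Scheme.Modules.pullback i).obj N) γ t) :
    Cyc.RatEquiv (fun d => δ (i d)) (k - 2) ζ₁ ζ₂ := by
  have hg := gysinChoice_ne_zero s w hw
  have hDs := isSetup_closedImmersion i hX
  have hNi := Amp73.isInvertible_pullback i hN
  obtain ⟨A, hA⟩ := exists_c1CapCycle hX hL α (Cyc.gysinChoice L s w) hg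
  obtain ⟨γ₀, hγ₀⟩ := exists_c1CapCycle hDs hNi (restrictClosed i A) (pullSec i hN v hv)
    (pullSec_ne_zero i hN v hv)
  have hmap := map_c1Cap hDs hX i (deltaCompat_preimmersion i δ) hN (restrictClosed i A) v hv γ₀ hγ₀
  rw [map_restrict_gysin hX hL i hD w ⇑α A hA] at hmap
  have eγ : γ = ⇑(restrictClosed i A) := by
    funext d
    rw [hγ, restrictClosed_apply, hA]
  have r2 : Cyc.RatEquiv (fun d => δ (i d)) (k - 2) γ₀ ζ₂ :=
    ratEquiv_of_c1CapFun hDs hNi (k - 2) (restrictClosed i A)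
      (restrict_gysin_mem i α (show α ∈ Cyc.Zk X δ (k - 2 + 1 + 1) by
        rwa [show k - 2 + 1 + 1 = k by ring]) _ A hA)
      _ t (fun d _ => pullSec_ne_zero i hN v hv d) (fun d _ => ht d) γ₀ ζ₂ hγ₀ (by rw [h₂, eγ])
  have fam := ratFamIn_c1Cap_c1Cap_supp hX hL hN (k := k - 2) α (by rwa [sub_add_cancel])
    i.isClosedEmbedding.isClosed_range isClosed_univ (goodOff_gysinChoice hL hD w) hg (goodOff_univ v) hv
  have r1 : Cyc.RatEquiv (fun d => δ (i d)) (k - 2) γ₀ ζ₁ := by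
    refine ratEquivZero_restrict_famIn hX i (fam.mono Set.inter_subset_left) _ fun d => ?_
    rw [Function.locallyFinsuppWithin.coe_sub, Pi.sub_apply, h₁, hβ,
      ← map_closedImmersion_image i δ γ₀ d, hmap, hA]
  exact ratEquiv_trans (ratEquiv_symm hDs r1) r2

/-- Gysin maps of two divisors commute. -/
theorem ratEquiv_gysin_gysin (hX : Cyc.IsSetup X δ) {L L' : X.Modules} (hL : PicF.IsInvertible L)
    (hL' : PicF.IsInvertible L') (s : L.presheaf.obj (op ⊤)) (s' : L'.presheaf.obj (op ⊤))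
    (i : D ⟶ X) (i' : D' ⟶ X) [IsClosedImmersion i] [IsClosedImmersion i']
    (hD : Cyc.IsZeroSchemeOf i L s) (hD' : Cyc.IsZeroSchemeOf i' L' s')
    (σ' : ((Scheme.Modules.pullback i).obj L').presheaf.obj (op ⊤))
    (hσ' : Cyc.IsZeroSchemeOf (pullback.fst i i') ((Scheme.Modules.pullback i).obj L') σ')
    (σ : ((Scheme.Modules.pullback i').obj L).presheaf.obj (op ⊤))
    (hσ : Cyc.IsZeroSchemeOf (pullback.snd i i') ((Scheme.Modules.pullback i').obj L) σ)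
    (k : ℤ) (α : AlgebraicCycle X ℤ) (hα : α ∈ Cyc.Zk X δ k)
    (w : (ξ : X) → Cyc.secFibre L ξ) (hw : ∀ ξ, w ξ ≠ 0) (w' : (ξ : X) → Cyc.secFibre L' ξ) (hw' : ∀ ξ, w' ξ ≠ 0)
    (w₁ : (d : D) → Cyc.secFibre ((Scheme.Modules.pullback i).obj L') d) (hw₁ : ∀ d, w₁ d ≠ 0)
    (w₂ : (d : D') → Cyc.secFibre ((Scheme.Modules.pullback i').obj L) d) (hw₂ : ∀ d, w₂ d ≠ 0)
    (γ : D → ℤ) (hγ : γ = fun d => Cyc.c1CapFun δ L ⇑α (Cyc.gysinChoice L s w) (i d))
    (γ' : D' → ℤ) (hγ' : γ' = fun d => Cyc.c1CapFun δ L' ⇑α (Cyc.gysinChoice L' s' w') (i' d))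
    (ζ₁ ζ₂ : AlgebraicCycle ↑(pullback i i') ℤ)
    (h₁ : ∀ z, ζ₁ z = Cyc.c1CapFun (fun d => δ (i d)) ((Scheme.Modules.pullback i).obj L') γ
      (Cyc.gysinChoice ((Scheme.Modules.pullback i).obj L') σ' w₁) (pullback.fst i i' z))
    (h₂ : ∀ z, ζ₂ z = Cyc.c1CapFun (fun d => δ (i' d)) ((Scheme.Modules.pullback i').obj L) γ'
      (Cyc.gysinChoice ((Scheme.Modules.pullback i').obj L) σ w₂) (pullback.snd i i' z)) :
    Cyc.RatEquiv (fun z => δ (i (pullback.fst i i' z))) (k - 2) ζ₁ ζ₂ := by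
  have hk : α ∈ Cyc.Zk X δ (k - 2 + 1 + 1) := by rwa [show k - 2 + 1 + 1 = k by ring]
  have hg := gysinChoice_ne_zero s w hw
  have hg' := gysinChoice_ne_zero s' w' hw'
  have hcond : ∀ z : ↑(pullback i i'), i (pullback.fst i i' z) = i' (pullback.snd i i' z) := fun z =>
    congrArg (fun k : pullback i i' ⟶ X => k z) pullback.condition
  have step : ∀ {E E' : Scheme.{u}} {M M' : X.Modules} (hM : PicF.IsInvertible M) (hM' : PicF.IsInvertible M')
      (σ₁ : M.presheaf.obj (op ⊤)) (σ₂ : M'.presheaf.obj (op ⊤)) (e : E ⟶ X) (e' : E' ⟶ X)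
      [IsClosedImmersion e] [IsClosedImmersion e'] (_ : Cyc.IsZeroSchemeOf e M σ₁)
      (_ : Cyc.IsZeroSchemeOf e' M' σ₂)
      (p : pullback i i' ⟶ E) [IsClosedImmersion p]
      (_ : Set.range p = e ⁻¹' Set.range e')
      (σ₃ : ((Scheme.Modules.pullback e).obj M').presheaf.obj (op ⊤))
      (_ : Cyc.IsZeroSchemeOf p ((Scheme.Modules.pullback e).obj M') σ₃)
      (_ : Cyc.IsZeroSchemeOf p ((Scheme.Modules.pullback e).obj M') (Amp73.pullS e M' ⊤ σ₂))
      (c : (ξ : X) → Cyc.secFibre M ξ) (_ : ∀ ξ, c ξ ≠ 0)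
      (c' : (ξ : X) → Cyc.secFibre M' ξ) (hc' : ∀ ξ, c' ξ ≠ 0)
      (c₁ : (d : E) → Cyc.secFibre ((Scheme.Modules.pullback e).obj M') d) (_ : ∀ d, c₁ d ≠ 0)
      (g : E → ℤ) (_ : g = fun d => Cyc.c1CapFun δ M ⇑α (Cyc.gysinChoice M σ₁ c) (e d))
      (ζ : AlgebraicCycle ↑(pullback i i') ℤ)
      (_ : ∀ z, ζ z = Cyc.c1CapFun (fun d => δ (e d)) ((Scheme.Modules.pullback e).obj M') g
        (Cyc.gysinChoice ((Scheme.Modules.pullback e).obj M') σ₃ c₁) (p z)),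
      ∃ ζ' : AlgebraicCycle ↑(pullback i i') ℤ, Cyc.RatEquiv (fun z => δ (e (p z))) (k - 2) ζ' ζ ∧
        ∀ z, ζ' z = Cyc.c1CapFun δ M' (Cyc.c1CapFun δ M ⇑α (Cyc.gysinChoice M σ₁ c))
          (Cyc.gysinChoice M' σ₂ c') (e (p z)) := by
    intro E E' M M' hM hM' σ₁ σ₂ e e' _ _ hE hE' p _ hp σ₃ hσ₃ hσ₂ c hc c' hc' c₁ hc₁ g hg ζ hζ
    have hcg := gysinChoice_ne_zero σ₁ c hc
    have hcg' := gysinChoice_ne_zero σ₂ c' hc'
    have hEs := isSetup_closedImmersion e hX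
    have hMe := Amp73.isInvertible_pullback e hM'
    obtain ⟨A, hA⟩ := exists_c1CapCycle hX hM α (Cyc.gysinChoice M σ₁ c) hcg
    obtain ⟨γ₀, hγ₀⟩ := exists_c1CapCycle hEs hMe (restrictClosed e A)
      (pullSec e hM' (Cyc.gysinChoice M' σ₂ c') hcg') (pullSec_ne_zero e hM' _ hcg')
    have hmap := map_c1Cap hEs hX e (deltaCompat_preimmersion e δ) hM' (restrictClosed e A)
      (Cyc.gysinChoice M' σ₂ c') hcg' γ₀ hγ₀
    rw [map_restrict_gysin hX hM e hE c ⇑α A hA, hA] at hmap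
    refine ⟨restrictClosed p γ₀, ?_, fun z => ?_⟩
    · refine ratEquiv_restrict_c1Cap hEs p hMe (k - 2) (restrictClosed e A) (restrict_gysin_mem e α hk _ A hA)
        _ _ (pullSec_ne_zero e hM' _ hcg') (gysinChoice_ne_zero σ₃ c₁ hc₁) (fun ξ hξ x => ?_)
        _ ζ (fun z => congrFun hγ₀ _) ?_
      · have heξ : e ξ ∉ Set.range e' := fun h => hξ (hp.ge h)
        rw [pullSec_eq_germ e hM' _ hcg' σ₂ ξ (gysinChoice_of_notMem hE' c' heξ),
          gysinChoice_of_notMem hσ₃ c₁ hξ]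
        exact secDivFun_eq_of_zeroScheme hEs hMe hσ₂ hσ₃ hξ x
      · intro z
        rw [hζ, hg]
        simp only [← hA]
        rfl
    · rw [restrictClosed_apply, ← map_closedImmersion_image e δ γ₀ (p z), hmap]
  have hσ₂ := isZeroSchemeOf_pullback i hL' hD'
  have hsnd : Cyc.IsZeroSchemeOf (pullback.snd i i') ((Scheme.Modules.pullback i').obj L)
      (Amp73.pullS i' L ⊤ s) := by
    have h := isZeroSchemeOf_pullback i' hL hD
    refine ⟨(Scheme.Pullback.range_snd _ _).trans ((Scheme.Pullback.range_fst _ _).symm.trans h.1), fun z => ?_⟩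
    let z' : ↑(pullback i' i) := (pullbackSymmetry i i').hom z
    obtain ⟨t, f, ht, hst, hker⟩ := h.2 z'
    have hf : pullback.snd i i' = (pullbackSymmetry i i').hom ≫ pullback.fst i' i :=
      (pullbackSymmetry_hom_comp_fst i i').symm
    have hgen : ∀ (g : pullback i i' ⟶ D'), g = (pullbackSymmetry i i').hom ≫ pullback.fst i' i →
        ∃ (t : ((Scheme.Modules.pullback i').obj L).presheaf.stalk (g z)) (f : D'.presheaf.stalk (g z)),
          Submodule.span (D'.presheaf.stalk (g z)) {t} = ⊤ ∧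
          ((Scheme.Modules.pullback i').obj L).presheaf.germ ⊤ (g z) trivial (Amp73.pullS i' L ⊤ s) = f • t ∧
          RingHom.ker (g.stalkMap z).hom = Ideal.span {f} := by
      intro g hg
      subst hg
      refine ⟨t, f, ht, hst, ?_⟩
      rw [Scheme.Hom.stalkMap_comp]
      refine Eq.trans (RingHom.ker_comp_of_injective _ ?_) hker
      exact (ConcreteCategory.bijective_of_isIso ((pullbackSymmetry i i').hom.stalkMap z)).1
    exact hgen _ hf
  obtain ⟨ζ₁', hr₁, e₁⟩ := step hL hL' s s' i i' hD hD' (pullback.fst i i')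
    (Scheme.Pullback.range_fst i i') σ' hσ' hσ₂ w hw w' hw' w₁ hw₁ γ hγ ζ₁ h₁
  obtain ⟨ζ₂', hr₂, e₂⟩ := step hL' hL s' s i' i hD' hD (pullback.snd i i')
    (Scheme.Pullback.range_snd i i') σ hσ hsnd w' hw' w hw w₂ hw₂ γ' hγ' ζ₂ h₂
  rw [show (fun z => δ (i' (pullback.snd i i' z))) = fun z => δ (i (pullback.fst i i' z)) from
    funext fun z => by rw [hcond z]] at hr₂
  have fam := ratFamIn_c1Cap_c1Cap_supp hX hL hL' (k := k - 2) α (by rwa [sub_add_cancel])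
    i.isClosedEmbedding.isClosed_range i'.isClosedEmbedding.isClosed_range
    (goodOff_gysinChoice hL hD w) hg (goodOff_gysinChoice hL' hD' w') hg'
  have hPs := isSetup_closedImmersion (pullback.fst i i' ≫ i) hX
  have mid : Cyc.RatEquiv (fun z => δ (i (pullback.fst i i' z))) (k - 2) ζ₁' ζ₂' := by
    have := ratEquivZero_restrict_famIn hX (pullback.fst i i' ≫ i) (fam.mono ?_) (ζ₁' - ζ₂') fun z => ?_
    · exact this
    · rintro x ⟨⟨d, rfl⟩, hd'⟩
      obtain ⟨z, hz⟩ := (Scheme.Pullback.range_fst i i').ge hd'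
      exact ⟨z, congrArg i hz⟩
    · rw [Function.locallyFinsuppWithin.coe_sub, Pi.sub_apply, e₁, e₂, ← hcond]
      rfl
  exact ratEquiv_trans (ratEquiv_symm hPs hr₁) (ratEquiv_trans mid hr₂)

end Groth.Agent.Cyc90
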