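import Groth.Prelude.Def_Cyc
import Groth.Agent.Cyc90.Gen
import Mathlib.AlgebraicGeometry.Morphisms.UniversallyOpen
import Mathlib.RingTheory.LocalRing.Length

/-! Flat pullback of cycles with a shift of dimension functions. -/

set_option autoImplicit false
universe u

open CategoryTheory AlgebraicGeometry TopologicalSpace IsLocalRing TensorProduct

namespace Groth.Agent.Cyc90

variable {X Y Z : Scheme.{u}}

/-- The shift hypothesis on a morphism: at maximal points of fibres `δ` is shifted by `c`. -/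
def ShiftAt (f : X ⟶ Y) (δX : X → ℤ) (δY : Y → ℤ) (c : ℤ) : Prop :=
  ∀ x : X, (∀ w, f w = f x → w ⤳ x → w = x) → δX x = δY (f x) + c

set_option maxHeartbeats 2000000 in
/-- Every point has a generization maximal in its fibre. -/
lemma exists_fibre_max (f : X ⟶ Y) (x : X) :
    ∃ z, z ⤳ x ∧ f z = f x ∧ ∀ w, f w = f z → w ⤳ z → w = z := by
  let J := (maximalIdeal (Y.presheaf.stalk (f x))).map (f.stalkMap x).hom
  have hJ : J ≤ maximalIdeal _ := Ideal.map_le_iff_le_comap.2 (IsLocalRing.maximalIdeal_comap _).ge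
  obtain ⟨q, hq, -⟩ := Ideal.exists_minimalPrimes_le hJ
  have key : ∀ p : PrimeSpectrum (X.presheaf.stalk x),
      f (X.fromSpecStalk x p) = Y.fromSpecStalk (f x) (p.comap (f.stalkMap x).hom) := fun p =>
    (congrArg (fun k : _ ⟶ Y => k p) (Scheme.SpecMap_stalkMap_fromSpecStalk f (x := x))).symm
  have hclosed : Y.fromSpecStalk (f x) (closedPoint (Y.presheaf.stalk (f x))) = f x :=
    Scheme.fromSpecStalk_closedPoint
  let qP : PrimeSpectrum (X.presheaf.stalk x) := ⟨q, hq.1.1⟩
  have hfz : f (X.fromSpecStalk x qP) = f x := by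
    have h1 : qP.comap (f.stalkMap x).hom = closedPoint (Y.presheaf.stalk (f x)) :=
      PrimeSpectrum.ext (((maximalIdeal.isMaximal _).eq_of_le
        (Ideal.comap_ne_top _ hq.1.1.ne_top) (Ideal.map_le_iff_le_comap.1 hq.1.2)).symm)
    exact (key qP).trans ((congrArg (fun p => Y.fromSpecStalk (f x) p) h1).trans hclosed)
  refine ⟨X.fromSpecStalk x qP, fromSpecStalk_specializes qP, hfz, fun w hw hwz => ?_⟩
  have hwx : w ⤳ x := hwz.trans (fromSpecStalk_specializes qP)
  have hle : genPrime hwx ≤ qP := by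
    rw [← genPrime_fromSpecStalk qP]
    exact (genPrime_le_iff hwx _).2 hwz
  have hJp : J ≤ (genPrime hwx).asIdeal := by
    refine Ideal.map_le_iff_le_comap.2 (le_of_eq ?_)
    have h1 : (genPrime hwx).comap (f.stalkMap x).hom = closedPoint (Y.presheaf.stalk (f x)) := by
      refine (Y.fromSpecStalk (f x)).isEmbedding.injective ?_
      refine (key _).symm.trans (((congrArg f (fromSpecStalk_genPrime hwx)).trans (hw.trans hfz)).trans ?_)
      exact hclosed.symm
    exact (congrArg PrimeSpectrum.asIdeal h1).symm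
  have heq : genPrime hwx = qP :=
    le_antisymm hle (hq.2 ⟨(genPrime hwx).2, hJp⟩ hle)
  rw [← fromSpecStalk_genPrime hwx, heq]

lemma delta_le_of_shift (f : X ⟶ Y) {δX : X → ℤ} {δY : Y → ℤ} (hX : Cyc.IsDimFun X δX) {c : ℤ}
    (hc : ShiftAt f δX δY c) (x : X) :
    δX x ≤ δY (f x) + c ∧ (δX x = δY (f x) + c → ∀ w, f w = f x → w ⤳ x → w = x) := by
  obtain ⟨z, hzx, hfz, hmax⟩ := exists_fibre_max f x
  have hz : δX z = δY (f x) + c := by rw [hc z hmax, hfz]
  by_cases hne : z = x
  · subst hne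
    exact ⟨hz.le, fun _ => hmax⟩
  · have := (hX z x hzx hne).1
    exact ⟨by omega, fun e => by omega⟩

lemma fibre_max_left (f : X ⟶ Y) (g : Y ⟶ Z) (x : X) (h : ∀ w, (f ≫ g) w = (f ≫ g) x → w ⤳ x → w = x) :
    ∀ w, f w = f x → w ⤳ x → w = x := fun w hw =>
  h w (by rw [Scheme.Hom.comp_apply, Scheme.Hom.comp_apply, hw])

lemma fibre_max_right (f : X ⟶ Y) [Flat f] (g : Y ⟶ Z) (x : X)
    (h : ∀ w, (f ≫ g) w = (f ≫ g) x → w ⤳ x → w = x) :
    ∀ w, g w = g (f x) → w ⤳ f x → w = f x := fun w hw hs => by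
  obtain ⟨w', hw', rfl⟩ := Flat.generalizingMap f hs
  rw [h w' (by rw [Scheme.Hom.comp_apply, Scheme.Hom.comp_apply]; exact hw) hw']

/-- Multiplicities multiply in towers of flat morphisms. -/
lemma length_fibre_comp (f : X ⟶ Y) [Flat f] (g : Y ⟶ Z) (x : X) :
    Module.length (X.presheaf.stalk x) (X.presheaf.stalk x ⧸
      (maximalIdeal (Z.presheaf.stalk ((f ≫ g) x))).map ((f ≫ g).stalkMap x).hom) =
      Module.length (Y.presheaf.stalk (f x)) (Y.presheaf.stalk (f x) ⧸
        (maximalIdeal (Z.presheaf.stalk (g (f x)))).map (g.stalkMap (f x)).hom) *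
      Module.length (X.presheaf.stalk x) (X.presheaf.stalk x ⧸
        (maximalIdeal (Y.presheaf.stalk (f x))).map (f.stalkMap x).hom) := by
  let A := Y.presheaf.stalk (f x)
  let B := X.presheaf.stalk x
  algebraize [(f.stalkMap x).hom]
  have : Module.Flat A B := Flat.stalkMap f x
  have : IsLocalHom (algebraMap A B) := f.toLRSHom.prop x
  let J := (maximalIdeal (Z.presheaf.stalk (g (f x)))).map (g.stalkMap (f x)).hom
  refine Eq.trans ?_ (IsLocalRing.length_baseChange A B (A ⧸ J))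
  rw [← (Algebra.TensorProduct.quotIdealMapEquivTensorQuot B J).toLinearEquiv.length_eq]
  refine congrArg (fun I : Ideal B => Module.length B (B ⧸ I)) ?_
  refine Eq.trans ?_ (Ideal.map_map _ _).symm
  exact congrArg (fun φ : _ ⟶ X.presheaf.stalk x => Ideal.map φ.hom _) (Scheme.Hom.stalkMap_comp f g x)

theorem pullFun_comp (f : X ⟶ Y) [Flat f] (g : Y ⟶ Z) {δX : X → ℤ} {δY : Y → ℤ} {δZ : Z → ℤ}
    (hX : Cyc.IsDimFun X δX) (hY : Cyc.IsDimFun Y δY) {c c' : ℤ} (hf : ShiftAt f δX δY c')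
    (hg : ShiftAt g δY δZ c) (α : Z → ℤ) :
    ShiftAt (f ≫ g) δX δZ (c + c') ∧
    Cyc.pullFun (f ≫ g) δX δZ (c + c') α = Cyc.pullFun f δX δY c' (Cyc.pullFun g δY δZ c α) := by
  refine ⟨fun x h => ?_, funext fun x => ?_⟩
  · rw [hf x (fibre_max_left f g x h), hg (f x) (fibre_max_right f g x h), Scheme.Hom.comp_apply]
    ring
  · have h1 := (delta_le_of_shift f hX hf x).1
    have h2 := (delta_le_of_shift g hY hg (f x)).1
    unfold Cyc.pullFun
    by_cases h : δX x = δY (f x) + c' ∧ δY (f x) = δZ (g (f x)) + c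
    · rw [if_pos h.1, if_pos h.2, if_pos (by rw [Scheme.Hom.comp_apply]; omega), length_fibre_comp,
        ENat.toNat_mul, Nat.cast_mul, Scheme.Hom.comp_apply]
      ring
    · rw [if_neg (by rw [Scheme.Hom.comp_apply]; omega)]
      split_ifs with h3 h4
      · exact absurd ⟨h3, h4⟩ h
      · rw [zero_mul]
      · rfl

end Groth.Agent.Cyc90
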