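import Groth.Agent.Cyc90.C1Comm
import Groth.Agent.Cyc90.GysinBC

/-! The Gysin image of the divisor of a rational section. -/

set_option autoImplicit false
universe u

open CategoryTheory AlgebraicGeometry TopologicalSpace IsLocalRing Opposite

namespace Groth.Agent.Cyc90

open Var76.LineBundle

variable {X D : Scheme.{u}} {δ : X → ℤ}

/-- A family of divisors supported in a closed subscheme is a rational equivalence on it. -/
theorem ratEquivZero_restrict_famIn (hX : Cyc.IsSetup X δ) (i : D ⟶ X) [IsClosedImmersion i] {k : ℤ}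
    {F : X → ℤ} (h : RatFamIn δ k (Set.range i) F) (ρ : AlgebraicCycle D ℤ) (hρ : ∀ d, ρ d = F (i d)) :
    Cyc.RatEquivZero (fun d => δ (i d)) k ρ := by
  obtain ⟨ι, ξ, f, hk, hf, hmem, hlf, hsum⟩ := h
  obtain ⟨σ, hσ, hσd⟩ := exists_ratEquivZero_restrict i hX k ξ f hk hf hlf Set.univ (fun j _ => hmem j)
  have e : ρ = σ := DFunLike.ext _ _ fun d => by
    rw [hρ, hσd, hsum, ← finsum_mem_univ]
    exact (finsum_set_coe_eq_finsum_mem Set.univ (f := fun j => Cyc.divFun δ (ξ j) (f j) (i d))).symm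
  rwa [e]

/-- A section is a frame near a point where it does not vanish. -/
lemma exists_frame_of_ne_zero {L : X.Modules} (hL : PicF.IsInvertible L) (s : Γ(L, ⊤)) {ξ : X}
    (h : (Submodule.Quotient.mk (L.presheaf.germ ⊤ ξ trivial s) : Cyc.secFibre L ξ) ≠ 0) :
    ∃ W : X.Opens, ξ ∈ W ∧ IsFrame L W (res L le_top s) := by
  obtain ⟨U, hU, e, he⟩ := Mero90.exists_frame' hL ξ
  obtain ⟨c, hc⟩ := (he U le_rfl).2 (res L le_top s)
  dsimp only at hc
  rw [Amp73.res_self] at hc
  have hg : L.presheaf.germ ⊤ ξ trivial s =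
      X.presheaf.germ U ξ hU c • L.presheaf.germ U ξ hU e := by
    have := congrArg (L.presheaf.germ U ξ hU) hc
    rw [Mero.germ_smul, TopCat.Presheaf.germ_res_apply] at this
    exact this.symm
  have hcu : IsUnit (X.presheaf.germ U ξ hU c) := by
    by_contra hn
    exact h (by rw [hg]; exact (mk_smul_frame_eq_zero_iff he hU _).2 hn)
  refine ⟨X.basicOpen c, (X.mem_basicOpen c ξ hU).2 hcu, fun V hV => ?_⟩
  have hVU : V ≤ U := hV.trans (X.basicOpen_le c)
  have hu : IsUnit (X.presheaf.map (homOfLE hVU).op c) := by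
    have h0 : IsUnit (X.presheaf.map (homOfLE (X.basicOpen_le c)).op c) :=
      RingedSpace.isUnit_res_basicOpen _ c
    have := h0.map (X.presheaf.map (homOfLE hV).op).hom
    rwa [← ConcreteCategory.comp_apply, ← Functor.map_comp] at this
  have e1 : res L hV (res L le_top s) = X.presheaf.map (homOfLE hVU).op c • res L hVU e := by
    rw [res_res, ← res_smul, hc, res_res]
  have hcomp : (fun a : Γ(X, V) => a • res L hV (res L le_top s)) =
      (fun a : Γ(X, V) => a • res L hVU e) ∘ (fun a => a * X.presheaf.map (homOfLE hVU).op c) := by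
    funext a
    simp only [Function.comp_apply, e1, smul_smul]
  rw [hcomp]
  exact (he V hVU).comp (IsUnit.isUnit_iff_mulRight_bijective.1 hu)

variable [IsIntegral X]

/-- `i^* div_N(t) ∼ c₁(i^*N) ∩ [D]` for an effective Cartier divisor `D` on an integral scheme. -/
theorem gysin_secDiv (hX : Cyc.IsSetup X δ) {n : ℤ} (hn : δ (genericPoint X) = n) {L : X.Modules}
    (hL : PicF.IsInvertible L) (s : Γ(L, ⊤))
    (hs : (Submodule.Quotient.mk (L.presheaf.germ ⊤ (genericPoint X) trivial s) :
      Cyc.secFibre L (genericPoint X)) ≠ 0)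
    (i : D ⟶ X) [IsClosedImmersion i] (hD : Cyc.IsZeroSchemeOf i L s) {N : X.Modules}
    (hN : PicF.IsInvertible N) (t : Cyc.secFibre N (genericPoint X)) (ht : t ≠ 0)
    (w : (ξ : X) → Cyc.secFibre L ξ) (hw : ∀ ξ, w ξ ≠ 0)
    (u : (d : D) → Cyc.secFibre ((Scheme.Modules.pullback i).obj N) d) (hu : ∀ d, u d ≠ 0)
    (γ₁ γ₂ : AlgebraicCycle D ℤ)
    (h₁ : ∀ d : D, γ₁ d = Cyc.c1CapFun δ L (Cyc.secDivFun δ N (genericPoint X) t)
      (Cyc.gysinChoice L s w) (i d))
    (h₂ : ⇑γ₂ = Cyc.c1CapFun (fun d => δ (i d)) ((Scheme.Modules.pullback i).obj N)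
      (Cyc.subschemeFun (fun d => δ (i d)) (n - 1) (𝟙 D)) u) :
    Cyc.RatEquiv (fun d => δ (i d)) (n - 2) γ₁ γ₂ := by
  classical
  have := hX.1
  have hηD : genericPoint X ∉ Set.range i := fun h => hs (hD.1.le h)
  have hT : IsClosed (Set.range i) := i.isClosedEmbedding.isClosed_range
  -- frames, given by the section away from its zero scheme
  have hex : ∀ ξ : X, ∃ (U : X.Opens) (_ : ξ ∈ U) (e : Γ(L, U)), IsFrame L U e ∧
      (ξ ∉ Set.range i → e = res L le_top s) := fun ξ => by
    by_cases h : ξ ∈ Set.range i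
    · obtain ⟨U, hU, e, he⟩ := Mero90.exists_frame' hL ξ
      exact ⟨U, hU, e, he, fun h' => absurd h h'⟩
    · obtain ⟨W, hW, he⟩ := exists_frame_of_ne_zero hL s (ξ := ξ) fun h0 => h (hD.1.ge h0)
      exact ⟨W, hW, _, he, fun _ => rfl⟩
  choose UL hUL eL heL heq using hex
  choose UN hUN eN heN using fun ξ => Mero90.exists_frame' hN ξ
  let sη : Cyc.secFibre L (genericPoint X) :=
    Submodule.Quotient.mk (L.presheaf.germ ⊤ (genericPoint X) trivial s)
  have hres : ∀ (ξ y : X) (_ : ξ ∉ Set.range i) (hy : y ∈ UL ξ),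
      L.presheaf.germ (UL ξ) y hy (eL ξ) = L.presheaf.germ ⊤ y trivial s := fun ξ y hξ hy => by
    rw [heq ξ hξ]
    exact TopCat.Presheaf.germ_res_apply _ _ _ _ _
  have fam := ratFamIn_secDiv_comm hX hn hL hN sη hs t ht UL hUL eL heL UN hUN eN heN (Set.range i)
    (fun ξ hξ _ => Or.inl (by rw [hres ξ _ hξ]))
  let u' : (ξ : X) → Cyc.secFibre N ξ := fun ξ =>
    Submodule.Quotient.mk (N.presheaf.germ (UN ξ) ξ (hUN ξ) (eN ξ))
  let v' : (ξ : X) → Cyc.secFibre L ξ := fun ξ =>
    Submodule.Quotient.mk (L.presheaf.germ (UL ξ) ξ (hUL ξ) (eL ξ))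
  have hu' : ∀ ξ, u' ξ ≠ 0 := fun ξ => mk_germ_frame_ne_zero (heN ξ) (hUN ξ)
  have hv' : ∀ ξ, v' ξ ≠ 0 := fun ξ => mk_germ_frame_ne_zero (heL ξ) (hUL ξ)
  have hDs := isSetup_closedImmersion i hX
  have hNi := Amp73.isInvertible_pullback i hN
  let A : AlgebraicCycle X ℤ := ⟨Cyc.secDivFun δ L (genericPoint X) sη, by simp,
    fun x _ => secDivFun_locallyFinite hX hL _ _ hs x⟩
  let B : AlgebraicCycle X ℤ := ⟨Cyc.secDivFun δ N (genericPoint X) t, by simp,
    fun x _ => secDivFun_locallyFinite hX hN _ _ ht x⟩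
  obtain ⟨γ0, hγ0⟩ := exists_c1CapCycle hDs hNi (restrictClosed i A) (pullSec i hN u' hu')
    (pullSec_ne_zero i hN u' hu')
  obtain ⟨γB, hγB⟩ := exists_c1CapCycle hX hL B v' hv'
  -- the divisor of the section is the zero scheme
  have hA0 : ∀ x, x ∉ Set.range i → A x = 0 := fun x hx => by
    change Cyc.secDivFun δ L (genericPoint X) sη x = 0
    unfold Cyc.secDivFun
    split_ifs with h
    swap
    · rfl
    rw [secOrdAt_eq L hX h.1 h.2 sη hs _ (span_germ_frame (heL x) (hUL x)) 1 (by
      rw [one_smul, TopCat.Presheaf.germ_stalkSpecializes_apply, hres x _ hx]), map_one]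
    exact ordAt_one hX h.1 h.2
  have hmA : ⇑(AlgebraicCycle.map i (fun d => δ (i d)) δ (restrictClosed i A)) = ⇑A := by
    funext x
    by_cases hx : x ∈ Set.range i
    · obtain ⟨d, rfl⟩ := hx
      rw [map_closedImmersion_image, restrictClosed_apply]
    · rw [map_closedImmersion_notMem i δ _ hx, hA0 x hx]
  have hsub : Cyc.subschemeFun (fun d => δ (i d)) (n - 1) (𝟙 D) = ⇑(restrictClosed i A) := by
    funext d
    rw [restrictClosed_apply, Cyc.subschemeFun]
    change _ = Cyc.secDivFun δ L (genericPoint X) sη (i d)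
    dsimp only
    rw [show {z : D | (𝟙 D : D ⟶ D) z = d} = {d} from Set.ext fun z => Iff.rfl, finsum_mem_singleton]
    unfold Cyc.secDivFun
    by_cases hd : δ (i d) + 1 = δ (genericPoint X)
    swap
    · rw [if_neg (fun h => hd (by omega)), dif_neg fun h => hd h.2]
    rw [if_pos (by omega), dif_pos ⟨gen_specializes _, hd⟩]
    obtain ⟨g, f, hg, hsg, hker⟩ := hD.2 d
    have hspec : sη = (show X.presheaf.stalk (genericPoint X) from
        X.presheaf.stalkSpecializes (gen_specializes (i d)) f) •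
        (Submodule.Quotient.mk ((L.presheaf.stalkSpecializes (gen_specializes (i d))) g) :
          Cyc.secFibre L (genericPoint X)) := by
      rw [← Submodule.Quotient.mk_smul, ← stalkSpecializes_smul, ← hsg]
      exact congrArg _ (TopCat.Presheaf.germ_stalkSpecializes_apply L.presheaf (U := ⊤) trivial _ s).symm
    rw [secOrdAt_eq L hX (gen_specializes (i d)) hd sη hs g hg _ hspec]
    have hne : Cyc.specMap (i d) (genericPoint X) (gen_specializes (i d)) f ≠ 0 :=
      fun h0 => hs (by rw [show Submodule.Quotient.mk _ = sη from rfl, hspec]; exact smul_mk_eq_zero L h0 _)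
    change _ = Cyc.ordAt (i d) (genericPoint X) (gen_specializes (i d))
      (Cyc.specMap (i d) (genericPoint X) (gen_specializes (i d)) f)
    have h1 := dim_one_of_delta hX hd
    rw [ordAt_generic (i d) h1.le _ hne]
    let := (Cyc.specMap (i d) (genericPoint X) (gen_specializes (i d))).toAlgebra
    have := isFractionRing_specMap (i d)
    have := krullDimLE_one h1.le
    have hf0 : f ≠ 0 := fun h => hne (by rw [h, map_zero])
    refine Eq.trans ?_ (Len90.ordFrac_algebraMap (K := X.residueField (genericPoint X)) f hf0).symm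
    have hl : Module.length (D.presheaf.stalk d) (D.presheaf.stalk d) =
        Ring.ord (X.presheaf.stalk (i d)) f := by
      let e := (Ideal.quotEquivOfEq hker.symm).trans
        (RingHom.quotientKerEquivOfSurjective (i.stalkMap_surjective d))
      refine (length_eq_of_semilinear (i.stalkMap d).hom (i.stalkMap_surjective d) e.toAddEquiv
        fun a m => ?_).symm
      obtain ⟨m, rfl⟩ := Ideal.Quotient.mk_surjective m
      change e (Ideal.Quotient.mk _ (a * m)) = _
      rw [map_mul, map_mul]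
      rfl
    rw [hl]
  have hmap := map_c1Cap hDs hX i (deltaCompat_preimmersion i δ) hN (restrictClosed i A) u' hu' γ0 hγ0
  rw [hmA] at hmap
  have hAZ : restrictClosed i A ∈ Cyc.Zk D (fun d => δ (i d)) (n - 2 + 1) := fun d hd => by
    rw [← hsub, Cyc.subschemeFun]
    exact if_neg fun h => hd (by linarith)
  have r2 : Cyc.RatEquiv (fun d => δ (i d)) (n - 2) γ0 γ₂ :=
    ratEquiv_of_c1CapFun hDs hNi (n - 2) (restrictClosed i A) hAZ _ u
      (fun d _ => pullSec_ne_zero i hN u' hu' d) (fun d _ => hu d) γ0 γ₂ hγ0 (by rw [h₂, hsub])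
  have r1 : Cyc.RatEquiv (fun d => δ (i d)) (n - 2) γ₁ (restrictClosed i γB) := by
    refine ratEquiv_restrict_c1Cap hX i hL (n - 2) B (fun x hx => ?_) (Cyc.gysinChoice L s w) v'
      (gysinChoice_ne_zero s w hw) hv' (fun ξ hξ x => ?_) γ₁ _ h₁ (fun d => congrFun hγB _)
    · exact dif_neg fun h => hx (by omega)
    · rw [gysinChoice_of_notMem hD w hξ]
      simp only [v', hres ξ ξ hξ]
  have r3 : Cyc.RatEquiv (fun d => δ (i d)) (n - 2) γ0 (restrictClosed i γB) := by
    refine ratEquivZero_restrict_famIn hX i fam _ fun d => ?_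
    rw [Function.locallyFinsuppWithin.coe_sub, Pi.sub_apply, restrictClosed_apply, hγB,
      ← map_closedImmersion_image i δ γ0 d, hmap]
    rfl
  exact ratEquiv_trans r1 (ratEquiv_trans (ratEquiv_symm hDs r3) r2)

end Groth.Agent.Cyc90
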