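import Groth.Agent.Cyc90.C1Pull

/-! Zero schemes of sections of invertible modules: base change and uniqueness up to units. -/

set_option autoImplicit false
universe u

open CategoryTheory CategoryTheory.Limits AlgebraicGeometry TopologicalSpace IsLocalRing Opposite

namespace Groth.Agent.Cyc90

open Var76.LineBundle

variable {X Y W D : Scheme.{u}}

/-- The ideal of a closed base change is generated by the pullback of a local equation. -/
lemma ker_fst_stalkMap_eq (f : X ⟶ Y) (j : W ⟶ Y) [IsClosedImmersion j] (p : ↑(pullback f j))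
    (U : Y.Opens) (c : Γ(Y, U)) (hU : f (pullback.fst f j p) ∈ U) (hU' : j (pullback.snd f j p) ∈ U)
    (hker : RingHom.ker (j.stalkMap (pullback.snd f j p)).hom =
      Ideal.span {Y.presheaf.germ U (j (pullback.snd f j p)) hU' c}) :
    RingHom.ker ((pullback.fst f j).stalkMap p).hom =
      Ideal.span {X.presheaf.germ (f ⁻¹ᵁ U) (pullback.fst f j p) hU (f.app U c)} := by
  set x := pullback.fst f j p with hx
  set w := pullback.snd f j p with hw0
  have hw : j w = f x := congrArg (fun k : pullback f j ⟶ Y => k p) pullback.condition.symm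
  have hfa : X.presheaf.germ (f ⁻¹ᵁ U) x hU (f.app U c) = f.stalkMap x (Y.presheaf.germ U (f x) hU c) :=
    (Scheme.Hom.germ_stalkMap_apply f U x hU c).symm
  refine le_antisymm ?_ ((Ideal.span_singleton_le_iff_mem _).2 (RingHom.mem_ker.2 ?_))
  swap
  · have hindep : ∀ g g' : pullback f j ⟶ Y, g = g' → ∀ (h : g p ∈ U) (h' : g' p ∈ U),
        g.stalkMap p (Y.presheaf.germ U (g p) h c) = g'.stalkMap p (Y.presheaf.germ U (g' p) h' c) := by
      rintro g _ rfl h h'; rfl
    have h := hindep _ _ (pullback.condition (f := f) (g := j)) hU hU'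
    rw [Scheme.Hom.stalkMap_comp, Scheme.Hom.stalkMap_comp] at h
    rw [hfa]
    refine h.trans ?_
    change ((pullback.snd f j).stalkMap p).hom ((j.stalkMap w).hom (Y.presheaf.germ U (j w) hU' c)) = 0
    rw [RingHom.mem_ker.1 (hker.ge (Ideal.mem_span_singleton_self _)), map_zero]
  let J : Ideal (X.presheaf.stalk x) := Ideal.span {X.presheaf.germ (f ⁻¹ᵁ U) x hU (f.app U c)}
  let τ : Y.presheaf.stalk (j w) ⟶ Y.presheaf.stalk (f x) := Y.presheaf.stalkSpecializes (specializes_of_eq hw.symm)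
  have hτ : τ (Y.presheaf.germ U (j w) hU' c) = Y.presheaf.germ U (f x) hU c :=
    TopCat.Presheaf.germ_stalkSpecializes_apply Y.presheaf hU' (specializes_of_eq hw.symm) c
  have hnu : ¬ IsUnit (Y.presheaf.germ U (j w) hU' c) := fun hu => by
    have h1 := hu.map (j.stalkMap w).hom
    rw [RingHom.mem_ker.1 (hker.ge (Ideal.mem_span_singleton_self _))] at h1
    exact not_isUnit_zero h1
  have hnu2 : ¬ IsUnit (Y.presheaf.germ U (f x) hU c) := fun hu => by
    refine hnu ?_
    have h1 := hu.map (Y.presheaf.stalkSpecializes (specializes_of_eq hw)).hom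
    change IsUnit ((Y.presheaf.stalkSpecializes (specializes_of_eq hw)) _) at h1
    rwa [TopCat.Presheaf.germ_stalkSpecializes_apply] at h1
  have hJ : J ≤ maximalIdeal _ := (Ideal.span_singleton_le_iff_mem _).2 (by
    rw [hfa, mem_maximalIdeal, mem_nonunits_iff]
    exact fun hu => hnu2 ((f.toLRSHom.prop x).map_nonunit _ hu))
  have : Nontrivial (X.presheaf.stalk x ⧸ J) :=
    Ideal.Quotient.nontrivial_iff.2 (ne_top_of_le_ne_top (maximalIdeal.isMaximal _).ne_top hJ)
  have : IsLocalRing (X.presheaf.stalk x ⧸ J) :=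
    IsLocalRing.of_surjective' _ Ideal.Quotient.mk_surjective
  let R := CommRingCat.of (X.presheaf.stalk x ⧸ J)
  let q : X.presheaf.stalk x ⟶ R := CommRingCat.ofHom (Ideal.Quotient.mk J)
  have : IsLocalHom q.hom :=
    IsLocalHom.of_surjective (Ideal.Quotient.mk J) Ideal.Quotient.mk_surjective
  let ψ₀ : Y.presheaf.stalk (j w) →+* R := (q.hom.comp (f.stalkMap x).hom).comp τ.hom
  have hψ₀ : RingHom.ker (j.stalkMap w).hom ≤ RingHom.ker ψ₀ := by
    rw [hker, Ideal.span_singleton_le_iff_mem, RingHom.mem_ker]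
    change q (f.stalkMap x (τ (Y.presheaf.germ U (j w) hU' c))) = 0
    rw [hτ, ← hfa]
    exact Ideal.Quotient.eq_zero_iff_mem.2 (Ideal.mem_span_singleton_self _)
  let φ : W.presheaf.stalk w ⟶ R := CommRingCat.ofHom
    (RingHom.liftOfSurjective (j.stalkMap w).hom (j.stalkMap_surjective w) ⟨ψ₀, hψ₀⟩)
  have hφ : j.stalkMap w ≫ φ = τ ≫ f.stalkMap x ≫ q := CommRingCat.hom_ext (RingHom.ext fun b =>
    RingHom.liftOfRightInverse_comp_apply (j.stalkMap w).hom _
      (Function.rightInverse_surjInv (j.stalkMap_surjective w)) ⟨ψ₀, hψ₀⟩ b)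
  have hcomm : (Spec.map q ≫ X.fromSpecStalk x) ≫ f = (Spec.map φ ≫ W.fromSpecStalk w) ≫ j := by
    rw [Category.assoc, Category.assoc, ← Scheme.SpecMap_stalkMap_fromSpecStalk,
      ← Scheme.SpecMap_stalkMap_fromSpecStalk, ← Spec.map_comp_assoc, ← Spec.map_comp_assoc, hφ,
      Spec.map_comp τ, Category.assoc, Scheme.SpecMap_stalkSpecializes_fromSpecStalk]
  let l := pullback.lift _ _ hcomm
  have hl : l ≫ pullback.fst f j = Spec.map q ≫ X.fromSpecStalk x := pullback.lift_fst _ _ _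
  have hcp : l (closedPoint R) = p := by
    refine (pullback.fst f j).isClosedEmbedding.injective ?_
    refine (congrArg (fun k : Spec R ⟶ X => k (closedPoint R)) hl).trans ?_
    change X.fromSpecStalk x (Spec.map q (closedPoint R)) = x
    rw [show Spec.map q (closedPoint R) = closedPoint (X.presheaf.stalk x) from
      IsLocalRing.comap_closedPoint q.hom, Scheme.fromSpecStalk_closedPoint]
  obtain ⟨ψ, hψ⟩ : ∃ ψ : (pullback f j).presheaf.stalk p ⟶ R,
      l = Spec.map ψ ≫ (pullback f j).fromSpecStalk p :=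
    hcp ▸ ⟨_, (Scheme.Spec_stalkClosedPointTo_fromSpecStalk l).symm⟩
  have hq : (pullback.fst f j).stalkMap p ≫ ψ = q := by
    refine Spec.map_injective ((cancel_mono (X.fromSpecStalk x)).1 ?_)
    rw [Spec.map_comp, Category.assoc, Scheme.SpecMap_stalkMap_fromSpecStalk, ← hl, hψ, Category.assoc]
  intro a ha
  refine Ideal.Quotient.eq_zero_iff_mem.1 ?_
  have := congr($(hq).hom a)
  exact this.symm.trans ((congrArg ψ.hom (RingHom.mem_ker.1 ha)).trans (map_zero _))

variable {L : Y.Modules}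

lemma mk_smul_frame_eq_zero_iff {M : X.Modules} {U : X.Opens} {e : Γ(M, U)} (he : IsFrame M U e) {y : X}
    (hy : y ∈ U) (a : X.presheaf.stalk y) :
    (Submodule.Quotient.mk (a • M.presheaf.germ U y hy e) : Cyc.secFibre M y) = 0 ↔ ¬ IsUnit a := by
  rw [Submodule.Quotient.mk_smul]
  refine ⟨fun h hu => mk_germ_frame_ne_zero he hy (hu.smul_eq_zero.1 h), fun h => ?_⟩
  exact smul_mk_eq_zero M ((IsLocalRing.residue_eq_zero_iff a).2 h) _

/-- A coefficient of a global section in a frame. -/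
lemma exists_coeff {M : X.Modules} {U : X.Opens} {e : Γ(M, U)} (he : IsFrame M U e) (s : Γ(M, ⊤)) :
    ∃ c : Γ(X, U), ∀ (y : X) (hy : y ∈ U), M.presheaf.germ ⊤ y trivial s =
      X.presheaf.germ U y hy c • M.presheaf.germ U y hy e := by
  obtain ⟨c, hc⟩ := (he U le_rfl).2 (res M le_top s)
  refine ⟨c, fun y hy => ?_⟩
  have := congrArg (M.presheaf.germ U y hy) hc
  dsimp only at this
  rw [Mero.germ_smul, TopCat.Presheaf.germ_res_apply, TopCat.Presheaf.germ_res_apply] at this
  exact this.symm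

lemma span_eq_of_smul_eq {R M : Type*} [CommRing R] [AddCommGroup M] [Module R M] {t g : M}
    (ht : Submodule.span R {t} = ⊤) (hg : Function.Bijective fun a : R => a • g) {f a : R}
    (h : f • t = a • g) : Ideal.span {f} = Ideal.span ({a} : Set R) := by
  obtain ⟨u, hu⟩ := hg.2 t
  obtain ⟨b, hb⟩ := Submodule.mem_span_singleton.1 (ht.ge (Submodule.mem_top (x := g)))
  dsimp only at hu
  have h1 : b * u = 1 := hg.1 (show (b * u) • g = (1 : R) • g by rw [mul_smul, hu, hb, one_smul])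
  have h2 : f * u = a := hg.1 (show (f * u) • g = a • g by rw [mul_smul, hu, h])
  rw [← h2, Ideal.span_singleton_mul_right_unit (IsUnit.of_mul_eq_one _ (by rw [mul_comm]; exact h1))]

lemma ker_of_isZeroSchemeOf {i : D ⟶ X} {M : X.Modules} {s : Γ(M, ⊤)} (hD : Cyc.IsZeroSchemeOf i M s)
    {U : X.Opens} {e : Γ(M, U)} (he : IsFrame M U e) {c : Γ(X, U)}
    (hc : ∀ (y : X) (hy : y ∈ U), M.presheaf.germ ⊤ y trivial s =
      X.presheaf.germ U y hy c • M.presheaf.germ U y hy e) (d : D) (hd : i d ∈ U) :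
    RingHom.ker (i.stalkMap d).hom = Ideal.span {X.presheaf.germ U (i d) hd c} := by
  obtain ⟨t, f, ht, hst, hk⟩ := hD.2 d
  rw [hk]
  exact span_eq_of_smul_eq ht (Mero90.isGen_germ he ⟨i d, hd⟩) (hst.symm.trans (hc (i d) hd))

lemma germ_pullS (f : X ⟶ Y) (U : Y.Opens) (e : Γ(L, U)) (s : Γ(L, ⊤)) (c : Γ(Y, U))
    (hc : c • e = res L le_top s) (x : X) (hx : x ∈ f ⁻¹ᵁ U) :
    ((Scheme.Modules.pullback f).obj L).presheaf.germ ⊤ x trivial (Amp73.pullS f L ⊤ s) =
      X.presheaf.germ (f ⁻¹ᵁ U) x hx (f.app U c) •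
        ((Scheme.Modules.pullback f).obj L).presheaf.germ (f ⁻¹ᵁ U) x hx (Amp73.pullS f L U e) := by
  have h := congrArg (Amp73.pullS f L U) hc
  rw [Amp73.pullS_smul, ← Amp73.res_pullS f L le_top s] at h
  have := congrArg (((Scheme.Modules.pullback f).obj L).presheaf.germ (f ⁻¹ᵁ U) x hx) h
  erw [Mero.germ_smul, TopCat.Presheaf.germ_res_apply] at this
  exact this.symm

/-- The zero scheme of a pulled back section. -/
theorem isZeroSchemeOf_pullback (f : X ⟶ Y) (hL : PicF.IsInvertible L) {s : Γ(L, ⊤)} {i : D ⟶ Y}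
    [IsClosedImmersion i] (hD : Cyc.IsZeroSchemeOf i L s) :
    Cyc.IsZeroSchemeOf (pullback.fst f i) ((Scheme.Modules.pullback f).obj L) (Amp73.pullS f L ⊤ s) := by
  refine ⟨?_, fun p => ?_⟩
  · rw [Scheme.Pullback.range_fst, hD.1]
    ext x
    obtain ⟨U, hU, e, he⟩ := Mero90.exists_frame' hL (f x)
    obtain ⟨c, hc⟩ := (he U le_rfl).2 (res L le_top s)
    dsimp only at hc
    rw [Amp73.res_self] at hc
    have hg : L.presheaf.germ ⊤ (f x) trivial s =
        Y.presheaf.germ U (f x) hU c • L.presheaf.germ U (f x) hU e := by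
      have := congrArg (L.presheaf.germ U (f x) hU) hc
      rw [Mero.germ_smul, TopCat.Presheaf.germ_res_apply] at this
      exact this.symm
    change (Submodule.Quotient.mk (L.presheaf.germ ⊤ (f x) trivial s) : Cyc.secFibre L (f x)) = 0 ↔
      (Submodule.Quotient.mk (((Scheme.Modules.pullback f).obj L).presheaf.germ ⊤ x trivial
        (Amp73.pullS f L ⊤ s)) : Cyc.secFibre ((Scheme.Modules.pullback f).obj L) x) = 0
    rw [hg, germ_pullS f U e s c hc x hU, mk_smul_frame_eq_zero_iff he]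
    erw [mk_smul_frame_eq_zero_iff (Props58.PullTensor.isFrame_pullS f he),
      ← Scheme.Hom.germ_stalkMap_apply f U x hU c]
    exact not_congr ⟨fun h => h.map _, fun h => (f.toLRSHom.prop x).map_nonunit _ h⟩
  · obtain ⟨U, hU, e, he⟩ := Mero90.exists_frame' hL (f (pullback.fst f i p))
    obtain ⟨c, hc⟩ := (he U le_rfl).2 (res L le_top s)
    dsimp only at hc
    rw [Amp73.res_self] at hc
    have hU' : i (pullback.snd f i p) ∈ U := by
      rw [show i (pullback.snd f i p) = f (pullback.fst f i p) from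
        congrArg (fun k : pullback f i ⟶ Y => k p) pullback.condition.symm]
      exact hU
    refine ⟨_, _, span_germ_frame (Props58.PullTensor.isFrame_pullS f he) hU,
      germ_pullS f U e s c hc _ hU,
      ker_fst_stalkMap_eq f i p U c hU hU' (ker_of_isZeroSchemeOf hD he (fun y hy => ?_) _ hU')⟩
    have := congrArg (L.presheaf.germ U y hy) hc
    rw [Mero.germ_smul, TopCat.Presheaf.germ_res_apply] at this
    exact this.symm

/-- Sections with the same zero scheme have the same divisors off the zero scheme. -/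
theorem secDivFun_eq_of_zeroScheme {δ : X → ℤ} (hX : Cyc.IsSetup X δ) {M : X.Modules}
    (hM : PicF.IsInvertible M) {i : D ⟶ X} {s s' : Γ(M, ⊤)} (hs : Cyc.IsZeroSchemeOf i M s)
    (hs' : Cyc.IsZeroSchemeOf i M s') {ξ : X} (hξ : ξ ∉ Set.range i) (x : X) :
    Cyc.secDivFun δ M ξ (Submodule.Quotient.mk (M.presheaf.germ ⊤ ξ trivial s)) x =
      Cyc.secDivFun δ M ξ (Submodule.Quotient.mk (M.presheaf.germ ⊤ ξ trivial s')) x := by
  unfold Cyc.secDivFun
  split_ifs with h
  swap
  · rfl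
  obtain ⟨U, hU, e, he⟩ := Mero90.exists_frame' hM x
  have hξU : ξ ∈ U := h.1.mem_open U.2 hU
  obtain ⟨c, hc⟩ := exists_coeff he s
  obtain ⟨c', hc'⟩ := exists_coeff he s'
  have hz : ∀ {s : Γ(M, ⊤)} {c : Γ(X, U)}, Cyc.IsZeroSchemeOf i M s →
      (∀ (y : X) (hy : y ∈ U), M.presheaf.germ ⊤ y trivial s =
        X.presheaf.germ U y hy c • M.presheaf.germ U y hy e) →
      ∀ (y : X) (hy : y ∈ U), y ∈ Set.range i ↔ ¬ IsUnit (X.presheaf.germ U y hy c) := by
    intro s c hs hc y hy
    rw [hs.1, ← mk_smul_frame_eq_zero_iff he hy (X.presheaf.germ U y hy c), ← hc y hy]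
    rfl
  have hne : ∀ {s : Γ(M, ⊤)}, Cyc.IsZeroSchemeOf i M s →
      (Submodule.Quotient.mk (M.presheaf.germ ⊤ ξ trivial s) : Cyc.secFibre M ξ) ≠ 0 :=
    fun hs h0 => hξ (hs.1.ge h0)
  have hu : ∃ u : X.presheaf.stalk x, IsUnit u ∧
      X.presheaf.germ U x hU c = X.presheaf.germ U x hU c' * u := by
    by_cases hxi : x ∈ Set.range i
    · obtain ⟨d, rfl⟩ := hxi
      have h1 := (ker_of_isZeroSchemeOf hs he hc d hU).symm.trans (ker_of_isZeroSchemeOf hs' he hc' d hU)
      obtain ⟨u, hu⟩ := Ideal.mem_span_singleton.1 (h1.le (Ideal.mem_span_singleton_self _))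
      obtain ⟨w, hw⟩ := Ideal.mem_span_singleton.1 (h1.ge (Ideal.mem_span_singleton_self _))
      by_cases huu : IsUnit u
      · exact ⟨u, huu, hu⟩
      refine ⟨1, isUnit_one, ?_⟩
      have hx0 : (1 - u * w) * X.presheaf.germ U (i d) hU c' = 0 := by
        rw [sub_mul, one_mul, sub_eq_zero]
        exact (hw.trans (congrArg (· * w) hu)).trans (by ring)
      have : IsUnit (1 - u * w) := IsLocalRing.isUnit_one_sub_self_of_mem_nonunits _
        fun hh => huu (isUnit_of_mul_isUnit_left hh)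
      rw [this.mul_right_eq_zero] at hx0
      rw [hu, hx0, zero_mul, zero_mul]
    · have h1 : IsUnit (X.presheaf.germ U x hU c) := not_not.1 fun hh => hxi ((hz hs hc x hU).2 hh)
      have h2 : IsUnit (X.presheaf.germ U x hU c') := not_not.1 fun hh => hxi ((hz hs' hc' x hU).2 hh)
      exact ⟨↑h2.unit⁻¹ * X.presheaf.germ U x hU c, (Units.isUnit _).mul h1, by
        rw [← mul_assoc, IsUnit.mul_val_inv, one_mul]⟩
  obtain ⟨u, hu, hcu⟩ := hu
  have key : ∀ {s : Γ(M, ⊤)} {c : Γ(X, U)}, Cyc.IsZeroSchemeOf i M s →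
      (∀ (y : X) (hy : y ∈ U), M.presheaf.germ ⊤ y trivial s =
        X.presheaf.germ U y hy c • M.presheaf.germ U y hy e) →
      Cyc.secOrdAt M ξ x h.1 (Submodule.Quotient.mk (M.presheaf.germ ⊤ ξ trivial s)) =
        Cyc.ordAt x ξ h.1 (Cyc.specMap x ξ h.1 (X.presheaf.germ U x hU c)) := by
    intro s c hs hc
    rw [secOrdAt_eq M hX h.1 h.2 _ (hne hs) _ (span_germ_frame he hU)
      (X.presheaf.germ U ξ hξU c) (by
        rw [TopCat.Presheaf.germ_stalkSpecializes_apply, hc ξ hξU, Submodule.Quotient.mk_smul])]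
    congr 1
    exact congrArg (X.residue ξ) (TopCat.Presheaf.germ_stalkSpecializes_apply X.presheaf hU h.1 c).symm
  rw [key hs hc, key hs' hc', hcu, map_mul, ordAt_mul_unit hX h.1 h.2 _ ?_ u hu]
  intro h0
  refine hξ ((hz hs' hc' ξ hξU).2 fun hh => ?_)
  have e1 : Cyc.specMap x ξ h.1 (X.presheaf.germ U x hU c') = X.residue ξ (X.presheaf.germ U ξ hξU c') :=
    congrArg (X.residue ξ) (TopCat.Presheaf.germ_stalkSpecializes_apply X.presheaf hU h.1 c')
  exact (IsLocalRing.residue_ne_zero_iff_isUnit _).2 hh (e1.symm.trans h0)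

end Groth.Agent.Cyc90
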