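import Groth.Agent.Cyc90.CohMult
import Groth.Agent.Cyc90.FlatPull
import Groth.Agent.Cyc90.FlatFinAlg
import Groth.Agent.Cyc90.ZeroPull
import Groth.Agent.Cyc90.GysinKey
import Groth.Agent.EtAlg23.GlueFlat
import Mathlib.LinearAlgebra.TensorProduct.Quotient
import Mathlib.AlgebraicGeometry.Morphisms.Flat

/-! The Gysin map of a relative effective divisor and flat pullback. -/

set_option autoImplicit false
set_option backward.isDefEq.respectTransparency.types false
set_option linter.style.haveILetI false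
universe u

open CategoryTheory CategoryTheory.Limits AlgebraicGeometry TopologicalSpace IsLocalRing
open scoped TensorProduct

namespace Groth.Agent.Cyc90

/-- A nonzerodivisor with flat quotient stays one on the fibres. -/
lemma mem_map_of_mul_mem_map {A B : Type u} [CommRing A] [CommRing B] [Algebra A B] (a : B)
    (hinj : Function.Injective fun b : B => b * a) (hflat : Module.Flat A (B ⧸ Ideal.span {a}))
    (m : Ideal A) {b : B} (h : a * b ∈ m.map (algebraMap A B)) : b ∈ m.map (algebraMap A B) := by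
  let μ : B →ₗ[A] B := LinearMap.mulLeft A a
  let π : B →ₗ[A] B ⧸ Ideal.span {a} := (Ideal.Quotient.mkₐ A _).toLinearMap
  have hex : Function.Exact μ π := fun c => by
    change Ideal.Quotient.mk _ c = 0 ↔ _
    rw [Ideal.Quotient.eq_zero_iff_mem, Ideal.mem_span_singleton']
    exact ⟨fun ⟨e, he⟩ => ⟨e, (mul_comm a e).trans he⟩, fun ⟨e, he⟩ => ⟨e, (mul_comm e a).trans he⟩⟩
  have hμ : Function.Injective μ := fun c e he =>
    hinj ((mul_comm c a).trans ((show a * c = a * e from he).trans (mul_comm a e)))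
  have key := EtAlg23.rTensor_injective_of_flat_quotient hex
    (Ideal.Quotient.mk_surjective (I := Ideal.span {a})) hμ (A ⧸ m)
  have hzero : ∀ c : B, c ⊗ₜ[A] (Ideal.Quotient.mk m 1) = 0 ↔ c ∈ m.map (algebraMap A B) := fun c => by
    rw [← map_eq_zero_iff (TensorProduct.tensorQuotEquivQuotSMul B m)
      (TensorProduct.tensorQuotEquivQuotSMul B m).injective,
      TensorProduct.tensorQuotEquivQuotSMul_tmul_mk, one_smul, Submodule.Quotient.mk_eq_zero,
      Ideal.smul_top_eq_map]
    rfl
  refine (hzero b).1 (key ?_)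
  rw [LinearMap.rTensor_tmul, map_zero]
  exact (hzero _).2 h

/-- The cokernel of a multiplication on a quotient ring. -/
lemma coker_lsmul_quot {B : Type u} [CommRing B] (J : Ideal B) (a : B) :
    Len90.coker (LinearMap.lsmul B (B ⧸ J) a) = Module.length B (B ⧸ (J ⊔ Ideal.span {a})) := by
  refine ((Submodule.quotEquivOfEq _ _ ?_).trans
    (Submodule.quotientQuotientEquivQuotient J _ le_sup_left)).length_eq
  ext x
  obtain ⟨y, rfl⟩ := Ideal.Quotient.mk_surjective x
  constructor
  · rintro ⟨z, hz⟩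
    obtain ⟨z, rfl⟩ := Ideal.Quotient.mk_surjective z
    exact ⟨a * z, Submodule.mem_sup_right (Ideal.mem_span_singleton.mpr (dvd_mul_right a z)), hz⟩
  · rintro ⟨z, hz, hzy⟩
    obtain ⟨u, hu, v, hv, rfl⟩ := Submodule.mem_sup.mp hz
    obtain ⟨w, rfl⟩ := Ideal.mem_span_singleton.mp hv
    refine ⟨Ideal.Quotient.mk _ w, ?_⟩
    rw [← hzy, LinearMap.lsmul_apply]
    refine Ideal.Quotient.eq.mpr ?_
    have : a • w - (u + a * w) = -u := by simp
    rw [this]
    exact neg_mem hu

/-- Quotients of a surjective image. -/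
lemma length_quot_map_of_surjective {B C : Type u} [CommRing B] [CommRing C] (f : B →+* C)
    (hf : Function.Surjective f) (J : Ideal B) :
    Module.length C (C ⧸ J.map f) = Module.length B (B ⧸ (J ⊔ RingHom.ker f)) := by
  let g : B →+* C ⧸ J.map f := (Ideal.Quotient.mk (J.map f)).comp f
  have hg : Function.Surjective g := Ideal.Quotient.mk_surjective.comp hf
  have hker : J ⊔ RingHom.ker f = RingHom.ker g := by
    rw [← RingHom.comap_ker, Ideal.mk_ker, Ideal.comap_map_of_surjective f hf, ← RingHom.ker_eq_comap_bot]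
  let e := (Ideal.quotEquivOfEq hker).trans (RingHom.quotientKerEquivOfSurjective hg)
  refine (length_eq_of_semilinear f hf e.toAddEquiv fun r q => ?_).symm
  obtain ⟨q, rfl⟩ := Ideal.Quotient.mk_surjective q
  exact map_mul g r q

variable {X Y D : Scheme.{u}}

lemma map_maximalIdeal_stalkSpecializes {y y' : Y} (e : y' = y) (h : y' ⤳ y) :
    (maximalIdeal (Y.presheaf.stalk y)).map (Y.presheaf.stalkSpecializes h).hom =
      maximalIdeal (Y.presheaf.stalk y') := by
  subst e
  rw [TopCat.Presheaf.stalkSpecializes_refl]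
  exact Ideal.map_id _

/-- The ideal of the fibre is compatible with generization inside the fibre. -/
lemma map_fibreIdeal (p : X ⟶ Y) {z x : X} (h : z ⤳ x) (e : p z = p x) :
    ((maximalIdeal (Y.presheaf.stalk (p x))).map (p.stalkMap x).hom).map (X.presheaf.stalkSpecializes h).hom =
      (maximalIdeal (Y.presheaf.stalk (p z))).map (p.stalkMap z).hom := by
  rw [← map_maximalIdeal_stalkSpecializes e (h.map p.continuous), Ideal.map_map, Ideal.map_map]
  exact congrArg (fun φ => Ideal.map φ (maximalIdeal (Y.presheaf.stalk (p x))))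
    (congrArg CommRingCat.Hom.hom (Scheme.Hom.stalkSpecializes_stalkMap p z x h)).symm

/-- A generization containing the ideal of the fibre stays in the fibre. -/
lemma eq_of_fibreIdeal_le (p : X ⟶ Y) {z x : X} (h : z ⤳ x)
    (hle : (maximalIdeal (Y.presheaf.stalk (p x))).map (p.stalkMap x).hom ≤ (genPrime h).asIdeal) :
    p z = p x := by
  refine (genPrime_eq_iff (h.map p.continuous) (specializes_refl _)).1 ?_
  rw [genPrime_refl]
  refine PrimeSpectrum.ext ((maximalIdeal.isMaximal _).eq_of_le (genPrime _).2.ne_top fun r hr => ?_).symm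
  have h1 : X.presheaf.stalkSpecializes h ((p.stalkMap x).hom r) ∈ maximalIdeal (X.presheaf.stalk z) :=
    hle (Ideal.mem_map_of_mem _ hr)
  have h2 : (p.stalkMap z).hom (Y.presheaf.stalkSpecializes (h.map p.continuous) r) ∈
      maximalIdeal (X.presheaf.stalk z) :=
    (congr($(Scheme.Hom.stalkSpecializes_stalkMap p z x h).hom r)) ▸ h1
  change Y.presheaf.stalkSpecializes (h.map p.continuous) r ∈ maximalIdeal (Y.presheaf.stalk (p z))
  exact (mem_maximalIdeal _).2 fun hu => (mem_maximalIdeal _).1 h2 (hu.map _)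

/-- The local length of a quotient of a local ring at a generization. -/
lemma locLen_quot_genPrime {z x : X} (h : z ⤳ x) (I : Ideal (X.presheaf.stalk x)) :
    Len90.locLen (genPrime h).asIdeal (X.presheaf.stalk x ⧸ I) =
      Module.length (X.presheaf.stalk z)
        (X.presheaf.stalk z ⧸ I.map (X.presheaf.stalkSpecializes h).hom) := by
  letI := (X.presheaf.stalkSpecializes h).hom.toAlgebra
  haveI := isLocalization_genPrime h
  let P := (genPrime h).asIdeal
  let e : Localization.AtPrime P ≃+* X.presheaf.stalk z :=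
    (IsLocalization.algEquiv P.primeCompl (Localization.AtPrime P) (X.presheaf.stalk z)).toRingEquiv
  rw [locLen_quot, ← length_quot_ringEquiv e]
  refine congrArg (fun J => Module.length (X.presheaf.stalk z) (X.presheaf.stalk z ⧸ J)) ?_
  rw [Ideal.map_map]
  exact congrArg (fun φ => Ideal.map φ I) (RingHom.ext fun r =>
    (IsLocalization.algEquiv P.primeCompl (Localization.AtPrime P) (X.presheaf.stalk z)).commutes r)

lemma length_fibre_divisor (p : X ⟶ Y) (i : D ⟶ X) [IsClosedImmersion i] (d : D) (a : X.presheaf.stalk (i d))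
    (hker : RingHom.ker (i.stalkMap d).hom = Ideal.span {a}) :
    Module.length (D.presheaf.stalk d)
      (D.presheaf.stalk d ⧸ (maximalIdeal (Y.presheaf.stalk (p (i d)))).map ((i ≫ p).stalkMap d).hom) =
    Module.length (X.presheaf.stalk (i d)) (X.presheaf.stalk (i d) ⧸
      ((maximalIdeal (Y.presheaf.stalk (p (i d)))).map (p.stalkMap (i d)).hom ⊔ Ideal.span {a})) := by
  rw [← hker, ← length_quot_map_of_surjective _ (i.stalkMap_surjective d)]
  refine congrArg (fun I => Module.length (D.presheaf.stalk d) (D.presheaf.stalk d ⧸ I)) ?_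
  refine Eq.trans ?_ (Ideal.map_map _ _).symm
  exact congrArg (fun φ => Ideal.map φ (maximalIdeal (Y.presheaf.stalk (p (i d)))))
    (congrArg CommRingCat.Hom.hom (Scheme.Hom.stalkMap_comp i p d))

open Classical in
/-- `i^*(p^*α) = (p|_D)^*α` for a relative effective divisor. -/
theorem c1Cap_gysinChoice_pullFun {δX : X → ℤ} {δY : Y → ℤ} (hX : Cyc.IsSetup X δX) (hY : Cyc.IsSetup Y δY)
    (p : X ⟶ Y) (r : ℤ) (hc : ShiftAt p δX δY (r + 1)) {L : X.Modules} (hL : PicF.IsInvertible L)
    {s : Γ(L, ⊤)} (hreg : ∀ x : X, Function.Injective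
      (fun a : X.presheaf.stalk x => a • (L.presheaf.germ ⊤ x trivial) s))
    (i : D ⟶ X) [IsClosedImmersion i] (hD : Cyc.IsZeroSchemeOf i L s) [Flat (i ≫ p)]
    (hcD : ShiftAt (i ≫ p) (fun d => δX (i d)) δY r) (k : ℤ) (α : Y → ℤ) (hα : ∀ y, δY y ≠ k + 1 → α y = 0)
    (w : (ξ : X) → Cyc.secFibre L ξ) (d : D) :
    Cyc.c1CapFun δX L (Cyc.pullFun p δX δY (r + 1) α) (Cyc.gysinChoice L s w) (i d) =
      Cyc.pullFun (i ≫ p) (fun d => δX (i d)) δY r α d := by
  have := hX.1
  have := hY.1
  have hlnD : IsLocallyNoetherian D := LocallyOfFiniteType.isLocallyNoetherian i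
  have hDs := isSetup_closedImmersion i hX
  have hqd : ∀ e : D, (i ≫ p) e = p (i e) := fun e => rfl
  have hbd : ∀ e : D, δX (i e) ≤ δY (p (i e)) + r := fun e => (delta_le_of_shift (i ≫ p) hDs.2.2 hcD e).1
  have hterm : ∀ ξ : X, Cyc.pullFun p δX δY (r + 1) α ξ *
      Cyc.secDivFun δX L ξ (Cyc.gysinChoice L s w ξ) (i d) ≠ 0 →
      ξ ⤳ i d ∧ δX (i d) = k + r + 1 ∧ δY (p ξ) = k + 1 ∧ δX ξ = k + r + 2 := fun ξ hξ => by
    have h1 := left_ne_zero_of_mul hξ
    have h2 := right_ne_zero_of_mul hξ
    unfold Cyc.pullFun at h1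
    unfold Cyc.secDivFun at h2
    split_ifs at h1 h2 with ha hb
    · have hk : δY (p ξ) = k + 1 := not_not.1 fun hh => left_ne_zero_of_mul h1 (hα _ hh)
      exact ⟨hb.1, by omega, hk, by omega⟩
    all_goals exact absurd rfl ‹(0 : ℤ) ≠ 0›
  unfold Cyc.c1CapFun
  simp only [Cyc.pullFun, hqd]
  by_cases hk : δX (i d) = k + r + 1 ∧ δY (p (i d)) = k + 1
  swap
  · rw [finsum_eq_zero_of_forall_eq_zero fun ξ => ?_]
    · split_ifs with h
      · rw [hα _ (fun e => hk ⟨by omega, e⟩), zero_mul]
      · rfl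
    by_contra hξ
    obtain ⟨h1, h2, h3, -⟩ := hterm ξ hξ
    have h4 := hbd d
    have h5 := delta_le hY.2.2 (h1.map p.continuous)
    exact hk ⟨h2, by omega⟩
  obtain ⟨hkx, hky⟩ := hk
  rw [if_pos (show δX (i d) = δY (p (i d)) + r by omega)]
  -- the fibre over `y` is a module of dimension one at `x`
  obtain ⟨U, hU, e, he⟩ := Mero90.exists_frame' hL (i d)
  obtain ⟨c, hc'⟩ := exists_coeff he s
  let A := Y.presheaf.stalk (p (i d))
  let B := X.presheaf.stalk (i d)
  let J : Ideal B := (maximalIdeal A).map (p.stalkMap (i d)).hom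
  let a : B := X.presheaf.germ U (i d) hU c
  have hker : RingHom.ker (i.stalkMap d).hom = Ideal.span {a} := ker_of_isZeroSchemeOf hD he hc' d hU
  have hinjB : Function.Injective fun b : B => b * a := fun b b' h => hreg (i d) (by
    change b • _ = b' • _
    rw [hc' (i d) hU, smul_smul, smul_smul]
    exact congrArg (· • _) h)
  have hflat : letI := (p.stalkMap (i d)).hom.toAlgebra
      Module.Flat A (B ⧸ Ideal.span {a}) := by
    letI := (p.stalkMap (i d)).hom.toAlgebra
    letI : Algebra A (D.presheaf.stalk d) := ((i ≫ p).stalkMap d).hom.toAlgebra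
    haveI : Module.Flat A (D.presheaf.stalk d) := Flat.stalkMap (i ≫ p) d
    let φ : B →ₐ[A] D.presheaf.stalk d :=
      { (i.stalkMap d).hom with
        commutes' := fun r => congr($(Scheme.Hom.stalkMap_comp i p d).hom r).symm }
    exact Module.Flat.of_linearEquiv (((Ideal.quotientEquivAlgOfEq A (show RingHom.ker φ = Ideal.span {a} from hker)).symm.trans
      (Ideal.quotientKerAlgEquivOfSurjective (f := φ) (i.stalkMap_surjective d))).toLinearEquiv)
  have hinj : Function.Injective fun m : B ⧸ J => a • m := by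
    intro m m' h
    obtain ⟨b, rfl⟩ := Ideal.Quotient.mk_surjective m
    obtain ⟨b', rfl⟩ := Ideal.Quotient.mk_surjective m'
    rw [Ideal.Quotient.eq]
    letI := (p.stalkMap (i d)).hom.toAlgebra
    refine mem_map_of_mul_mem_map a hinjB hflat (maximalIdeal A) ?_
    rw [mul_sub]
    exact Ideal.Quotient.eq.1 h
  have hsupp : ∀ z (h : z ⤳ i d), genPrime h ∈ Module.support B (B ⧸ J) → p z = p (i d) := fun z h hs => by
    rw [Module.mem_support_iff_of_finite, Ideal.annihilator_quotient] at hs
    exact eq_of_fibreIdeal_le p h hs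
  have hout : ∀ z, p z = p (i d) → δX z = k + r + 2 → ∀ hz : z ∈ U, IsUnit (X.presheaf.germ U z hz c) := by
    intro z hz hd hzU
    by_contra hu
    obtain ⟨f, hf⟩ : z ∈ Set.range i := by
      rw [hD.1]
      change _ = _
      rw [hc' z hzU, mk_smul_frame_eq_zero_iff he hzU]
      exact hu
    have h2 := hbd f
    rw [hf] at h2
    rw [hz] at h2
    omega
  have hza : ∀ z (h : z ⤳ i d), Cyc.specMap (i d) z h a = X.residue z (X.presheaf.germ U z (h.mem_open U.2 hU) c) :=
    fun z h => congrArg (X.residue z) (TopCat.Presheaf.germ_stalkSpecializes_apply X.presheaf hU h c)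
  have hsum := CohMult.length_coker_eq_sum_module hX (B ⧸ J) (k := k + r + 1) hkx
    (fun z h hs => by
      have h1 := (delta_le_of_shift p hX.2.2 hc z).1
      rw [hsupp z h hs] at h1
      omega)
    a hinj (fun z h hs hd => by
      rw [hza z h]
      exact (residue_ne_zero_iff_isUnit _).2 (hout z (hsupp z h hs) (by omega) _))
  have hlhs : Len90.coker (LinearMap.lsmul B (B ⧸ J) a) = Module.length (D.presheaf.stalk d)
      (D.presheaf.stalk d ⧸ (maximalIdeal A).map ((i ≫ p).stalkMap d).hom) :=
    (coker_lsmul_quot J a).trans (length_fibre_divisor p i d a hker).symm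
  rw [hlhs] at hsum
  rw [show ((Module.length (D.presheaf.stalk d) (D.presheaf.stalk d ⧸
      Ideal.map ((i ≫ p).stalkMap d).hom (maximalIdeal (Y.presheaf.stalk ((i ≫ p) d))))).toNat : ℤ) = _ from hsum,
    mul_finsum' _ _ ?_]
  swap
  · refine Set.Finite.subset (((Module.annihilator B (B ⧸ J)).finite_minimalPrimes_of_isNoetherianRing B).preimage
      (f := PrimeSpectrum.asIdeal) (fun _ _ _ _ e => PrimeSpectrum.ext e) |>.image fun q => X.fromSpecStalk (i d) q) ?_
    intro z hz
    rw [Function.mem_support] at hz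
    split_ifs at hz with h
    · have hs : genPrime h.1 ∈ Module.support B (B ⧸ J) := by
        by_contra hn
        rw [Module.notMem_support_iff] at hn
        simp [Len90.locLen, Module.length_eq_zero] at hz
      refine ⟨genPrime h.1, ⟨⟨(genPrime h.1).2, Module.mem_support_iff_of_finite.1 hs⟩, fun Q hQ hQle => ?_⟩,
        fromSpecStalk_genPrime _⟩
      let q : PrimeSpectrum B := ⟨Q, hQ.1⟩
      have hq := genPrime_fromSpecStalk q
      have hqs : genPrime (fromSpecStalk_specializes q) ∈ Module.support B (B ⧸ J) := by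
        rw [hq]; exact Module.mem_support_iff_of_finite.2 hQ.2
      have hsz : X.fromSpecStalk (i d) q ⤳ z :=
        (genPrime_le_iff (fromSpecStalk_specializes q) h.1).1 (by rw [hq]; exact hQle)
      have h1 := (delta_le_of_shift p hX.2.2 hc (X.fromSpecStalk (i d) q)).1
      rw [hsupp _ _ hqs] at h1
      have h2 : genPrime (fromSpecStalk_specializes q) = genPrime h.1 :=
        (genPrime_eq_iff _ _).2 (eq_of_delta_le hX.2.2 hsz (by have := h.2; omega))
      exact (congrArg PrimeSpectrum.asIdeal (hq.symm.trans h2)).ge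
    · exact absurd rfl hz
  refine finsum_congr fun z => ?_
  by_cases hz : z ⤳ i d ∧ δX z = k + r + 1 + 1
  swap
  · rw [dif_neg hz, mul_zero]
    unfold Cyc.secDivFun
    split_ifs with h1 h2
    · exact absurd ⟨h2.1, by omega⟩ hz
    all_goals simp
  rw [dif_pos hz]
  obtain ⟨hz, hdz⟩ := hz
  by_cases hfz : p z = p (i d)
  swap
  · have h0 : Len90.locLen (genPrime hz).asIdeal (B ⧸ J) = 0 := by
      by_contra hne
      refine hfz (hsupp z hz ?_)
      by_contra hn
      rw [Module.notMem_support_iff] at hn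
      exact hne (Module.length_eq_zero)
    rw [h0]
    simp only [ENat.toNat_zero, Nat.cast_zero, zero_mul, mul_zero]
    by_contra hne
    have hh : Cyc.pullFun p δX δY (r + 1) α z * Cyc.secDivFun δX L z (Cyc.gysinChoice L s w z) (i d) ≠ 0 := hne
    obtain ⟨-, -, h3, -⟩ := hterm z hh
    exact hfz (eq_of_delta_le hY.2.2 (hz.map p.continuous) (by omega))
  rw [if_pos (show δX z = δY (p z) + (r + 1) by rw [hfz]; omega), locLen_quot_genPrime hz J,
    map_fibreIdeal p hz hfz, mul_assoc]
  refine congrArg₂ (· * ·) (congrArg α hfz) (congrArg₂ (· * ·) rfl ?_)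
  have hzU := hz.mem_open U.2 hU
  have hu := hout z hfz (by omega) hzU
  have hne : (Submodule.Quotient.mk (L.presheaf.germ ⊤ z trivial s) : Cyc.secFibre L z) ≠ 0 := by
    rw [hc' z hzU, ne_eq, mk_smul_frame_eq_zero_iff he hzU, not_not]
    exact hu
  unfold Cyc.secDivFun Cyc.gysinChoice
  rw [dif_pos (⟨hz, show δX (i d) + 1 = δX z by omega⟩ : z ⤳ i d ∧ δX (i d) + 1 = δX z), if_pos hne,
    secOrdAt_eq L hX hz (by omega) _ hne _ (span_germ_frame he hU) (X.presheaf.germ U z hzU c) (by
      rw [TopCat.Presheaf.germ_stalkSpecializes_apply, hc' z hzU, Submodule.Quotient.mk_smul]), hza z hz]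

end Groth.Agent.Cyc90
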