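import Groth.Agent.Cyc90.GysinKey
import Groth.Agent.Cyc90.C1RatEquiv

/-! Commutativity of first Chern class caps with supports. -/

set_option autoImplicit false
universe u

open CategoryTheory CategoryTheory.Limits AlgebraicGeometry TopologicalSpace IsLocalRing Opposite

namespace Groth.Agent.Cyc90

open Var76.LineBundle

variable {X Y D : Scheme.{u}} {δ : X → ℤ}

/-- A choice of rational sections given by frames away from `A`. -/
def GoodOff {L : X.Modules} (v : (ξ : X) → Cyc.secFibre L ξ) (A : Set X) : Prop :=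
  ∀ x ∉ A, ∃ (U : X.Opens) (_ : x ∈ U) (e : Γ(L, U)), IsFrame L U e ∧
    ∀ (y : X) (hy : y ∈ U), v y = Submodule.Quotient.mk (L.presheaf.germ U y hy e)

lemma goodOff_univ {L : X.Modules} (v : (ξ : X) → Cyc.secFibre L ξ) : GoodOff v Set.univ :=
  fun _ h => absurd trivial h

lemma goodOff_gysinChoice {L : X.Modules} (hL : PicF.IsInvertible L) {s : Γ(L, ⊤)} {i : D ⟶ X}
    [IsClosedImmersion i] (hD : Cyc.IsZeroSchemeOf i L s) (w : (ξ : X) → Cyc.secFibre L ξ) :
    GoodOff (Cyc.gysinChoice L s w) (Set.range i) := fun x hx => by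
  obtain ⟨W, hW, he⟩ := exists_frame_of_ne_zero hL s (ξ := x) fun h0 => hx (hD.1.ge h0)
  let V : X.Opens := W ⊓ ⟨(Set.range i)ᶜ, i.isClosedEmbedding.isClosed_range.isOpen_compl⟩
  refine ⟨V, ⟨hW, hx⟩, res L (inf_le_left : V ≤ W) (res L le_top s), he.res _, fun y hy => ?_⟩
  rw [gysinChoice_of_notMem hD w (show y ∉ Set.range i from hy.2)]
  refine congrArg (Submodule.Quotient.mk (p := _)) ?_
  rw [TopCat.Presheaf.germ_res_apply, TopCat.Presheaf.germ_res_apply]

lemma secDivFun_goodOff_eq_zero (hX : Cyc.IsSetup X δ) {L : X.Modules} {v : (ξ : X) → Cyc.secFibre L ξ}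
    {A : Set X} (hv : GoodOff v A) {x : X} (hx : x ∉ A) (ξ : X) :
    Cyc.secDivFun δ L ξ (v ξ) x = 0 := by
  obtain ⟨U, hU, e, he, heq⟩ := hv x hx
  unfold Cyc.secDivFun
  split_ifs with h
  swap
  · rfl
  have hξU : ξ ∈ U := h.1.mem_open U.2 hU
  rw [secOrdAt_eq L hX h.1 h.2 _ (by rw [heq ξ hξU]; exact mk_germ_frame_ne_zero he hξU) _
    (span_germ_frame he hU) 1 (by
      rw [one_smul, TopCat.Presheaf.germ_stalkSpecializes_apply, heq ξ hξU]), map_one]
  exact ordAt_one hX h.1 h.2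

lemma c1CapFun_goodOff_eq_zero (hX : Cyc.IsSetup X δ) {L : X.Modules} {v : (ξ : X) → Cyc.secFibre L ξ}
    {A : Set X} (hv : GoodOff v A) (a : X → ℤ) {x : X} (hx : x ∉ A) : Cyc.c1CapFun δ L a v x = 0 :=
  finsum_eq_zero_of_forall_eq_zero fun ξ => by rw [secDivFun_goodOff_eq_zero hX hv hx ξ, mul_zero]

lemma GoodOff.pullSec (f : Y ⟶ X) {L : X.Modules} (hL : PicF.IsInvertible L)
    {v : (ξ : X) → Cyc.secFibre L ξ} (hv0 : ∀ ξ, v ξ ≠ 0) {A : Set X} (hv : GoodOff v A) :
    GoodOff (Cyc90.pullSec f hL v hv0) (f ⁻¹' A) := fun x hx => by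
  obtain ⟨U, hU, e, he, heq⟩ := hv (f x) hx
  refine ⟨f ⁻¹ᵁ U, hU, Amp73.pullS f L U e, Props58.PullTensor.isFrame_pullS f he, fun y hy => ?_⟩
  obtain ⟨b, hb, hu⟩ := (Classical.choose_spec (exists_pull_section f hL y (v (f y)) (hv0 _))).2 U hy e he
  have h1 : X.residue (f y) b = X.residue (f y) 1 := residue_eq_of_smul_eq L
    ((hb.symm.trans (heq _ hy)).trans (one_smul _ _).symm) (mk_germ_frame_ne_zero he hy)
  refine hu.trans ?_
  rw [← sub_eq_zero]
  conv_lhs => arg 2; rw [← one_smul (Y.presheaf.stalk y) (Submodule.Quotient.mk _)]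
  rw [← sub_smul]
  refine smul_mk_eq_zero _ ?_ _
  rw [map_sub, sub_eq_zero, map_one]
  refine (congr($(Scheme.residue_residueFieldMap f y).hom b)).symm.trans ?_
  refine (congrArg (f.residueFieldMap y).hom h1).trans ?_
  rw [map_one, map_one]

lemma ratFamIn_add {k : ℤ} {T : Set X} {F G : X → ℤ} (hT : IsClosed T) (hF : RatFamIn δ k T F)
    (hG : RatFamIn δ k T G) : RatFamIn δ k T (fun x => F x + G x) := by
  classical
  convert ratFamIn_finsum (ι := ULift.{u} (Fin 2)) (fun _ => T) (fun _ => hT)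
    (fun x => ⟨Set.univ, isOpen_univ, trivial, Set.toFinite _⟩) (fun i => ![F, G] i.down)
    (fun i => by obtain ⟨i⟩ := i; fin_cases i <;> simpa) T (fun _ => subset_rfl) using 1
  funext x
  rw [finsum_eq_sum_of_fintype, ← Equiv.ulift.symm.sum_comp, Fin.sum_univ_two]
  rfl

lemma ratFamIn_sub (hX : Cyc.IsSetup X δ) {k : ℤ} {T : Set X} {F G : X → ℤ} (hT : IsClosed T)
    (hF : RatFamIn δ k T F) (hG : RatFamIn δ k T G) : RatFamIn δ k T (fun x => F x - G x) := by
  convert ratFamIn_add hT hF (ratFamIn_smul hX hG (-1)) using 2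
  ring

lemma RatFamIn.congr {k : ℤ} {T : Set X} {F G : X → ℤ} (h : RatFamIn δ k T F) (e : ∀ x, F x = G x) :
    RatFamIn δ k T G := funext e ▸ h

lemma ratFamIn_zero {k : ℤ} {T : Set X} : RatFamIn δ k T (fun _ => 0) :=
  ⟨PEmpty, fun i => i.elim, fun i => i.elim, fun i => i.elim, fun i => i.elim, fun i => i.elim,
    fun x => ⟨Set.univ, isOpen_univ, trivial, Set.toFinite _⟩, fun x => (finsum_of_isEmpty _).symm⟩

/-- Caps computed by choices that agree outside `T` differ by divisors of points of `T`. -/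
theorem ratFamIn_c1Cap_sub (hX : Cyc.IsSetup X δ) {M : X.Modules} (hM : PicF.IsInvertible M) {k : ℤ}
    (α : AlgebraicCycle X ℤ) (hα : α ∈ Cyc.Zk X δ (k + 1)) (s t : (ξ : X) → Cyc.secFibre M ξ)
    (hs : ∀ ξ, s ξ ≠ 0) (ht : ∀ ξ, t ξ ≠ 0) (T : Set X) (hoff : ∀ ξ ∉ T, α ξ ≠ 0 → s ξ = t ξ) :
    RatFamIn δ k T (fun x => Cyc.c1CapFun δ M ⇑α s x - Cyc.c1CapFun δ M ⇑α t x) := by
  classical
  let S : Set X := {ξ | α ξ ≠ 0 ∧ ξ ∈ T}
  choose ψ hψ using fun j : S => secFibre_exists_smul hM (s j.1) (t j.1) (ht _)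
  have hne : ∀ j : S, X.residue _ (ψ j) ≠ 0 := fun j h0 =>
    hs _ ((hψ j).trans (smul_mk_eq_zero M h0 _))
  refine ⟨S, fun j => j.1, fun j => X.residue j.1 (ψ j) ^ α j.1,
    fun j => by by_contra h; exact j.2.1 (hα j.1 h), fun j => zpow_ne_zero _ (hne j), fun j => j.2.2,
    fun x => ?_, fun x => ?_⟩
  · obtain ⟨N, hN, hfin⟩ := α.supportLocallyFiniteWithinDomain' x trivial
    obtain ⟨U, hUt, hU, hxU⟩ := mem_nhds_iff.1 hN
    refine ⟨U, hU, hxU, (hfin.preimage Subtype.val_injective.injOn).subset ?_⟩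
    rintro j ⟨y, hy, hyU⟩
    exact ⟨hUt ((specializes_iff_mem_closure.2 hy).mem_open hU hyU), j.2.1⟩
  · simp only [Cyc.c1CapFun]
    rw [← finsum_sub_distrib (c1Cap_support_finite α M s x) (c1Cap_support_finite α M t x)]
    simp only [divFun_zpow hX _ _ (hne _)]
    refine Eq.trans ?_ (finsum_congr (f := fun j : S => α j.1 * (Cyc.secDivFun δ M j.1 (s j.1) x -
      Cyc.secDivFun δ M j.1 (t j.1) x)) fun j => by
        rw [secDivFun_sub hX hM j.1 x _ _ (hs _) (ht _) _ (hψ j)])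
    rw [finsum_set_coe_eq_finsum_mem S (f := fun ξ => α ξ *
      (Cyc.secDivFun δ M ξ (s ξ) x - Cyc.secDivFun δ M ξ (t ξ) x)), ← finsum_mem_univ]
    simp only [← mul_sub]
    refine finsum_mem_inter_support_eq' _ _ _ fun ξ hξ => ?_
    simp only [Set.mem_univ, true_iff]
    have h1 := left_ne_zero_of_mul (Function.mem_support.1 hξ)
    refine ⟨h1, ?_⟩
    by_contra h
    exact right_ne_zero_of_mul (Function.mem_support.1 hξ) (by rw [hoff ξ h h1, sub_self])

/-- Families of divisors push forward along closed immersions. -/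
theorem ratFamIn_push_closed (hX : Cyc.IsSetup X δ) (j : Y ⟶ X) [IsClosedImmersion j] {k : ℤ}
    {T : Set Y} {F : Y → ℤ} (h : RatFamIn (fun z => δ (j z)) k T F) (G : X → ℤ)
    (hG : ∀ z, G (j z) = F z) (hG0 : ∀ x ∉ Set.range j, G x = 0) : RatFamIn δ k (j '' T) G := by
  obtain ⟨ι, ζ, g, hk, hg, hmem, hlf, hsum⟩ := h
  choose g' hg' using fun i => residueFieldMap_surjective j (ζ i) (g i)
  have hne : ∀ i, g' i ≠ 0 := fun i h0 => hg i (by rw [← hg' i, h0, map_zero])
  have hrange := j.isClosedEmbedding.isClosed_range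
  refine ⟨ι, fun i => j (ζ i), g', hk, hne, fun i => ⟨_, hmem i, rfl⟩, fun x => ?_, fun x => ?_⟩
  · by_cases hx : x ∈ Set.range j
    · obtain ⟨z, rfl⟩ := hx
      obtain ⟨U, hU, hzU, hfin⟩ := hlf z
      obtain ⟨V, hV, hVU⟩ := j.isClosedEmbedding.isInducing.isOpen_iff.1 hU
      refine ⟨V, hV, hVU.ge hzU, hfin.subset ?_⟩
      rintro i ⟨y, hy, hyV⟩
      refine ⟨ζ i, subset_closure rfl, hVU.le ?_⟩
      exact (specializes_iff_mem_closure.2 hy).mem_open hV hyV
    · refine ⟨(Set.range j)ᶜ, hrange.isOpen_compl, hx, Set.Finite.subset Set.finite_empty ?_⟩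
      rintro i ⟨y, hy, hyV⟩
      exact hyV (closure_minimal (Set.singleton_subset_iff.2 (Set.mem_range_self (f := j) (ζ i))) hrange hy)
  · by_cases hx : x ∈ Set.range j
    · obtain ⟨z, rfl⟩ := hx
      rw [hG, hsum]
      refine finsum_congr fun i => ?_
      dsimp only
      rw [divFun_closedImmersion j hX (ζ i) z (g' i) (hne i)]
      exact (congrArg (fun c => Cyc.divFun (fun w => δ (j w)) (ζ i) c z) (hg' i)).symm
    · rw [hG0 x hx]
      exact (finsum_eq_zero_of_forall_eq_zero fun i =>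
        divFun_eq_zero_of_notMem hrange (Set.mem_range_self (f := j) (ζ i)) hx _).symm

lemma c1CapFun_push_closed (hX : Cyc.IsSetup X δ) (j : Y ⟶ X) [IsClosedImmersion j]
    {L N : X.Modules} (hL : PicF.IsInvertible L) (hN : PicF.IsInvertible N)
    (a : (ξ : X) → Cyc.secFibre L ξ) (ha : ∀ ξ, a ξ ≠ 0) (u : (ξ : X) → Cyc.secFibre N ξ)
    (hu : ∀ ξ, u ξ ≠ 0) (η : Y) (z : Y) :
    Cyc.c1CapFun (fun w => δ (j w)) ((Scheme.Modules.pullback j).obj N)
      (Cyc.secDivFun (fun w => δ (j w)) ((Scheme.Modules.pullback j).obj L) η (pullSec j hL a ha η))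
      (pullSec j hN u hu) z = Cyc.c1CapFun δ N (Cyc.secDivFun δ L (j η) (a (j η))) u (j z) := by
  have hY := isSetup_closedImmersion j hX
  let α : AlgebraicCycle Y ℤ := ⟨Cyc.secDivFun (fun w => δ (j w)) ((Scheme.Modules.pullback j).obj L) η
    (pullSec j hL a ha η), by simp,
    fun w _ => secDivFun_locallyFinite hY (Amp73.isInvertible_pullback j hL) _ _ (pullSec_ne_zero j hL a ha η) w⟩
  obtain ⟨γ, hγ⟩ := exists_c1CapCycle hY (Amp73.isInvertible_pullback j hN) α (pullSec j hN u hu)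
    (pullSec_ne_zero j hN u hu)
  have h := map_c1Cap hY hX j (deltaCompat_preimmersion j δ) hN α u hu γ hγ
  have e : ⇑(AlgebraicCycle.map j (fun w => δ (j w)) δ α) = Cyc.secDivFun δ L (j η) (a (j η)) := by
    funext x
    by_cases hx : x ∈ Set.range j
    · obtain ⟨w, rfl⟩ := hx
      rw [map_closedImmersion_image]
      exact secDivFun_closedImmersion j hX hL a ha η w
    · rw [map_closedImmersion_notMem j δ _ hx,
        secDivFun_eq_zero_of_notMem j.isClosedEmbedding.isClosed_range ⟨_, rfl⟩ hx]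
  rw [e] at h
  rw [← congrFun h (j z), map_closedImmersion_image, hγ]
  rfl

section Integral

variable [IsIntegral X]

/-- Commutativity with supports on an integral scheme. -/
theorem ratFamIn_comm_supp_gen (hX : Cyc.IsSetup X δ) {L N : X.Modules} (hL : PicF.IsInvertible L)
    (hN : PicF.IsInvertible N) {k : ℤ} (hk : δ (genericPoint X) = k + 2)
    (a : Cyc.secFibre L (genericPoint X)) (ha : a ≠ 0) (b : Cyc.secFibre N (genericPoint X)) (hb : b ≠ 0)
    {A B : Set X} (hA : IsClosed A) (hB : IsClosed B) {v : (ξ : X) → Cyc.secFibre L ξ} (hv : GoodOff v A)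
    (hv0 : ∀ ξ, v ξ ≠ 0) {u : (ξ : X) → Cyc.secFibre N ξ} (hu : GoodOff u B) (hu0 : ∀ ξ, u ξ ≠ 0)
    (hav : genericPoint X ∉ A → a = v (genericPoint X))
    (hbu : genericPoint X ∉ B → b = u (genericPoint X)) :
    RatFamIn δ k (A ∩ B) (fun x => Cyc.c1CapFun δ N (Cyc.secDivFun δ L (genericPoint X) a) u x -
      Cyc.c1CapFun δ L (Cyc.secDivFun δ N (genericPoint X) b) v x) := by
  classical
  have hexL : ∀ ξ : X, ∃ (U : X.Opens) (_ : ξ ∈ U) (e : Γ(L, U)), IsFrame L U e ∧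
      (ξ ∉ A → ∀ (y : X) (hy : y ∈ U), v y = Submodule.Quotient.mk (L.presheaf.germ U y hy e)) :=
    fun ξ => by
      by_cases h : ξ ∈ A
      · obtain ⟨U, hU, e, he⟩ := Mero90.exists_frame' hL ξ
        exact ⟨U, hU, e, he, fun h' => absurd h h'⟩
      · obtain ⟨U, hU, e, he, heq⟩ := hv ξ h
        exact ⟨U, hU, e, he, fun _ => heq⟩
  have hexN : ∀ ξ : X, ∃ (U : X.Opens) (_ : ξ ∈ U) (e : Γ(N, U)), IsFrame N U e ∧
      (ξ ∉ B → ∀ (y : X) (hy : y ∈ U), u y = Submodule.Quotient.mk (N.presheaf.germ U y hy e)) :=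
    fun ξ => by
      by_cases h : ξ ∈ B
      · obtain ⟨U, hU, e, he⟩ := Mero90.exists_frame' hN ξ
        exact ⟨U, hU, e, he, fun h' => absurd h h'⟩
      · obtain ⟨U, hU, e, he, heq⟩ := hu ξ h
        exact ⟨U, hU, e, he, fun _ => heq⟩
  choose UL hUL eL heL hLeq using hexL
  choose UN hUN eN heN hNeq using hexN
  have hgA : ∀ ξ, ξ ∉ A → genericPoint X ∉ A := fun ξ h h' => h ((gen_specializes ξ).mem_closed hA h')
  have hgB : ∀ ξ, ξ ∉ B → genericPoint X ∉ B := fun ξ h h' => h ((gen_specializes ξ).mem_closed hB h')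
  have fam := ratFamIn_secDiv_comm hX hk hL hN a ha b hb UL hUL eL heL UN hUN eN heN (A ∩ B)
    (fun ξ hξ _ => by
      by_cases h : ξ ∈ A
      · exact Or.inr ((hbu (hgB ξ fun h' => hξ ⟨h, h'⟩)).trans (hNeq ξ (fun h' => hξ ⟨h, h'⟩) _ _))
      · exact Or.inl ((hav (hgA ξ h)).trans (hLeq ξ h _ _)))
  rw [show k + 2 - 2 = k by ring] at fam
  let α : AlgebraicCycle X ℤ := ⟨Cyc.secDivFun δ L (genericPoint X) a, by simp,
    fun x _ => secDivFun_locallyFinite hX hL _ _ ha x⟩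
  let β : AlgebraicCycle X ℤ := ⟨Cyc.secDivFun δ N (genericPoint X) b, by simp,
    fun x _ => secDivFun_locallyFinite hX hN _ _ hb x⟩
  have hsupp : ∀ {M : X.Modules} {c : Cyc.secFibre M (genericPoint X)} {w : (ξ : X) → Cyc.secFibre M ξ}
      {C : Set X}, IsClosed C → GoodOff w C → (genericPoint X ∉ C → c = w (genericPoint X)) →
      ∀ x ∉ C, Cyc.secDivFun δ M (genericPoint X) c x = 0 := fun hC hw hc x hx => by
    rw [hc fun h => hx ((gen_specializes x).mem_closed hC h)]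
    exact secDivFun_goodOff_eq_zero hX hw hx _
  have h1 := ratFamIn_c1Cap_sub hX hN (k := k) α (fun x hx => dif_neg fun h => hx (by omega)) u
    (fun ξ => Submodule.Quotient.mk (N.presheaf.germ (UN ξ) ξ (hUN ξ) (eN ξ))) hu0
    (fun ξ => mk_germ_frame_ne_zero (heN ξ) (hUN ξ)) (A ∩ B) fun ξ hξ hαξ => by
      have hA' : ξ ∈ A := by
        by_contra h
        exact hαξ (hsupp hA hv hav ξ h)
      exact hNeq ξ (fun h' => hξ ⟨hA', h'⟩) ξ (hUN ξ)
  have h2 := ratFamIn_c1Cap_sub hX hL (k := k) β (fun x hx => dif_neg fun h => hx (by omega)) v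
    (fun ξ => Submodule.Quotient.mk (L.presheaf.germ (UL ξ) ξ (hUL ξ) (eL ξ))) hv0
    (fun ξ => mk_germ_frame_ne_zero (heL ξ) (hUL ξ)) (A ∩ B) fun ξ hξ hβξ => by
      have hB' : ξ ∈ B := by
        by_contra h
        exact hβξ (hsupp hB hu hbu ξ h)
      exact hLeq ξ (fun h' => hξ ⟨h', hB'⟩) ξ (hUL ξ)
  exact (ratFamIn_sub hX (hA.inter hB) (ratFamIn_add (hA.inter hB) fam h1) h2).congr fun x => by
    change _ + (Cyc.c1CapFun δ N ⇑α u x - Cyc.c1CapFun δ N ⇑α _ x) -
      (Cyc.c1CapFun δ L ⇑β v x - Cyc.c1CapFun δ L ⇑β _ x) =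
      Cyc.c1CapFun δ N ⇑α u x - Cyc.c1CapFun δ L ⇑β v x
    simp only [show ⇑α = Cyc.secDivFun δ L (genericPoint X) a from rfl,
      show ⇑β = Cyc.secDivFun δ N (genericPoint X) b from rfl]
    ring

end Integral

/-- Commutativity with supports on the closure of a point. -/
theorem ratFamIn_comm_supp (hX : Cyc.IsSetup X δ) {L N : X.Modules} (hL : PicF.IsInvertible L)
    (hN : PicF.IsInvertible N) {k : ℤ} (ξ : X) (hk : δ ξ = k + 2)
    (a : Cyc.secFibre L ξ) (ha : a ≠ 0) (b : Cyc.secFibre N ξ) (hb : b ≠ 0)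
    {A B : Set X} (hA : IsClosed A) (hB : IsClosed B) {v : (η : X) → Cyc.secFibre L η} (hv : GoodOff v A)
    (hv0 : ∀ η, v η ≠ 0) {u : (η : X) → Cyc.secFibre N η} (hu : GoodOff u B) (hu0 : ∀ η, u η ≠ 0)
    (hav : ξ ∉ A → a = v ξ) (hbu : ξ ∉ B → b = u ξ) :
    RatFamIn δ k (A ∩ B ∩ closure {ξ}) (fun x => Cyc.c1CapFun δ N (Cyc.secDivFun δ L ξ a) u x -
      Cyc.c1CapFun δ L (Cyc.secDivFun δ N ξ b) v x) := by
  classical
  obtain ⟨Z, j, hj, hint, hη⟩ : ∃ (Z : Scheme.{u}) (j : Z ⟶ X) (_ : IsClosedImmersion j)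
      (_ : IsIntegral Z), j (genericPoint Z) = ξ :=
    ⟨cl ξ, clι ξ, isClosedImmersion_clι ξ, isIntegral_cl ξ, clι_genericPoint ξ⟩
  subst hη
  let va : (η : X) → Cyc.secFibre L η := Function.update v (j (genericPoint Z)) a
  let ub : (η : X) → Cyc.secFibre N η := Function.update u (j (genericPoint Z)) b
  have hva : ∀ η, va η ≠ 0 := fun η => by
    by_cases h : η = j (genericPoint Z)
    · subst h; simpa [va] using ha
    · simpa [va, Function.update_of_ne h] using hv0 η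
  have hub : ∀ η, ub η ≠ 0 := fun η => by
    by_cases h : η = j (genericPoint Z)
    · subst h; simpa [ub] using hb
    · simpa [ub, Function.update_of_ne h] using hu0 η
  have hpe : ∀ {M : X.Modules} (hM : PicF.IsInvertible M) (w w' : (η : X) → Cyc.secFibre M η)
      (hw : ∀ η, w η ≠ 0) (hw' : ∀ η, w' η ≠ 0) (z : Z), w (j z) = w' (j z) →
      pullSec j hM w hw z = pullSec j hM w' hw' z := fun hM w w' hw hw' z e => by
    unfold pullSec
    simp only [e]
  have fam := ratFamIn_comm_supp_gen (isSetup_closedImmersion j hX) (Amp73.isInvertible_pullback j hL)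
    (Amp73.isInvertible_pullback j hN) (k := k) hk (pullSec j hL va hva _) (pullSec_ne_zero j hL va hva _)
    (pullSec j hN ub hub _) (pullSec_ne_zero j hN ub hub _) (hA.preimage j.continuous) (hB.preimage j.continuous)
    (hv.pullSec j hL hv0) (pullSec_ne_zero j hL v hv0) (hu.pullSec j hN hu0) (pullSec_ne_zero j hN u hu0)
    (fun h => hpe hL va v hva hv0 _ ((Function.update_self ..).trans (hav h)))
    (fun h => hpe hN ub u hub hu0 _ ((Function.update_self ..).trans (hbu h)))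
  have h1 : va (j (genericPoint Z)) = a := Function.update_self ..
  have h2 : ub (j (genericPoint Z)) = b := Function.update_self ..
  refine (ratFamIn_push_closed hX j fam _ (fun z => ?_) (fun x hx => ?_)).mono
    (Set.subset_inter (Set.image_subset_iff.2 subset_rfl)
      (Set.image_subset_iff.2 fun z _ => specializes_iff_mem_closure.1 ((gen_specializes z).map j.continuous)))
  · rw [c1CapFun_push_closed hX j hL hN va hva u hu0, c1CapFun_push_closed hX j hN hL ub hub v hv0, h1, h2]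
  · have hz : ∀ {M M' : X.Modules} (c : Cyc.secFibre M (j (genericPoint Z)))
        (w : (η : X) → Cyc.secFibre M' η),
        Cyc.c1CapFun δ M' (Cyc.secDivFun δ M (j (genericPoint Z)) c) w x = 0 := fun c w =>
      finsum_eq_zero_of_forall_eq_zero fun η => by
        by_cases hη : η ∈ Set.range j
        · rw [secDivFun_eq_zero_of_notMem j.isClosedEmbedding.isClosed_range hη hx, mul_zero]
        · rw [secDivFun_eq_zero_of_notMem j.isClosedEmbedding.isClosed_range ⟨_, rfl⟩ hη, zero_mul]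
    rw [hz, hz, sub_zero]

end Groth.Agent.Cyc90
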