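import Groth.Agent.Cyc90.MaxPts
import Groth.Agent.Cyc90.MayerVietoris

/-! The fundamental cycle. -/

set_option autoImplicit false
universe u

open CategoryTheory AlgebraicGeometry TopologicalSpace

namespace Groth.Agent.Cyc90

variable {X Y : Scheme.{u}} {δ : X → ℤ}

lemma subschemeFun_id_apply (δ : X → ℤ) (k : ℤ) (x : X) :
    Cyc.subschemeFun δ k (𝟙 X) x = if δ x = k then
      ((Module.length (X.presheaf.stalk x) (X.presheaf.stalk x)).toNat : ℤ) else 0 := by
  rw [Cyc.subschemeFun]
  simp only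
  split_ifs
  · rw [show {z : X | (𝟙 X : X ⟶ X) z = x} = {x} from Set.ext fun z => Iff.rfl, finsum_mem_singleton]
  · rfl

/-- The fundamental cycle of top dimension. -/
theorem exists_fundamentalCycle (hX : Cyc.IsSetup X δ) (k : ℤ) (hdim : ∀ x, δ x ≤ k) :
    ∃ A : AlgebraicCycle X ℤ, ⇑A = Cyc.subschemeFun δ k (𝟙 X) ∧ A ∈ Cyc.Zk X δ k := by
  have := hX.1
  refine ⟨⟨Cyc.subschemeFun δ k (𝟙 X), by simp, fun x _ => ?_⟩, rfl, fun x hx => ?_⟩
  · obtain ⟨U, hU, hxU, -⟩ := exists_isAffineOpen_mem_and_subset (X := X) (x := x) (U := ⊤) trivial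
    refine ⟨U, U.2.mem_nhds hxU, (finite_maximal hU).subset ?_⟩
    rintro y ⟨hy, hys⟩
    refine ⟨hy, fun w hw => ?_⟩
    simp only [Function.mem_support, subschemeFun_id_apply] at hys
    split_ifs at hys with h
    · by_contra hne
      have := (hX.2.2 w y hw hne).1
      have := hdim w
      omega
    · exact absurd rfl hys
  · change Cyc.subschemeFun δ k (𝟙 X) x = 0
    rw [subschemeFun_id_apply, if_neg hx]

/-- The cycle of a closed subscheme is the image of its fundamental cycle. -/
theorem map_fundamental (i : Y ⟶ X) [IsClosedImmersion i] (δ : X → ℤ) (k : ℤ) (A : AlgebraicCycle Y ℤ)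
    (hA : ⇑A = Cyc.subschemeFun (fun y => δ (i y)) k (𝟙 Y)) :
    ⇑(AlgebraicCycle.map i (fun y => δ (i y)) δ A) = Cyc.subschemeFun δ k i := by
  funext x
  by_cases hx : x ∈ Set.range i
  · obtain ⟨y, rfl⟩ := hx
    rw [map_closedImmersion_image, hA, subschemeFun_id_apply, Cyc.subschemeFun]
    dsimp only
    split_ifs
    · rw [show {z : Y | i z = i y} = {y} from Set.ext fun z => i.isClosedEmbedding.injective.eq_iff,
        finsum_mem_singleton]
    · rfl
  · rw [map_closedImmersion_notMem i δ _ hx, Cyc.subschemeFun]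
    dsimp only
    rw [show {z : Y | i z = x} = ∅ from Set.eq_empty_of_forall_notMem fun z hz => hx ⟨z, hz⟩,
      finsum_mem_empty, ite_self]

end Groth.Agent.Cyc90
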