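import Groth.Agent.Cyc90.FlatPull
import Groth.Agent.FlatMor68.PullbackStalk

/-! Flat pullback and the cycle of a coherent module. -/

set_option autoImplicit false
universe u

open CategoryTheory AlgebraicGeometry IsLocalRing TensorProduct

namespace Groth.Agent.Cyc90

variable {X Y : Scheme.{u}} (f : X ⟶ Y) (F : Y.Modules) [F.IsQuasicoherent]

lemma nontrivial_stalk_of_pullback (x : X)
    (h : Nontrivial (((Scheme.Modules.pullback f).obj F).presheaf.stalk x)) :
    Nontrivial (F.presheaf.stalk (f x)) := by
  let := (f.stalkMap x).hom.toAlgebra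
  obtain ⟨E⟩ := FlatMor68.PullbackStalk.nonempty_stalkPullbackEquiv f F x
  by_contra hn
  have : Subsingleton (F.presheaf.stalk (f.base x)) := not_nontrivial_iff_subsingleton.1 hn
  exact not_nontrivial_iff_subsingleton.2 E.toEquiv.subsingleton h

lemma length_stalk_pullback [Flat f] (x : X) :
    Module.length (X.presheaf.stalk x) (((Scheme.Modules.pullback f).obj F).presheaf.stalk x) =
      Module.length (Y.presheaf.stalk (f x)) (F.presheaf.stalk (f x)) *
        Module.length (X.presheaf.stalk x) (X.presheaf.stalk x ⧸
          (maximalIdeal (Y.presheaf.stalk (f x))).map (f.stalkMap x).hom) := by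
  let iA : Algebra (Y.presheaf.stalk (f x)) (X.presheaf.stalk x) := (f.stalkMap x).hom.toAlgebra
  have : Module.Flat (Y.presheaf.stalk (f x)) (X.presheaf.stalk x) := Flat.stalkMap f x
  have : IsLocalHom (algebraMap (Y.presheaf.stalk (f x)) (X.presheaf.stalk x)) := f.toLRSHom.prop x
  obtain ⟨E⟩ := FlatMor68.PullbackStalk.nonempty_stalkPullbackEquiv f F x
  exact E.length_eq.trans
    (IsLocalRing.length_baseChange (Y.presheaf.stalk (f x)) (X.presheaf.stalk x) (F.presheaf.stalk (f x)))

theorem pullFun_sheafFun [Flat f] {δX : X → ℤ} {δY : Y → ℤ} (hX : Cyc.IsDimFun X δX) {c : ℤ}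
    (hc : ShiftAt f δX δY c) (k : ℤ)
    (hdim : ∀ y : Y, Nontrivial (F.presheaf.stalk y) → δY y ≤ k) :
    (∀ x : X, Nontrivial (((Scheme.Modules.pullback f).obj F).presheaf.stalk x) → δX x ≤ k + c) ∧
    Cyc.pullFun f δX δY c (Cyc.sheafFun δY k F) =
      Cyc.sheafFun δX (k + c) ((Scheme.Modules.pullback f).obj F) := by
  refine ⟨fun x hx => ?_, funext fun x => ?_⟩
  · have := (delta_le_of_shift f hX hc x).1
    have := hdim _ (nontrivial_stalk_of_pullback f F x hx)
    omega
  · have h1 := (delta_le_of_shift f hX hc x).1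
    simp only [Cyc.pullFun, Cyc.sheafFun]
    by_cases hy : δY (f x) = k
    · by_cases hx : δX x = δY (f x) + c
      · rw [if_pos hx, if_pos hy, if_pos (by omega), length_stalk_pullback, ENat.toNat_mul,
          Nat.cast_mul]
      · rw [if_neg hx, if_neg (by omega)]
    · rw [if_neg hy]
      by_cases hx : δX x = k + c
      · rw [if_pos hx]
        have : Subsingleton (((Scheme.Modules.pullback f).obj F).presheaf.stalk x) := by
          by_contra hn
          have := hdim _ (nontrivial_stalk_of_pullback f F x (not_subsingleton_iff_nontrivial.1 hn))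
          omega
        rw [Module.length_eq_zero (M := ((Scheme.Modules.pullback f).obj F).presheaf.stalk x)]
        simp
      · rw [if_neg hx]
        simp

end Groth.Agent.Cyc90
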