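import Groth.Agent.TameAlg50.Laws
import Groth.Agent.TameAlg50.BaseChange
import Groth.Agent.Cyc90.OrdNorm

/-! The tame symbol on the fraction field of a one-dimensional local domain. -/

set_option autoImplicit false
universe u

open IsLocalRing

namespace Groth.Agent.Cyc90

section Laws

variable {A : Type u} [CommRing A] [IsNoetherianRing A] [IsLocalRing A]

lemma symbol_swap (hA : ringKrullDim A = 1) {a b : A} (ha : a ∈ nonZeroDivisors A) (hb : b ∈ nonZeroDivisors A)
    (c : Aˣ) (hc : (c : A) = a) : CycAlg.tameSymbol A b a = (residue A a ^ (Ring.ord A b).toNat)⁻¹ := by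
  have h1 := (TameAlg50.symbol_mul hA ha hb (mul_mem ha hb)).1
  have h2 := (TameAlg50.symbol_mul hA ha hb ha).2
  have h3 := (TameAlg50.symbol_mul hA ha hb hb).2
  have hu : IsUnit a := hc ▸ c.isUnit
  have hab : CycAlg.tameSymbol A (a * b) (a * b) = CycAlg.tameSymbol A b b := by
    rw [TameAlg50.symbol_self hA (mul_mem ha hb), TameAlg50.symbol_self hA hb]
    have : Ideal.span {a * b} = Ideal.span ({b} : Set A) := Ideal.span_singleton_mul_left_unit hu b
    rw [this]
  rw [h1, h2, h3, TameAlg50.symbol_units hu hu, one_mul,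
    ← mul_assoc, mul_eq_right₀ (TameAlg50.symbol_ne_zero hA hb hb)] at hab
  refine eq_inv_of_mul_eq_one_left ?_
  rw [show residue A a ^ (Ring.ord A b).toNat = CycAlg.tameSymbol A a b by
    have h := TameAlg50.symbol_unit hA c hb
    rw [hc] at h
    exact h.symm, mul_comm]
  exact hab

theorem symbol_congr {R S : Type u} [CommRing R] [CommRing S] [IsNoetherianRing R] [IsNoetherianRing S]
    [IsLocalRing R] [IsLocalRing S] (e : R ≃+* S) (hR : ringKrullDim R = 1) {a b : R}
    (ha : a ∈ nonZeroDivisors R) (hb : b ∈ nonZeroDivisors R) :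
    CycAlg.tameSymbol S (e a) (e b) = ResidueField.mapEquiv e (CycAlg.tameSymbol R a b) := by
  let : Algebra R S := e.toRingHom.toAlgebra
  let l : R ≃ₗ[R] S :=
    { e.toAddEquiv with map_smul' := fun r x => map_mul e r x }
  have : Module.Flat R S := Module.Flat.of_linearEquiv l.symm
  have : IsLocalHom (algebraMap R S) := ⟨fun x hx => by
    have := hx.map e.symm
    rwa [show e.symm (algebraMap R S x) = x from e.symm_apply_apply x] at this⟩
  have h := TameAlg50.symbol_baseChange R S hR ((ringKrullDim_eq_of_ringEquiv e).symm.trans hR) a b ha hb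
  have hm : Ideal.map (algebraMap R S) (maximalIdeal R) = maximalIdeal S :=
    IsLocalRing.eq_maximalIdeal (Ideal.map_isMaximal_of_equiv e (p := maximalIdeal R))
  change _ ^ (Module.length S (S ⧸ Ideal.map (algebraMap R S) (maximalIdeal R))).toNat = _ at h
  rw [hm, show (Module.length S (S ⧸ maximalIdeal S)).toNat = 1 by
    have : IsSimpleModule S (S ⧸ maximalIdeal S) := isSimpleModule_iff_isCoatom.2
      (Ideal.isMaximal_def.1 (maximalIdeal.isMaximal S))
    rw [Module.length_eq_one]; rfl, pow_one] at h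
  exact h.symm

end Laws

variable (R : Type u) [CommRing R] [IsLocalRing R] {K : Type u} [Field K] [Algebra R K] [IsFractionRing R K]

/-- The tame symbol of two elements of the fraction field. -/
noncomputable def symK (f g : K) : ResidueField R :=
  let a := IsLocalization.sec (nonZeroDivisors R) f
  let b := IsLocalization.sec (nonZeroDivisors R) g
  CycAlg.tameSymbol R a.1 b.1 * CycAlg.tameSymbol R a.2 b.2 /
    (CycAlg.tameSymbol R a.2 b.1 * CycAlg.tameSymbol R a.1 b.2)

variable {R} [IsDomain R] [IsNoetherianRing R]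

theorem symK_eq (hR : ringKrullDim R = 1) {f g : K} {a a' b b' : R} (ha : a ≠ 0) (ha' : a' ≠ 0) (hb : b ≠ 0)
    (hb' : b' ≠ 0) (hf : f * algebraMap R K a' = algebraMap R K a)
    (hg : g * algebraMap R K b' = algebraMap R K b) :
    symK R f g = CycAlg.tameSymbol R a b * CycAlg.tameSymbol R a' b' /
      (CycAlg.tameSymbol R a' b * CycAlg.tameSymbol R a b') := by
  have hn : ∀ {x : R}, x ≠ 0 → x ∈ nonZeroDivisors R := fun h => mem_nonZeroDivisors_of_ne_zero h
  have hinj := IsFractionRing.injective R K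
  unfold symK
  set s := IsLocalization.sec (nonZeroDivisors R) f
  set t := IsLocalization.sec (nonZeroDivisors R) g
  have hs : f * algebraMap R K s.2 = algebraMap R K s.1 := IsLocalization.sec_spec _ f
  have ht : g * algebraMap R K t.2 = algebraMap R K t.1 := IsLocalization.sec_spec _ g
  have hs2 : (s.2 : R) ≠ 0 := nonZeroDivisors.coe_ne_zero _
  have ht2 : (t.2 : R) ≠ 0 := nonZeroDivisors.coe_ne_zero _
  have e1 : s.1 * a' = a * s.2 := hinj (by rw [map_mul, map_mul, ← hs, ← hf]; ring)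
  have e2 : t.1 * b' = b * t.2 := hinj (by rw [map_mul, map_mul, ← ht, ← hg]; ring)
  have hs1 : s.1 ≠ 0 := fun h => by
    rw [h, zero_mul] at e1
    exact mul_ne_zero ha hs2 e1.symm
  have ht1 : t.1 ≠ 0 := fun h => by
    rw [h, zero_mul] at e2
    exact mul_ne_zero hb ht2 e2.symm
  have hl : ∀ {y : R}, y ≠ 0 → CycAlg.tameSymbol R s.1 y * CycAlg.tameSymbol R a' y =
      CycAlg.tameSymbol R a y * CycAlg.tameSymbol R s.2 y := fun hy => by
    rw [← (TameAlg50.symbol_mul hR (hn hs1) (hn ha') (hn hy)).1,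
      ← (TameAlg50.symbol_mul hR (hn ha) (hn hs2) (hn hy)).1, e1]
  have hr : ∀ {x : R}, x ≠ 0 → CycAlg.tameSymbol R x t.1 * CycAlg.tameSymbol R x b' =
      CycAlg.tameSymbol R x b * CycAlg.tameSymbol R x t.2 := fun hx => by
    rw [← (TameAlg50.symbol_mul hR (hn ht1) (hn hb') (hn hx)).2,
      ← (TameAlg50.symbol_mul hR (hn hb) (hn ht2) (hn hx)).2, e2]
  have hne : ∀ {x y : R}, x ≠ 0 → y ≠ 0 → CycAlg.tameSymbol R x y ≠ 0 := fun hx hy =>
    TameAlg50.symbol_ne_zero hR (hn hx) (hn hy)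
  have E1 := hl ht1
  have E2 := hl ht2
  have E3 := hr ha
  have E4 := hr ha'
  have := hne hs2 ht1; have := hne hs1 ht2; have := hne ha' hb; have := hne ha hb'
  have := hne hs2 ht2; have := hne ha' ht2; have := hne ha' ht1; have := hne ha ht2
  have := hne ha ht1; have := hne ha' hb'
  field_simp
  grind

lemma symK_ne_zero (hR : ringKrullDim R = 1) {f g : K} (hf : f ≠ 0) (hg : g ≠ 0) : symK R f g ≠ 0 := by
  obtain ⟨a, a', ha', rfl⟩ := IsFractionRing.div_surjective (A := R) f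
  obtain ⟨b, b', hb', rfl⟩ := IsFractionRing.div_surjective (A := R) g
  have hz : ∀ {x y : R}, y ∈ nonZeroDivisors R → algebraMap R K x / algebraMap R K y ≠ 0 → x ≠ 0 := by
    rintro x y - h rfl; simp at h
  have hn : ∀ {x : R}, x ≠ 0 → x ∈ nonZeroDivisors R := fun h => mem_nonZeroDivisors_of_ne_zero h
  have ha0 := hz ha' hf
  have hb0 := hz hb' hg
  rw [symK_eq hR ha0 (nonZeroDivisors.ne_zero ha') hb0 (nonZeroDivisors.ne_zero hb')
    (div_mul_cancel₀ _ (IsFractionRing.to_map_ne_zero_of_mem_nonZeroDivisors ha'))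
    (div_mul_cancel₀ _ (IsFractionRing.to_map_ne_zero_of_mem_nonZeroDivisors hb'))]
  exact div_ne_zero (mul_ne_zero (TameAlg50.symbol_ne_zero hR (hn ha0) (hn hb0))
    (TameAlg50.symbol_ne_zero hR ha' hb')) (mul_ne_zero (TameAlg50.symbol_ne_zero hR ha' (hn hb0))
    (TameAlg50.symbol_ne_zero hR (hn ha0) hb'))

/-- Changing the two elements by units. -/
theorem symK_unit_mul [Ring.KrullDimLE 1 R] (hR : ringKrullDim R = 1) (c d : Rˣ) {f g : K} (hf : f ≠ 0) (hg : g ≠ 0) :
    symK R (algebraMap R K c * f) (algebraMap R K d * g) =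
      residue R (c : R) ^ CycAlg.ordFrac R K g * (residue R (d : R) ^ CycAlg.ordFrac R K f)⁻¹ *
        symK R f g := by
  obtain ⟨a, a', ha', rfl⟩ := IsFractionRing.div_surjective (A := R) f
  obtain ⟨b, b', hb', rfl⟩ := IsFractionRing.div_surjective (A := R) g
  have hz : ∀ {x y : R}, y ∈ nonZeroDivisors R → algebraMap R K x / algebraMap R K y ≠ 0 → x ≠ 0 := by
    rintro x y - h rfl; simp at h
  have ha0 := hz ha' hf
  have hb0 := hz hb' hg
  have ha'0 := nonZeroDivisors.ne_zero ha'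
  have hb'0 := nonZeroDivisors.ne_zero hb'
  have ea := div_mul_cancel₀ (algebraMap R K a) (IsFractionRing.to_map_ne_zero_of_mem_nonZeroDivisors (K := K) ha')
  have eb := div_mul_cancel₀ (algebraMap R K b) (IsFractionRing.to_map_ne_zero_of_mem_nonZeroDivisors (K := K) hb')
  have hca : (c : R) * a ≠ 0 := mul_ne_zero c.ne_zero ha0
  have hdb : (d : R) * b ≠ 0 := mul_ne_zero d.ne_zero hb0
  rw [symK_eq hR hca ha'0 hdb hb'0 (by rw [map_mul, mul_assoc, ea]) (by rw [map_mul, mul_assoc, eb]),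
    symK_eq hR ha0 ha'0 hb0 hb'0 ea eb, Len90.ordFrac_of_mul_eq _ a a' ha0 ha'0 ea,
    Len90.ordFrac_of_mul_eq _ b b' hb0 hb'0 eb]
  have hn : ∀ {x : R}, x ≠ 0 → x ∈ nonZeroDivisors R := fun h => mem_nonZeroDivisors_of_ne_zero h
  have hcu : IsUnit (c : R) := c.isUnit
  have hdu : IsUnit (d : R) := d.isUnit
  have hml : ∀ {u x y : R}, u ≠ 0 → x ≠ 0 → y ≠ 0 →
      CycAlg.tameSymbol R (u * x) y = CycAlg.tameSymbol R u y * CycAlg.tameSymbol R x y :=
    fun hu hx hy => (TameAlg50.symbol_mul hR (hn hu) (hn hx) (hn hy)).1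
  have hmr : ∀ {u x y : R}, u ≠ 0 → x ≠ 0 → y ≠ 0 →
      CycAlg.tameSymbol R y (u * x) = CycAlg.tameSymbol R y u * CycAlg.tameSymbol R y x :=
    fun hu hx hy => (TameAlg50.symbol_mul hR (hn hu) (hn hx) (hn hy)).2
  have hc : ∀ {y : R}, y ≠ 0 → CycAlg.tameSymbol R c y = residue R (c : R) ^ (Ring.ord R y).toNat :=
    fun hy => TameAlg50.symbol_unit hR c (hn hy)
  have hd : ∀ {y : R}, y ≠ 0 → CycAlg.tameSymbol R y d = (residue R (d : R) ^ (Ring.ord R y).toNat)⁻¹ :=
    fun hy => symbol_swap hR (hn d.ne_zero) (hn hy) d rfl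
  have hr0 : residue R (c : R) ≠ 0 := (IsLocalRing.residue_ne_zero_iff_isUnit _).2 hcu
  have hs0 : residue R (d : R) ≠ 0 := (IsLocalRing.residue_ne_zero_iff_isUnit _).2 hdu
  have hne : ∀ {x y : R}, x ≠ 0 → y ≠ 0 → CycAlg.tameSymbol R x y ≠ 0 := fun hx hy =>
    TameAlg50.symbol_ne_zero hR (hn hx) (hn hy)
  rw [hml c.ne_zero ha0 hdb, hmr d.ne_zero hb0 c.ne_zero, TameAlg50.symbol_units hcu hdu,
    hmr d.ne_zero hb0 ha0, hmr d.ne_zero hb0 ha'0, hml c.ne_zero ha0 hb'0, hc hb0, hc hb'0, hd ha0, hd ha'0,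
    zpow_sub₀ hr0, zpow_sub₀ hs0, zpow_natCast, zpow_natCast, zpow_natCast, zpow_natCast]
  have := hne ha0 hb'0; have := hne ha'0 hb0
  field_simp

lemma symK_one_left (hR : ringKrullDim R = 1) {g : K} (hg : g ≠ 0) : symK R 1 g = 1 := by
  obtain ⟨b, b', hb', rfl⟩ := IsFractionRing.div_surjective (A := R) g
  have hb : b ≠ 0 := by rintro rfl; simp at hg
  have hn : ∀ {x : R}, x ≠ 0 → x ∈ nonZeroDivisors R := fun h => mem_nonZeroDivisors_of_ne_zero h
  rw [symK_eq hR one_ne_zero one_ne_zero hb (nonZeroDivisors.ne_zero hb') (by simp)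
    (div_mul_cancel₀ _ (IsFractionRing.to_map_ne_zero_of_mem_nonZeroDivisors hb'))]
  exact div_self (mul_ne_zero (TameAlg50.symbol_ne_zero hR (hn one_ne_zero) (hn hb))
    (TameAlg50.symbol_ne_zero hR (hn one_ne_zero) hb'))

lemma symK_one_right (hR : ringKrullDim R = 1) {f : K} (hf : f ≠ 0) : symK R f 1 = 1 := by
  obtain ⟨a, a', ha', rfl⟩ := IsFractionRing.div_surjective (A := R) f
  have ha : a ≠ 0 := by rintro rfl; simp at hf
  have hn : ∀ {x : R}, x ≠ 0 → x ∈ nonZeroDivisors R := fun h => mem_nonZeroDivisors_of_ne_zero h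
  rw [symK_eq hR ha (nonZeroDivisors.ne_zero ha') one_ne_zero one_ne_zero
    (div_mul_cancel₀ _ (IsFractionRing.to_map_ne_zero_of_mem_nonZeroDivisors ha')) (by simp),
    mul_comm (CycAlg.tameSymbol R a 1) (CycAlg.tameSymbol R a' 1)]
  exact div_self (mul_ne_zero (TameAlg50.symbol_ne_zero hR ha' (hn one_ne_zero))
    (TameAlg50.symbol_ne_zero hR (hn ha) (hn one_ne_zero)))

end Groth.Agent.Cyc90
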