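import Groth.Agent.S1851
import Groth.Agent.Cyc90.TameSym
import Groth.Agent.Cyc90.SecDiv
import Groth.Agent.Cyc90.IntegralOrd
import Groth.Agent.Cyc90.DimFun

/-! The key formula on an integral scheme. -/

set_option autoImplicit false
universe u

open CategoryTheory AlgebraicGeometry TopologicalSpace IsLocalRing

namespace Groth.Agent.Cyc90

variable {X : Scheme.{u}} {δ : X → ℤ}

lemma ordAt_mul (hX : Cyc.IsSetup X δ) {x ξ : X} (h : ξ ⤳ x) (hd : δ x + 1 = δ ξ) (p q : X.residueField ξ)
    (hp : p ≠ 0) (hq : q ≠ 0) : Cyc.ordAt x ξ h (p * q) = Cyc.ordAt x ξ h p + Cyc.ordAt x ξ h q := by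
  have := hX.1
  have h1 : ringKrullDim (Cyc.LocQuot x ξ h) ≤ 1 :=
    ringKrullDim_locQuot_le_one _ fun w h1 h2 => immediate hX.2.2 h hd h1 h2
  have := krullDimLE_one h1
  exact Len90.ordFrac_mul p q hp hq

lemma ordAt_one (hX : Cyc.IsSetup X δ) {x ξ : X} (h : ξ ⤳ x) (hd : δ x + 1 = δ ξ) :
    Cyc.ordAt x ξ h (1 : X.residueField ξ) = 0 := by
  have := ordAt_mul hX h hd 1 1 one_ne_zero one_ne_zero
  rw [mul_one] at this; linarith

lemma ordAt_inv (hX : Cyc.IsSetup X δ) {x ξ : X} (h : ξ ⤳ x) (hd : δ x + 1 = δ ξ) (p : X.residueField ξ)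
    (hp : p ≠ 0) : Cyc.ordAt x ξ h p⁻¹ = -Cyc.ordAt x ξ h p := by
  have := ordAt_mul hX h hd p p⁻¹ hp (inv_ne_zero hp)
  rw [mul_inv_cancel₀ hp, ordAt_one hX h hd] at this; linarith

lemma ordAt_zpow (hX : Cyc.IsSetup X δ) {x ξ : X} (h : ξ ⤳ x) (hd : δ x + 1 = δ ξ) (p : X.residueField ξ)
    (hp : p ≠ 0) (n : ℤ) : Cyc.ordAt x ξ h (p ^ n) = n * Cyc.ordAt x ξ h p := by
  induction n using Int.induction_on with
  | zero => simp [ordAt_one hX h hd]
  | succ n ih => rw [zpow_add_one₀ hp, ordAt_mul hX h hd _ _ (zpow_ne_zero _ hp) hp, ih]; ring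
  | pred n ih =>
    have := ordAt_mul hX h hd (p ^ (-(n : ℤ) - 1)) p (zpow_ne_zero _ hp) hp
    rw [← zpow_add_one₀ hp, sub_add_cancel, ih] at this
    linarith

variable [IsIntegral X]

/-- The tame symbol at a point of two rational functions. -/
noncomputable def symAt (y : X) (f g : X.residueField (genericPoint X)) : X.residueField y :=
  letI := (Cyc.specMap y (genericPoint X) (gen_specializes y)).toAlgebra
  haveI := isFractionRing_specMap y
  symK (X.presheaf.stalk y) f g

lemma dim_one_of_delta (hX : Cyc.IsSetup X δ) {y : X} (hy : δ y + 1 = δ (genericPoint X)) :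
    ringKrullDim (X.presheaf.stalk y) = 1 := by
  rw [ringKrullDim_stalk_irreducible hX.2.2 y]
  have : (δ (genericPoint X) - δ y).toNat = 1 := by omega
  rw [this]; rfl

lemma specMap_stalkSpecializes {x y : X} (h : y ⤳ x) (a : X.presheaf.stalk x) :
    Cyc.specMap y (genericPoint X) (gen_specializes y) (X.presheaf.stalkSpecializes h a) =
      Cyc.specMap x (genericPoint X) (gen_specializes x) a := by
  have := congr($(TopCat.Presheaf.stalkSpecializes_comp X.presheaf (gen_specializes y) h).hom a)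
  exact congrArg (X.residue (genericPoint X)) this

lemma stalkSpecializes_ne_zero {x y : X} (h : y ⤳ x) {a : X.presheaf.stalk x} (ha : a ≠ 0) :
    (X.presheaf.stalkSpecializes h a : X.presheaf.stalk y) ≠ 0 := fun e => by
  have h1 := specMap_stalkSpecializes h a
  rw [e, map_zero] at h1
  exact ha (stalk_generic_injective x (h1.symm.trans (map_zero _).symm))

open Classical in
/-- The term of the key formula. -/
noncomputable def keyTerm (δ : X → ℤ) (x : X) (a b : X.presheaf.stalk x) (ξ : X) : ℤ :=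
  if h : ξ ⤳ x ∧ δ ξ + 1 = δ (genericPoint X) then
    Cyc.ordAt x ξ h.1 (CycAlg.tameSymbol (X.presheaf.stalk ξ) (X.presheaf.stalkSpecializes h.1 a)
      (X.presheaf.stalkSpecializes h.1 b) : X.residueField ξ) else 0

lemma keyTerm_support_finite (hX : Cyc.IsSetup X δ) {x : X} (hx : δ x + 2 = δ (genericPoint X))
    (a b : X.presheaf.stalk x) (ha : a ≠ 0) (hb : b ≠ 0) : (Function.support (keyTerm δ x a b)).Finite := by
  classical
  have := hX.1
  refine ((Ideal.finite_minimalPrimes_of_isNoetherianRing (X.presheaf.stalk x) (Ideal.span {a * b})).preimage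
    (f := fun p : PrimeSpectrum (X.presheaf.stalk x) => p.asIdeal)
    (fun p _ q _ e => PrimeSpectrum.ext e)).image (fun p => X.fromSpecStalk x p) |>.subset ?_
  intro ξ hξ
  simp only [Function.mem_support, keyTerm] at hξ
  split_ifs at hξ with h
  swap
  · exact absurd rfl hξ
  refine ⟨genPrime h.1, ?_, fromSpecStalk_genPrime h.1⟩
  have hab : a * b ∈ (genPrime h.1).asIdeal := by
    by_contra hab
    refine hξ ?_
    let := (X.presheaf.stalkSpecializes h.1).hom.toAlgebra
    have := isLocalization_genPrime h.1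
    have hu : ∀ c : X.presheaf.stalk x, c ∉ (genPrime h.1).asIdeal →
        IsUnit (X.presheaf.stalkSpecializes h.1 c : X.presheaf.stalk ξ) := fun c hc =>
      IsLocalization.map_units (X.presheaf.stalk ξ) (⟨c, hc⟩ : (genPrime h.1).asIdeal.primeCompl)
    rw [TameAlg50.symbol_units (hu a fun hh => hab (Ideal.mul_mem_right _ _ hh))
      (hu b fun hh => hab (Ideal.mul_mem_left _ _ hh))]
    exact ordAt_one hX h.1 (by omega)
  refine ⟨⟨(genPrime h.1).2, (Ideal.span_singleton_le_iff_mem _).2 hab⟩, fun I hI hle => ?_⟩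
  let q : PrimeSpectrum (X.presheaf.stalk x) := ⟨I, hI.1⟩
  have hq := genPrime_fromSpecStalk q
  have hqz : X.fromSpecStalk x q ⤳ ξ := by
    rw [← genPrime_le_iff (fromSpecStalk_specializes q) h.1, hq]; exact hle
  by_cases e : X.fromSpecStalk x q = ξ
  · have : genPrime (fromSpecStalk_specializes q) = genPrime h.1 := (genPrime_eq_iff _ _).2 e
    rw [hq] at this
    exact (congrArg PrimeSpectrum.asIdeal this).ge
  exfalso
  have h1 := delta_lt hX.2.2 hqz e
  have h2 := delta_le hX.2.2 (gen_specializes (X.fromSpecStalk x q))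
  have h3 := eq_of_delta_le hX.2.2 (gen_specializes (X.fromSpecStalk x q)) (by omega)
  have h4 : RingHom.ker (Cyc.specMap x (genericPoint X) (gen_specializes x)) = I := by
    have h5 : genPrime (fromSpecStalk_specializes q) = genPrime (gen_specializes x) :=
      (genPrime_eq_iff _ _).2 h3.symm
    rw [hq] at h5
    rw [ker_specMap]
    exact (congrArg PrimeSpectrum.asIdeal h5).symm
  rw [ker_specMap_generic] at h4
  have := hI.2 (Ideal.mem_span_singleton_self (a * b))
  rw [← h4] at this
  exact mul_ne_zero ha hb this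

theorem finsum_keyTerm (hX : Cyc.IsSetup X δ) {x : X} (hx : δ x + 2 = δ (genericPoint X))
    (a b : X.presheaf.stalk x) (ha : a ≠ 0) (hb : b ≠ 0) : ∑ᶠ ξ, keyTerm δ x a b ξ = 0 := by
  classical
  have := hX.1
  have hA : ringKrullDim (X.presheaf.stalk x) = 2 := by
    rw [ringKrullDim_stalk_irreducible hX.2.2 x]
    have : (δ (genericPoint X) - δ x).toNat = 2 := by omega
    rw [this]; rfl
  have h0 := S1851.result (X.presheaf.stalk x) hA a b (mem_nonZeroDivisors_of_ne_zero ha)
    (mem_nonZeroDivisors_of_ne_zero hb)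
  rw [← h0]
  let E : Set X := {ξ | ξ ⤳ x ∧ δ ξ + 1 = δ (genericPoint X)}
  have hheight : ∀ {ξ : X} (h : ξ ⤳ x), (genPrime h).asIdeal.height =
      ((δ (genericPoint X) - δ ξ).toNat : ℕ) := fun {ξ} h => by
    let := (X.presheaf.stalkSpecializes h).hom.toAlgebra
    have := isLocalization_genPrime h
    have e := IsLocalization.AtPrime.ringKrullDim_eq_height (genPrime h).asIdeal (X.presheaf.stalk ξ)
    rw [ringKrullDim_stalk_irreducible hX.2.2 ξ] at e
    exact (WithBot.coe_injective (show (((δ (genericPoint X) - δ ξ).toNat : ℕ∞) : WithBot ℕ∞) =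
      ((genPrime h).asIdeal.height : WithBot ℕ∞) from e)).symm
  rw [← finsum_mem_univ]
  refine (finsum_mem_inter_support_eq' _ _ E fun ξ hξ => ?_).trans ?_
  · simp only [Function.mem_support, keyTerm] at hξ
    split_ifs at hξ with h
    · exact ⟨fun _ => h, fun _ => trivial⟩
    · exact absurd rfl hξ
  rw [← finsum_set_coe_eq_finsum_mem E]
  refine Eq.trans ?_ (finsum_set_coe_eq_finsum_mem {q : PrimeSpectrum (X.presheaf.stalk x) | q.asIdeal.height = 1})
  refine finsum_eq_of_bijective (fun ξ => ⟨genPrime ξ.2.1, by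
      show (genPrime ξ.2.1).asIdeal.height = 1
      rw [hheight]
      have := ξ.2.2
      rw [show (δ (genericPoint X) - δ ξ.1).toNat = 1 by omega]; rfl⟩)
    ⟨fun p q e => Subtype.ext ((genPrime_eq_iff _ _).1 (congrArg Subtype.val e)), fun q => ?_⟩ fun ξ => ?_
  · refine ⟨⟨X.fromSpecStalk x q.1, fromSpecStalk_specializes q.1, ?_⟩, Subtype.ext (genPrime_fromSpecStalk q.1)⟩
    have h1 : (genPrime (fromSpecStalk_specializes q.1)).asIdeal.height = 1 := by
      rw [genPrime_fromSpecStalk]; exact q.2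
    rw [hheight] at h1
    have : (δ (genericPoint X) - δ (X.fromSpecStalk x q.1)).toNat = 1 := by exact_mod_cast h1
    omega
  · obtain ⟨z, hz, hdz⟩ := ξ
    dsimp only
    rw [keyTerm, dif_pos ⟨hz, hdz⟩]
    let := (X.presheaf.stalkSpecializes hz).hom.toAlgebra
    have := isLocalization_genPrime hz
    let p := (genPrime hz).asIdeal
    let e : Localization.AtPrime p ≃+* X.presheaf.stalk z :=
      (IsLocalization.algEquiv p.primeCompl (Localization.AtPrime p) (X.presheaf.stalk z)).toRingEquiv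
    have he : ∀ c, e (algebraMap _ (Localization.AtPrime p) c) = X.presheaf.stalkSpecializes hz c :=
      fun c => AlgEquiv.commutes _ c
    have : IsNoetherianRing (Localization.AtPrime p) := IsLocalization.isNoetherianRing p.primeCompl _ inferInstance
    have hd1 : ringKrullDim (Localization.AtPrime p) = 1 :=
      (ringKrullDim_eq_of_ringEquiv e).trans (dim_one_of_delta hX hdz)
    have hnz : ∀ c : X.presheaf.stalk x, c ≠ 0 →
        algebraMap _ (Localization.AtPrime p) c ∈ nonZeroDivisors (Localization.AtPrime p) := fun c hc =>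
      mem_nonZeroDivisors_of_ne_zero ((map_ne_zero_iff _ (IsLocalization.injective
        (Localization.AtPrime p) p.primeCompl_le_nonZeroDivisors)).2 hc)
    rw [← he, ← he, symbol_congr e hd1 (hnz a ha) (hnz b hb)]
    have hker := ker_specMap hz
    have h1 : ringKrullDim (Cyc.LocQuot x z hz) ≤ 1 :=
      ringKrullDim_locQuot_le_one _ fun w h1 h2 => immediate hX.2.2 hz (by omega) h1 h2
    have := krullDimLE_one h1
    let q : (X.presheaf.stalk x ⧸ p) ≃+* Cyc.LocQuot x z hz := Ideal.quotEquivOfEq hker.symm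
    have h2 : ringKrullDim (X.presheaf.stalk x ⧸ p) ≤ 1 := (ringKrullDim_eq_of_ringEquiv q).trans_le h1
    have := krullDimLE_one h2
    let τ : p.ResidueField →+* X.residueField z := (ResidueField.mapEquiv e).toRingHom
    refine ordFrac_congr q τ (fun r => ?_) _
      (TameAlg50.symbol_ne_zero hd1 (hnz a ha) (hnz b hb))
    obtain ⟨r, rfl⟩ := Ideal.Quotient.mk_surjective r
    exact congrArg (X.residue z) (he r)

/-- The key formula for two rational functions. -/
theorem finsum_ordAt_symAt (hX : Cyc.IsSetup X δ) {x : X} (hx : δ x + 2 = δ (genericPoint X))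
    (f g : X.residueField (genericPoint X)) (hf : f ≠ 0) (hg : g ≠ 0) :
    open Classical in
    let H := fun ξ => if h : ξ ⤳ x ∧ δ ξ + 1 = δ (genericPoint X) then Cyc.ordAt x ξ h.1 (symAt ξ f g) else 0
    (Function.support H).Finite ∧ ∑ᶠ ξ, H ξ = 0 := by
  classical
  intro H
  have := hX.1
  let iA : Algebra (X.presheaf.stalk x) (X.residueField (genericPoint X)) :=
    (Cyc.specMap x (genericPoint X) (gen_specializes x)).toAlgebra
  have := isFractionRing_specMap x
  obtain ⟨a, a', ha', hfa⟩ := IsFractionRing.div_surjective (A := X.presheaf.stalk x) f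
  obtain ⟨b, b', hb', hgb⟩ := IsFractionRing.div_surjective (A := X.presheaf.stalk x) g
  have ha0 : a ≠ 0 := by rintro rfl; simp at hfa; exact hf hfa.symm
  have hb0 : b ≠ 0 := by rintro rfl; simp at hgb; exact hg hgb.symm
  have ha'0 := nonZeroDivisors.ne_zero ha'
  have hb'0 := nonZeroDivisors.ne_zero hb'
  let T := keyTerm δ x
  have hH : H = fun ξ => (T a b ξ + T a' b' ξ) - (T a' b ξ + T a b' ξ) := by
    funext ξ
    by_cases h : ξ ⤳ x ∧ δ ξ + 1 = δ (genericPoint X)
    swap
    · simp only [H, T, keyTerm, dif_neg h]; ring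
    simp only [H, T, keyTerm, dif_pos h]
    have hd1 := dim_one_of_delta hX h.2
    let iB : Algebra (X.presheaf.stalk ξ) (X.residueField (genericPoint X)) :=
      (Cyc.specMap ξ (genericPoint X) (gen_specializes ξ)).toAlgebra
    have := isFractionRing_specMap ξ
    let σ : X.presheaf.stalk x → X.presheaf.stalk ξ := fun c => X.presheaf.stalkSpecializes h.1 c
    have hne : ∀ {c : X.presheaf.stalk x}, c ≠ 0 → σ c ≠ 0 := fun hc => stalkSpecializes_ne_zero h.1 hc
    have hσ : ∀ c, algebraMap (X.presheaf.stalk ξ) (X.residueField (genericPoint X)) (σ c) =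
        algebraMap (X.presheaf.stalk x) (X.residueField (genericPoint X)) c := fun c => specMap_stalkSpecializes h.1 c
    let P : X.presheaf.stalk x → X.presheaf.stalk x → X.residueField ξ := fun c c' =>
      CycAlg.tameSymbol (X.presheaf.stalk ξ) (σ c) (σ c')
    have e : symAt ξ f g = P a b * P a' b' / (P a' b * P a b') :=
      symK_eq hd1 (hne ha0) (hne ha'0) (hne hb0) (hne hb'0)
        (by rw [hσ, hσ, ← hfa, div_mul_cancel₀ _ (IsFractionRing.to_map_ne_zero_of_mem_nonZeroDivisors ha')])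
        (by rw [hσ, hσ, ← hgb, div_mul_cancel₀ _ (IsFractionRing.to_map_ne_zero_of_mem_nonZeroDivisors hb')])
    have hn : ∀ {c c' : X.presheaf.stalk x}, c ≠ 0 → c' ≠ 0 → P c c' ≠ 0 := fun hc hc' =>
      TameAlg50.symbol_ne_zero hd1 (mem_nonZeroDivisors_of_ne_zero (hne hc))
        (mem_nonZeroDivisors_of_ne_zero (hne hc'))
    have hd : δ x + 1 = δ ξ := by omega
    change Cyc.ordAt x ξ h.1 (symAt ξ f g) = Cyc.ordAt x ξ h.1 (P a b) + Cyc.ordAt x ξ h.1 (P a' b') -
      (Cyc.ordAt x ξ h.1 (P a' b) + Cyc.ordAt x ξ h.1 (P a b'))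
    rw [e, div_eq_mul_inv, ordAt_mul hX h.1 hd _ _ (mul_ne_zero (hn ha0 hb0) (hn ha'0 hb'0))
      (inv_ne_zero (mul_ne_zero (hn ha'0 hb0) (hn ha0 hb'0))),
      ordAt_inv hX h.1 hd _ (mul_ne_zero (hn ha'0 hb0) (hn ha0 hb'0)),
      ordAt_mul hX h.1 hd _ _ (hn ha0 hb0) (hn ha'0 hb'0),
      ordAt_mul hX h.1 hd _ _ (hn ha'0 hb0) (hn ha0 hb'0)]
    ring
  have s1 := keyTerm_support_finite hX hx a b ha0 hb0
  have s2 := keyTerm_support_finite hX hx a' b' ha'0 hb'0
  have s3 := keyTerm_support_finite hX hx a' b ha'0 hb0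
  have s4 := keyTerm_support_finite hX hx a b' ha0 hb'0
  have p1 : (Function.support fun ξ => T a b ξ + T a' b' ξ).Finite :=
    (s1.union s2).subset (Function.support_add _ _)
  have p2 : (Function.support fun ξ => T a' b ξ + T a b' ξ).Finite :=
    (s3.union s4).subset (Function.support_add _ _)
  rw [hH]
  refine ⟨(p1.union p2).subset (Function.support_sub _ _), ?_⟩
  rw [finsum_sub_distrib p1 p2, finsum_add_distrib s1 s2, finsum_add_distrib s3 s4,
    finsum_keyTerm hX hx a b ha0 hb0, finsum_keyTerm hX hx a' b' ha'0 hb'0,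
    finsum_keyTerm hX hx a' b ha'0 hb0, finsum_keyTerm hX hx a b' ha0 hb'0]
  simp

end Groth.Agent.Cyc90
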