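import Groth.Agent.Cyc90.FlatRelDim
import Groth.Agent.E4O.BaseChangeDim
import Groth.Agent.VarGal.TensorDim
import Mathlib.AlgebraicGeometry.PullbackCarrier

/-! Maximal points of a base change keep the dimension in the fibre. -/

set_option autoImplicit false
universe u

open CategoryTheory Limits AlgebraicGeometry TopologicalSpace
open scoped TensorProduct

namespace Groth.Agent.Cyc90

set_option maxHeartbeats 1000000 in
/-- At a minimal prime of `L ⊗ K` algebraically independent elements of `L` stay independent over `K`. -/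
theorem algebraicIndependent_of_minimalPrime {F L K M : Type u} [Field F] [Field L] [Field K] [Field M]
    [Algebra F L] [Algebra F K] {n : ℕ} (y : Fin n → L) (hy : AlgebraicIndependent F y)
    (ψ : L ⊗[F] K →+* M) (hψ : RingHom.ker ψ ∈ minimalPrimes (L ⊗[F] K)) :
    letI := (ψ.comp (Algebra.TensorProduct.includeRight : K →ₐ[F] L ⊗[F] K).toRingHom).toAlgebra
    AlgebraicIndependent K fun i => ψ (y i ⊗ₜ 1) := by
  letI : Algebra K M := (ψ.comp (Algebra.TensorProduct.includeRight : K →ₐ[F] L ⊗[F] K).toRingHom).toAlgebra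
  let T := MvPolynomial (Fin n) F
  let E := FractionRing T
  let iE : E →ₐ[F] L := IsFractionRing.liftAlgHom (g := MvPolynomial.aeval y) hy
  let := iE.toRingHom.toAlgebra
  have : IsScalarTower F E L := .of_algebraMap_eq fun c => (iE.commutes c).symm
  have hdom : IsDomain (E ⊗[F] K) := VarGal.isDomain_fractionRing_mvPolynomial_tensor n K
  let eT : T ⊗[F] K ≃ₐ[F] MvPolynomial (Fin n) K :=
    (Algebra.TensorProduct.comm F T K).trans
      ((MvPolynomial.algebraTensorAlgEquiv (R := F) (σ := Fin n) (A := K)).restrictScalars F)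
  let jE : T ⊗[F] K →ₐ[F] E ⊗[F] K :=
    Algebra.TensorProduct.map (IsScalarTower.toAlgHom F T E) (AlgHom.id F K)
  let jL : E ⊗[F] K →ₐ[F] L ⊗[F] K :=
    Algebra.TensorProduct.map (IsScalarTower.toAlgHom F E L) (AlgHom.id F K)
  let Φ : MvPolynomial (Fin n) K →+* M :=
    ψ.comp (jL.toRingHom.comp (jE.toRingHom.comp eT.symm.toAlgHom.toRingHom))
  have hX : ∀ i, eT.symm (MvPolynomial.X i) = (MvPolynomial.X i : T) ⊗ₜ 1 := fun i =>
    (congrArg (Algebra.TensorProduct.comm F T K).symm
      (MvPolynomial.algebraTensorAlgEquiv_symm_X F K i)).trans rfl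
  have hC : ∀ c : K, eT.symm (MvPolynomial.C c) = (1 : T) ⊗ₜ c := fun c =>
    (congrArg (Algebra.TensorProduct.comm F T K).symm
      (MvPolynomial.algebraTensorAlgEquiv_symm_monomial F K 0 c)).trans rfl
  have hΦ : (MvPolynomial.aeval fun i => ψ (y i ⊗ₜ 1)).toRingHom = Φ := by
    refine MvPolynomial.ringHom_ext (fun c => ?_) fun i => ?_
    · change MvPolynomial.aeval _ (MvPolynomial.C c) = ψ (jL (jE (eT.symm (MvPolynomial.C c))))
      rw [hC, MvPolynomial.aeval_C]
      simp [jE, jL]
      rfl
    · change MvPolynomial.aeval _ (MvPolynomial.X i) = ψ (jL (jE (eT.symm (MvPolynomial.X i))))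
      rw [hX, MvPolynomial.aeval_X]
      have hiE : iE (algebraMap T E (MvPolynomial.X i)) = y i :=
        (IsFractionRing.lift_algebraMap
          (show Function.Injective ((MvPolynomial.aeval y : T →ₐ[F] L).toRingHom) from hy) (MvPolynomial.X i)).trans (MvPolynomial.aeval_X y i)
      simp [jE, jL, RingHom.algebraMap_toAlgebra, hiE]
  rw [algebraicIndependent_iff_injective_aeval]
  refine (injective_iff_map_eq_zero _).2 fun r hr => ?_
  by_contra hr0
  have hr' : ψ (jL (jE (eT.symm r))) = 0 := (congr($hΦ r)).symm.trans hr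
  have hjE : Function.Injective jE :=
    VarGal.tensorMap_injective _ _ (IsFractionRing.injective T E) Function.injective_id
  have hne : jE (eT.symm r) ≠ 0 := fun h => hr0 (eT.symm.injective (hjE (by rw [h, map_zero, map_zero])))
  exact Set.disjoint_left.1 (Ideal.disjoint_nonZeroDivisors_of_mem_minimalPrimes hψ)
    (RingHom.mem_ker.2 hr')
    (mem_nonZeroDivisors_iff.2
      ⟨fun w hw => VarGal.mul_injective_baseChange_field hne hw,
        fun w hw => VarGal.mul_injective_baseChange_field hne (by rwa [mul_comm] at hw)⟩)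

variable {X Y S : Scheme.{u}} {f : X ⟶ S} {g : Y ⟶ S}

lemma SpecTensorTo_injective (T : Scheme.Pullback.Triplet f g) : Function.Injective T.SpecTensorTo :=
  fun p q h => by
    have := Scheme.Pullback.carrierEquiv.symm.injective (a₁ := ⟨T, p⟩) (a₂ := ⟨T, q⟩) h
    exact eq_of_heq (Sigma.mk.inj_iff.1 this).2

/-- At a maximal point of a base change `fdeg` is that of the image. -/
theorem fdeg_snd_eq [LocallyOfFiniteType f] (t : ↑(pullback f g))
    (hmax : ∀ w, pullback.fst f g w = pullback.fst f g t → pullback.snd f g w = pullback.snd f g t →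
      w ⤳ t → w = t) :
    E4O.fdeg (pullback.snd f g) t = E4O.fdeg f (pullback.fst f g t) := by
  refine le_antisymm (E4O.fdeg_le_of_isPullback (IsPullback.of_hasPullback f g) t) ?_
  let x := pullback.fst f g t
  let y := pullback.snd f g t
  let T := Scheme.Pullback.Triplet.ofPoint t
  let F := S.residueField T.s
  let L := X.residueField x
  let K := Y.residueField y
  let M := (pullback f g).residueField t
  let a : F ⟶ L := (S.residueFieldCongr T.hx).inv ≫ f.residueFieldMap x
  let b : F ⟶ K := (S.residueFieldCongr T.hy).inv ≫ g.residueFieldMap y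
  let : Algebra F L := a.hom.toAlgebra
  let : Algebra F K := b.hom.toAlgebra
  let e : CommRingCat.of (L ⊗[F] K) ≅ T.tensor := (CommRingCat.isPushout_tensorProduct F L K).isoPushout
  let ψ : L ⊗[F] K →+* M := (e.hom ≫ Scheme.Pullback.ofPointTensor t).hom
  have hψl : ∀ l : L, ψ (l ⊗ₜ 1) = (pullback.fst f g).residueFieldMap t l := fun l => by
    have h1 := (CommRingCat.isPushout_tensorProduct F L K).inl_isoPushout_hom
    have h2 := congr(($h1 ≫ Scheme.Pullback.ofPointTensor t).hom l)
    refine h2.trans ?_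
    exact congr($(pushout.inl_desc _ _
      (Scheme.Pullback.residueFieldCongr_inv_residueFieldMap_ofPoint t)).hom l)
  have hψr : ∀ c : K, ψ (1 ⊗ₜ c) = (pullback.snd f g).residueFieldMap t c := fun c => by
    have h1 := (CommRingCat.isPushout_tensorProduct F L K).inr_isoPushout_hom
    have h2 := congr(($h1 ≫ Scheme.Pullback.ofPointTensor t).hom c)
    refine h2.trans ?_
    exact congr($(pushout.inr_desc _ _
      (Scheme.Pullback.residueFieldCongr_inv_residueFieldMap_ofPoint t)).hom c)
  have hker : RingHom.ker (Scheme.Pullback.ofPointTensor t).hom ∈ minimalPrimes T.tensor := by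
    refine ⟨⟨RingHom.ker_isPrime _, bot_le⟩, fun Q hQ hle => ?_⟩
    let q : PrimeSpectrum T.tensor := ⟨Q, hQ.1⟩
    have ht : T.SpecTensorTo (Scheme.Pullback.SpecOfPoint t) = t :=
      Scheme.Pullback.SpecTensorTo_SpecOfPoint t
    have hspec : (q : Spec T.tensor) ⤳ Scheme.Pullback.SpecOfPoint t :=
      (PrimeSpectrum.le_iff_specializes q _).1 hle
    have hwt : T.SpecTensorTo q ⤳ t := ht ▸ hspec.map T.SpecTensorTo.continuous
    have hqt := hmax _ (T.fst_SpecTensorTo_apply q) (T.snd_SpecTensorTo_apply q) hwt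
    have hqe := SpecTensorTo_injective T (hqt.trans ht.symm)
    exact (congrArg PrimeSpectrum.asIdeal hqe).ge
  have hψ : RingHom.ker ψ ∈ minimalPrimes (L ⊗[F] K) := by
    let e' := e.commRingCatIsoToRingEquiv
    have h1 : RingHom.ker ψ = (RingHom.ker (Scheme.Pullback.ofPointTensor t).hom).comap e'.toRingHom :=
      rfl
    rw [h1]
    refine ⟨⟨have := hker.1.1; Ideal.comap_isPrime _ _, bot_le⟩, fun Q hQ hle => ?_⟩
    have hQp : Q.IsPrime := hQ.1
    have hp2 : (Q.comap e'.symm.toRingHom).IsPrime := Ideal.comap_isPrime _ _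
    have h2 := hker.2 (y := Q.comap e'.symm.toRingHom) ⟨hp2, bot_le⟩
      fun z hz => by
        have h' : e' (e'.symm z) ∈ RingHom.ker (Scheme.Pullback.ofPointTensor t).hom := hle hz
        rwa [e'.apply_symm_apply] at h'
    intro z hz
    have := h2 (Ideal.mem_comap.1 hz)
    simpa using this
  letI iFL : Algebra (S.residueField (f x)) L := (f.residueFieldMap x).hom.toAlgebra
  have hrf : Algebra.trdeg F L = Algebra.trdeg (S.residueField (f x)) L := by
    refine (E4O.trdeg_eq_of_ringEquiv (S.residueFieldCongr (show f x = T.s from T.hx)).commRingCatIsoToRingEquiv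
      (RingEquiv.refl L) (RingHom.ext fun z => ?_)).symm
    change f.residueFieldMap x ((S.residueFieldCongr (show f x = T.s from T.hx)).inv
      ((S.residueFieldCongr (show f x = T.s from T.hx)).hom z)) = f.residueFieldMap x z
    rw [Iso.hom_inv_id_apply]
  rw [trdeg_residueField_eq_fdeg f x] at hrf
  obtain ⟨s, v, hv⟩ := exists_isTranscendenceBasis' F L
  have hs : Cardinal.mk s = (E4O.fdeg f x : Cardinal.{u}) := hv.cardinalMk_eq_trdeg.trans hrf
  have : Finite s := Cardinal.lt_aleph0_iff_finite.1 (hs ▸ Cardinal.natCast_lt_aleph0)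
  have hn : Nat.card s = E4O.fdeg f x := by rw [Nat.card, hs, Cardinal.toNat_natCast]
  let σ : Fin (E4O.fdeg f x) ≃ s := (finCongr hn.symm).trans (Finite.equivFin s).symm
  have hind := algebraicIndependent_of_minimalPrime (v ∘ σ) (hv.1.comp σ σ.injective) ψ hψ
  letI iKM : Algebra K M := ((pullback.snd f g).residueFieldMap t).hom.toAlgebra
  have halg : (ψ.comp (Algebra.TensorProduct.includeRight : K →ₐ[F] L ⊗[F] K).toRingHom).toAlgebra = iKM :=
    Algebra.algebra_ext _ _ hψr
  rw [halg] at hind
  have h := hind.lift_cardinalMk_le_trdeg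
  rw [Cardinal.mk_fin, trdeg_residueField_eq_fdeg, Cardinal.lift_natCast, Cardinal.lift_natCast] at h
  exact_mod_cast h

end Groth.Agent.Cyc90
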