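import Groth.Prelude.Def_P1
import Groth.Agent.Cyc90.AffLine
import Groth.Agent.Cyc90.ZeroPull
import Groth.Agent.Approx60.ProjCharts
import Mathlib.AlgebraicGeometry.ProjectiveSpectrum.Proper

/-! The two standard charts of the projective line over the integers and its points `0`, `∞`. -/

set_option autoImplicit false
universe u

open CategoryTheory CategoryTheory.Limits AlgebraicGeometry TopologicalSpace IsLocalRing

namespace Groth.Agent.Cyc90.P1L

open P1

/-- The other index. -/
def oth (i : Fin (1 + 1)) : Fin (1 + 1) := if i = 0 then 1 else 0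

lemma oth_ne (i : Fin (1 + 1)) : oth i ≠ i := by fin_cases i <;> decide

lemma eq_or_eq_oth (i j : Fin (1 + 1)) : j = i ∨ j = oth i := by fin_cases i <;> fin_cases j <;> decide

lemma oth_zero : oth 0 = 1 := rfl
lemma oth_one : oth 1 = 0 := rfl

/-- The coordinate of the chart `T_i ≠ 0`. -/
noncomputable def t (i : Fin (1 + 1)) : HomogeneousLocalization.Away grading.{u} (T i) :=
  HomogeneousLocalization.Away.mk grading (X_mem i) 1 (T (oth i)) (by simpa using X_mem (oth i))

lemma evalAway_mk (i : Fin (1 + 1)) (n : ℕ) (P : MvPolynomial (Fin (1 + 1)) R0.{u}) (hP) :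
    evalAway i (HomogeneousLocalization.Away.mk grading (X_mem i) n P hP) =
      MvPolynomial.aeval (R := R0.{u}) (Pi.single i (1 : R0.{u}) : Fin (1 + 1) → R0.{u}) P := by
  let g : MvPolynomial (Fin (1 + 1)) R0.{u} →+* R0.{u} :=
    (MvPolynomial.aeval (R := R0.{u}) (Pi.single i (1 : R0.{u}) : Fin (1 + 1) → R0.{u})).toRingHom
  have hg : IsUnit (g (T i)) := by simp [g]
  change IsLocalization.Away.lift (T i) hg
    (HomogeneousLocalization.Away.mk grading (X_mem i) n P hP).val = _
  rw [HomogeneousLocalization.Away.val_mk, Localization.mk_eq_mk']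
  refine (IsLocalization.lift_mk'_spec _ _ _ _).2 ?_
  simp [g]

lemma evalAway_t (i : Fin (1 + 1)) : evalAway i (t.{u} i) = 0 := by
  rw [t, evalAway_mk]
  simp [oth_ne]

lemma val_t (i : Fin (1 + 1)) : (t.{u} i).val = Localization.mk (T (oth i)) (⟨T i, Submonoid.mem_powers _⟩ : Submonoid.powers (T.{u} i)) := by
  rw [t, HomogeneousLocalization.Away.val_mk]
  simp

lemma mk_sum (i : Fin (1 + 1)) (n : ℕ) {α : Type*} (s : Finset α) (F : α → MvPolynomial (Fin (1 + 1)) R0.{u})
    (h : ∀ a, F a ∈ grading.{u} (n • 1)) :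
    HomogeneousLocalization.Away.mk grading (X_mem i) n (∑ a ∈ s, F a) (sum_mem fun a _ => h a) =
      ∑ a ∈ s, HomogeneousLocalization.Away.mk grading (X_mem i) n (F a) (h a) := by
  classical
  induction s using Finset.induction with
  | empty =>
    refine HomogeneousLocalization.val_injective _ ?_
    simp [Localization.mk_zero]
  | insert a s ha ih =>
    conv_rhs => rw [Finset.sum_insert ha, ← ih]
    refine HomogeneousLocalization.val_injective _ ?_
    simp only [HomogeneousLocalization.val_add, HomogeneousLocalization.Away.val_mk, Localization.mk_eq_mk',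
      Finset.sum_insert ha]
    rw [IsLocalization.mk'_eq_mul_mk'_one, map_add, add_mul, ← IsLocalization.mk'_eq_mul_mk'_one,
      ← IsLocalization.mk'_eq_mul_mk'_one]

lemma ker_evalAway (i : Fin (1 + 1)) : RingHom.ker (evalAway.{u} i) = Ideal.span {t i} := by
  refine le_antisymm (fun x hx => ?_) ((Ideal.span_singleton_le_iff_mem _).2 (evalAway_t i))
  obtain ⟨n, P, hP, rfl⟩ := HomogeneousLocalization.Away.mk_surjective grading (X_mem i) x
  have hP' : P.IsHomogeneous n := by simpa [CohB1.polyGrading] using hP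
  have hdeg : ∀ d ∈ P.support, d (oth i) + d i = n := fun d hd => by
    have := hP' (MvPolynomial.mem_support_iff.1 hd)
    rw [Pi.one_def, ← Finsupp.degree_eq_weight_one, Finsupp.degree_eq_sum] at this
    fin_cases i <;> simp_all [Fin.sum_univ_two, oth, add_comm]
  have hd' : ∀ d : Fin (1 + 1) →₀ ℕ, d = Finsupp.single i (d i) + Finsupp.single (oth i) (d (oth i)) := fun d => by
    ext j
    rcases eq_or_eq_oth i j with rfl | rfl <;> simp [oth_ne, (oth_ne _).symm]
  have h0 : MvPolynomial.aeval (R := R0.{u}) (Pi.single i (1 : R0.{u}) : Fin (1 + 1) → R0.{u}) P = 0 := by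
    rw [← evalAway_mk i n P hP]; exact hx
  have hpos : ∀ d ∈ P.support, d (oth i) ≠ 0 := by
    intro d hd he
    refine MvPolynomial.mem_support_iff.1 hd ?_
    rw [P.as_sum, map_sum, Finset.sum_eq_single d] at h0
    · rw [MvPolynomial.aeval_monomial, Finsupp.prod, Finset.prod_eq_one fun j hj => ?_, mul_one] at h0
      · simpa using h0
      · rcases eq_or_eq_oth i j with rfl | rfl
        · simp
        · exact absurd he (Finsupp.mem_support_iff.1 hj)
    · intro d' hd'' hne
      have : d' (oth i) ≠ 0 := fun e => hne <| by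
        rw [hd' d, hd' d', e, he, show d' i = d i by have := hdeg d hd; have := hdeg d' hd''; omega]
      rw [MvPolynomial.aeval_monomial, Finsupp.prod, Finset.prod_eq_zero (Finsupp.mem_support_iff.2 this)
        (by simp [Pi.single_eq_of_ne (oth_ne i), zero_pow this]), mul_zero]
    · exact fun h => absurd hd h
  have hmem : ∀ d : P.support, MvPolynomial.monomial d.1 (P.coeff d.1) ∈ grading.{u} (n • 1) := fun d => by
    simp only [smul_eq_mul, mul_one]
    refine (MvPolynomial.mem_homogeneousSubmodule _ _).2 (MvPolynomial.isHomogeneous_monomial _ ?_)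
    rw [Finsupp.degree_eq_weight_one]
    exact hP' (MvPolynomial.mem_support_iff.1 d.2)
  have hsum : HomogeneousLocalization.Away.mk grading (X_mem i) n P hP =
      ∑ d ∈ P.support.attach, HomogeneousLocalization.Away.mk grading (X_mem i) n
        (MvPolynomial.monomial d.1 (P.coeff d.1)) (hmem d) := by
    rw [← mk_sum i n P.support.attach (fun d => MvPolynomial.monomial d.1 (P.coeff d.1)) hmem]
    congr 1
    rw [Finset.sum_attach P.support fun d => MvPolynomial.monomial d (P.coeff d)]
    exact P.as_sum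
  rw [hsum]
  refine Submodule.sum_mem _ fun d _ => Ideal.mem_span_singleton'.2 ?_
  obtain ⟨d, hd⟩ := d
  obtain ⟨n', rfl⟩ : ∃ n', n = n' + 1 := ⟨n - 1, by have := hdeg d hd; have := hpos d hd; omega⟩
  have hd0 : d = (d - Finsupp.single (oth i) 1) + Finsupp.single (oth i) 1 :=
    (tsub_add_cancel_of_le (Finsupp.single_le_iff.2 (Nat.one_le_iff_ne_zero.2 (hpos d hd)))).symm
  have hmem' : MvPolynomial.monomial (d - Finsupp.single (oth i) 1) (P.coeff d) ∈
      grading.{u} (n' • 1) := by
    simp only [smul_eq_mul, mul_one]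
    refine (MvPolynomial.mem_homogeneousSubmodule _ _).2 (MvPolynomial.isHomogeneous_monomial _ ?_)
    have := hP' (MvPolynomial.mem_support_iff.1 hd)
    rw [Pi.one_def, ← Finsupp.degree_eq_weight_one, hd0, map_add, Finsupp.degree_single] at this
    omega
  refine ⟨HomogeneousLocalization.Away.mk grading (X_mem i) n' _ hmem', ?_⟩
  refine HomogeneousLocalization.val_injective _ ?_
  rw [HomogeneousLocalization.val_mul, HomogeneousLocalization.Away.val_mk, val_t,
    HomogeneousLocalization.Away.val_mk, Localization.mk_mul, Localization.mk_eq_mk_iff, Localization.r_iff_exists]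
  refine ⟨1, ?_⟩
  simp only [OneMemClass.coe_one, one_mul, Submonoid.coe_mul]
  rw [show MvPolynomial.monomial d (P.coeff d) =
    MvPolynomial.monomial (d - Finsupp.single (oth i) 1) (P.coeff d) * T (oth i) from by
      rw [T, MvPolynomial.X, MvPolynomial.monomial_mul, mul_one, ← hd0]]
  ring

lemma evalAway_surjective (i : Fin (1 + 1)) : Function.Surjective (evalAway.{u} i) := fun r =>
  ⟨HomogeneousLocalization.Away.mk grading (X_mem i) 0 (MvPolynomial.C r)
    (by simpa [CohB1.polyGrading] using MvPolynomial.isHomogeneous_C _ r), by simp [evalAway_mk]⟩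

/-- The kernel on local rings of `Spec` of a surjection with principal kernel. -/
lemma ker_stalkMap_specMap {A B : Type u} [CommRing A] [CommRing B] (φ : A →+* B)
    (hs : Function.Surjective φ) (a : A) (hk : RingHom.ker φ = Ideal.span {a})
    (w : Spec (CommRingCat.of B)) :
    RingHom.ker ((Spec.map (CommRingCat.ofHom φ)).stalkMap w).hom =
      Ideal.span {toSt (Spec.map (CommRingCat.ofHom φ) w) a} := by
  set v := Spec.map (CommRingCat.ofHom φ) w with hv
  refine le_antisymm (fun x hx => ?_) ((Ideal.span_singleton_le_iff_mem _).2 (RingHom.mem_ker.2 ?_))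
  swap
  · rw [toSt_stalkMap, RingHom.mem_ker.1 (hk.ge (Ideal.mem_span_singleton_self a)), map_zero]
  letI : Algebra A ((Spec (CommRingCat.of A)).presheaf.stalk v) := (toSt v).toAlgebra
  haveI : IsLocalization.AtPrime ((Spec (CommRingCat.of A)).presheaf.stalk v) v.asIdeal :=
    StructureSheaf.IsLocalization.to_stalk A v
  letI : Algebra B ((Spec (CommRingCat.of B)).presheaf.stalk w) := (toSt w).toAlgebra
  haveI : IsLocalization.AtPrime ((Spec (CommRingCat.of B)).presheaf.stalk w) w.asIdeal :=
    StructureSheaf.IsLocalization.to_stalk B w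
  obtain ⟨⟨r, s⟩, hrs⟩ := IsLocalization.surj v.asIdeal.primeCompl x
  replace hrs : x * toSt v s.1 = toSt v r := hrs
  have h0 : algebraMap B ((Spec (CommRingCat.of B)).presheaf.stalk w) (φ r) = algebraMap B _ 0 := by
    have h := congrArg ((Spec.map (CommRingCat.ofHom φ)).stalkMap w).hom hrs
    rw [map_mul, RingHom.mem_ker.1 hx, zero_mul] at h
    rw [map_zero]
    exact (toSt_stalkMap φ w r).symm.trans h.symm
  obtain ⟨⟨c, hc⟩, hcr⟩ := (IsLocalization.eq_iff_exists w.asIdeal.primeCompl _).1 h0
  obtain ⟨c', rfl⟩ := hs c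
  have hmem : c' * r ∈ Ideal.span {a} := hk.le (RingHom.mem_ker.2 (by rw [map_mul]; simpa using hcr))
  have hu : IsUnit (toSt v c') := (isUnit_toSt_iff v c').2 fun h => hc h
  have hu' : IsUnit (toSt v s.1) := (isUnit_toSt_iff v _).2 s.2
  refine (Ideal.unit_mul_mem_iff_mem _ (hu.mul hu')).1 ?_
  rw [mul_assoc, mul_comm (toSt v s.1) x, hrs, ← map_mul]
  have h2 := Ideal.mem_map_of_mem (toSt v) hmem
  rwa [Ideal.map_span, Set.image_singleton] at h2

/-- The projective line over the integers. -/
noncomputable abbrev PZ : Scheme.{u} := Proj grading.{u}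

/-- The chart `T_i ≠ 0`. -/
noncomputable abbrev U (i : Fin (1 + 1)) : PZ.{u}.Opens := Proj.basicOpen grading (T i)

/-- The coordinate as a function on the chart. -/
noncomputable def c (i : Fin (1 + 1)) : Γ(PZ.{u}, U i) :=
  Proj.awayToSection grading (T i) (t i)

lemma awayι_mem_U (i : Fin (1 + 1)) (w) : Proj.awayι grading.{u} (T i) (X_mem i) one_pos w ∈ U i := by
  change _ ∈ Proj.basicOpen grading (T i)
  rw [← Proj.opensRange_awayι grading (T i) (X_mem i) one_pos]
  exact ⟨w, rfl⟩

lemma awayι_stalkMap_c (i : Fin (1 + 1)) (w : Spec (CommRingCat.of (HomogeneousLocalization.Away grading.{u} (T i)))) :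
    (Proj.awayι grading (T i) (X_mem i) one_pos).stalkMap w
      (PZ.{u}.presheaf.germ (U i) _ (awayι_mem_U i w) (c i)) = toSt w (t i) := by
  let e := Proj.basicOpenIsoSpec grading.{u} (T i) (X_mem i) one_pos
  let ι' := Proj.awayι grading.{u} (T i) (X_mem i) one_pos
  obtain ⟨z, rfl⟩ : ∃ z, e.hom z = w := ⟨e.inv w, congrArg (fun k : Spec _ ⟶ Spec _ => k w) e.inv_hom_id⟩
  have he : e.hom ≫ ι' = (U i).ι := by simp [e, ι', Proj.awayι]
  refine (ConcreteCategory.bijective_of_isIso (e.hom.stalkMap z)).1 ?_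
  change ((ι'.stalkMap (e.hom z)) ≫ e.hom.stalkMap z) (PZ.{u}.presheaf.germ (U i) _
    (awayι_mem_U i (e.hom z)) (c i)) = _
  rw [← Scheme.Hom.stalkMap_comp]
  have hindep : ∀ (g g' : (U i).toScheme ⟶ PZ.{u}), g = g' → ∀ (h : g z ∈ U i) (h' : g' z ∈ U i),
      g.stalkMap z (PZ.{u}.presheaf.germ (U i) (g z) h (c i)) =
        g'.stalkMap z (PZ.{u}.presheaf.germ (U i) (g' z) h' (c i)) := by
    rintro g _ rfl h h'; rfl
  refine (hindep _ _ he (awayι_mem_U i (e.hom z)) z.2).trans ?_
  rw [Scheme.Hom.germ_stalkMap_apply]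
  have h2 : toSt (e.hom z) (t i) =
      (Spec (CommRingCat.of (HomogeneousLocalization.Away grading.{u} (T i)))).presheaf.germ ⊤ (e.hom z) trivial
        ((Scheme.ΓSpecIso _).inv (t i)) := rfl
  rw [h2]
  refine Eq.trans ?_ (Scheme.Hom.germ_stalkMap_apply e.hom ⊤ z trivial _).symm
  have h3 : e.hom.app ⊤ ((Scheme.ΓSpecIso _).inv (t i)) = (U i).topIso.inv (c i) := by
    have h4 : e.hom = Proj.basicOpenToSpec grading (T i) := by simp [e, Proj.basicOpenIsoSpec]
    rw [h4, Proj.basicOpenToSpec_app_top]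
    change (U i).topIso.inv ((Proj.awayToSection grading (T i)) ((Scheme.ΓSpecIso _).hom
      ((Scheme.ΓSpecIso _).inv (t i)))) = _
    rw [Iso.inv_hom_id_apply]
    rfl
  refine Eq.trans ?_ (congrArg _ h3).symm
  refine (ConcreteCategory.bijective_of_isIso ((U i).stalkIso z).hom).1 ?_
  change (((U i : PZ.{u}.Opens) : Scheme.{u}).presheaf.germ _ z _ ≫ ((U i).stalkIso z).hom) _ =
    (((U i : PZ.{u}.Opens) : Scheme.{u}).presheaf.germ _ z _ ≫ ((U i).stalkIso z).hom) _
  rw [Scheme.Opens.germ_stalkIso_hom, Scheme.Opens.germ_stalkIso_hom]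
  erw [TopCat.Presheaf.germ_res_apply, TopCat.Presheaf.germ_res_apply]

/-- The points `0`, `∞`. -/
noncomputable abbrev pt (i : Fin (1 + 1)) : Spec (CommRingCat.of R0.{u}) ⟶ PZ.{u} := point.{u} i

lemma pt_eq (i : Fin (1 + 1)) : pt.{u} i =
    Spec.map (CommRingCat.ofHom (evalAway i)) ≫ Proj.awayι grading (T i) (X_mem i) one_pos := rfl

lemma point_mem_U (i : Fin (1 + 1)) (w) : pt.{u} i w ∈ U i := awayι_mem_U i _

lemma ker_stalkMap_point (i : Fin (1 + 1)) (w : Spec (CommRingCat.of R0.{u})) :
    RingHom.ker ((pt i).stalkMap w).hom =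
      Ideal.span {PZ.{u}.presheaf.germ (U i) (pt i w) (point_mem_U i w) (c i)} := by
  let s := Spec.map (CommRingCat.ofHom (evalAway.{u} i))
  let ι' := Proj.awayι grading.{u} (T i) (X_mem i) one_pos
  have h1 : ((pt i).stalkMap w).hom = (s.stalkMap w).hom.comp (ι'.stalkMap (s w)).hom :=
    congrArg CommRingCat.Hom.hom (Scheme.Hom.stalkMap_comp s ι' w)
  have hb : Function.Bijective (ι'.stalkMap (s w)).hom := ConcreteCategory.bijective_of_isIso _
  refine (congrArg RingHom.ker h1).trans ?_
  refine (RingHom.comap_ker _ _).symm.trans ?_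
  rw [ker_stalkMap_specMap _ (evalAway_surjective i) (t i) (ker_evalAway i) w,
    ← awayι_stalkMap_c i (s w)]
  refine Eq.trans ?_ (Ideal.comap_map_of_bijective (ι'.stalkMap (s w)).hom hb)
  refine congrArg _ (Eq.symm ?_)
  refine (Ideal.map_span _ _).trans ?_
  exact congrArg Ideal.span (Set.image_singleton ..)

instance (i : Fin (1 + 1)) : IsClosedImmersion (pt.{u} i) := by
  have h : point.{u} i ≫ CohB1.ProjSpace.toSpec 1 R0.{u} = 𝟙 _ := specULiftZIsTerminal.hom_ext _ _
  have h1 : IsSeparated (Proj.toSpecZero grading.{u}) := Proj.isSeparated _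
  have : IsSeparated (CohB1.ProjSpace.toSpec 1 R0.{u}) := by
    unfold CohB1.ProjSpace.toSpec
    exact MorphismProperty.comp_mem @IsSeparated _ _ h1 inferInstance
  have : IsClosedImmersion (point.{u} i ≫ CohB1.ProjSpace.toSpec 1 R0.{u}) := by rw [h]; infer_instance
  exact IsClosedImmersion.of_comp (point i) (CohB1.ProjSpace.toSpec 1 R0.{u})

lemma mem_range_point_iff (i : Fin (1 + 1)) (q : PZ.{u}) (hq : q ∈ U i) :
    q ∈ Set.range (pt i) ↔
      ¬ IsUnit (PZ.{u}.presheaf.germ (U i) q hq (c i)) := by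
  constructor
  · rintro ⟨w, rfl⟩ hu
    have h := hu.map ((pt i).stalkMap w).hom
    rw [RingHom.mem_ker.1 ((ker_stalkMap_point i w).ge (Ideal.mem_span_singleton_self _))] at h
    exact not_isUnit_zero h
  · intro hu
    have : q ∈ (Proj.awayι grading.{u} (T i) (X_mem i) one_pos).opensRange := by
      rw [Proj.opensRange_awayι]; exact hq
    obtain ⟨v, rfl⟩ := this
    have ht : t i ∈ v.asIdeal := by
      by_contra hn
      refine hu ?_
      have h1 : IsUnit ((Proj.awayι grading (T i) (X_mem i) one_pos).stalkMap v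
          (PZ.{u}.presheaf.germ (U i) _ hq (c i))) := by
        rw [awayι_stalkMap_c]
        exact (isUnit_toSt_iff v _).2 hn
      exact (Scheme.Hom.toLRSHom _).prop v |>.map_nonunit _ h1
    have hv : (v : PrimeSpectrum _) ∈ Set.range (PrimeSpectrum.comap (evalAway i)) := by
      rw [range_comap_of_surjective _ _ (evalAway_surjective i), ker_evalAway,
        PrimeSpectrum.zeroLocus_span]
      exact Set.singleton_subset_iff.2 ht
    obtain ⟨w, hw⟩ := hv
    exact ⟨w, congrArg (fun z => Proj.awayι grading (T i) (X_mem i) one_pos z) hw⟩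

lemma mem_range_of_notMem_U (i : Fin (1 + 1)) (q : PZ.{u}) (hq : q ∈ U i) (hq' : q ∉ U (oth i)) :
    q ∈ Set.range (pt i) := by
  rw [mem_range_point_iff i q hq]
  obtain ⟨v, rfl⟩ : q ∈ (Proj.awayι grading.{u} (T i) (X_mem i) one_pos).opensRange := by
    rw [Proj.opensRange_awayι]; exact hq
  intro hu
  have h1 := hu.map ((Proj.awayι grading.{u} (T i) (X_mem i) one_pos).stalkMap v).hom
  rw [show ((Proj.awayι grading.{u} (T i) (X_mem i) one_pos).stalkMap v).hom
    (PZ.{u}.presheaf.germ (U i) _ hq (c i)) = toSt v (t i) from awayι_stalkMap_c i v] at h1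
  refine (isUnit_toSt_iff v _).1 h1 ?_
  have hv : v ∉ Proj.awayι grading.{u} (T i) (X_mem i) one_pos ⁻¹ᵁ Proj.basicOpen grading (T (oth i)) := hq'
  rw [Proj.awayι_preimage_basicOpen grading (f := T i) (X_mem i) (g := T (oth i)) (g_deg := X_mem (oth i)) (hm := one_pos) (hm' := one_pos)] at hv
  have he : HomogeneousLocalization.Away.isLocalizationElem (X_mem.{u} i) (X_mem (oth i)) = t i := by
    refine HomogeneousLocalization.val_injective _ ?_
    simp [HomogeneousLocalization.Away.isLocalizationElem, t]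
  rw [he] at hv
  exact not_not.1 hv

lemma sup_U (q : PZ.{u}) : q ∈ U.{u} 0 ∨ q ∈ U.{u} 1 := by
  obtain ⟨j, hj⟩ := Approx60.ProjCharts.exists_mem_U R0.{u} 1 q
  fin_cases j
  exacts [Or.inl hj, Or.inr hj]

lemma germ_c_mul (q : PZ.{u}) (h0 : q ∈ U 0) (h1 : q ∈ U 1) :
    PZ.{u}.presheaf.germ (U 0) q h0 (c 0) *
      PZ.{u}.presheaf.germ (U 1) q h1 (c 1) = 1 := by
  let x := T.{u} 0 * T 1
  have hx : x = T 0 * T 1 := rfl
  have hx' : x = T 1 * T 0 := mul_comm _ _
  have hq : q ∈ Proj.basicOpen grading x := by rw [Proj.basicOpen_mul]; exact ⟨h0, h1⟩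
  have e0 := congr($(Proj.awayMap_awayToSection grading (f := T.{u} 0) (g := T 1) (X_mem 1) hx) (t 0))
  have e1 := congr($(Proj.awayMap_awayToSection grading (f := T.{u} 1) (g := T 0) (X_mem 0) hx') (t 1))
  rw [c, c, ← TopCat.Presheaf.germ_res_apply _ (homOfLE (Proj.basicOpen_mono grading (T.{u} 0) x ⟨_, hx⟩)) q hq,
    ← TopCat.Presheaf.germ_res_apply _ (homOfLE (Proj.basicOpen_mono grading (T.{u} 1) x ⟨_, hx'⟩)) q hq]
  erw [← e0, ← e1]
  change PZ.{u}.presheaf.germ (Proj.basicOpen grading x) q hq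
      (Proj.awayToSection grading x (HomogeneousLocalization.awayMap grading (X_mem.{u} 1) hx (t 0))) *
    PZ.{u}.presheaf.germ (Proj.basicOpen grading x) q hq
      (Proj.awayToSection grading x (HomogeneousLocalization.awayMap grading (X_mem 0) hx' (t 1))) = 1
  rw [← map_mul, ← map_mul]
  have hone : HomogeneousLocalization.awayMap grading (X_mem.{u} 1) hx (t 0) *
      HomogeneousLocalization.awayMap grading (X_mem 0) hx' (t 1) = 1 := by
    refine HomogeneousLocalization.val_injective _ ?_
    rw [HomogeneousLocalization.val_mul, HomogeneousLocalization.val_one, t, t,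
      HomogeneousLocalization.awayMap_mk, HomogeneousLocalization.awayMap_mk,
      HomogeneousLocalization.Away.val_mk, HomogeneousLocalization.Away.val_mk, Localization.mk_mul,
      ← Localization.mk_self (⟨(x ^ 1) * (x ^ 1), 2, by ring⟩ : Submonoid.powers x), Localization.mk_eq_mk_iff,
      Localization.r_iff_exists]
    refine ⟨1, ?_⟩
    simp only [OneMemClass.coe_one, Submonoid.coe_mul, oth_zero, oth_one, pow_one, one_mul, x]
    ring
  rw [hone, map_one, map_one]

end Groth.Agent.Cyc90.P1L
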