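import Groth.Agent.Cyc90.CohMult
import Groth.Agent.Cyc90.SheafLen
import Groth.Agent.Cyc90.ZeroPull
import Groth.Agent.Cyc90.GysinKey
import Groth.Agent.FDesc60.QF
import Groth.Agent.FlatMor68.PullbackStalk
import Mathlib.LinearAlgebra.TensorProduct.Quotient
import Mathlib.RingTheory.Nakayama

/-! The Gysin map on the cycle of a coherent module. -/

set_option autoImplicit false
set_option backward.isDefEq.respectTransparency.types false
set_option linter.style.haveILetI false
universe u

open CategoryTheory CategoryTheory.Limits AlgebraicGeometry TopologicalSpace IsLocalRing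
open scoped TensorProduct

namespace Groth.Agent.Cyc90

variable {X D : Scheme.{u}} (F : X.Modules)

/-- The length of a stalk of the restriction to a locally principal closed subscheme. -/
lemma length_pullback_stalk_principal [F.IsQuasicoherent] (i : D ⟶ X) [IsClosedImmersion i] (d : D)
    (a : X.presheaf.stalk (i d)) (ha : RingHom.ker (i.stalkMap d).hom = Ideal.span {a}) :
    Module.length (D.presheaf.stalk d) (((Scheme.Modules.pullback i).obj F).presheaf.stalk d) =
      Len90.coker (LinearMap.lsmul (X.presheaf.stalk (i d)) (F.presheaf.stalk (i d)) a) := by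
  letI algS := (i.stalkMap d).hom.toAlgebra
  obtain ⟨E⟩ := FlatMor68.PullbackStalk.nonempty_stalkPullbackEquiv i F d
  rw [E.length_eq, Len90.coker]
  let O := X.presheaf.stalk (i d)
  let M := F.presheaf.stalk (i d)
  have hs : Function.Surjective (Algebra.ofId O (D.presheaf.stalk d)) := i.stalkMap_surjective d
  refine (Module.length_eq_of_surjective (S := O) (R := D.presheaf.stalk d)
    (M := D.presheaf.stalk d ⊗[O] M) hs).symm.trans ?_
  let e1 : (O ⧸ RingHom.ker (Algebra.ofId O (D.presheaf.stalk d))) ≃ₗ[O] D.presheaf.stalk d :=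
    (Ideal.quotientKerAlgEquivOfSurjective hs).toLinearEquiv
  refine ((TensorProduct.congr e1 (LinearEquiv.refl O M)).symm.trans
    ((TensorProduct.quotTensorEquivQuotSMul M _).trans (Submodule.quotEquivOfEq _ _ ?_))).length_eq
  rw [show RingHom.ker (Algebra.ofId O (D.presheaf.stalk d)) = Ideal.span {a} from ha]
  ext m
  rw [Submodule.ideal_span_singleton_smul, Submodule.mem_smul_pointwise_iff_exists, LinearMap.mem_range]
  exact ⟨fun ⟨n, _, h⟩ => ⟨n, h⟩, fun ⟨n, h⟩ => ⟨n, trivial, h⟩⟩

/-- An injective multiplication on a nonzero module of finite length is by a unit. -/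
lemma isUnit_of_injective_smul {A M : Type u} [CommRing A] [IsLocalRing A] [AddCommGroup M] [Module A M]
    [Module.Finite A M] [Nontrivial M] (hlen : Module.length A M ≠ ⊤) (a : A)
    (hinj : Function.Injective (fun m : M => a • m)) : IsUnit a := by
  by_contra hu
  have : IsArtinian A M :=
    (isFiniteLength_iff_isNoetherian_isArtinian.1 (Module.length_ne_top_iff.1 hlen)).2
  have hsurj := IsArtinian.surjective_of_injective_endomorphism (LinearMap.lsmul A M a) hinj
  have ha : Ideal.span {a} ≤ Ideal.jacobson ⊥ := by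
    rw [IsLocalRing.jacobson_eq_maximalIdeal _ bot_ne_top, Ideal.span_singleton_le_iff_mem]
    exact hu
  have htop : (⊤ : Submodule A M) = ⊥ := by
    refine Submodule.eq_bot_of_le_smul_of_le_jacobson_bot _ _ Module.Finite.fg_top (fun m _ => ?_) ha
    obtain ⟨n, rfl⟩ := hsurj m
    exact Submodule.smul_mem_smul (Ideal.mem_span_singleton_self a) trivial
  obtain ⟨m, hm⟩ := exists_ne (0 : M)
  exact hm ((Submodule.mem_bot A).1 (htop ▸ Submodule.mem_top : m ∈ (⊥ : Submodule A M)))

variable {δ : X → ℤ}

open Classical in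
/-- `i^*[F]_{k+1} = [i^*F]_k` for a regular section. -/
theorem c1Cap_gysinChoice_sheafFun (hX : Cyc.IsSetup X δ) {L : X.Modules} (hL : PicF.IsInvertible L)
    {s : Γ(L, ⊤)} (i : D ⟶ X) [IsClosedImmersion i] (hD : Cyc.IsZeroSchemeOf i L s) (k : ℤ)
    (hF : Coh.IsCoh F) (hdim : ∀ x : X, Nontrivial (F.presheaf.stalk x) → δ x ≤ k + 1)
    (hreg : ∀ (x : X) (t : L.presheaf.stalk x) (f : X.presheaf.stalk x),
      Submodule.span (X.presheaf.stalk x) {t} = ⊤ → (L.presheaf.germ ⊤ x trivial) s = f • t →
        Function.Injective (fun m : F.presheaf.stalk x => f • m))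
    (w : (ξ : X) → Cyc.secFibre L ξ) (d : D) :
    Cyc.c1CapFun δ L (Cyc.sheafFun δ (k + 1) F) (Cyc.gysinChoice L s w) (i d) =
      Cyc.sheafFun (fun d => δ (i d)) k ((Scheme.Modules.pullback i).obj F) d := by
  have := hX.1
  haveI : F.IsQuasicoherent := hF.1
  unfold Cyc.c1CapFun
  simp only [Cyc.sheafFun]
  by_cases hk : δ (i d) = k
  swap
  · rw [if_neg hk]
    refine finsum_eq_zero_of_forall_eq_zero fun z => ?_
    split_ifs with hz
    · unfold Cyc.secDivFun
      rw [dif_neg fun h => hk (by omega), mul_zero]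
    · rw [zero_mul]
  rw [if_pos hk]
  obtain ⟨U, hU, e, he⟩ := Mero90.exists_frame' hL (i d)
  obtain ⟨c, hc⟩ := exists_coeff he s
  have hspan : ∀ (z : X) (hz : z ∈ U),
      Submodule.span (X.presheaf.stalk z) {L.presheaf.germ U z hz e} = ⊤ := fun z hz => span_germ_frame he hz
  let a : X.presheaf.stalk (i d) := X.presheaf.germ U (i d) hU c
  have hza : ∀ z (h : z ⤳ i d), Cyc.specMap (i d) z h a = X.residue z (X.presheaf.germ U z (h.mem_open U.2 hU) c) :=
    fun z h => congrArg (X.residue z) (TopCat.Presheaf.germ_stalkSpecializes_apply X.presheaf hU h c)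
  have hfin := FDesc60.finite_stalk_of_isCoh F hF
  have hunit : ∀ z (h : z ⤳ i d), Nontrivial (F.presheaf.stalk z) → δ z = k + 1 →
      IsUnit (X.presheaf.germ U z (h.mem_open U.2 hU) c) := fun z h hn hd => by
    have := hfin z
    exact isUnit_of_injective_smul (length_stalk_ne_top F hF z fun y hy hyz =>
      eq_of_delta_eq hX.2.2 hdim hd y hy hyz) _ (hreg z _ _ (hspan z _) (hc z _))
  have := hfin (i d)
  rw [length_pullback_stalk_principal F i d a (ker_of_isZeroSchemeOf hD he hc d hU),
    CohMult.length_coker_eq_sum F hX hF.1 hk (fun z _ hn => hdim z hn) a (hreg _ _ _ (hspan _ hU) (hc _ hU))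
      (fun z h hn hd => by
        rw [hza z h]
        exact (IsLocalRing.residue_ne_zero_iff_isUnit _).2 (hunit z h hn hd))]
  refine finsum_congr fun z => ?_
  by_cases hd : δ z = k + 1
  swap
  · rw [if_neg hd, zero_mul, dif_neg fun h => hd h.2]
  rw [if_pos hd]
  by_cases hn : Nontrivial (F.presheaf.stalk z)
  swap
  · have : Subsingleton (F.presheaf.stalk z) := not_nontrivial_iff_subsingleton.1 hn
    rw [Module.length_eq_zero]
    simp
  unfold Cyc.secDivFun
  by_cases h : z ⤳ i d
  swap
  · rw [dif_neg fun h' => h h'.1, dif_neg fun h' => h h'.1, mul_zero]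
  rw [dif_pos (⟨h, show δ (i d) + 1 = δ z by omega⟩ : z ⤳ i d ∧ δ (i d) + 1 = δ z), dif_pos ⟨h, hd⟩]
  congr 1
  have hzU := h.mem_open U.2 hU
  have hne : (Submodule.Quotient.mk (L.presheaf.germ ⊤ z trivial s) : Cyc.secFibre L z) ≠ 0 := by
    rw [hc z hzU, ne_eq, mk_smul_frame_eq_zero_iff he hzU, not_not]
    exact hunit z h hn hd
  unfold Cyc.gysinChoice
  rw [if_pos hne, secOrdAt_eq L hX h (by omega) _ hne _ (hspan _ hU) (X.presheaf.germ U z hzU c) (by
    rw [TopCat.Presheaf.germ_stalkSpecializes_apply, hc z hzU, Submodule.Quotient.mk_smul]), hza z h]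

end Groth.Agent.Cyc90
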