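import Groth.Agent.Cyc90.FinFibre
import Groth.Agent.Cyc90.SecDiv
import Groth.Agent.Cyc90.FlatPull
import Groth.Agent.Cyc90.FlatRelDim

/-! Flat pullback of principal divisors on integral schemes. -/

set_option autoImplicit false
universe u

open CategoryTheory AlgebraicGeometry TopologicalSpace IsLocalRing TensorProduct

namespace Groth.Agent.Cyc90

/-- Orders are multiplied by the multiplicity of the closed fibre under flat local homomorphisms. -/
lemma ord_algebraMap_of_flat {A B : Type u} [CommRing A] [IsLocalRing A] [CommRing B] [IsLocalRing B]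
    [Algebra A B] [Module.Flat A B] [IsLocalHom (algebraMap A B)] (a : A) :
    Ring.ord B (algebraMap A B a) =
      Ring.ord A a * Module.length B (B ⧸ (maximalIdeal A).map (algebraMap A B)) := by
  rw [Ring.ord, Ring.ord, ← IsLocalRing.length_baseChange A B (A ⧸ Ideal.span {a}),
    ← (Algebra.TensorProduct.quotIdealMapEquivTensorQuot B (Ideal.span {a})).toLinearEquiv.length_eq,
    Ideal.map_span, Set.image_singleton]

variable {X Y : Scheme.{u}} [IsIntegral X] [IsIntegral Y]

lemma apply_genericPoint_of_flat (f : X ⟶ Y) [Flat f] : f (genericPoint X) = genericPoint Y := by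
  obtain ⟨w, hw, he⟩ := Flat.generalizingMap f (gen_specializes (f (genericPoint X)))
  rw [← he, show w = genericPoint X from ((gen_specializes w).antisymm hw).eq.symm]

theorem pullFun_divFun {δX : X → ℤ} {δY : Y → ℤ} (hX : Cyc.IsSetup X δX) (hY : Cyc.IsSetup Y δY)
    (f : X ⟶ Y) [Flat f] {c : ℤ} (hc : ShiftAt f δX δY c) (g : Y.residueField (f (genericPoint X)))
    (hg : g ≠ 0) :
    Cyc.pullFun f δX δY c (Cyc.divFun δY (f (genericPoint X)) g) =
      Cyc.divFun δX (genericPoint X) (f.residueFieldMap (genericPoint X) g) := by
  have := hX.1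
  have := hY.1
  have hη : f (genericPoint X) = genericPoint Y := apply_genericPoint_of_flat f
  have hgenY : ∀ y, f (genericPoint X) ⤳ y := fun y => hη ▸ gen_specializes y
  have hGmax : δX (genericPoint X) = δY (f (genericPoint X)) + c :=
    hc (genericPoint X) fun w _ hw => ((gen_specializes w).antisymm hw).eq.symm
  funext x
  have h1 := (delta_le_of_shift f hX.2.2 hc x).1
  have h2 := delta_le hY.2.2 (hgenY (f x))
  have hg' : f.residueFieldMap (genericPoint X) g ≠ 0 := (map_ne_zero_iff _ (RingHom.injective _)).2 hg
  unfold Cyc.pullFun Cyc.divFun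
  by_cases hd : δX x + 1 = δX (genericPoint X)
  swap
  · rw [dif_neg fun h : _ ∧ _ => hd h.2]
    split_ifs with h3 h4
    · exact absurd (by omega) hd
    · rw [zero_mul]
    · rfl
  rw [dif_pos (show (genericPoint X) ⤳ x ∧ _ from ⟨gen_specializes x, hd⟩)]
  have hdimX : ringKrullDim (X.presheaf.stalk x) ≤ 1 :=
    (ringKrullDim_eq_of_ringEquiv (stalkEquivLocQuot x)).trans_le
      (ringKrullDim_locQuot_le_one _ fun w h1 h2 => immediate hX.2.2 (gen_specializes x) hd h1 h2)
  by_cases hfx : f x = f (genericPoint X)
  · -- the function is a unit at `x`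
    rw [if_neg (by rw [hfx]; omega)]
    obtain ⟨w, hw⟩ := Y.residue_surjective (f (genericPoint X)) g
    obtain ⟨a, b, hb, hab⟩ : ∃ a b : Y.presheaf.stalk (f x), IsUnit b ∧ IsUnit a ∧
        g * Cyc.specMap (f x) (f (genericPoint X)) (hgenY (f x)) b = Cyc.specMap (f x) (f (genericPoint X)) (hgenY (f x)) a := by
      let a : Y.presheaf.stalk (f x) := Y.presheaf.stalkSpecializes (specializes_of_eq hfx) w
      have e2 : Y.presheaf.stalkSpecializes (specializes_of_eq hfx) ≫
          Y.presheaf.stalkSpecializes (hgenY (f x)) = 𝟙 _ := by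
        rw [TopCat.Presheaf.stalkSpecializes_comp, TopCat.Presheaf.stalkSpecializes_refl]
      have ha : Cyc.specMap (f x) (f (genericPoint X)) (hgenY (f x)) a = g :=
        (congrArg (Y.residue (f (genericPoint X))) congr($(e2).hom w)).trans hw
      refine ⟨a, 1, isUnit_one, ?_, by rw [map_one, mul_one, ha]⟩
      have hwu : IsUnit w := (IsLocalRing.residue_ne_zero_iff_isUnit _).1 (fun e0 => hg (hw.symm.trans e0))
      exact hwu.map (Y.presheaf.stalkSpecializes (specializes_of_eq hfx)).hom
    refine (ordAt_eq_zero hX (gen_specializes x) hd _ ((f.stalkMap x).hom a) ((f.stalkMap x).hom b)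
      (hab.1.map _) (hb.map _) ?_).symm
    have hcomm : ∀ z, Cyc.specMap x (genericPoint X) (gen_specializes x) ((f.stalkMap x).hom z) =
        f.residueFieldMap (genericPoint X) (Cyc.specMap (f x) (f (genericPoint X)) (hgenY (f x)) z) := fun z => by
      have e1 := congr($(Scheme.Hom.stalkSpecializes_stalkMap f (genericPoint X) x (gen_specializes x)).hom z)
      change X.residue (genericPoint X) ((X.presheaf.stalkSpecializes _).hom ((f.stalkMap x).hom z)) = _
      refine (congrArg (X.residue (genericPoint X)) e1.symm).trans ?_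
      exact congr($(Scheme.residue_residueFieldMap f (genericPoint X)).hom
        ((Y.presheaf.stalkSpecializes (hgenY (f x))).hom z)).symm
    rw [hcomm, hcomm, ← map_mul, hab.2]
  · have hlt := delta_lt hY.2.2 (hgenY (f x)) (fun h => hfx h.symm)
    have hxc : δX x = δY (f x) + c := by omega
    have hyd : δY (f x) + 1 = δY (f (genericPoint X)) := by omega
    rw [if_pos hxc, dif_pos ⟨hgenY (f x), hyd⟩]
    have hdimY : ringKrullDim (Y.presheaf.stalk (f x)) ≤ 1 :=
      (ringKrullDim_eq_of_ringEquiv (stalkEquivLocQuot (f x))).trans_le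
        (ringKrullDim_locQuot_le_one _ fun w h1 h2 => by
          rcases immediate hY.2.2 (hgenY (f x)) hyd (hη ▸ h1) h2 with e | e
          · exact Or.inl (e.trans hη)
          · exact Or.inr e)
    rw [ordAt_generic' hη (hgenY (f x)) hdimY g hg, ordAt_generic x hdimX _ hg']
    let A := Y.presheaf.stalk (f x)
    let B := X.presheaf.stalk x
    let iAB : Algebra A B := (f.stalkMap x).hom.toAlgebra
    have : Module.Flat A B := Flat.stalkMap f x
    have : IsLocalHom (algebraMap A B) := f.toLRSHom.prop x
    let iAK : Algebra A (Y.residueField (f (genericPoint X))) := (Cyc.specMap (f x) (f (genericPoint X)) (hgenY (f x))).toAlgebra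
    let iBL : Algebra B (X.residueField (genericPoint X)) := (Cyc.specMap x (genericPoint X) (gen_specializes x)).toAlgebra
    have : IsFractionRing A (Y.residueField (f (genericPoint X))) := isFractionRing_specMap' hη (hgenY (f x))
    have : IsFractionRing B (X.residueField (genericPoint X)) := isFractionRing_specMap x
    have := krullDimLE_one hdimX
    have := krullDimLE_one hdimY
    have hcomm : ∀ z : A, algebraMap B (X.residueField (genericPoint X)) (algebraMap A B z) =
        f.residueFieldMap (genericPoint X) (algebraMap A (Y.residueField (f (genericPoint X))) z) := fun z => by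
      have e1 := congr($(Scheme.Hom.stalkSpecializes_stalkMap f (genericPoint X) x (gen_specializes x)).hom z)
      change X.residue (genericPoint X) ((X.presheaf.stalkSpecializes _).hom ((f.stalkMap x).hom z)) = _
      refine (congrArg (X.residue (genericPoint X)) e1.symm).trans ?_
      exact congr($(Scheme.residue_residueFieldMap f (genericPoint X)).hom
        ((Y.presheaf.stalkSpecializes (hgenY (f x))).hom z)).symm
    obtain ⟨a, b, hb, hab⟩ := IsFractionRing.div_surjective (A := A) g
    have hb0 : b ≠ 0 := nonZeroDivisors.coe_ne_zero ⟨b, hb⟩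
    have hb' : algebraMap A (Y.residueField (f (genericPoint X))) b ≠ 0 := fun e0 =>
      hb0 (IsFractionRing.injective A _ (e0.trans (map_zero _).symm))
    have ha0 : a ≠ 0 := by rintro rfl; exact hg (by rw [← hab, map_zero, zero_div])
    have hinj : Function.Injective (algebraMap A B) := fun u v e =>
      IsFractionRing.injective A (Y.residueField (f (genericPoint X))) ((f.residueFieldMap (genericPoint X)).hom.injective
        (by rw [← hcomm, ← hcomm, e]))
    have he : g * algebraMap A _ b = algebraMap A _ a := by rw [← hab, div_mul_cancel₀ _ hb']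
    rw [Len90.ordFrac_of_mul_eq g a b ha0 hb0 he,
      Len90.ordFrac_of_mul_eq (f.residueFieldMap (genericPoint X) g) (algebraMap A B a) (algebraMap A B b)
        (fun e => ha0 (hinj (e.trans (map_zero _).symm)))
        (fun e => hb0 (hinj (e.trans (map_zero _).symm))) (by rw [hcomm, hcomm, ← map_mul, he]),
      ord_algebraMap_of_flat, ord_algebraMap_of_flat, ENat.toNat_mul, ENat.toNat_mul]
    push_cast
    ring_nf
    rfl

end Groth.Agent.Cyc90
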