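import Groth.Agent.Cyc90.DimFormula
import Groth.Agent.E4O.OpenDim
import Mathlib.RingTheory.LocalRing.ResidueField.Basic
import Mathlib.RingTheory.Localization.AtPrime.Basic

/-! The dimension formula for local domains essentially of finite type. -/

universe u

open IsLocalRing

namespace Groth.Agent.Cyc90

/-- The dimension formula, local form: `L` is a local domain essentially of finite type over the universally
catenary local domain `R`, with fraction fields `K/K'` and residue fields `k/k'`. -/
theorem local_dim_formula {R L K' K k' k : Type u} [CommRing R] [IsDomain R] [IsLocalRing R] [CommRing L]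
    [IsDomain L] [IsLocalRing L] [Field K'] [Field K] [Field k'] [Field k]
    (hR : CAlg.IsUniversallyCatenary R) [Algebra R L] [FaithfulSMul R L]
    (T : Finset L)
    (hT : ∀ l : L, ∃ a ∈ Algebra.adjoin R (T : Set L), ∃ b ∈ Algebra.adjoin R (T : Set L),
      IsUnit b ∧ l * b = a)
    [Algebra R K'] [IsFractionRing R K'] [Algebra L K] [IsFractionRing L K] [Algebra K' K] [Algebra R K]
    [IsScalarTower R K' K] [IsScalarTower R L K]
    [Algebra R k'] [Algebra L k] [Algebra k' k] [Algebra R k] [IsScalarTower R k' k] [IsScalarTower R L k]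
    (hk' : Function.Surjective (algebraMap R k')) (hk : Function.Surjective (algebraMap L k))
    {h D n₁ n₂ : ℕ} (hL : ringKrullDim L = h) (hD : ringKrullDim R = D)
    (h₁ : Algebra.trdeg K' K = n₁) (h₂ : Algebra.trdeg k' k = n₂) : h + n₂ = D + n₁ := by
  have : IsNoetherianRing R := hR.1
  let S := Algebra.adjoin R (T : Set L)
  have : Algebra.FiniteType R S :=
    (Subalgebra.fg_iff_finiteType S).mp (Subalgebra.fg_adjoin_finset T)
  have : FaithfulSMul R S := (faithfulSMul_iff_algebraMap_injective R S).2 fun a b e =>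
    FaithfulSMul.algebraMap_injective R L (congrArg (fun z : S => (z : L)) e)
  have : FaithfulSMul S K := (faithfulSMul_iff_algebraMap_injective S K).2
    ((IsFractionRing.injective L K).comp Subtype.val_injective)
  have : FaithfulSMul R K' := (faithfulSMul_iff_algebraMap_injective R K').2 (IsFractionRing.injective R K')
  have : FaithfulSMul K' K := (faithfulSMul_iff_algebraMap_injective K' K).2 (algebraMap K' K).injective
  -- generic fibre
  have hSK : IsFractionRing S K := by
    refine IsFractionRing.of_field S K fun z => ?_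
    obtain ⟨l₁, l₂, -, rfl⟩ := IsFractionRing.div_surjective (A := L) z
    obtain ⟨a₁, ha₁, b₁, hb₁, hu₁, e₁⟩ := hT l₁
    obtain ⟨a₂, ha₂, b₂, hb₂, hu₂, e₂⟩ := hT l₂
    refine ⟨⟨a₁, ha₁⟩ * ⟨b₂, hb₂⟩, ⟨a₂, ha₂⟩ * ⟨b₁, hb₁⟩, ?_⟩
    change _ = algebraMap L K (a₁ * b₂) / algebraMap L K (a₂ * b₁)
    rw [← e₁, ← e₂, map_mul, map_mul, map_mul, map_mul]
    have n₁' : algebraMap L K b₁ ≠ 0 := (hu₁.map (algebraMap L K)).ne_zero
    have n₂' : algebraMap L K b₂ ≠ 0 := (hu₂.map (algebraMap L K)).ne_zero
    by_cases h0 : algebraMap L K l₂ = 0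
    · simp [h0]
    · field_simp
  have hgen : Algebra.trdeg R S = n₁ := by
    have : Algebra.IsAlgebraic R K' := IsLocalization.isAlgebraic K' (nonZeroDivisors R)
    have : Algebra.IsAlgebraic S K := IsLocalization.isAlgebraic K (nonZeroDivisors S)
    have e1 := trdeg_add_eq R K' (A := K)
    have e2 := trdeg_add_eq R S (A := K)
    rw [trdeg_eq_zero, zero_add, h₁] at e1
    rw [trdeg_eq_zero (R := S) (A := K), add_zero, ← e1] at e2
    exact e2
  -- the prime and the special fibre
  let ψ : S →+* k := (algebraMap L k).comp S.val.toRingHom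
  let q : Ideal S := RingHom.ker ψ
  have hq : q.IsPrime := RingHom.ker_isPrime ψ
  let p : Ideal R := RingHom.ker (algebraMap R k')
  have hp : p.IsMaximal := RingHom.ker_isMaximal_of_surjective _ hk'
  have hlo : q.LiesOver p := ⟨by
    ext r
    change algebraMap R k' r = 0 ↔ algebraMap L k (algebraMap R L r) = 0
    rw [← IsScalarTower.algebraMap_apply R L k, IsScalarTower.algebraMap_apply R k' k]
    exact (map_eq_zero_iff _ (algebraMap k' k).injective).symm⟩
  have hkerL : ∀ l : L, algebraMap L k l = 0 ↔ l ∈ maximalIdeal L := fun l => by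
    have := RingHom.ker_isMaximal_of_surjective _ hk
    rw [← IsLocalRing.eq_maximalIdeal this]
    rfl
  have hhq : q.height = h := by
    let _ : Algebra S L := S.val.toRingHom.toAlgebra
    have : IsLocalization q.primeCompl L := by
      refine ⟨⟨fun s => ?_, fun l => ?_, fun {a b} e => ⟨1, ?_⟩⟩⟩
      · exact IsLocalRing.notMem_maximalIdeal.mp fun hm => s.2 ((hkerL s.1.1).mpr hm)
      · obtain ⟨a, ha, b, hb, hu, e⟩ := hT l
        refine ⟨⟨⟨a, ha⟩, ⟨⟨b, hb⟩, fun hm => ?_⟩⟩, e⟩
        exact (hkerL b).mp hm hu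
      · rw [Subtype.ext (show (a : L) = b from e)]
    have := IsLocalization.AtPrime.ringKrullDim_eq_height q L
    rw [hL] at this
    exact_mod_cast this.symm
  have hhp : p.height = D := by
    rw [IsLocalRing.eq_maximalIdeal hp]
    have := IsLocalRing.maximalIdeal_height_eq_ringKrullDim (R := R)
    rw [hD] at this
    exact_mod_cast this
  have hspec : Algebra.trdeg (R ⧸ p) (S ⧸ q) = n₂ := by
    let eR : (R ⧸ p) ≃+* k' := RingHom.quotientKerEquivOfSurjective hk'
    let ψq : S ⧸ q →+* k := RingHom.kerLift ψ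
    let _ : Algebra (S ⧸ q) k := ψq.toAlgebra
    let _ : Algebra (R ⧸ p) k := ((algebraMap k' k).comp eR.toRingHom).toAlgebra
    have : IsScalarTower (R ⧸ p) (S ⧸ q) k := IsScalarTower.of_algebraMap_eq fun x => by
      obtain ⟨r, rfl⟩ := Ideal.Quotient.mk_surjective x
      change algebraMap k' k (algebraMap R k' r) = algebraMap L k (algebraMap R L r)
      rw [← IsScalarTower.algebraMap_apply, ← IsScalarTower.algebraMap_apply]
    have : FaithfulSMul (S ⧸ q) k :=
      (faithfulSMul_iff_algebraMap_injective _ _).2 (RingHom.kerLift_injective ψ)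
    have : FaithfulSMul (R ⧸ p) (S ⧸ q) := by
      refine (faithfulSMul_iff_algebraMap_injective _ _).2 ((injective_iff_map_eq_zero _).2 fun x hx => ?_)
      obtain ⟨r, rfl⟩ := Ideal.Quotient.mk_surjective x
      exact Ideal.Quotient.eq_zero_iff_mem.2 (hlo.over.symm.le
        (Ideal.Quotient.eq_zero_iff_mem.1 hx : algebraMap R S r ∈ q))
    have : IsFractionRing (S ⧸ q) k := by
      refine IsFractionRing.of_field (S ⧸ q) k fun z => ?_
      obtain ⟨l, rfl⟩ := hk z
      obtain ⟨a, ha, b, hb, hu, e⟩ := hT l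
      refine ⟨Ideal.Quotient.mk q ⟨a, ha⟩, Ideal.Quotient.mk q ⟨b, hb⟩, ?_⟩
      change algebraMap L k l = algebraMap L k a / algebraMap L k b
      rw [← e, map_mul, mul_div_assoc, div_self (hu.map (algebraMap L k)).ne_zero, mul_one]
    have : Algebra.IsAlgebraic (S ⧸ q) k := IsLocalization.isAlgebraic k (nonZeroDivisors (S ⧸ q))
    have e1 := trdeg_add_eq (R ⧸ p) (S ⧸ q) (A := k)
    rw [trdeg_eq_zero (R := S ⧸ q) (A := k), add_zero] at e1
    have e2 := E4O.trdeg_eq_of_ringEquiv (S := k) (S' := k) eR (RingEquiv.refl k) (by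
      ext x; rfl)
    rw [e1, e2, h₂]
  have key := height_add_trdeg_eq R hR S p q
  rw [hhq, hhp, hgen, hspec, Cardinal.ofENat_nat, Cardinal.ofENat_nat] at key
  exact_mod_cast key

end Groth.Agent.Cyc90
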