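import Groth.Agent.Cyc90.P1Sect
import Groth.Agent.Cyc90.RatPush
import Groth.Agent.Cyc90.IntegralOrd
import Groth.Agent.Cyc90.IsDimFunLft
import Groth.Agent.Cyc90.LocalMult
import Groth.Agent.Approx60.Segre

/-! The principal divisor of the coordinate on a closed subvariety of `P¹_X` and its push forward. -/

set_option autoImplicit false
universe u

open CategoryTheory CategoryTheory.Limits AlgebraicGeometry TopologicalSpace IsLocalRing

namespace Groth.Agent.Cyc90.P1L

variable {X : Scheme.{u}}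

instance isProper_toBase (X : Scheme.{u}) : IsProper (CohB1.ProjSpaceOver.toBase 1 X) :=
  MorphismProperty.pullback_snd _ _ (Approx60.Segre.isProper_toSpec P1.R0.{u} 1)

variable {W : Scheme.{u}} (ι : W ⟶ CohB1.ProjSpaceOver 1 X)

/-- The coordinate restricted to a local ring of `W`. -/
noncomputable def coW (i : Fin (1 + 1)) (w : W) (h : ι w ∈ V X i) : W.presheaf.stalk w :=
  W.presheaf.germ (ι ⁻¹ᵁ V X i) w h (ι.app (V X i) (co X i))

lemma coW_eq (i : Fin (1 + 1)) (w : W) (h : ι w ∈ V X i) :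
    coW ι i w h = (ι.stalkMap w).hom ((CohB1.ProjSpaceOver 1 X).presheaf.germ (V X i) (ι w) h (co X i)) :=
  (Scheme.Hom.germ_stalkMap_apply ι (V X i) w h (co X i)).symm

lemma isUnit_coW_iff (i : Fin (1 + 1)) (w : W) (h : ι w ∈ V X i) :
    IsUnit (coW ι i w h) ↔ ι w ∉ Set.range (P1.sect X i) := by
  rw [mem_range_sect_iff X i _ h, not_not, coW_eq]
  exact ⟨fun hu => (ι.toLRSHom.prop w).map_nonunit _ hu, fun hu => hu.map _⟩

lemma coW_mul (w : W) (h0 : ι w ∈ V X 0) (h1 : ι w ∈ V X 1) : coW ι 0 w h0 * coW ι 1 w h1 = 1 := by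
  rw [coW_eq, coW_eq, ← map_mul, germ_co_mul X (ι w) h0 h1, map_one]

lemma mem_V_of_mem_range (i : Fin (1 + 1)) (w : W) (h : ι w ∈ Set.range (P1.sect X i)) : ι w ∈ V X i := by
  obtain ⟨x, hx⟩ := h
  exact hx ▸ sect_mem_V X i x

lemma notMem_range_of_mem (i : Fin (1 + 1)) (p : CohB1.ProjSpaceOver 1 X) (h : p ∈ Set.range (P1.sect X i)) :
    p ∉ Set.range (P1.sect X (oth i)) := by
  rintro ⟨y, rfl⟩
  obtain ⟨x, hx⟩ := h
  exact (mem_other_iff X i _ (hx ▸ sect_mem_V X i x)).1 (sect_mem_V X (oth i) y) ⟨x, hx⟩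

open Classical in
/-- The multiplicity of `W ∩ section` at a point. -/
noncomputable def mult (i : Fin (1 + 1)) (w : W) : ℤ :=
  if h : ι w ∈ Set.range (P1.sect X i) then
    ((Module.length (W.presheaf.stalk w) (W.presheaf.stalk w ⧸
      Ideal.span {coW ι i w (mem_V_of_mem_range ι i w h)})).toNat : ℤ)
  else 0

lemma mult_of_notMem (i : Fin (1 + 1)) (w : W) (h : ι w ∉ Set.range (P1.sect X i)) : mult ι i w = 0 := dif_neg h

lemma mult_of_mem_V (i : Fin (1 + 1)) (w : W) (h : ι w ∈ V X i) :
    mult ι i w = ((Module.length (W.presheaf.stalk w) (W.presheaf.stalk w ⧸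
      Ideal.span {coW ι i w h})).toNat : ℤ) := by
  by_cases hm : ι w ∈ Set.range (P1.sect X i)
  · exact dif_pos hm
  · rw [mult_of_notMem ι i w hm, Ideal.span_singleton_eq_top.2 ((isUnit_coW_iff ι i w h).2 hm)]
    simp

lemma length_pullback_sect (i : Fin (1 + 1)) (z : ↑(pullback ι (P1.sect X i))) :
    ((Module.length ((pullback ι (P1.sect X i)).presheaf.stalk z)
      ((pullback ι (P1.sect X i)).presheaf.stalk z)).toNat : ℤ) = mult ι i (pullback.fst ι (P1.sect X i) z) := by
  have hmem : ι (pullback.fst ι (P1.sect X i) z) ∈ Set.range (P1.sect X i) :=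
    ⟨pullback.snd ι (P1.sect X i) z,
      congrArg (fun k : pullback ι (P1.sect X i) ⟶ _ => k z) pullback.condition.symm⟩
  have h := mem_V_of_mem_range ι i _ hmem
  have hk := ker_fst_stalkMap_eq ι (P1.sect X i) z (V X i) (co X i) h (sect_mem_V X i _) (ker_sect X i _)
  rw [mult_of_mem_V ι i _ h]
  congr 2
  let f := ((pullback.fst ι (P1.sect X i)).stalkMap z).hom
  have hs : Function.Surjective f := (pullback.fst ι (P1.sect X i)).stalkMap_surjective z
  let e := (Ideal.quotEquivOfEq (show Ideal.span {coW ι i _ h} = RingHom.ker f from hk.symm)).trans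
    (RingHom.quotientKerEquivOfSurjective hs)
  refine (length_eq_of_semilinear f hs e.toAddEquiv fun a m => ?_).symm
  obtain ⟨m, rfl⟩ := Ideal.Quotient.mk_surjective m
  change e (Ideal.Quotient.mk _ (a * m)) = _
  exact map_mul f a m

variable {δ : X → ℤ} {δP : CohB1.ProjSpaceOver 1 X → ℤ}
  (hP : Cyc.DeltaCompat (CohB1.ProjSpaceOver.toBase 1 X) δP δ)

lemma toBase_sect (i : Fin (1 + 1)) (x : X) : CohB1.ProjSpaceOver.toBase 1 X (P1.sect X i x) = x :=
  congrArg (fun k : X ⟶ X => k x) (sect_toBase X i)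

lemma surjective_residue_toBase (i : Fin (1 + 1)) (x : X) :
    Function.Surjective ((CohB1.ProjSpaceOver.toBase 1 X).residueFieldMap (P1.sect X i x)).hom := by
  have hid : Function.Surjective ((P1.sect X i ≫ CohB1.ProjSpaceOver.toBase 1 X).residueFieldMap x).hom := by
    have hmove : ∀ (k k' : X ⟶ X), k = k' → Function.Surjective (k'.residueFieldMap x).hom →
        Function.Surjective (k.residueFieldMap x).hom := fun k k' e h => e ▸ h
    refine hmove _ _ (sect_toBase X i) ?_
    rw [Scheme.residueFieldMap_id]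
    exact fun a => ⟨a, rfl⟩
  rw [Scheme.residueFieldMap_comp] at hid
  intro a
  obtain ⟨b, hb⟩ := hid (((P1.sect X i).residueFieldMap x).hom a)
  exact ⟨b, ((P1.sect X i).residueFieldMap x).hom.injective hb⟩

include hP in
lemma delta_sect (i : Fin (1 + 1)) (x : X) : δP (P1.sect X i x) = δ x := by
  rw [delta_eq_of_surjective _ hP _ (surjective_residue_toBase i x), toBase_sect]

open Classical in
include hP in
lemma subschemeFun_pullback_sect [IsClosedImmersion ι] (k : ℤ) (i : Fin (1 + 1)) (x : X) :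
    Cyc.subschemeFun δ k (pullback.snd ι (P1.sect X i)) x =
      ∑ᶠ w ∈ {w : W | ι w = P1.sect X i x}, if δP (ι w) = k then mult ι i w else 0 := by
  unfold Cyc.subschemeFun
  by_cases hx : x ∈ Set.range (pullback.snd ι (P1.sect X i))
  · obtain ⟨z, rfl⟩ := hx
    have hιw : ι (pullback.fst ι (P1.sect X i) z) = P1.sect X i (pullback.snd ι (P1.sect X i) z) :=
      congrArg (fun k : pullback ι (P1.sect X i) ⟶ _ => k z) pullback.condition
    rw [show {w : W | ι w = P1.sect X i (pullback.snd ι (P1.sect X i) z)} = {pullback.fst ι (P1.sect X i) z} from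
      Set.ext fun w => ⟨fun h => ι.isClosedEmbedding.injective (h.trans hιw.symm), fun h => h ▸ hιw⟩,
      finsum_mem_singleton, hιw, delta_sect hP i]
    split_ifs with hk
    · rw [show {z' | pullback.snd ι (P1.sect X i) z' = pullback.snd ι (P1.sect X i) z} = {z} from
        Set.ext fun z' => ⟨fun h => (pullback.snd ι (P1.sect X i)).isClosedEmbedding.injective h,
          fun h => h ▸ rfl⟩, finsum_mem_singleton, length_pullback_sect]
    · rfl
  · have h1 : {w : W | ι w = P1.sect X i x} = ∅ := Set.eq_empty_of_forall_notMem fun w hw => hx <| by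
      obtain ⟨z, -, hz⟩ := Scheme.Pullback.exists_preimage_pullback w x hw
      exact ⟨z, hz⟩
    rw [h1, finsum_mem_empty, show {z | pullback.snd ι (P1.sect X i) z = x} = ∅ from
      Set.eq_empty_of_forall_notMem fun z hz => hx ⟨z, hz⟩, finsum_mem_empty, ite_self]

section Integral

variable [IsIntegral W]

/-- The coordinate as a rational function on `W`. -/
noncomputable def tfun (h : ι (genericPoint W) ∈ V X 0) : W.residueField (genericPoint W) :=
  W.residue (genericPoint W) (coW ι 0 (genericPoint W) h)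

lemma mem_V_generic (h1 : ι (genericPoint W) ∉ Set.range (P1.sect X 1)) : ι (genericPoint W) ∈ V X 0 := by
  rcases mem_V_or X (ι (genericPoint W)) with h | h
  · exact h
  · exact (mem_other_iff X 1 _ h).2 h1

lemma tfun_ne_zero (h : ι (genericPoint W) ∈ V X 0) (h0 : ι (genericPoint W) ∉ Set.range (P1.sect X 0)) :
    tfun ι h ≠ 0 :=
  (IsLocalRing.residue_ne_zero_iff_isUnit _).2 ((isUnit_coW_iff ι 0 _ h).2 h0)

lemma specMap_coW (i : Fin (1 + 1)) (w : W) (hw : ι w ∈ V X i) (h : genericPoint W ⤳ w) :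
    Cyc.specMap w (genericPoint W) h (coW ι i w hw) =
      W.residue (genericPoint W) (coW ι i (genericPoint W) ((h.map ι.continuous).mem_open (V X i).2 hw)) :=
  congrArg (W.residue (genericPoint W))
    (TopCat.Presheaf.germ_stalkSpecializes_apply W.presheaf hw h _)

/-- The order of the coordinate. -/
lemma ordAt_tfun {δW : W → ℤ} (hW : Cyc.IsSetup W δW) (h : ι (genericPoint W) ∈ V X 0)
    (h0 : ι (genericPoint W) ∉ Set.range (P1.sect X 0)) (w : W) (hs : genericPoint W ⤳ w)
    (hd : δW w + 1 = δW (genericPoint W)) :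
    Cyc.ordAt w (genericPoint W) hs (tfun ι h) = mult ι 0 w - mult ι 1 w := by
  have := hW.1
  have h1 : ringKrullDim (Cyc.LocQuot w (genericPoint W) hs) ≤ 1 :=
    ringKrullDim_locQuot_le_one _ fun z h1 h2 => immediate hW.2.2 hs hd h1 h2
  have := krullDimLE_one h1
  let q := Ideal.Quotient.mk (RingHom.ker (Cyc.specMap w (genericPoint W) hs))
  have hlen : ∀ a : W.presheaf.stalk w, Module.length (W.presheaf.stalk w) (W.presheaf.stalk w ⧸ Ideal.span {a}) =
      Ring.ord (Cyc.LocQuot w (genericPoint W) hs) (q a) := fun a => by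
    rw [ord_quot_mk, ker_specMap_generic, bot_sup_eq]
  by_cases hw0 : ι w ∈ V X 0
  · have hm1 : mult ι 1 w = 0 := mult_of_notMem ι 1 w
      (by
        intro hr
        exact (mem_other_iff X 1 _ (mem_V_of_mem_range ι 1 w hr)).1 hw0 hr)
    rw [hm1, sub_zero, mult_of_mem_V ι 0 w hw0, hlen, Cyc.ordAt]
    have halg : algebraMap (Cyc.LocQuot w (genericPoint W) hs) _ (q (coW ι 0 w hw0)) = tfun ι h :=
      specMap_coW ι 0 w hw0 hs
    have hne : q (coW ι 0 w hw0) ≠ 0 := fun e =>
      tfun_ne_zero ι h h0 (by rw [← halg, e, map_zero])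
    rw [← halg, Len90.ordFrac_algebraMap _ hne]
  · have hw1 : ι w ∈ V X 1 := (mem_V_or X (ι w)).resolve_left hw0
    have hm0 : mult ι 0 w = 0 := mult_of_notMem ι 0 w fun hr => hw0 (mem_V_of_mem_range ι 0 w hr)
    have hη1 := (hs.map ι.continuous).mem_open (V X 1).2 hw1
    have hg : tfun ι h * algebraMap (Cyc.LocQuot w (genericPoint W) hs) _ (q (coW ι 1 w hw1)) =
        algebraMap (Cyc.LocQuot w (genericPoint W) hs) _ 1 := by
      rw [map_one]
      refine (congrArg (tfun ι h * ·) (specMap_coW ι 1 w hw1 hs)).trans ?_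
      exact ((map_mul _ _ _).symm.trans (congrArg _ (coW_mul ι (genericPoint W) h hη1))).trans (map_one _)
    have hne : q (coW ι 1 w hw1) ≠ 0 := fun e => by
      rw [e, map_zero, mul_zero, map_one] at hg
      exact zero_ne_one hg
    rw [hm0, mult_of_mem_V ι 1 w hw1, hlen, Cyc.ordAt,
      Len90.ordFrac_of_mul_eq (tfun ι h) 1 (q (coW ι 1 w hw1)) one_ne_zero hne hg, Ring.ord_of_isUnit isUnit_one]
    simp

variable [IsClosedImmersion ι] (hX : Cyc.IsSetup X δ)

include hP hX in
lemma isSetup_closed : Cyc.IsSetup (CohB1.ProjSpaceOver 1 X) δP ∧ Cyc.IsSetup W (fun w => δP (ι w)) := by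
  have h := isSetup_of_lft (CohB1.ProjSpaceOver.toBase 1 X) δ hX δP hP
  exact ⟨h, isSetup_closedImmersion ι h⟩

omit [IsIntegral W] in
include hP in
lemma deltaCompat_toBase : Cyc.DeltaCompat (ι ≫ CohB1.ProjSpaceOver.toBase 1 X) (fun w => δP (ι w)) δ := by
  intro w
  obtain ⟨n, hn, hd⟩ := hP (ι w)
  refine ⟨n, ?_, hd⟩
  letI a1 : Algebra (X.residueField ((ι ≫ CohB1.ProjSpaceOver.toBase 1 X) w))
      ((CohB1.ProjSpaceOver 1 X).residueField (ι w)) :=
    ((CohB1.ProjSpaceOver.toBase 1 X).residueFieldMap (ι w)).hom.toAlgebra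
  letI a3 : Algebra (X.residueField ((ι ≫ CohB1.ProjSpaceOver.toBase 1 X) w)) (W.residueField w) :=
    ((ι ≫ CohB1.ProjSpaceOver.toBase 1 X).residueFieldMap w).hom.toAlgebra
  refine Eq.trans ?_ hn
  refine (AlgEquiv.trdeg_eq (AlgEquiv.ofBijective ⟨(ι.residueFieldMap w).hom, fun c => ?_⟩
    ⟨RingHom.injective _, residueFieldMap_surjective ι w⟩)).symm
  exact (DFunLike.congr_fun (congrArg CommRingCat.Hom.hom
    (Scheme.residueFieldMap_comp ι (CohB1.ProjSpaceOver.toBase 1 X) w)) c).symm

open Classical in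
include hP hX in
/-- `[W₀] - [W_∞]` is the push forward of the divisor of the coordinate. -/
theorem map_div_tfun (k : ℤ) (hk : δP (ι (genericPoint W)) = k + 1) (h : ι (genericPoint W) ∈ V X 0)
    (h0 : ι (genericPoint W) ∉ Set.range (P1.sect X 0)) (x : X) :
    Cyc.subschemeFun δ k (pullback.snd ι (P1.sect X 0)) x -
        Cyc.subschemeFun δ k (pullback.snd ι (P1.sect X 1)) x =
      AlgebraicCycle.map (ι ≫ CohB1.ProjSpaceOver.toBase 1 X) (fun w => δP (ι w)) δ
        (divCycle (isSetup_closed ι hP hX).2 (genericPoint W) (tfun ι h) (tfun_ne_zero ι h h0)) x := by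
  obtain ⟨hPs, hW⟩ := isSetup_closed ι hP hX
  let q := ι ≫ CohB1.ProjSpaceOver.toBase 1 X
  let F : W → ℤ := fun w => if δP (ι w) = k then mult ι 0 w - mult ι 1 w else 0
  have hdiv : ∀ w, Cyc.divFun (fun w => δP (ι w)) (genericPoint W) (tfun ι h) w = F w := by
    intro w
    unfold Cyc.divFun
    have hs : genericPoint W ⤳ w := gen_specializes w
    by_cases hd : δP (ι w) = k
    · rw [dif_pos ⟨hs, show δP (ι w) + 1 = δP (ι (genericPoint W)) by omega⟩]
      simp only [F, if_pos hd]
      exact ordAt_tfun ι hW h h0 w hs (by omega)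
    · simp only [F, if_neg hd]
      exact dif_neg fun hh => hd (by have : δP (ι w) + 1 = δP (ι (genericPoint W)) := hh.2; omega)
  have hA : ∀ i, {w : W | ι w = P1.sect X i x}.Subsingleton := fun i a ha b hb =>
    ι.isClosedEmbedding.injective (ha.trans hb.symm)
  let T : Finset W := (hA 0).finite.toFinset ∪ (hA 1).finite.toFinset
  have hT : ∀ w, q w = x → F w ≠ 0 → w ∈ T := by
    intro w hw hne
    have hex : ∀ i, ι w ∈ Set.range (P1.sect X i) → ι w = P1.sect X i x := fun i ⟨y, hy⟩ => by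
      have : y = x := by
        rw [← toBase_sect (X := X) i y, hy]
        exact hw
      rw [← hy, this]
    simp only [F] at hne
    split_ifs at hne with hd
    · by_cases hr : ι w ∈ Set.range (P1.sect X 0)
      · exact Finset.mem_union_left _ ((hA 0).finite.mem_toFinset.2 (hex 0 hr))
      · refine Finset.mem_union_right _ ((hA 1).finite.mem_toFinset.2 (hex 1 ?_))
        by_contra hr1
        rw [mult_of_notMem ι 0 w hr, mult_of_notMem ι 1 w hr1, sub_zero] at hne
        exact hne rfl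
    · exact absurd rfl hne
  have hfib : ∀ i w, ι w = P1.sect X i x → q w = x := fun i w hw => by
    change CohB1.ProjSpaceOver.toBase 1 X (ι w) = x
    rw [hw, toBase_sect]
  have hcoeff : ∀ i w, ι w = P1.sect X i x → δP (ι w) = δ (q w) ∧ q.residueDegree w = 1 := fun i w hw => by
    have hsurj : Function.Surjective (q.residueFieldMap w).hom := by
      have hmove : ∀ (a b : CohB1.ProjSpaceOver 1 X), a = b →
          Function.Surjective ((CohB1.ProjSpaceOver.toBase 1 X).residueFieldMap b).hom →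
          Function.Surjective ((CohB1.ProjSpaceOver.toBase 1 X).residueFieldMap a).hom := fun a b e h => e ▸ h
      simp only [q, Scheme.residueFieldMap_comp]
      exact (residueFieldMap_surjective ι w).comp (hmove _ _ hw (surjective_residue_toBase i x))
    exact ⟨delta_eq_of_surjective q (deltaCompat_toBase ι hP) w hsurj, residueDegree_of_surjective q w hsurj⟩
  rw [map_apply_eq, finsum_mem_eq_sum_of_inter_support_eq _ (t := T) ?_,
    subschemeFun_pullback_sect ι hP k 0 x, subschemeFun_pullback_sect ι hP k 1 x,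
    finsum_mem_eq_finite_toFinset_sum _ (hA 0).finite, finsum_mem_eq_finite_toFinset_sum _ (hA 1).finite]
  swap
  · refine Set.ext fun w => ⟨fun hw => ⟨hT w hw.1 ((hdiv w).symm.trans_ne (left_ne_zero_of_mul hw.2)), hw.2⟩,
      fun hw => ⟨?_, hw.2⟩⟩
    rcases Finset.mem_union.1 hw.1 with h | h
    exacts [hfib 0 w ((hA 0).finite.mem_toFinset.1 h), hfib 1 w ((hA 1).finite.mem_toFinset.1 h)]
  have hterm : ∀ w ∈ T, divCycle hW (genericPoint W) (tfun ι h) (tfun_ne_zero ι h h0) w *
      (if δP (ι w) = δ (q w) then (q.residueDegree w : ℤ) else 0) = F w := by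
    intro w hw
    obtain ⟨i, hi⟩ : ∃ i, ι w = P1.sect X i x := by
      rcases Finset.mem_union.1 hw with h | h
      exacts [⟨0, (hA 0).finite.mem_toFinset.1 h⟩, ⟨1, (hA 1).finite.mem_toFinset.1 h⟩]
    obtain ⟨h1, h2⟩ := hcoeff i w hi
    rw [if_pos h1, h2, Nat.cast_one, mul_one]
    exact hdiv w
  refine Eq.symm ((Finset.sum_congr rfl hterm).trans ?_)
  rw [Finset.sum_union]
  · have e0 : ∀ w ∈ (hA 0).finite.toFinset, F w = if δP (ι w) = k then mult ι 0 w else 0 := fun w hw => by
      have : ι w ∉ Set.range (P1.sect X 1) :=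
        notMem_range_of_mem 0 _ ⟨x, ((hA 0).finite.mem_toFinset.1 hw).symm⟩
      simp only [F, mult_of_notMem ι 1 w this, sub_zero]
    have e1 : ∀ w ∈ (hA 1).finite.toFinset, F w = -(if δP (ι w) = k then mult ι 1 w else 0) := fun w hw => by
      have : ι w ∉ Set.range (P1.sect X 0) :=
        notMem_range_of_mem 1 _ ⟨x, ((hA 1).finite.mem_toFinset.1 hw).symm⟩
      simp only [F, mult_of_notMem ι 0 w this, zero_sub]
      split_ifs <;> simp
    rw [Finset.sum_congr rfl e0, Finset.sum_congr rfl e1, Finset.sum_neg_distrib, sub_eq_add_neg]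
  · refine Finset.disjoint_left.2 fun w hw hw' => notMem_range_of_mem 0 (ι w)
      ⟨x, ((hA 0).finite.mem_toFinset.1 hw).symm⟩ ⟨x, ((hA 1).finite.mem_toFinset.1 hw').symm⟩

end Integral

end Groth.Agent.Cyc90.P1L
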