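import Groth.Agent.Cyc90.P1Div
import Groth.Agent.Cyc90.PushDivGeneral
import Groth.Agent.Curves2.ImageReduced

/-! Principal divisors as differences of fibres of images in `P¹_X`. -/

set_option autoImplicit false
universe u

open CategoryTheory CategoryTheory.Limits AlgebraicGeometry TopologicalSpace IsLocalRing

namespace Groth.Agent.Cyc90.P1L

lemma stalkMap_apply_congr {Z Y : Scheme.{u}} {g g' : Z ⟶ Y} (e : g = g') {O : Y.Opens} (s : Γ(Y, O))
    (z : Z) (h : g z ∈ O) (h' : g' z ∈ O) :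
    g.stalkMap z (Y.presheaf.germ O (g z) h s) = g'.stalkMap z (Y.presheaf.germ O (g' z) h' s) := by
  subst e; rfl

lemma chartMap_t (B : Type u) [CommRing B] (b : B) : P1.chartMap 0 B b (t.{u} 0) = b := by
  let g := MvPolynomial.eval₂Hom ((Int.castRingHom B).comp ULift.ringEquiv.toRingHom)
    (Function.update (fun _ => b) (0 : Fin (1 + 1)) 1)
  have hg : IsUnit (g (P1.T.{u} 0)) := by simp [g]
  change IsLocalization.Away.lift (P1.T.{u} 0) hg (t.{u} 0).val = _
  rw [val_t, Localization.mk_eq_mk']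
  refine (IsLocalization.lift_mk'_spec _ _ _ _).2 ?_
  simp [g, oth_zero]

lemma toSt_toSpecΓ (S : Scheme.{u}) (z : S) (a : Γ(S, ⊤)) :
    S.toSpecΓ.stalkMap z (toSt (S.toSpecΓ z) a) = S.presheaf.germ ⊤ z trivial a := by
  have h : toSt (S.toSpecΓ z) a =
      (Spec Γ(S, ⊤)).presheaf.germ ⊤ (S.toSpecΓ z) trivial ((Scheme.ΓSpecIso _).inv a) := rfl
  rw [h]
  erw [Scheme.Hom.germ_stalkMap_apply S.toSpecΓ ⊤ z trivial]
  change S.presheaf.germ ⊤ z trivial (S.toSpecΓ.appTop ((Scheme.ΓSpecIso Γ(S, ⊤)).inv a)) = _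
  rw [Scheme.toSpecΓ_appTop, Iso.inv_hom_id_apply]

variable {X : Scheme.{u}}

/-- A morphism through the chart `T₀ ≠ 0`. -/
lemma coW_lift {Z : Scheme.{u}} (h : Z ⟶ CohB1.ProjSpaceOver 1 X)
    (m : Z ⟶ Spec (CommRingCat.of (HomogeneousLocalization.Away P1.grading.{u} (P1.T 0))))
    (e : h ≫ pr X = m ≫ Proj.awayι P1.grading (P1.T 0) (P1.X_mem 0) one_pos) (z : Z) :
    ∃ hz : h z ∈ V X 0, coW h 0 z hz = m.stalkMap z (toSt (m z) (t 0)) := by
  have hz' : (m ≫ Proj.awayι P1.grading (P1.T 0) (P1.X_mem 0) one_pos) z ∈ U 0 := awayι_mem_U 0 (m z)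
  have hz : (h ≫ pr X) z ∈ U 0 := by rw [e]; exact hz'
  refine ⟨hz, ?_⟩
  have h1 := stalkMap_apply_congr e (c 0) z hz hz'
  rw [Scheme.Hom.stalkMap_comp, Scheme.Hom.stalkMap_comp] at h1
  rw [coW_eq]
  refine Eq.trans ?_ (h1.trans (congrArg (m.stalkMap z) (awayι_stalkMap_c 0 (m z))))
  exact congrArg (h.stalkMap z) (Scheme.Hom.germ_stalkMap_apply (pr X) (U 0) (h z) hz (c 0)).symm

lemma coW_graph (U' : X.Opens) (f : Γ(X, U')) (z : U') :
    ∃ hz : P1.graph X U' f z ∈ V X 0, coW (P1.graph X U' f) 0 z hz =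
      U'.ι.stalkMap z (X.presheaf.germ U' z.1 z.2 f) := by
  let m := U'.toSpecΓ ≫ Spec.map (CommRingCat.ofHom (P1.chartMap 0 Γ(X, U') f))
  have e : P1.graph X U' f ≫ pr X = m ≫ Proj.awayι P1.grading (P1.T 0) (P1.X_mem 0) one_pos := by
    simp only [m, Category.assoc]
    exact pullback.lift_fst _ _ _
  obtain ⟨hz, hc⟩ := coW_lift _ m e z
  refine ⟨hz, hc.trans ?_⟩
  simp only [m, Scheme.Hom.stalkMap_comp]
  change (U'.toSpecΓ.stalkMap z) ((Spec.map (CommRingCat.ofHom (P1.chartMap 0 Γ(X, U') f))).stalkMap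
    (U'.toSpecΓ z) (toSt _ (t 0))) = _
  rw [toSt_stalkMap, chartMap_t]
  unfold Scheme.Opens.toSpecΓ
  rw [Scheme.Hom.stalkMap_comp]
  change (U'.toScheme.toSpecΓ.stalkMap z) ((Spec.map (CommRingCat.ofHom U'.topIso.inv.hom)).stalkMap
    (U'.toScheme.toSpecΓ z) (toSt _ f)) = _
  rw [toSt_stalkMap, toSt_toSpecΓ]
  refine (ConcreteCategory.bijective_of_isIso (U'.stalkIso z).hom).1 ?_
  refine Eq.trans ?_ (congrArg (U'.stalkIso z).hom (Scheme.Hom.germ_stalkMap_apply U'.ι U' z z.2 f)).symm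
  change (U'.toScheme.presheaf.germ _ z _ ≫ (U'.stalkIso z).hom) _ =
    (U'.toScheme.presheaf.germ _ z _ ≫ (U'.stalkIso z).hom) _
  rw [Scheme.Opens.germ_stalkIso_hom, Scheme.Opens.germ_stalkIso_hom]
  erw [TopCat.Presheaf.germ_res_apply, TopCat.Presheaf.germ_res_apply]
  rfl

/-- The scheme theoretic image of an integral scheme is integral. -/
lemma isIntegral_image {Z Y : Scheme.{u}} (h : Z ⟶ Y) [IsIntegral Z] [QuasiCompact h] :
    IsIntegral h.image ∧ IsGenericPoint (h.toImage (genericPoint Z)) (Set.univ : Set h.image) := by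
  have := Curves2.isReduced_image h
  have hg : IsGenericPoint (h.toImage (genericPoint Z)) (Set.univ : Set h.image) := by
    rw [isGenericPoint_def, Set.eq_univ_iff_forall]
    intro w
    refine closure_mono (Set.range_subset_iff.2 fun z => ?_) |>.trans closure_closure.subset
      (show w ∈ closure (Set.range h.toImage) from h.toImage.denseRange w)
    exact specializes_iff_mem_closure.1 ((gen_specializes z).map h.toImage.continuous)
  have : IrreducibleSpace h.image :=
    (irreducibleSpace_def _).2 hg.isIrreducible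
  have hint : IsIntegral h.image := isIntegral_of_irreducibleSpace_of_isReduced _
  exact ⟨hint, hg⟩

variable {δ : X → ℤ} {δP : CohB1.ProjSpaceOver 1 X → ℤ}

/-- A principal divisor as the difference of the two fibres of an image in `P¹_X`. -/
theorem exists_image_fibres (hX : Cyc.IsSetup X δ) (hP : Cyc.DeltaCompat (CohB1.ProjSpaceOver.toBase 1 X) δP δ)
    {Z : Scheme.{u}} [IsIntegral Z] (h : Z ⟶ CohB1.ProjSpaceOver 1 X) [QuasiCompact h]
    (hsurj : Function.Surjective
      ((h ≫ CohB1.ProjSpaceOver.toBase 1 X).residueFieldMap (genericPoint Z)).hom)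
    (hV : h (genericPoint Z) ∈ V X 0) (g : X.residueField ((h ≫ CohB1.ProjSpaceOver.toBase 1 X) (genericPoint Z)))
    (hg0 : g ≠ 0)
    (hg : ((h ≫ CohB1.ProjSpaceOver.toBase 1 X).residueFieldMap (genericPoint Z)).hom g =
      Z.residue _ (coW h 0 (genericPoint Z) hV)) :
    ∃ (_ : IsIntegral h.image), h.imageι (genericPoint h.image) = h (genericPoint Z) ∧
      δP (h.imageι (genericPoint h.image)) = δ ((h ≫ CohB1.ProjSpaceOver.toBase 1 X) (genericPoint Z)) ∧
      (h (genericPoint Z) ∉ Set.range (P1.sect X 0) ∧ h (genericPoint Z) ∉ Set.range (P1.sect X 1)) ∧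
      ∀ (k : ℤ), δ ((h ≫ CohB1.ProjSpaceOver.toBase 1 X) (genericPoint Z)) = k + 1 → ∀ x : X,
        Cyc.divFun δ ((h ≫ CohB1.ProjSpaceOver.toBase 1 X) (genericPoint Z)) g x =
          Cyc.subschemeFun δ k (pullback.snd h.imageι (P1.sect X 0)) x -
            Cyc.subschemeFun δ k (pullback.snd h.imageι (P1.sect X 1)) x := by
  obtain ⟨hint, hgen'⟩ := isIntegral_image h
  have hgen := (genericPoint_spec h.image).eq hgen'
  let η := genericPoint Z
  let ι := h.imageι
  let q := ι ≫ CohB1.ProjSpaceOver.toBase 1 X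
  have hιη : ι (genericPoint h.image) = h η := by
    rw [hgen]; exact congrArg (fun k : Z ⟶ CohB1.ProjSpaceOver 1 X => k η) (a₁ := h.toImage ≫ h.imageι) h.toImage_imageι
  have hu : IsUnit (coW h 0 η hV) := (IsLocalRing.residue_ne_zero_iff_isUnit _).1 <| by
    change Z.residue η (coW h 0 η hV) ≠ 0
    rw [← hg]
    exact (map_ne_zero _).2 hg0
  have h0 : h η ∉ Set.range (P1.sect X 0) := (isUnit_coW_iff h 0 η hV).1 hu
  have h1 : h η ∉ Set.range (P1.sect X 1) := fun hr =>
    (mem_other_iff X 1 _ (mem_V_of_mem_range h 1 η hr)).1 hV hr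
  have hqe : h.toImage ≫ q = h ≫ CohB1.ProjSpaceOver.toBase 1 X := by simp [q, ι]
  have hqη : q (genericPoint h.image) = (h ≫ CohB1.ProjSpaceOver.toBase 1 X) η :=
    congrArg (fun p => CohB1.ProjSpaceOver.toBase 1 X p) hιη
  have hsurjW : Function.Surjective (q.residueFieldMap (h.toImage η)).hom := by
    have hmove : ∀ (a b : Z ⟶ X), a = b → Function.Surjective (b.residueFieldMap η).hom →
        Function.Surjective (a.residueFieldMap η).hom := fun a b e h => e ▸ h
    have h2 := hmove _ _ hqe hsurj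
    rw [Scheme.residueFieldMap_comp] at h2
    intro a
    obtain ⟨b, hb⟩ := h2 ((h.toImage.residueFieldMap η).hom a)
    exact ⟨b, (h.toImage.residueFieldMap η).hom.injective hb⟩
  rw [← hgen] at hsurjW
  have hd : δP (ι (genericPoint h.image)) = δ ((h ≫ CohB1.ProjSpaceOver.toBase 1 X) η) :=
    (delta_eq_of_surjective q (deltaCompat_toBase ι hP) _ hsurjW).trans (congrArg δ hqη)
  refine ⟨hint, hιη, hd, ⟨h0, h1⟩, fun k hk x => ?_⟩
  have hWV : ι (genericPoint h.image) ∈ V X 0 := hιη ▸ hV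
  have hW0 : ι (genericPoint h.image) ∉ Set.range (P1.sect X 0) := hιη ▸ h0
  obtain ⟨-, hWs⟩ := isSetup_closed ι hP hX
  rw [map_div_tfun ι hP hX k (hd.trans hk) hWV hW0 x,
    map_divFun q hWs hX (deltaCompat_toBase ι hP) (genericPoint h.image) (tfun ι hWV)
      (tfun_ne_zero ι hWV hW0) _ rfl,
    if_pos (delta_eq_of_surjective q (deltaCompat_toBase ι hP) _ hsurjW)]
  let g' : X.residueField (q (genericPoint h.image)) := (X.residueFieldCongr hqη).inv g
  have htf : tfun ι hWV = (q.residueFieldMap (genericPoint h.image)).hom g' := by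
    have key : ∀ (w : h.image), h.toImage η = w → ∀ (hwV : ι w ∈ V X 0)
        (e : q w = (h ≫ CohB1.ProjSpaceOver.toBase 1 X) η),
        h.image.residue w (coW ι 0 w hwV) = (q.residueFieldMap w).hom ((X.residueFieldCongr e).inv g) := by
      rintro w rfl hwV e
      refine (h.toImage.residueFieldMap η).hom.injective ?_
      have h2 : h.toImage.stalkMap η (coW ι 0 (h.toImage η) hwV) = coW h 0 η hV := by
        rw [coW_eq, coW_eq]
        have := stalkMap_apply_congr h.toImage_imageι (co X 0) η hwV hV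
        rw [Scheme.Hom.stalkMap_comp] at this
        exact this
      have h3 : ∀ (k : Z ⟶ X) (_ : k = h ≫ CohB1.ProjSpaceOver.toBase 1 X)
          (ek : k η = (h ≫ CohB1.ProjSpaceOver.toBase 1 X) η),
          (k.residueFieldMap η).hom ((X.residueFieldCongr ek).inv g) = Z.residue η (coW h 0 η hV) := by
        rintro k rfl ek
        simp only [Scheme.residueFieldCongr_refl, Iso.refl_inv]
        exact hg
      have h4 := h3 (h.toImage ≫ q) hqe e
      rw [Scheme.residueFieldMap_comp] at h4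
      refine Eq.trans ?_ h4.symm
      refine Eq.trans ?_ (congrArg (Z.residue η) h2)
      exact (congr($(Scheme.residue_residueFieldMap h.toImage η) (coW ι 0 (h.toImage η) hwV)))
    exact key _ hgen.symm hWV hqη
  have hnorm : Cyc.normGen q (genericPoint h.image) (tfun ι hWV) = g' := by
    rw [htf]
    letI := (q.residueFieldMap (genericPoint h.image)).hom.toAlgebra
    change Algebra.norm (X.residueField (q (genericPoint h.image)))
      (algebraMap (X.residueField (q (genericPoint h.image))) (h.image.residueField (genericPoint h.image)) g') = g'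
    rw [Algebra.norm_algebraMap]
    have := residueDegree_of_surjective q (genericPoint h.image) hsurjW
    change Module.finrank _ _ = 1 at this
    rw [this, pow_one]
  rw [hnorm, divFun_congr_point hqη.symm g']
  congr 1
  have key2 : ∀ (a b : X) (e : b = a) (e' : a = b) (c : X.residueField a),
      c = (X.residueFieldCongr e).hom ((X.residueFieldCongr e').hom c) := by
    intro a b e e' c
    subst e
    simp
  exact key2 _ (q (genericPoint h.image)) hqη hqη.symm g

end Groth.Agent.Cyc90.P1L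

namespace Groth.Agent.Cyc90.P1L

variable {X : Scheme.{u}}

lemma stalkMap_specMap_fromSpecStalk {ξ : X} {R : Type u} [CommRing R] (ψ : X.presheaf.stalk ξ →+* R)
    (z : Spec (CommRingCat.of R)) (U' : X.Opens) (hξ : ξ ∈ U') (s : Γ(X, U'))
    (hz : (Spec.map (CommRingCat.ofHom ψ) ≫ X.fromSpecStalk ξ) z ∈ U') :
    (Spec.map (CommRingCat.ofHom ψ) ≫ X.fromSpecStalk ξ).stalkMap z (X.presheaf.germ U' _ hz s) =
      toSt z (ψ (X.presheaf.germ U' ξ hξ s)) := by
  rw [Scheme.Hom.stalkMap_comp]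
  change (Spec.map (CommRingCat.ofHom ψ)).stalkMap z ((X.fromSpecStalk ξ).stalkMap
    (Spec.map (CommRingCat.ofHom ψ) z) (X.presheaf.germ U' _ hz s)) = _
  refine Eq.trans (congrArg _ ?_) (toSt_stalkMap ψ z _)
  erw [Scheme.Hom.germ_stalkMap_apply (X.fromSpecStalk ξ) U' (Spec.map (CommRingCat.ofHom ψ) z) hz s]
  rw [Scheme.fromSpecStalk_app hξ]
  change (Spec (X.presheaf.stalk ξ)).presheaf.germ _ _ _ ((Spec (X.presheaf.stalk ξ)).presheaf.map _
    ((Scheme.ΓSpecIso (X.presheaf.stalk ξ)).inv (X.presheaf.germ U' ξ hξ s))) = _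
  erw [TopCat.Presheaf.germ_res_apply]
  rfl

/-- The point of `P¹_X` over `ξ` with coordinate `g`. -/
noncomputable def ptGraph (ξ : X) (g : X.residueField ξ) : Spec (X.residueField ξ) ⟶ CohB1.ProjSpaceOver 1 X :=
  pullback.lift (Spec.map (CommRingCat.ofHom (P1.chartMap 0 (X.residueField ξ) g)) ≫
    Proj.awayι P1.grading (P1.T 0) (P1.X_mem 0) one_pos) (X.fromSpecResidueField ξ)
    (specULiftZIsTerminal.hom_ext _ _)

lemma ptGraph_toBase (ξ : X) (g : X.residueField ξ) :
    ptGraph ξ g ≫ CohB1.ProjSpaceOver.toBase 1 X = X.fromSpecResidueField ξ :=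
  pullback.lift_snd _ _ _

lemma coW_ptGraph (ξ : X) (g : X.residueField ξ) (z : Spec (X.residueField ξ)) :
    ∃ hz : ptGraph ξ g z ∈ V X 0, coW (ptGraph ξ g) 0 z hz = toSt (R := X.residueField ξ) z g := by
  obtain ⟨hz, hc⟩ := coW_lift (ptGraph ξ g) _ (pullback.lift_fst _ _ _) z
  refine ⟨hz, hc.trans ?_⟩
  refine (toSt_stalkMap (P1.chartMap 0 (X.residueField ξ) g) z (t 0)).trans ?_
  rw [chartMap_t]
  rfl

variable {δ : X → ℤ} {δP : CohB1.ProjSpaceOver 1 X → ℤ}

/-- Every principal divisor is the difference of two fibres. -/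
theorem exists_fibres (hX : Cyc.IsSetup X δ) (hP : Cyc.DeltaCompat (CohB1.ProjSpaceOver.toBase 1 X) δP δ)
    {k : ℤ} (ξ : X) (hξ : δ ξ = k + 1) (g : X.residueField ξ) (hg : g ≠ 0) :
    ∃ (W : Scheme.{u}) (ι : W ⟶ CohB1.ProjSpaceOver 1 X) (_ : IsIntegral W) (_ : IsClosedImmersion ι),
      (δP (ι (genericPoint W)) = k + 1 ∧ ι (genericPoint W) ∉ Set.range (P1.sect X 0) ∧
        ι (genericPoint W) ∉ Set.range (P1.sect X 1)) ∧
      CohB1.ProjSpaceOver.toBase 1 X (ι (genericPoint W)) = ξ ∧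
      ∀ x, Cyc.divFun δ ξ g x = Cyc.subschemeFun δ k (pullback.snd ι (P1.sect X 0)) x -
        Cyc.subschemeFun δ k (pullback.snd ι (P1.sect X 1)) x := by
  have := hX.1
  let Z := Spec (X.residueField ξ)
  have : IsIntegral Z := inferInstance
  let z := genericPoint Z
  let h := ptGraph ξ g
  have he := ptGraph_toBase ξ g
  have : QuasiCompact h := by
    have : QuasiCompact (h ≫ CohB1.ProjSpaceOver.toBase 1 X) := by rw [he]; infer_instance
    exact MorphismProperty.of_postcomp (W := @QuasiCompact) h (CohB1.ProjSpaceOver.toBase 1 X)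
      (inferInstance : QuasiSeparated (CohB1.ProjSpaceOver.toBase 1 X)) this
  have e0 : (h ≫ CohB1.ProjSpaceOver.toBase 1 X) z = ξ := by
    rw [he]; exact Scheme.fromSpecResidueField_apply _ _
  obtain ⟨hV, hc⟩ := coW_ptGraph ξ g z
  have key : ∀ (p : Z ⟶ X), p = X.fromSpecResidueField ξ → ∀ (e : p z = ξ),
      Function.Surjective (p.residueFieldMap z).hom ∧
        (p.residueFieldMap z).hom ((X.residueFieldCongr e).inv g) = Z.residue z (toSt (R := X.residueField ξ) z g) := by
    rintro p rfl e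
    refine ⟨residueFieldMap_surjective _ z, ?_⟩
    obtain ⟨a, rfl⟩ := IsLocalRing.residue_surjective (R := X.presheaf.stalk ξ) g
    obtain ⟨U', hξU, s, rfl⟩ := X.presheaf.germ_exist a
    have hz : X.fromSpecResidueField ξ z ∈ U' := e.symm ▸ hξU
    have hcongr : ∀ (b : X) (hb : b ∈ U') (eb : X.fromSpecResidueField ξ z = b),
        (X.residueFieldCongr eb).inv (X.residue b (X.presheaf.germ U' b hb s)) =
          X.residue _ (X.presheaf.germ U' (X.fromSpecResidueField ξ z) hz s) := by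
      rintro b hb rfl
      simp
    refine (congrArg _ (hcongr ξ hξU e)).trans ?_
    refine (congr($(Scheme.residue_residueFieldMap (X.fromSpecResidueField ξ) z) _)).trans ?_
    exact congrArg (Z.residue z) (stalkMap_specMap_fromSpecStalk (X.residue ξ).hom z U' hξU s hz)
  obtain ⟨hsurj, hg'⟩ := key _ he e0
  rw [← hc] at hg'
  obtain ⟨hint, hgen, hd, ⟨h0, h1⟩, hmain⟩ := exists_image_fibres hX hP h hsurj hV _
    ((map_ne_zero_iff _ (ConcreteCategory.bijective_of_isIso _).1).2 hg) hg'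
  refine ⟨h.image, h.imageι, hint, inferInstance, ⟨hd.trans ((congrArg δ e0).trans hξ), hgen ▸ h0, hgen ▸ h1⟩,
    (congrArg (fun p => CohB1.ProjSpaceOver.toBase 1 X p) hgen).trans e0, fun x => ?_⟩
  refine Eq.trans ?_ (hmain k ((congrArg δ e0).trans hξ) x)
  exact congrFun (divFun_congr_point e0 _) x

end Groth.Agent.Cyc90.P1L
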