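import Groth.Agent.Cyc90.OrdNorm
import Groth.Agent.FF30.Exist
import Groth.Agent.VarDim1.KrullAkizuki
import Mathlib.RingTheory.DiscreteValuationRing.TFAE
import Mathlib.RingTheory.OrderOfVanishing.Noetherian
import Mathlib.RingTheory.DedekindDomain.Dvr
import Mathlib.RingTheory.KrullDimension.Field

/-! Orders in a one dimensional local ring of a function field in terms of places. -/

set_option autoImplicit false
universe u

open IsLocalRing FunFld

namespace Groth.Agent.Cyc90

variable {k F : Type u} [Field k] [Field F] [Algebra k F]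

/-- The place `P` is centred at the local ring `A`. -/
def Centre (P : Place k F) (A : Type u) [CommRing A] [IsLocalRing A] [Algebra A F] : Prop :=
  ∀ a : A, P.1 (algebraMap A F a) ≤ 1 ∧ (a ∈ maximalIdeal A → P.1 (algebraMap A F a) < 1)

lemma algO_apply (P : Place k F) (c : k) : ((algebraMap k P.O c : P.O) : F) = algebraMap k F c := rfl

lemma ringKrullDim_eq_zero_of_isField' {A : Type u} [CommRing A] [IsDomain A] (h : IsField A) :
    ringKrullDim A = 0 := by
  letI := h.toField
  exact ringKrullDim_eq_zero_of_field A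

lemma not_isUnit_iff (P : Place k F) (z : P.O) : ¬ IsUnit z ↔ P.1 (z : F) < 1 := by
  have h : IsUnit z ↔ P.1 (z : F) = 1 :=
    Valuation.Integers.isUnit_iff_valuation_eq_one (Valuation.integer.integers P.1)
  rw [h]
  exact ⟨fun e => lt_of_le_of_ne z.2 e, fun e => e.ne⟩

lemma isDVR_O (P : Place k F) : IsDiscreteValuationRing P.O := by
  obtain ⟨t, ht0, ht⟩ := FF30.exists_uniformizer (P := P)
  have htle : P.1 t ≤ 1 := by rw [ht, ← WithZero.exp_zero]; exact WithZero.exp_le_exp.2 (by norm_num)
  let π : P.O := ⟨t, htle⟩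
  have hπ : π ≠ 0 := fun e => ht0 (congrArg Subtype.val e)
  refine IsDiscreteValuationRing.ofHasUnitMulPowIrreducibleFactorization ⟨π, ?_, fun {x} hx => ?_⟩
  · refine ⟨fun hu => ?_, fun a b hab => ?_⟩
    · obtain ⟨w, hw⟩ := hu
      have h1 : ((↑w⁻¹ : P.O) : F) * t = 1 := by
        have := congrArg Subtype.val (w.inv_mul); rw [hw] at this; exact this
      have h2 := congrArg P.1 h1
      rw [map_mul, map_one, ht] at h2
      have h3 : P.1 ((↑w⁻¹ : P.O) : F) ≤ 1 := (↑w⁻¹ : P.O).2
      have h4 := mul_le_mul' h3 (le_refl (WithZero.exp (-1 : ℤ)))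
      rw [h2, one_mul, ← WithZero.exp_zero, WithZero.exp_le_exp] at h4
      norm_num at h4
    · by_contra hcon
      rw [not_or] at hcon
      have hnu : ∀ z : P.O, ¬ IsUnit z → P.1 (z : F) ≤ WithZero.exp (-1) := fun z hz => by
        refine FF30.val_lt_one_le (P := P) ?_
        exact lt_of_le_of_ne z.2 fun e => hz ((Valuation.Integers.isUnit_iff_valuation_eq_one
          (Valuation.integer.integers P.1)).2 e)
      have h1 := mul_le_mul' (hnu a hcon.1) (hnu b hcon.2)
      rw [← map_mul, ← WithZero.exp_add] at h1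
      have h2 : P.1 ((a : F) * (b : F)) = WithZero.exp (-1) := by
        rw [← ht]; exact congrArg (fun z : P.O => P.1 (z : F)) hab.symm
      rw [h2, WithZero.exp_le_exp] at h1
      norm_num at h1
  · have hx0 : (x : F) ≠ 0 := fun e => hx (Subtype.ext e)
    obtain ⟨n, hn⟩ : ∃ n : ℕ, P.ord (x : F) = n := ⟨_, (Int.toNat_of_nonneg ((FF30.val_le_one_iff P).1 x.2)).symm⟩
    have hv : P.1 ((x : F) / t ^ n) = 1 := by
      rw [map_div₀, map_pow, ht, FF30.val_eq P hx0, hn, ← WithZero.exp_nsmul]
      rw [nsmul_eq_mul, mul_neg, mul_one, div_self]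
      exact WithZero.exp_ne_zero
    let w : P.O := ⟨(x : F) / t ^ n, hv.le⟩
    have hw : IsUnit w := (Valuation.Integers.isUnit_iff_valuation_eq_one
      (Valuation.integer.integers P.1)).2 hv
    refine ⟨n, hw.unit, Subtype.ext ?_⟩
    show t ^ n * ((x : F) / t ^ n) = x
    rw [mul_div_cancel₀ _ (pow_ne_zero _ ht0)]

/-- On a valuation ring of a place `ordFrac` is the order at the place. -/
theorem ordFrac_O (P : Place k F) (g : F) (hg : g ≠ 0) : CycAlg.ordFrac P.O F g = P.ord g := by
  have := isDVR_O P
  have key : ∀ x : P.O, x ≠ 0 → CycAlg.ordFrac P.O F (x : F) = P.ord (x : F) := by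
    intro x hx
    obtain ⟨π, hπ⟩ := IsDiscreteValuationRing.exists_irreducible P.O
    obtain ⟨n, w, rfl⟩ := IsDiscreteValuationRing.eq_unit_mul_pow_irreducible hx hπ
    have hπ0 : (π : F) ≠ 0 := fun e => hπ.ne_zero (Subtype.ext e)
    have hπv : P.ord (π : F) = 1 := by
      obtain ⟨t, ht0, ht⟩ := FF30.exists_uniformizer (P := P)
      have htle : P.1 t ≤ 1 := by rw [ht, ← WithZero.exp_zero]; exact WithZero.exp_le_exp.2 (by norm_num)
      obtain ⟨m, v, hv⟩ := IsDiscreteValuationRing.eq_unit_mul_pow_irreducible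
        (x := (⟨t, htle⟩ : P.O)) (fun e => ht0 (congrArg Subtype.val e)) hπ
      have hv1 : P.1 ((v : P.O) : F) = 1 := (Valuation.Integers.isUnit_iff_valuation_eq_one
        (Valuation.integer.integers P.1)).1 v.isUnit
      have h2 : P.1 t = P.1 ((v : P.O) : F) * P.1 (π : F) ^ m := by
        rw [← map_pow, ← map_mul]; exact congrArg (fun z : P.O => P.1 (z : F)) hv
      rw [hv1, one_mul, ht, FF30.val_eq P hπ0, ← WithZero.exp_nsmul, WithZero.exp_inj,
        nsmul_eq_mul, mul_neg] at h2
      have h3 : (m : ℤ) * P.ord (π : F) = 1 := by omega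
      have h4 : 0 ≤ P.ord (π : F) := (FF30.val_le_one_iff P).1 π.2
      exact Int.eq_one_of_mul_eq_one_left h4 h3
    have hw : P.ord ((w : P.O) : F) = 0 := (FF30.val_eq_one_iff P
      (fun e => w.ne_zero (Subtype.ext e))).1 ((Valuation.Integers.isUnit_iff_valuation_eq_one
        (Valuation.integer.integers P.1)).1 w.isUnit)
    have e : (((w : P.O) * π ^ n : P.O) : F) = ((w : P.O) : F) * (π : F) ^ n := rfl
    rw [show (((w : P.O) * π ^ n : P.O) : F) = algebraMap P.O F ((w : P.O) * π ^ n) from rfl,
      Len90.ordFrac_algebraMap _ hx, Ring.ord_eq_addVal, IsDiscreteValuationRing.addVal_def' w hπ n]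
    rw [show algebraMap P.O F ((w : P.O) * π ^ n) = ((w : P.O) : F) * (π : F) ^ n from e,
      FF30.ord_mul P (fun e0 => w.ne_zero (Subtype.ext e0)) (pow_ne_zero _ hπ0), hw, FF30.ord_pow P, hπv]
    simp
  obtain ⟨x, y, hy, rfl⟩ := IsFractionRing.div_surjective (A := P.O) g
  have hy0 : y ≠ 0 := nonZeroDivisors.coe_ne_zero ⟨y, hy⟩
  have hx0 : x ≠ 0 := by rintro rfl; simp at hg
  have hy' : (y : F) ≠ 0 := fun e => hy0 (Subtype.ext e)
  have h1 := key x hx0
  have hy'' : algebraMap P.O F y ≠ 0 := hy'
  replace h1 : CycAlg.ordFrac P.O F (algebraMap P.O F x) = P.ord (algebraMap P.O F x) := h1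
  have h3 : CycAlg.ordFrac P.O F (algebraMap P.O F y) = P.ord (algebraMap P.O F y) := key y hy0
  rw [← div_mul_cancel₀ (algebraMap P.O F x) hy'', Len90.ordFrac_mul _ _ hg hy'', h3,
    FF30.ord_mul P hg hy''] at h1
  exact add_right_cancel h1

variable {A : Type u} [CommRing A] [IsDomain A] [IsNoetherianRing A] [IsLocalRing A] [Algebra A F]
  [IsFractionRing A F] [Algebra k A] [IsScalarTower k A F]

/-- The weighted order in `A` is the sum over the places centred at `A`. -/
theorem ordFrac_eq_sum_places (hF : FF30.FF k F) (hA : ringKrullDim A = 1)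
    (hfin : Module.Finite A (integralClosure A F)) :
    ∃ T : Finset (Place k F), (∀ P, P ∈ T ↔ Centre P A) ∧
      ∀ g : F, g ≠ 0 → (Module.finrank k (ResidueField A) : ℤ) * CycAlg.ordFrac A F g =
        ∑ P ∈ T, (P.deg : ℤ) * P.ord g := by
  classical
  have hA1 : Ring.KrullDimLE 1 A := (by rw [Ring.KrullDimLE, Order.krullDimLE_iff, ← ringKrullDim, hA]; rfl)
  let B := integralClosure A F
  have hfrac : IsFractionRing B F := integralClosure.isFractionRing_of_finite_extension F F
  have hdd : IsDedekindDomain B := VarDim1.isDedekindDomain_integralClosure F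
  have hinj : Function.Injective (algebraMap A B) := fun a b e =>
    IsFractionRing.injective A F (congrArg Subtype.val e)
  have : Finite (MaximalSpectrum B) := finite_maximalSpectrum A B
  let _ : Fintype (MaximalSpectrum B) := Fintype.ofFinite _
  let C : MaximalSpectrum B → Type u := fun m => Localization.AtPrime m.asIdeal
  let iCF : ∀ m, Algebra (C m) F := fun m =>
    (IsLocalization.lift (M := m.asIdeal.primeCompl) (g := algebraMap B F) fun s =>
      isUnit_iff_ne_zero.2 fun e => s.2 (by
        rw [show (s : B) = 0 from IsFractionRing.injective B F (e.trans (map_zero _).symm)]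
        exact zero_mem _) : C m →+* F).toAlgebra
  have htow : ∀ m, IsScalarTower B (C m) F := fun m =>
    IsScalarTower.of_algebraMap_eq fun b => (IsLocalization.lift_eq _ b).symm
  have hfracC : ∀ m, IsFractionRing (C m) F := fun m =>
    IsFractionRing.isFractionRing_of_isDomain_of_isLocalization m.asIdeal.primeCompl (C m) F
  have hne : ∀ m : MaximalSpectrum B, m.asIdeal ≠ ⊥ := fun m hm => by
    have := m.isMaximal
    have h1 := IsLocalRing.eq_maximalIdeal
      (Ideal.isMaximal_comap_of_isIntegral_of_isMaximal (R := A) m.asIdeal)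
    rw [hm, ← RingHom.ker_eq_comap_bot, (RingHom.injective_iff_ker_eq_bot _).1 hinj] at h1
    have h2 : ringKrullDim A = 0 :=
      ringKrullDim_eq_zero_of_isField' (IsLocalRing.isField_iff_maximalIdeal_eq.2 h1.symm)
    rw [hA] at h2
    exact one_ne_zero h2
  have hdvr : ∀ m, IsDiscreteValuationRing (C m) := fun m =>
    IsLocalization.AtPrime.isDiscreteValuationRing_of_dedekind_domain B (hne m) (C m)
  -- the valuation rings
  let V : MaximalSpectrum B → ValuationSubring F := fun m =>
    { (algebraMap (C m) F).range with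
      mem_or_inv_mem' := fun z => by
        rcases ValuationRing.isInteger_or_isInteger (C m) z with h | h
        · exact Or.inl h
        · exact Or.inr h }
  have hVne : ∀ m, V m ≠ ⊤ := fun m htop => by
    have : Function.Surjective (algebraMap (C m) F) := fun z => by
      have : z ∈ V m := htop ▸ ValuationSubring.mem_top z
      exact this
    exact (IsDiscreteValuationRing.not_isField (C m))
      ((RingEquiv.ofBijective _ ⟨IsFractionRing.injective (C m) F, this⟩).toMulEquiv.isField
        (Field.toIsField F))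
  have hkB : ∀ (m : MaximalSpectrum B) (c : k), algebraMap k F c ∈ V m := fun m c =>
    ⟨algebraMap B (C m) (algebraMap A B (algebraMap k A c)), by
      rw [← IsScalarTower.algebraMap_apply B (C m) F, ← IsScalarTower.algebraMap_apply A B F,
        ← IsScalarTower.algebraMap_apply k A F]⟩
  choose pl hpl using fun m => hF.exists_place (V m) (hkB m) (hVne m)
  let e : ∀ m, C m ≃+* (pl m).O := fun m =>
    RingEquiv.ofBijective ((algebraMap (C m) F).codRestrict (pl m).O fun a => by
      rw [hpl m]; exact ⟨a, rfl⟩)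
      ⟨fun a b h => IsFractionRing.injective (C m) F (congrArg Subtype.val h), fun z => by
        obtain ⟨a, ha⟩ : (z : F) ∈ V m := hpl m ▸ z.2
        exact ⟨a, Subtype.ext ha⟩⟩
  have hmax : ∀ m (a : C m), a ∈ maximalIdeal (C m) ↔ (pl m).1 (algebraMap (C m) F a) < 1 := fun m a => by
    rw [mem_maximalIdeal, mem_nonunits_iff, ← isUnit_map_iff (e m) a]
    exact not_isUnit_iff (pl m) (e m a)
  have hint : ∀ (P : Place k F), Centre P A → ∀ b : B, P.1 (b : F) ≤ 1 := fun P hP b => by
    let φ : A →+* P.O := (algebraMap A F).codRestrict P.O fun a => (hP a).1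
    obtain ⟨q, hq, hq0⟩ := b.2
    have : IsIntegral P.O (b : F) := ⟨q.map φ, hq.map _, by rw [Polynomial.eval₂_map]; exact hq0⟩
    obtain ⟨z, hz⟩ := IsIntegrallyClosed.isIntegral_iff.1 this
    exact hz ▸ z.2
  have hcentre : ∀ m, Centre (pl m) A := fun m a => by
    have e1 : algebraMap A F a = algebraMap (C m) F (algebraMap B (C m) (algebraMap A B a)) := by
      rw [← IsScalarTower.algebraMap_apply B (C m) F, ← IsScalarTower.algebraMap_apply A B F]
    refine ⟨e1 ▸ (e m _).2, fun ha => e1 ▸ (hmax m _).1 ?_⟩
    rw [IsLocalization.AtPrime.to_map_mem_maximal_iff (C m) m.asIdeal]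
    have := m.isMaximal
    rw [← Ideal.mem_comap, IsLocalRing.eq_maximalIdeal
      (Ideal.isMaximal_comap_of_isIntegral_of_isMaximal (R := A) m.asIdeal)]
    exact ha
  have hplinj : Function.Injective pl := fun m n h => by
    refine MaximalSpectrum.ext (Ideal.ext fun b => ?_)
    have h1 : ∀ m (b : B), b ∈ m.asIdeal ↔ (pl m).1 (b : F) < 1 := fun m b => by
      rw [← IsLocalization.AtPrime.to_map_mem_maximal_iff (C m) m.asIdeal, hmax,
        ← IsScalarTower.algebraMap_apply B (C m) F]
      rfl
    rw [h1, h1, h]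
  have hsurj : ∀ P, Centre P A → ∃ m, pl m = P := fun P hP => by
    let ψ : B →+* P.O := (algebraMap B F).codRestrict P.O (hint P hP)
    let Q := (maximalIdeal P.O).comap ψ
    have hQ : Q.IsMaximal := by
      refine Ideal.isMaximal_of_isIntegral_of_isMaximal_comap (R := A) _ ?_
      have h1 : Q.comap (algebraMap A B) = maximalIdeal A := by
        refine (IsLocalRing.eq_maximalIdeal ?_)
        have hle : maximalIdeal A ≤ Q.comap (algebraMap A B) := fun a ha => by
          rw [Ideal.mem_comap, Ideal.mem_comap, mem_maximalIdeal, mem_nonunits_iff]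
          exact (not_isUnit_iff P _).2 ((hP a).2 ha)
        rw [← (maximalIdeal.isMaximal A).eq_of_le (Ideal.comap_ne_top _ (Ideal.IsPrime.ne_top inferInstance)) hle]
        exact maximalIdeal.isMaximal A
      rw [h1]; exact maximalIdeal.isMaximal A
    let m : MaximalSpectrum B := ⟨Q, hQ⟩
    have hu : ∀ s : m.asIdeal.primeCompl, IsUnit (ψ s) := fun s => by
      by_contra hs; exact s.2 hs
    let Ψ : C m →+* P.O := IsLocalization.lift hu
    have hΨ : ∀ a, ((Ψ a : P.O) : F) = algebraMap (C m) F a := by
      have : (P.O.subtype.comp Ψ) = algebraMap (C m) F := by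
        refine IsLocalization.ringHom_ext m.asIdeal.primeCompl (RingHom.ext fun b => ?_)
        show ((Ψ (algebraMap B (C m) b) : P.O) : F) = algebraMap (C m) F (algebraMap B (C m) b)
        rw [IsLocalization.lift_eq, ← IsScalarTower.algebraMap_apply B (C m) F]
        rfl
      exact fun a => RingHom.congr_fun this a
    have hloc : ∀ a ∈ maximalIdeal (C m), Ψ a ∈ maximalIdeal P.O := fun a ha => by
      obtain ⟨b, s, rfl⟩ := IsLocalization.exists_mk'_eq m.asIdeal.primeCompl a
      rw [IsLocalization.AtPrime.mk'_mem_maximal_iff (C m) m.asIdeal b s] at ha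
      rw [show Ψ (IsLocalization.mk' (C m) b s) = ψ b * ((hu s).unit⁻¹ : P.Oˣ) from
        IsLocalization.lift_mk' hu b s]
      exact Ideal.mul_mem_right _ _ ha
    refine ⟨m, FF30.place_ext_O ?_⟩
    rw [hpl m]
    refine le_antisymm ?_ fun z hz => ?_
    · rintro _ ⟨a, rfl⟩
      rw [← hΨ]; exact (Ψ a).2
    · rcases ValuationRing.isInteger_or_isInteger (C m) z with h | ⟨a, ha⟩
      · exact h
      · by_cases hau : IsUnit a
        · refine ⟨(hau.unit⁻¹ : (C m)ˣ), ?_⟩
          rw [show algebraMap (C m) F (hau.unit⁻¹ : (C m)ˣ) = (algebraMap (C m) F a)⁻¹ from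
            eq_inv_of_mul_eq_one_left (by rw [← map_mul, IsUnit.val_inv_mul, map_one]), ha, inv_inv]
        · have h1 := hloc a hau
          rw [mem_maximalIdeal, mem_nonunits_iff, not_isUnit_iff] at h1
          by_cases hz0 : z = 0
          · exact hz0 ▸ zero_mem _
          exfalso
          rw [show ((Ψ a : P.O) : F) = z⁻¹ from (hΨ a).trans ha, map_inv₀] at h1
          exact h1.not_ge ((one_le_inv₀ (zero_lt_iff.2 ((Valuation.ne_zero_iff _).2 hz0))).2 hz)
  refine ⟨Finset.univ.image pl, fun P => ?_, fun g hg => ?_⟩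
  · simp only [Finset.mem_image, Finset.mem_univ, true_and]
    exact ⟨fun ⟨m, hm⟩ => hm ▸ hcentre m, hsurj P⟩
  have hnorm : Algebra.norm F g = g := by
    exact (Algebra.norm_algebraMap g).trans (by simp)
  have hsum := ordFrac_norm (A := A) (B := B) (K := F) (L := F) hA hinj C g hg
  rw [hnorm] at hsum
  rw [hsum, Finset.mul_sum, Finset.sum_image fun m _ n _ h => hplinj h]
  refine Finset.sum_congr rfl fun m _ => ?_
  have hord : CycAlg.ordFrac (C m) F g = (pl m).ord g := by
    have := isDVR_O (pl m)
    rw [← ordFrac_O (pl m) g hg]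
    exact (ordFrac_congr (e m) (RingHom.id F) (fun a => rfl) g hg).symm
  rw [hord, ← mul_assoc, ← Nat.cast_mul]
  congr 2
  -- residue degrees
  let q : MaximalSpectrum A := ⟨maximalIdeal A, maximalIdeal.isMaximal A⟩
  have hq : q.asIdeal = m.asIdeal.comap (algebraMap A B) := by
    have := m.isMaximal
    exact (IsLocalRing.eq_maximalIdeal
      (Ideal.isMaximal_comap_of_isIntegral_of_isMaximal (R := A) m.asIdeal)).symm
  let A' := Localization.AtPrime q.asIdeal
  let iAC : Algebra A' (C m) := (TameAlg50.locMap q m hq).toAlgebra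
  have hlh : IsLocalHom (algebraMap A' (C m)) :=
    Localization.isLocalHom_localRingHom q.asIdeal m.asIdeal (algebraMap A B) hq
  have : IsLocalization q.asIdeal.primeCompl A := IsLocalization.self fun a ha => by
    by_contra hu; exact ha hu
  let e1 : A ≃+* A' := (IsLocalization.algEquiv q.asIdeal.primeCompl A A').toRingEquiv
  let iκ : Algebra (ResidueField A) (ResidueField (pl m).O) :=
    (((ResidueField.mapEquiv (e m)).toRingHom.comp (algebraMap (ResidueField A') (ResidueField (C m)))).comp
      (ResidueField.mapEquiv e1).toRingHom).toAlgebra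
  have htow2 : @IsScalarTower k (ResidueField A) (ResidueField (pl m).O) _ iκ.toSMul
      (Place.algRes (pl m)).toSMul := IsScalarTower.of_algebraMap_eq fun c => by
    change residue (pl m).O (algebraMap k (pl m).O c) =
      ResidueField.mapEquiv (e m) (algebraMap (ResidueField A') (ResidueField (C m))
        (ResidueField.mapEquiv e1 (residue A (algebraMap k A c))))
    change _ = residue (pl m).O (e m (TameAlg50.locMap q m hq (e1 (algebraMap k A c))))
    refine congrArg _ (Subtype.ext ?_)
    rw [show e1 (algebraMap k A c) = algebraMap A A' (algebraMap k A c) from AlgEquiv.commutes _ _,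
      TameAlg50.locMap, Localization.localRingHom_to_map]
    change algebraMap k F c = algebraMap (C m) F (algebraMap B (C m) (algebraMap A B (algebraMap k A c)))
    rw [← IsScalarTower.algebraMap_apply B (C m) F, ← IsScalarTower.algebraMap_apply A B F,
      ← IsScalarTower.algebraMap_apply k A F]
  have hdeg : degAt A m = Module.finrank (ResidueField A) (ResidueField (pl m).O) := by
    change Module.finrank (ResidueField A') (ResidueField (C m)) = _
    refine Algebra.finrank_eq_of_equiv_equiv (ResidueField.mapEquiv e1).symm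
      (ResidueField.mapEquiv (e m)) (RingHom.ext fun z => ?_)
    obtain ⟨w, rfl⟩ := (ResidueField.mapEquiv e1).surjective z
    change algebraMap (ResidueField A) (ResidueField (pl m).O)
      ((ResidueField.mapEquiv e1).symm (ResidueField.mapEquiv e1 w)) = _
    rw [RingEquiv.symm_apply_apply]
    rfl
  rw [hdeg, Place.deg]
  exact @Module.finrank_mul_finrank k (ResidueField A) (ResidueField (pl m).O) _ _ _ _ iκ.toModule
    (Place.algRes (pl m)).toModule htow2 _ _ _ _

end Groth.Agent.Cyc90
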