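import Groth.Agent.Cyc90.PullDiv
import Groth.Agent.Cyc90.LocalMult

/-! Flat pullback of a principal divisor on an integral scheme as a combination of principal
divisors. -/

set_option autoImplicit false
universe u

open CategoryTheory AlgebraicGeometry TopologicalSpace IsLocalRing

namespace Groth.Agent.Cyc90

variable {X Y : Scheme.{u}}

/-- Finitely many maximal generizations. -/
lemma finite_maximal_generizations [IsLocallyNoetherian X] (x : X) :
    {z : X | z ⤳ x ∧ ∀ w, w ⤳ z → w = z}.Finite := by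
  refine ((Len90.finite_minimal (A := X.presheaf.stalk x)).image fun p => X.fromSpecStalk x p).subset ?_
  rintro z ⟨hz, hmax⟩
  refine ⟨genPrime hz, ⟨⟨(genPrime hz).2, bot_le⟩, fun I hI hle => ?_⟩, fromSpecStalk_genPrime hz⟩
  let q : PrimeSpectrum (X.presheaf.stalk x) := ⟨I, hI.1⟩
  have hq := genPrime_fromSpecStalk q
  have hqz : X.fromSpecStalk x q ⤳ z := by
    rw [← genPrime_le_iff (fromSpecStalk_specializes q) hz, hq]; exact hle
  have : genPrime (fromSpecStalk_specializes q) = genPrime hz := (genPrime_eq_iff _ _).2 (hmax _ hqz)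
  rw [hq] at this
  exact (congrArg PrimeSpectrum.asIdeal this).ge

/-- The residue of a stalk element in a generization of the source. -/
lemma specMap_stalkMap' (f : X ⟶ Y) {x ξ : X} (h : ξ ⤳ x) (a : Y.presheaf.stalk (f x)) :
    Cyc.specMap x ξ h ((f.stalkMap x).hom a) =
      f.residueFieldMap ξ (Cyc.specMap (f x) (f ξ) (h.map f.continuous) a) := by
  have e1 := congr($(Scheme.Hom.stalkSpecializes_stalkMap f ξ x h).hom a)
  change X.residue ξ ((X.presheaf.stalkSpecializes _).hom ((f.stalkMap x).hom a)) = _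
  refine (congrArg (X.residue ξ) e1.symm).trans ?_
  exact congr($(Scheme.residue_residueFieldMap f ξ).hom
    ((Y.presheaf.stalkSpecializes (h.map f.continuous)).hom a)).symm

/-- Transport of residues along equal generizations. -/
lemma specMap_congr {y η η' : Y} (e : η' = η) (h : η ⤳ y) (h' : η' ⤳ y) (a : Y.presheaf.stalk y) :
    (Y.residueFieldCongr e.symm).hom (Cyc.specMap y η h a) = Cyc.specMap y η' h' a := by
  subst e
  simp

variable [IsIntegral Y] [IsLocallyNoetherian Y]

open Classical in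
theorem pullFun_divFun_sum {δX : X → ℤ} {δY : Y → ℤ} (hX : Cyc.IsSetup X δX) (hY : Cyc.IsSetup Y δY)
    (f : X ⟶ Y) [Flat f] {c : ℤ} (hc : ShiftAt f δX δY c) (g : Y.residueField (genericPoint Y))
    (hg : g ≠ 0) (x : X) :
    Cyc.pullFun f δX δY c (Cyc.divFun δY (genericPoint Y) g) x =
      ∑ᶠ ξ : {ξ : X // (∀ x' : X, x' ⤳ ξ → x' = ξ) ∧ f ξ = genericPoint Y},
        ((Module.length (X.presheaf.stalk ξ.1) (X.presheaf.stalk ξ.1)).toNat : ℤ) *
          Cyc.divFun δX ξ.1 (f.residueFieldMap ξ.1 ((Y.residueFieldCongr ξ.2.2.symm).hom g)) x := by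
  have := hX.1
  set k := δY (genericPoint Y) with hk
  have hYle : ∀ y, δY y ≤ k := fun y => delta_le hY.2.2 (gen_specializes y)
  have hshift := fun z => (delta_le_of_shift f hX.2.2 hc z).1
  have hξδ : ∀ ξ : {ξ : X // (∀ x' : X, x' ⤳ ξ → x' = ξ) ∧ f ξ = genericPoint Y}, δX ξ.1 = k + c :=
    fun ξ => by rw [hc ξ.1 fun w _ hw => ξ.2.1 w hw, ξ.2.2]
  have hhdim : ∀ z, δX z ≤ k + c := fun z => by have := hshift z; have := hYle (f z); omega
  have hsx := hshift x
  have hyx := hYle (f x)
  by_cases hd : δX x + 1 = k + c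
  swap
  · rw [finsum_eq_zero_of_forall_eq_zero fun ξ => ?_]
    · unfold Cyc.pullFun Cyc.divFun
      split_ifs with h1 h2
      · exact absurd (by omega) hd
      all_goals simp
    · unfold Cyc.divFun
      rw [dif_neg fun h => hd (by have := hξδ ξ; omega), mul_zero]
  by_cases hfx : f x = genericPoint Y
  · -- `g` is a unit at `x`
    have hkx : δY (f x) = k := by rw [hfx]
    rw [show Cyc.pullFun f δX δY c (Cyc.divFun δY (genericPoint Y) g) x = 0 from if_neg (by omega)]
    refine (finsum_eq_zero_of_forall_eq_zero fun ξ => ?_).symm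
    unfold Cyc.divFun
    split_ifs with h
    swap
    · rw [mul_zero]
    obtain ⟨w, hw⟩ := Y.residue_surjective (genericPoint Y) g
    let a : Y.presheaf.stalk (f x) := Y.presheaf.stalkSpecializes (specializes_of_eq hfx) w
    have e2 : Y.presheaf.stalkSpecializes (specializes_of_eq hfx) ≫
        Y.presheaf.stalkSpecializes (gen_specializes (f x)) = 𝟙 _ := by
      rw [TopCat.Presheaf.stalkSpecializes_comp, TopCat.Presheaf.stalkSpecializes_refl]
    have ha : Cyc.specMap (f x) (genericPoint Y) (gen_specializes (f x)) a = g :=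
      (congrArg (Y.residue (genericPoint Y)) congr($(e2).hom w)).trans hw
    have hau : IsUnit a := ((IsLocalRing.residue_ne_zero_iff_isUnit _).1
      (fun e0 => hg (hw.symm.trans e0))).map (Y.presheaf.stalkSpecializes (specializes_of_eq hfx)).hom
    rw [ordAt_eq_zero hX h.1 h.2 _ ((f.stalkMap x).hom a) 1 (hau.map _) isUnit_one (by
      rw [map_one, mul_one, specMap_stalkMap' f h.1, ← specMap_congr ξ.2.2 (gen_specializes (f x)), ha]),
      mul_zero]
  have hyk : δY (f x) + 1 = k := by
    have := delta_lt hY.2.2 (gen_specializes (f x)) (fun h => hfx h.symm)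
    omega
  have hxc : δX x = δY (f x) + c := by omega
  have hdimY : ringKrullDim (Y.presheaf.stalk (f x)) ≤ 1 :=
    (ringKrullDim_eq_of_ringEquiv (stalkEquivLocQuot (f x))).trans_le
      (ringKrullDim_locQuot_le_one _ fun w h1 h2 => immediate hY.2.2 (gen_specializes (f x)) hyk h1 h2)
  let A := Y.presheaf.stalk (f x)
  let B := X.presheaf.stalk x
  let iAB : Algebra A B := (f.stalkMap x).hom.toAlgebra
  have : Module.Flat A B := Flat.stalkMap f x
  have : IsLocalHom (algebraMap A B) := f.toLRSHom.prop x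
  let iAK : Algebra A (Y.residueField (genericPoint Y)) :=
    (Cyc.specMap (f x) (genericPoint Y) (gen_specializes (f x))).toAlgebra
  have : IsFractionRing A (Y.residueField (genericPoint Y)) := isFractionRing_specMap (f x)
  have := krullDimLE_one hdimY
  obtain ⟨a, b, hb, hab⟩ := IsFractionRing.div_surjective (A := A) g
  have hb0 : b ≠ 0 := nonZeroDivisors.coe_ne_zero ⟨b, hb⟩
  have hb' : algebraMap A (Y.residueField (genericPoint Y)) b ≠ 0 := fun e0 =>
    hb0 (IsFractionRing.injective A _ (e0.trans (map_zero _).symm))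
  have ha0 : a ≠ 0 := by rintro rfl; exact hg (by rw [← hab, map_zero, zero_div])
  have he : g * algebraMap A _ b = algebraMap A _ a := by rw [← hab, div_mul_cancel₀ _ hb']
  -- transport of the residues
  have hgen : ∀ z, z ⤳ x → δX z = k + c → f z = genericPoint Y := fun z _ hz => by
    have := hshift z
    have := hYle (f z)
    exact (eq_of_delta_le hY.2.2 (gen_specializes (f z)) (by omega)).symm
  have hres : ∀ z (h : z ⤳ x) (e : f z = genericPoint Y) (w : A),
      Cyc.specMap x z h (algebraMap A B w) = f.residueFieldMap z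
        ((Y.residueFieldCongr e.symm).hom (algebraMap A (Y.residueField (genericPoint Y)) w)) := fun z h e w => by
    refine (specMap_stalkMap' f h w).trans ?_
    rw [← specMap_congr e (gen_specializes (f x))]
    rfl
  have hinjB : ∀ w : A, w ≠ 0 → Function.Injective (fun v : B => v * algebraMap A B w) := fun w hw u v e => by
    refine (IsSMulRegular.of_flat (S := B) (IsSMulRegular.of_ne_zero hw) : IsSMulRegular B (algebraMap A B w)) ?_
    change algebraMap A B w * u = algebraMap A B w * v
    rw [mul_comm, show u * algebraMap A B w = v * algebraMap A B w from e, mul_comm]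
  have hsum : ∀ w : A, w ≠ 0 → ((Ring.ord A w).toNat : ℤ) * ((Module.length B
      (B ⧸ (maximalIdeal A).map (algebraMap A B))).toNat : ℤ) =
      ∑ᶠ z : X, if h : z ⤳ x ∧ δX z = k + c - 1 + 1 then
        ((Module.length (X.presheaf.stalk z) (X.presheaf.stalk z)).toNat : ℤ) *
          Cyc.ordAt x z h.1 (Cyc.specMap x z h.1 (algebraMap A B w)) else 0 := fun w hw => by
    rw [← length_quot_eq_sum hX (show δX x = k + c - 1 by omega) (fun z _ => by have := hhdim z; omega)
      (algebraMap A B w) (hinjB w hw) fun z h hz h0 => ?_]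
    · change _ = ((Ring.ord B (algebraMap A B w)).toNat : ℤ)
      rw [ord_algebraMap_of_flat, ENat.toNat_mul, Nat.cast_mul]
    · have e := hgen z h (by omega)
      rw [hres z h e] at h0
      have h1 := (map_eq_zero_iff _ (RingHom.injective _)).1 h0
      exact hw (IsFractionRing.injective A _ (((map_eq_zero_iff _
        (RingHom.injective _)).1 h1).trans (map_zero _).symm))
  have hL : Cyc.pullFun f δX δY c (Cyc.divFun δY (genericPoint Y) g) x =
      (((Ring.ord A a).toNat : ℤ) - (Ring.ord A b).toNat) * ((Module.length B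
      (B ⧸ (maximalIdeal A).map (algebraMap A B))).toNat : ℤ) := by
    rw [Cyc.pullFun, if_pos hxc, Cyc.divFun, dif_pos ⟨gen_specializes (f x), hyk⟩,
      ordAt_generic (f x) hdimY g hg, Len90.ordFrac_of_mul_eq g a b ha0 hb0 he]
    rfl
  have hfin : ∀ w : A, (Function.support fun z : X => if h : z ⤳ x ∧ δX z = k + c - 1 + 1 then
        ((Module.length (X.presheaf.stalk z) (X.presheaf.stalk z)).toNat : ℤ) *
          Cyc.ordAt x z h.1 (Cyc.specMap x z h.1 (algebraMap A B w)) else 0).Finite := fun w => by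
    refine (finite_maximal_generizations x).subset fun z hz => ?_
    by_cases h : z ⤳ x ∧ δX z = k + c - 1 + 1
    · exact ⟨h.1, fun v hv => eq_of_delta_le hX.2.2 hv (by have := hhdim v; omega)⟩
    · exact absurd (dif_neg h) hz
  rw [hL, sub_mul, hsum a ha0, hsum b hb0, ← finsum_sub_distrib (hfin a) (hfin b)]
  refine ((finsum_mem_inter_support_eq _ {ξ | (∀ x' : X, x' ⤳ ξ → x' = ξ) ∧ f ξ = genericPoint Y}
    Set.univ ?_).trans (finsum_mem_univ _)).symm.trans ?_
  · refine Set.ext fun z => ⟨fun hz => ⟨trivial, hz.2⟩, fun hz => ⟨?_, hz.2⟩⟩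
    by_cases h : z ⤳ x ∧ δX z = k + c - 1 + 1
    · exact ⟨fun v hv => eq_of_delta_le hX.2.2 hv (by have := hhdim v; omega), hgen z h.1 (by omega)⟩
    · exact absurd (by simp only [dif_neg h, sub_zero]) hz.2
  rw [← finsum_set_coe_eq_finsum_mem]
  refine finsum_congr fun ξ => ?_
  have hdξ : δX ξ.1 = k + c := hξδ ξ
  by_cases h : ξ.1 ⤳ x
  swap
  · simp [dif_neg (fun h' : _ ∧ _ => h h'.1), Cyc.divFun, h]
  have h' : ξ.1 ⤳ x ∧ δX ξ.1 = k + c - 1 + 1 := ⟨h, by omega⟩
  rw [dif_pos h', dif_pos h', Cyc.divFun, dif_pos ⟨h, by omega⟩, ← mul_sub]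
  congr 1
  have h1 : ringKrullDim (Cyc.LocQuot x ξ.1 h) ≤ 1 :=
    ringKrullDim_locQuot_le_one _ fun v hv1 hv2 => immediate hX.2.2 h (by omega) hv1 hv2
  have := krullDimLE_one h1
  let φ : Y.residueField (genericPoint Y) →+* X.residueField ξ.1 :=
    (f.residueFieldMap ξ.1).hom.comp (Y.residueFieldCongr ξ.2.2.symm).hom.hom
  have hφ : ∀ w : A, Cyc.specMap x ξ.1 h (algebraMap A B w) = φ (algebraMap A _ w) := hres ξ.1 h ξ.2.2
  have hne0 : ∀ w : A, w ≠ 0 → φ (algebraMap A _ w) ≠ 0 := fun w hw e =>
    hw (IsFractionRing.injective A _ (((map_eq_zero_iff _ φ.injective).1 e).trans (map_zero _).symm))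
  have hmul := Len90.ordFrac_mul (A := Cyc.LocQuot x ξ.1 h) (φ g) (φ (algebraMap A _ b))
    ((map_ne_zero_iff _ φ.injective).2 hg) (hne0 b hb0)
  rw [← map_mul, he] at hmul
  rw [hφ, hφ]
  change CycAlg.ordFrac _ _ _ - CycAlg.ordFrac _ _ _ = CycAlg.ordFrac _ _ (φ g)
  rw [hmul]
  ring

end Groth.Agent.Cyc90
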