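import Groth.Agent.Cyc90.DVRSetup
import Groth.Agent.Cyc90.CohMult
import Groth.Agent.Cyc90.GysinCoh
import Groth.Agent.Cyc90.PullSheaf
import Groth.Agent.Cyc90.AffLine
import Groth.Agent.FlatMor68.FibreStalk
import Mathlib.RingTheory.Flat.TorsionFree

/-! Specialization of the cycle of a flat coherent module over a discrete valuation ring. -/

set_option autoImplicit false
set_option backward.isDefEq.respectTransparency.types false
set_option linter.style.haveILetI false
universe u

open CategoryTheory CategoryTheory.Limits AlgebraicGeometry TopologicalSpace IsLocalRing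
open scoped TensorProduct

namespace Groth.Agent.Cyc90

variable {X D : Scheme.{u}} (F : X.Modules)

/-- The length of a stalk of a pullback with surjective stalk map and principal kernel. -/
lemma length_pullback_stalk_of_surjective [F.IsQuasicoherent] (i : D ⟶ X) (d : D)
    (hsurj : Function.Surjective (i.stalkMap d).hom) (a : X.presheaf.stalk (i d))
    (ha : RingHom.ker (i.stalkMap d).hom = Ideal.span {a}) :
    Module.length (D.presheaf.stalk d) (((Scheme.Modules.pullback i).obj F).presheaf.stalk d) =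
      Len90.coker (LinearMap.lsmul (X.presheaf.stalk (i d)) (F.presheaf.stalk (i d)) a) := by
  letI algS := (i.stalkMap d).hom.toAlgebra
  obtain ⟨E⟩ := FlatMor68.PullbackStalk.nonempty_stalkPullbackEquiv i F d
  rw [E.length_eq, Len90.coker]
  let O := X.presheaf.stalk (i d)
  let M := F.presheaf.stalk (i d)
  have hs : Function.Surjective (Algebra.ofId O (D.presheaf.stalk d)) := hsurj
  refine (Module.length_eq_of_surjective (S := O) (R := D.presheaf.stalk d)
    (M := D.presheaf.stalk d ⊗[O] M) hs).symm.trans ?_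
  let e1 : (O ⧸ RingHom.ker (Algebra.ofId O (D.presheaf.stalk d))) ≃ₗ[O] D.presheaf.stalk d :=
    (Ideal.quotientKerAlgEquivOfSurjective hs).toLinearEquiv
  refine ((TensorProduct.congr e1 (LinearEquiv.refl O M)).symm.trans
    ((TensorProduct.quotTensorEquivQuotSMul M _).trans (Submodule.quotEquivOfEq _ _ ?_))).length_eq
  rw [show RingHom.ker (Algebra.ofId O (D.presheaf.stalk d)) = Ideal.span {a} from ha]
  ext m
  rw [Submodule.ideal_span_singleton_smul, Submodule.mem_smul_pointwise_iff_exists, LinearMap.mem_range]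
  exact ⟨fun ⟨n, _, h⟩ => ⟨n, h⟩, fun ⟨n, h⟩ => ⟨n, trivial, h⟩⟩

/-- A point of the support has a maximal point of the support among its generizations. -/
lemma exists_maximal_support [IsLocallyNoetherian X] (hF : Coh.IsCoh F) (z : X)
    (hz : Nontrivial (F.presheaf.stalk z)) :
    ∃ z', z' ⤳ z ∧ Nontrivial (F.presheaf.stalk z') ∧
      ∀ w, Nontrivial (F.presheaf.stalk w) → w ⤳ z' → w = z' := by
  let A := X.presheaf.stalk z
  let M := F.presheaf.stalk z
  have : Module.Finite A M := FDesc60.finite_stalk_of_isCoh F hF z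
  have hle : Module.annihilator A M ≤ maximalIdeal A := le_maximalIdeal fun h => by
    rw [Module.annihilator_eq_top_iff] at h
    exact not_nontrivial M hz
  obtain ⟨q, hq, -⟩ := Ideal.exists_minimalPrimes_le hle
  let qP : PrimeSpectrum A := ⟨q, hq.1.1⟩
  have hg := genPrime_fromSpecStalk qP
  have hsp := fromSpecStalk_specializes qP
  refine ⟨_, hsp, (CohMult.nontrivial_stalk_iff_mem_support F hF.1 hsp).2 ?_, fun w hw hwz => ?_⟩
  · rw [hg]; exact Module.mem_support_iff_of_finite.2 hq.1.2
  · have h1 := Module.mem_support_iff_of_finite.1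
      ((CohMult.nontrivial_stalk_iff_mem_support F hF.1 (hwz.trans hsp)).1 hw)
    have h2 : (genPrime (hwz.trans hsp)).asIdeal ≤ q := by
      have h3 := (genPrime_le_iff (hwz.trans hsp) hsp).2 hwz
      rw [hg] at h3
      exact h3
    refine (genPrime_eq_iff (hwz.trans hsp) hsp).1 ?_
    rw [hg]
    exact PrimeSpectrum.ext (le_antisymm h2 (hq.2 ⟨(genPrime (hwz.trans hsp)).2, h1⟩ h2))

namespace DVR

variable {R : Type u} [CommRing R] [IsDomain R] [IsDiscreteValuationRing R]
variable (a : X ⟶ Spec (CommRingCat.of R)) [LocallyOfFiniteType a]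

variable (R) in
/-- A uniformizer. -/
noncomputable def unif : R := (IsDiscreteValuationRing.exists_irreducible R).choose

variable (R) in
lemma span_unif : Ideal.span {unif R} = maximalIdeal R :=
  (IsDiscreteValuationRing.exists_irreducible R).choose_spec.maximalIdeal_eq.symm

/-- The uniformizer in a local ring of `X`. -/
noncomputable def tX (z : X) : X.presheaf.stalk z := (a.stalkMap z).hom (toSt (a z) (unif R))

omit [LocallyOfFiniteType a] in
lemma stalkSpecializes_tX {z x : X} (h : z ⤳ x) : X.presheaf.stalkSpecializes h (tX a x) = tX a z := by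
  unfold tX
  rw [← toSt_stalkSpecializes (h.map a.continuous)]
  exact (congr($(Scheme.Hom.stalkSpecializes_stalkMap a z x h).hom (toSt (a x) (unif R)))).symm

omit [LocallyOfFiniteType a] in
lemma isUnit_tX_iff (z : X) : IsUnit (tX a z) ↔ a z = ηPt R := by
  have h1 : IsUnit (tX a z) ↔ unif R ∉ (a z).asIdeal :=
    ⟨fun h => (isUnit_toSt_iff (a z) _).1 ((a.toLRSHom.prop z).map_nonunit _ h),
      fun h => ((isUnit_toSt_iff (a z) _).2 h).map _⟩
  rw [h1]
  constructor
  · intro h
    rcases eq_or R (a z) with e | e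
    · exact e
    · refine absurd ?_ h
      rw [e]
      exact (span_unif R).le (Ideal.mem_span_singleton_self _)
  · intro e
    rw [e, ηPt, genericPoint_eq_bot_of_affine]
    exact (IsDiscreteValuationRing.exists_irreducible R).choose_spec.ne_zero

omit [LocallyOfFiniteType a] in
lemma specMap_tX_eq_zero_iff {z x : X} (h : z ⤳ x) : Cyc.specMap x z h (tX a x) = 0 ↔ a z ≠ ηPt R := by
  change X.residue z (X.presheaf.stalkSpecializes h (tX a x)) = 0 ↔ _
  rw [stalkSpecializes_tX, ne_eq, ← isUnit_tX_iff a z]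
  exact (IsLocalRing.residue_eq_zero_iff _).trans (mem_maximalIdeal _)

omit [LocallyOfFiniteType a] in
lemma map_maximalIdeal_s {z : X} (hz : a z = sPt R) :
    (maximalIdeal ((Spec (CommRingCat.of R)).presheaf.stalk (a z))).map (a.stalkMap z).hom =
      Ideal.span {tX a z} := by
  rw [← map_toSt_eq_maximalIdeal, show (a z).asIdeal = maximalIdeal R by rw [hz]; rfl, ← span_unif,
    Ideal.map_span, Set.image_singleton, Ideal.map_span, Set.image_singleton]
  rfl

omit [LocallyOfFiniteType a] in
lemma map_maximalIdeal_η {z : X} (hz : a z = ηPt R) :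
    (maximalIdeal ((Spec (CommRingCat.of R)).presheaf.stalk (a z))).map (a.stalkMap z).hom =
      Ideal.span {0} := by
  rw [← map_toSt_eq_maximalIdeal, show (a z).asIdeal = ⊥ by rw [hz, ηPt, genericPoint_eq_bot_of_affine]; rfl,
    Ideal.map_bot, Ideal.map_bot, Ideal.span_singleton_zero]

omit [LocallyOfFiniteType a] in
lemma injective_tX (hflat : FlatMod.IsFlatOver a F) (z : X) :
    Function.Injective (fun m : F.presheaf.stalk z => tX a z • m) := by
  letI := FlatMod.moduleStalkOver a F z
  haveI : Module.Flat ((Spec (CommRingCat.of R)).presheaf.stalk (a z)) (F.presheaf.stalk z) := hflat z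
  have hreg : IsRegular (toSt (a z) (unif R)) := by
    letI : Algebra R ((Spec (CommRingCat.of R)).presheaf.stalk (a z)) := (toSt (a z)).toAlgebra
    haveI : IsLocalization.AtPrime ((Spec (CommRingCat.of R)).presheaf.stalk (a z)) (a z).asIdeal :=
      StructureSheaf.IsLocalization.to_stalk R (a z)
    haveI := IsLocalization.isDomain_of_le_nonZeroDivisors (M := (a z).asIdeal.primeCompl)
      (S := (Spec (CommRingCat.of R)).presheaf.stalk (a z)) (a z).asIdeal.primeCompl_le_nonZeroDivisors
    refine IsRegular.of_ne_zero fun h => (IsDiscreteValuationRing.exists_irreducible R).choose_spec.ne_zero ?_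
    exact IsLocalization.injective ((Spec (CommRingCat.of R)).presheaf.stalk (a z))
      (a z).asIdeal.primeCompl_le_nonZeroDivisors (h.trans (map_zero (algebraMap R _)).symm)
  intro m m' e
  exact (Module.Flat.isSMulRegular_of_isRegular hreg :
    IsSMulRegular (F.presheaf.stalk z) (toSt (a z) (unif R))) e

open Classical in
theorem spFun_sheafFun {δη : ↥(a.fiber (ηPt R)) → ℤ} {δs : ↥(a.fiber (sPt R)) → ℤ}
    (hδη : Cyc.DeltaCompat (a.fiberToSpecResidueField (ηPt R)) δη (fun _ => 0))
    (hδs : Cyc.DeltaCompat (a.fiberToSpecResidueField (sPt R)) δs (fun _ => 0))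
    (r : ℤ) (hF : Coh.IsCoh F) (hflat : FlatMod.IsFlatOver a F)
    (hdim : ∀ ζ, Nontrivial (((Scheme.Modules.pullback (a.fiberι (ηPt R))).obj F).presheaf.stalk ζ) →
      δη ζ ≤ r) :
    (∀ x, Nontrivial (((Scheme.Modules.pullback (a.fiberι (sPt R))).obj F).presheaf.stalk x) → δs x ≤ r) ∧
      Cyc.spFun a (ηPt R) (sPt R) δη δs r
        (Cyc.sheafFun δη r ((Scheme.Modules.pullback (a.fiberι (ηPt R))).obj F)) =
        Cyc.sheafFun δs r ((Scheme.Modules.pullback (a.fiberι (sPt R))).obj F) := by
  have hX := isSetup_δT a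
  have := hX.1
  haveI : F.IsQuasicoherent := hF.1
  have hfin := FDesc60.finite_stalk_of_isCoh F hF
  have hηlen : ∀ ζ, Module.length _ (((Scheme.Modules.pullback (a.fiberι (ηPt R))).obj F).presheaf.stalk ζ) =
      Module.length (X.presheaf.stalk (a.fiberι (ηPt R) ζ)) (F.presheaf.stalk (a.fiberι (ηPt R) ζ)) := fun ζ => by
    rw [length_pullback_stalk_of_surjective F _ ζ (FlatMor68.FibreStalk.fiberι_stalkMap_surjective a _ ζ) 0
      ((FlatMor68.FibreStalk.ker_fiberι_stalkMap a _ ζ).trans
        (map_maximalIdeal_η a (E4O.apply_fiberι a _ ζ))), map_zero, Len90.coker, LinearMap.range_zero]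
    exact (Submodule.quotEquivOfEqBot _ rfl).length_eq
  have hbound : ∀ z, Nontrivial (F.presheaf.stalk z) → δT a z ≤ r + 1 ∧ (a z = sPt R → δT a z ≤ r) := by
    intro z hz
    obtain ⟨z', hz', hn, hmax⟩ := exists_maximal_support F hF z hz
    have := hfin z'
    have hu := isUnit_of_injective_smul (length_stalk_ne_top F hF z' fun w hw => hmax w hw) (tX a z')
      (injective_tX F a hflat z')
    have hη := (isUnit_tX_iff a z').1 hu
    obtain ⟨ζ, rfl⟩ := E4O.exists_fiberι_eq a hη
    have hd := hdim ζ (by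
      rw [← Module.length_pos_iff (R := (a.fiber (ηPt R)).presheaf.stalk ζ), hηlen, Module.length_pos_iff]
      exact hn)
    have h1 := δT_η a hδη ζ
    refine ⟨(delta_le hX.2.2 hz').trans (by omega), fun hs => ?_⟩
    have h2 := delta_lt hX.2.2 hz' fun e => ηPt_ne_sPt R (hη.symm.trans ((congrArg a e).trans hs))
    omega
  refine ⟨fun x hx => ?_, funext fun x => ?_⟩
  · have h := (hbound _ (nontrivial_stalk_of_pullback (a.fiberι (sPt R)) F x hx)).2 (E4O.apply_fiberι a _ x)
    rwa [δT_s a hδs] at h
  simp only [Cyc.spFun, Cyc.sheafFun]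
  by_cases hk : δs x = r
  swap
  · rw [if_neg hk, if_neg hk]
  rw [if_pos hk, if_pos hk]
  let x' := a.fiberι (sPt R) x
  have hx' : a x' = sPt R := E4O.apply_fiberι a _ x
  have := hfin x'
  rw [length_pullback_stalk_of_surjective F _ x (FlatMor68.FibreStalk.fiberι_stalkMap_surjective a _ x) (tX a x')
      ((FlatMor68.FibreStalk.ker_fiberι_stalkMap a _ x).trans (map_maximalIdeal_s a hx')),
    CohMult.length_coker_eq_sum F hX hF.1 (k := r) (show δT a x' = r by rw [δT_s a hδs, hk])
      (fun z _ hn => (hbound z hn).1) (tX a x') (injective_tX F a hflat x') (fun z h hn hd h0 => by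
        rcases eq_or R (a z) with e | e
        · exact (specMap_tX_eq_zero_iff a h).1 h0 e
        · have := (hbound z hn).2 e
          omega)]
  let T : Set ↥(a.fiber (ηPt R)) := {ζ | δη ζ = r ∧ a.fiberι (ηPt R) ζ ⤳ x'}
  let G : X → ℤ := fun z => if h : z ⤳ x' ∧ δT a z = r + 1 then
      ((Module.length (X.presheaf.stalk z) (F.presheaf.stalk z)).toNat : ℤ) *
        Cyc.ordAt x' z h.1 (Cyc.specMap x' z h.1 (tX a x')) else 0
  change _ = ∑ᶠ z, G z
  rw [show ∑ᶠ z, G z = ∑ᶠ z ∈ a.fiberι (ηPt R) '' T, G z from ?_,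
    finsum_mem_image (E4O.isEmbedding_fiberι a _).injective.injOn, ← finsum_set_coe_eq_finsum_mem T]
  · refine finsum_congr fun ζ => ?_
    obtain ⟨ζ, hζr, hζx⟩ := ζ
    simp only [if_pos hζr, G]
    have hd : δT a (a.fiberι (ηPt R) ζ) = r + 1 := by rw [δT_η a hδη, hζr]
    have hdx : δT a x' = r := by rw [δT_s a hδs, hk]
    rw [dif_pos ⟨hζx, hd⟩, hηlen]
    congr 1
    have h1 : ringKrullDim (Cyc.LocQuot x' (a.fiberι (ηPt R) ζ) hζx) ≤ 1 :=
      ringKrullDim_locQuot_le_one _ fun w h1 h2 =>
        immediate hX.2.2 hζx (show δT a x' + 1 = δT a (a.fiberι (ηPt R) ζ) by omega) h1 h2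
    have := krullDimLE_one h1
    have h0 : Ideal.Quotient.mk (RingHom.ker (Cyc.specMap x' _ hζx)) (tX a x') ≠ 0 := fun e =>
      (specMap_tX_eq_zero_iff a hζx).1 (RingHom.mem_ker.1 (Ideal.Quotient.eq_zero_iff_mem.1 e))
        (E4O.apply_fiberι a _ ζ)
    rw [Cyc.ordAt, show Cyc.specMap x' _ hζx (tX a x') = algebraMap (Cyc.LocQuot x' _ hζx) _
      (Ideal.Quotient.mk _ (tX a x')) from rfl, Len90.ordFrac_algebraMap _ h0, ord_quot_mk]
    refine congrArg (fun n : ℕ∞ => (n.toNat : ℤ)) ?_
    rw [← Ideal.map_map, map_maximalIdeal_s a hx']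
    exact (DoubleQuot.quotQuotEquivQuotSupₐ (X.presheaf.stalk x') _ _).toLinearEquiv.length_eq
  · rw [← finsum_mem_univ]
    refine finsum_mem_inter_support_eq' _ _ _ fun z hz => ⟨fun _ => ?_, fun _ => trivial⟩
    simp only [G, Function.mem_support] at hz
    split_ifs at hz with h
    · have hn : Nontrivial (F.presheaf.stalk z) := by
        by_contra hn
        have : Subsingleton (F.presheaf.stalk z) := not_nontrivial_iff_subsingleton.1 hn
        rw [Module.length_eq_zero] at hz
        simp at hz
      rcases eq_or R (a z) with e | e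
      · obtain ⟨ζ, rfl⟩ := E4O.exists_fiberι_eq a e
        refine ⟨ζ, ⟨?_, h.1⟩, rfl⟩
        have := δT_η a hδη ζ
        have := h.2
        omega
      · have := (hbound z hn).2 e
        have := h.2
        omega
    · exact absurd rfl hz

end DVR

end Groth.Agent.Cyc90
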