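import Groth.Agent.Cyc90.SpFlat
import Groth.Agent.Cyc90.GysinPull
import Groth.Agent.Cyc90.PullClosed
import Groth.Agent.Cyc90.AffBundlePoly

/-! Specialization as a sum of divisors of the uniformizer on the total space. -/

set_option autoImplicit false
set_option backward.isDefEq.respectTransparency.types false
set_option linter.style.haveILetI false
universe u

open CategoryTheory CategoryTheory.Limits AlgebraicGeometry TopologicalSpace IsLocalRing

namespace Groth.Agent.Cyc90.DVR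

variable {R : Type u} [CommRing R] [IsDomain R] [IsDiscreteValuationRing R]
variable {X X' : Scheme.{u}} (a : X ⟶ Spec (CommRingCat.of R)) [LocallyOfFiniteType a]

/-- The uniformizer in a residue field. -/
noncomputable def uRes (z : X) : X.residueField z := X.residue z (tX a z)

omit [LocallyOfFiniteType a] in
lemma uRes_ne_zero {z : X} (hz : a z = ηPt R) : uRes a z ≠ 0 :=
  (IsLocalRing.residue_ne_zero_iff_isUnit _).2 ((isUnit_tX_iff a z).2 hz)

lemma ordAt_uRes {z x : X} (h : z ⤳ x) (hz : a z = ηPt R) (hx : a x = sPt R) (hd : δT a x + 1 = δT a z) :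
    ((Module.length (X.presheaf.stalk x) (Cyc.LocQuot x z h ⧸
        (maximalIdeal ((Spec (CommRingCat.of R)).presheaf.stalk (a x))).map
          ((Ideal.Quotient.mk (RingHom.ker (Cyc.specMap x z h))).comp (a.stalkMap x).hom))).toNat : ℤ) =
      Cyc.ordAt x z h (uRes a z) := by
  have hX := isSetup_δT a
  have := hX.1
  have hu : uRes a z = Cyc.specMap x z h (tX a x) := (congrArg (X.residue z) (stalkSpecializes_tX a h)).symm
  have h1 : ringKrullDim (Cyc.LocQuot x z h) ≤ 1 :=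
    ringKrullDim_locQuot_le_one _ fun w h1 h2 => immediate hX.2.2 h hd h1 h2
  have := krullDimLE_one h1
  have h0 : Ideal.Quotient.mk (RingHom.ker (Cyc.specMap x z h)) (tX a x) ≠ 0 := fun e =>
    (specMap_tX_eq_zero_iff a h).1 (RingHom.mem_ker.1 (Ideal.Quotient.eq_zero_iff_mem.1 e)) hz
  rw [hu, Cyc.ordAt, show Cyc.specMap x z h (tX a x) = algebraMap (Cyc.LocQuot x z h) _
    (Ideal.Quotient.mk _ (tX a x)) from rfl, Len90.ordFrac_algebraMap _ h0, ord_quot_mk]
  refine congrArg (fun n : ℕ∞ => (n.toNat : ℤ)) ?_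
  rw [← Ideal.map_map, map_maximalIdeal_s a hx]
  exact (DoubleQuot.quotQuotEquivQuotSupₐ (X.presheaf.stalk x) _ _).toLinearEquiv.length_eq

/-- Specialization on coefficient functions, on the total space. -/
theorem spFun_eq {δη : ↥(a.fiber (ηPt R)) → ℤ} {δs : ↥(a.fiber (sPt R)) → ℤ}
    (hδη : Cyc.DeltaCompat (a.fiberToSpecResidueField (ηPt R)) δη (fun _ => 0))
    (hδs : Cyc.DeltaCompat (a.fiberToSpecResidueField (sPt R)) δs (fun _ => 0))
    (r : ℤ) (α : ↥(a.fiber (ηPt R)) → ℤ) (hα : ∀ ζ, δη ζ ≠ r → α ζ = 0) (x : ↥(a.fiber (sPt R))) :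
    Cyc.spFun a (ηPt R) (sPt R) δη δs r α x =
      ∑ᶠ ζ, α ζ * Cyc.divFun (δT a) (a.fiberι (ηPt R) ζ) (uRes a _) (a.fiberι (sPt R) x) := by
  classical
  unfold Cyc.spFun
  have hterm : ∀ ζ, α ζ * Cyc.divFun (δT a) (a.fiberι (ηPt R) ζ) (uRes a _) (a.fiberι (sPt R) x) ≠ 0 →
      δη ζ = r ∧ δs x = r ∧ a.fiberι (ηPt R) ζ ⤳ a.fiberι (sPt R) x := fun ζ h => by
    have h1 : δη ζ = r := not_not.1 fun hh => left_ne_zero_of_mul h (hα ζ hh)
    have h2 := right_ne_zero_of_mul h
    unfold Cyc.divFun at h2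
    split_ifs at h2 with hh
    · obtain ⟨h3, h4⟩ := hh
      rw [δT_η a hδη, δT_s a hδs] at h4
      exact ⟨h1, by omega, h3⟩
    · exact absurd rfl h2
  by_cases hk : δs x = r
  swap
  · rw [if_neg hk]
    refine (finsum_eq_zero_of_forall_eq_zero fun ζ => not_not.1 fun h => hk (hterm ζ h).2.1).symm
  rw [if_pos hk]
  let T : Set ↥(a.fiber (ηPt R)) := {ζ | δη ζ = r ∧ a.fiberι (ηPt R) ζ ⤳ a.fiberι (sPt R) x}
  let G : ↥(a.fiber (ηPt R)) → ℤ := fun ζ =>
    α ζ * Cyc.divFun (δT a) (a.fiberι (ηPt R) ζ) (uRes a _) (a.fiberι (sPt R) x)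
  change _ = ∑ᶠ ζ, G ζ
  rw [show ∑ᶠ ζ, G ζ = ∑ᶠ ζ ∈ T, G ζ from ?_, ← finsum_set_coe_eq_finsum_mem T]
  · refine finsum_congr fun ζ => ?_
    obtain ⟨ζ, hζr, hζx⟩ := ζ
    have hd : δT a (a.fiberι (sPt R) x) + 1 = δT a (a.fiberι (ηPt R) ζ) := by
      rw [δT_η a hδη, δT_s a hδs, hζr, hk]
    change _ = G ζ
    simp only [G, Cyc.divFun, dif_pos (⟨hζx, hd⟩ : _ ∧ _)]
    rw [← ordAt_uRes a hζx (E4O.apply_fiberι a _ ζ) (E4O.apply_fiberι a _ x) hd]
  · rw [← finsum_mem_univ]
    exact finsum_mem_inter_support_eq' _ _ _ fun ζ hζ =>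
      ⟨fun _ => ⟨(hterm ζ hζ).1, (hterm ζ hζ).2.2⟩, fun _ => trivial⟩

omit [LocallyOfFiniteType a] in
lemma finite_support_generizing (α : AlgebraicCycle (a.fiber (ηPt R)) ℤ) (y : X) :
    {ζ | α ζ ≠ 0 ∧ a.fiberι (ηPt R) ζ ⤳ y}.Finite := by
  obtain ⟨V, hV, hyV, -⟩ := exists_isAffineOpen_mem_and_subset (X := X) (x := y) (U := ⊤) trivial
  haveI : QuasiCompact (a.fiberι (ηPt R)) := inferInstanceAs (QuasiCompact (pullback.fst _ _))
  refine ((LocallyFiniteSupport.finite_inter_support_of_isCompact (f := (α : ↥(a.fiber (ηPt R)) → ℤ))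
    (fun z => α.supportLocallyFiniteWithinDomain' z trivial)
    ((a.fiberι (ηPt R)).isCompact_preimage hV.isCompact))).subset ?_
  exact fun ζ hζ => ⟨hζ.2.mem_open V.2 hyV, hζ.1⟩

end Groth.Agent.Cyc90.DVR

namespace Groth.Agent.Cyc90

variable {X Y S : Scheme.{u}}

lemma map_maximalIdeal_of_surjective {A B : Type u} [CommRing A] [CommRing B] [IsLocalRing A] [IsLocalRing B]
    (φ : A →+* B) [IsLocalHom φ] (hφ : Function.Surjective φ) :
    (maximalIdeal A).map φ = maximalIdeal B := by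
  refine le_antisymm (Ideal.map_le_iff_le_comap.2 (IsLocalRing.maximalIdeal_comap φ).ge) ?_
  conv_lhs => rw [← Ideal.map_comap_of_surjective φ hφ (maximalIdeal B), IsLocalRing.maximalIdeal_comap φ]

lemma length_fibreIdeal_congr {g g' : X ⟶ Y} (e : g = g') (x : X) :
    Module.length (X.presheaf.stalk x) (X.presheaf.stalk x ⧸
      (maximalIdeal (Y.presheaf.stalk (g x))).map (g.stalkMap x).hom) =
    Module.length (X.presheaf.stalk x) (X.presheaf.stalk x ⧸
      (maximalIdeal (Y.presheaf.stalk (g' x))).map (g'.stalkMap x).hom) := by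
  subst e; rfl

/-- The map of fibres over a point of the base. -/
noncomputable abbrev fibMap (f : X ⟶ Y) (b : Y ⟶ S) (y : S) : (f ≫ b).fiber y ⟶ b.fiber y :=
  pullback.map (f ≫ b) (S.fromSpecResidueField y) b (S.fromSpecResidueField y) f (𝟙 _) (𝟙 _)
    (Category.comp_id _) ((Category.comp_id _).trans (Category.id_comp _).symm)

lemma fibMap_fiberι (f : X ⟶ Y) (b : Y ⟶ S) (y : S) :
    fibMap f b y ≫ b.fiberι y = (f ≫ b).fiberι y ≫ f := pullback.lift_fst _ _ _

lemma fibMap_apply (f : X ⟶ Y) (b : Y ⟶ S) (y : S) (x : ↥((f ≫ b).fiber y)) :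
    b.fiberι y (fibMap f b y x) = f ((f ≫ b).fiberι y x) :=
  congrArg (fun k : (f ≫ b).fiber y ⟶ Y => k x) (fibMap_fiberι f b y)

/-- Multiplicities in fibres agree with multiplicities in the total spaces. -/
lemma length_fibMap (f : X ⟶ Y) (b : Y ⟶ S) (y : S) (x : ↥((f ≫ b).fiber y)) :
    Module.length (((f ≫ b).fiber y).presheaf.stalk x) (((f ≫ b).fiber y).presheaf.stalk x ⧸
      (maximalIdeal ((b.fiber y).presheaf.stalk (fibMap f b y x))).map ((fibMap f b y).stalkMap x).hom) =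
    Module.length (X.presheaf.stalk ((f ≫ b).fiberι y x)) (X.presheaf.stalk ((f ≫ b).fiberι y x) ⧸
      (maximalIdeal (Y.presheaf.stalk (f ((f ≫ b).fiberι y x)))).map (f.stalkMap ((f ≫ b).fiberι y x)).hom) := by
  have e1 : ∀ {Z W V : Scheme.{u}} (g : Z ⟶ W) (h : W ⟶ V) (z : Z) (I : Ideal (V.presheaf.stalk (h (g z)))),
      I.map ((g ≫ h).stalkMap z).hom = (I.map (h.stalkMap (g z)).hom).map (g.stalkMap z).hom := fun g h z I => by
    refine Eq.trans ?_ (Ideal.map_map _ _).symm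
    exact congrArg (fun φ => Ideal.map φ I) (congrArg CommRingCat.Hom.hom (Scheme.Hom.stalkMap_comp g h z))
  rw [show (maximalIdeal ((b.fiber y).presheaf.stalk (fibMap f b y x))).map ((fibMap f b y).stalkMap x).hom =
      (maximalIdeal (Y.presheaf.stalk ((fibMap f b y ≫ b.fiberι y) x))).map
        ((fibMap f b y ≫ b.fiberι y).stalkMap x).hom from by
    haveI : IsLocalHom ((b.fiberι y).stalkMap (fibMap f b y x)).hom := (b.fiberι y).toLRSHom.prop _
    exact (congrArg (Ideal.map ((fibMap f b y).stalkMap x).hom) (map_maximalIdeal_of_surjective _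
      (FlatMor68.FibreStalk.fiberι_stalkMap_surjective b y _)).symm).trans (e1 _ _ x _).symm]
  rw [length_fibreIdeal_congr (fibMap_fiberι f b y) x]
  refine (congrArg (fun I => Module.length (((f ≫ b).fiber y).presheaf.stalk x)
    (((f ≫ b).fiber y).presheaf.stalk x ⧸ I)) (e1 _ f x _)).trans ?_
  refine (length_quot_map_of_surjective _ (FlatMor68.FibreStalk.fiberι_stalkMap_surjective (f ≫ b) y x) _).trans ?_
  refine congrArg (fun I => Module.length (X.presheaf.stalk ((f ≫ b).fiberι y x))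
    (X.presheaf.stalk ((f ≫ b).fiberι y x) ⧸ I)) (sup_eq_left.2 ?_)
  rw [FlatMor68.FibreStalk.ker_fiberι_stalkMap]
  have hb : ∀ w : Y, (maximalIdeal (S.presheaf.stalk (b w))).map (b.stalkMap w).hom ≤
      maximalIdeal (Y.presheaf.stalk w) := fun w => Ideal.map_le_iff_le_comap.2 fun r hr =>
    (mem_maximalIdeal _).2 fun hu => (mem_maximalIdeal _).1 hr ((b.toLRSHom.prop w).map_nonunit _ hu)
  exact (e1 f b _ _).le.trans (Ideal.map_mono (hb _))

end Groth.Agent.Cyc90
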