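import Groth.Agent.Cyc90.SpFormula
import Groth.Agent.Cyc90.PullRat
import Groth.Agent.Cyc90.RelDimShift

/-! Specialization commutes with flat pullback. -/

set_option autoImplicit false
set_option backward.isDefEq.respectTransparency.types false
set_option linter.style.haveILetI false
universe u

open CategoryTheory CategoryTheory.Limits AlgebraicGeometry TopologicalSpace IsLocalRing

namespace Groth.Agent.Cyc90.DVR

variable {R : Type u} [CommRing R] [IsDomain R] [IsDiscreteValuationRing R]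
variable {X X' : Scheme.{u}} (b : X ⟶ Spec (CommRingCat.of R)) (f : X' ⟶ X)

lemma tX_comp (z : X') : tX (f ≫ b) z = (f.stalkMap z).hom (tX b (f z)) :=
  congr($(Scheme.Hom.stalkMap_comp f b z).hom (toSt (b (f z)) (unif R)))

/-- The uniformizer is compatible with the maps of residue fields. -/
lemma residueFieldMap_uRes {w : X} (z : X') (e : f z = w) :
    f.residueFieldMap z ((X.residueFieldCongr e.symm).hom (uRes b w)) = uRes (f ≫ b) z := by
  subst e
  simp only [Scheme.residueFieldCongr_refl, Iso.refl_hom, CommRingCat.id_apply]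
  unfold uRes
  rw [tX_comp]
  exact congr($(Scheme.residue_residueFieldMap f z).hom (tX b (f z)))

open Classical in
theorem spFun_pullFun [LocallyOfFiniteType b] [Flat f] [LocallyOfFiniteType f] (e : ℤ)
    (hc : ShiftAt f (δT (f ≫ b)) (δT b) e)
    {δ'η : ↥((f ≫ b).fiber (ηPt R)) → ℤ} {δ's : ↥((f ≫ b).fiber (sPt R)) → ℤ}
    {δη : ↥(b.fiber (ηPt R)) → ℤ} {δs : ↥(b.fiber (sPt R)) → ℤ}
    (h1 : Cyc.DeltaCompat ((f ≫ b).fiberToSpecResidueField (ηPt R)) δ'η (fun _ => 0))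
    (h2 : Cyc.DeltaCompat ((f ≫ b).fiberToSpecResidueField (sPt R)) δ's (fun _ => 0))
    (h3 : Cyc.DeltaCompat (b.fiberToSpecResidueField (ηPt R)) δη (fun _ => 0))
    (h4 : Cyc.DeltaCompat (b.fiberToSpecResidueField (sPt R)) δs (fun _ => 0))
    (r : ℤ) (α : AlgebraicCycle (b.fiber (ηPt R)) ℤ) (hα : ∀ ζ, δη ζ ≠ r → α ζ = 0) :
    Cyc.spFun (f ≫ b) (ηPt R) (sPt R) δ'η δ's (r + e) (Cyc.pullFun (fibMap f b (ηPt R)) δ'η δη e ⇑α) =
      Cyc.pullFun (fibMap f b (sPt R)) δ's δs e (Cyc.spFun b (ηPt R) (sPt R) δη δs r ⇑α) := by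
  funext x
  have hX := isSetup_δT b
  have hX' := isSetup_δT (f ≫ b)
  have := hX'.1
  let mη := fibMap f b (ηPt R)
  let ι := b.fiberι (ηPt R)
  let ι' := (f ≫ b).fiberι (ηPt R)
  let x' := (f ≫ b).fiberι (sPt R) x
  have hpull : ∀ ζ', Cyc.pullFun mη δ'η δη e ⇑α ζ' =
      if δT (f ≫ b) (ι' ζ') = δT b (f (ι' ζ')) + e then α (mη ζ') *
        ((Module.length (X'.presheaf.stalk (ι' ζ')) (X'.presheaf.stalk (ι' ζ') ⧸
          (maximalIdeal (X.presheaf.stalk (f (ι' ζ')))).map (f.stalkMap (ι' ζ')).hom)).toNat : ℤ) else 0 :=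
    fun ζ' => by
    have hd : δ'η ζ' = δη (mη ζ') + e ↔ δT (f ≫ b) (ι' ζ') = δT b (f (ι' ζ')) + e := by
      rw [δT_η (f ≫ b) h1, ← fibMap_apply f b (ηPt R) ζ', δT_η b h3]
      change δ'η ζ' = δη (mη ζ') + e ↔ δ'η ζ' + 1 = δη (mη ζ') + 1 + e
      omega
    unfold Cyc.pullFun
    by_cases h : δT (f ≫ b) (ι' ζ') = δT b (f (ι' ζ')) + e
    · rw [if_pos (hd.2 h), if_pos h, length_fibMap]
    · rw [if_neg fun hh => h (hd.1 hh), if_neg h]
  rw [spFun_eq (f ≫ b) h1 h2 (r + e) _ ?_ x]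
  swap
  · intro ζ' hζ'
    unfold Cyc.pullFun
    split_ifs with h
    · rw [hα _ (fun hh => hζ' (by rw [h, hh])), zero_mul]
    · rfl
  let T : Set ↥(b.fiber (ηPt R)) := {ζ | α ζ ≠ 0 ∧ ι ζ ⤳ f x'}
  have hT : T.Finite := finite_support_generizing b α (f x')
  let P : ↥(b.fiber (ηPt R)) → Set X' := fun ζ => {η | f η = ι ζ ∧ ∀ w, f w = ι ζ → w ⤳ η → w = η}
  let G : ↥((f ≫ b).fiber (ηPt R)) → ℤ := fun ζ' =>
    Cyc.pullFun mη δ'η δη e ⇑α ζ' * Cyc.divFun (δT (f ≫ b)) (ι' ζ') (uRes (f ≫ b) _) x'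
  let E : ↥(b.fiber (ηPt R)) → Set ↥((f ≫ b).fiber (ηPt R)) := fun ζ => {ζ' | ι' ζ' ∈ P ζ ∧ ι' ζ' ⤳ x'}
  have hinj : Function.Injective ι' := (E4O.isEmbedding_fiberι (f ≫ b) (ηPt R)).injective
  have hinjb : Function.Injective ι := (E4O.isEmbedding_fiberι b (ηPt R)).injective
  have hE : ∀ ζ, (E ζ).Finite := fun ζ => by
    obtain ⟨N, hN, hxN, hfin⟩ := exists_nhd_finite_over f (ι ζ) x'
    exact (hfin.preimage hinj.injOn).subset fun ζ' h => ⟨h.1, h.2.mem_open hN hxN⟩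
  have hlhs : ∑ᶠ ζ', G ζ' = ∑ᶠ ζ ∈ T, ∑ᶠ ζ' ∈ E ζ, G ζ' := by
    rw [← finsum_mem_biUnion ?_ hT fun ζ _ => hE ζ, ← finsum_mem_univ]
    · refine finsum_mem_inter_support_eq' _ _ _ fun ζ' hζ' => ?_
      simp only [Set.mem_univ, true_iff, Set.mem_iUnion]
      have h1' := left_ne_zero_of_mul (Function.mem_support.1 hζ')
      have h2' := right_ne_zero_of_mul (Function.mem_support.1 hζ')
      rw [hpull] at h1'
      unfold Cyc.divFun at h2'
      split_ifs at h1' h2' with ha hb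
      · refine ⟨mη ζ', ⟨left_ne_zero_of_mul h1', ?_⟩, ⟨(fibMap_apply f b _ ζ').symm, fun w hw hwz => ?_⟩, hb.1⟩
        · change b.fiberι (ηPt R) (fibMap f b (ηPt R) ζ') ⤳ f x'
          rw [fibMap_apply]
          exact hb.1.map f.continuous
        · exact (delta_le_of_shift f hX'.2.2 hc (ι' ζ')).2 ha w (hw.trans (fibMap_apply f b _ ζ')) hwz
      all_goals exact absurd rfl ‹(0 : ℤ) ≠ 0›
    · exact fun a _ c _ hac => Set.disjoint_left.2 fun z ha hc =>
        hac (hinjb (ha.1.1.symm.trans hc.1.1))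
  refine hlhs.trans ?_
  have hrhs : Cyc.pullFun (fibMap f b (sPt R)) δ's δs e (Cyc.spFun b (ηPt R) (sPt R) δη δs r ⇑α) x =
      ∑ᶠ ζ ∈ T, α ζ * Cyc.pullFun f (δT (f ≫ b)) (δT b) e (Cyc.divFun (δT b) (ι ζ) (uRes b _)) x' := by
    have hd : δ's x = δs (fibMap f b (sPt R) x) + e ↔ δT (f ≫ b) x' = δT b (f x') + e := by
      rw [δT_s (f ≫ b) h2, ← fibMap_apply f b (sPt R) x, δT_s b h4]
    unfold Cyc.pullFun
    by_cases h : δT (f ≫ b) x' = δT b (f x') + e
    swap
    · rw [if_neg fun hh => h (hd.1 hh)]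
      simp only [if_neg h, mul_zero, finsum_zero]
    · rw [if_pos (hd.2 h), spFun_eq b h3 h4 r _ hα, length_fibMap, fibMap_apply, finsum_mul' _ _ ?_,
        ← finsum_mem_univ]
      · refine (finsum_mem_inter_support_eq' _ Set.univ T fun ζ hζ => ?_).trans
          (finsum_mem_congr rfl fun ζ _ => ?_)
        · simp only [Set.mem_univ, true_iff]
          have h5 := left_ne_zero_of_mul (Function.mem_support.1 hζ)
          refine ⟨left_ne_zero_of_mul h5, ?_⟩
          have h6 := right_ne_zero_of_mul h5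
          unfold Cyc.divFun at h6
          split_ifs at h6 with hh
          · exact hh.1
          · exact absurd rfl h6
        · rw [if_pos h, mul_assoc]
      · refine hT.subset fun ζ hζ => ⟨left_ne_zero_of_mul (Function.mem_support.1 hζ), ?_⟩
        have h6 := right_ne_zero_of_mul (Function.mem_support.1 hζ)
        unfold Cyc.divFun at h6
        split_ifs at h6 with hh
        · exact hh.1
        · exact absurd rfl h6
  rw [hrhs]
  refine finsum_mem_congr rfl fun ζ hζ => ?_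
  let H : X' → ℤ := fun η => ((Module.length (X'.presheaf.stalk η) (X'.presheaf.stalk η ⧸
      (maximalIdeal (X.presheaf.stalk (f η))).map (f.stalkMap η).hom)).toNat : ℤ) *
    (if h : f η = ι ζ then Cyc.divFun (δT (f ≫ b)) η
      (f.residueFieldMap η ((X.residueFieldCongr h.symm).hom (uRes b _))) x' else 0)
  have hP : Cyc.pullFun f (δT (f ≫ b)) (δT b) e (Cyc.divFun (δT b) (ι ζ) (uRes b _)) x' =
      ∑ᶠ η ∈ P ζ, H η := by
    rw [pullFun_divFun_point hX' hX f hc (ι ζ) _ (uRes_ne_zero b (E4O.apply_fiberι b _ ζ)) x']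
    refine (finsum_congr fun η => ?_).trans (finsum_set_coe_eq_finsum_mem (P ζ) (f := H))
    simp only [H, dif_pos η.2.1]
  rw [hP, finsum_mem_inter_support_eq' H (P ζ) (ι' '' E ζ) ?_, finsum_mem_image hinj.injOn,
    finsum_mem_eq_finite_toFinset_sum _ (hE ζ), finsum_mem_eq_finite_toFinset_sum _ (hE ζ), Finset.mul_sum]
  · refine Finset.sum_congr rfl fun ζ' hζ' => ?_
    rw [Set.Finite.mem_toFinset] at hζ'
    have hfz : f (ι' ζ') = ι ζ := hζ'.1.1
    have hd : δT (f ≫ b) (ι' ζ') = δT b (f (ι' ζ')) + e :=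
      hc _ fun w hw => hζ'.1.2 w (hw.trans hfz)
    simp only [G, H, dif_pos hfz]
    rw [hpull, if_pos hd, residueFieldMap_uRes b f _ hfz,
      show α (mη ζ') = α ζ from congrArg _ (hinjb ((fibMap_apply f b _ ζ').trans hfz)), mul_assoc]
  · intro η hη
    refine ⟨fun h => ?_, ?_⟩
    · obtain ⟨ζ', hζ'⟩ := E4O.exists_fiberι_eq (f ≫ b) (show (f ≫ b) η = ηPt R from
        (congrArg b h.1).trans (E4O.apply_fiberι b _ ζ))
      refine ⟨ζ', ⟨hζ' ▸ h, ?_⟩, hζ'⟩
      have h6 := right_ne_zero_of_mul (Function.mem_support.1 hη)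
      rw [dif_pos h.1] at h6
      unfold Cyc.divFun at h6
      split_ifs at h6 with hh
      · exact hζ'.symm ▸ hh.1
      · exact absurd rfl h6
    · rintro ⟨ζ', h, rfl⟩
      exact h.1

end Groth.Agent.Cyc90.DVR
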