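import Groth.Agent.Cyc90.SpFormula
import Groth.Agent.Cyc90.SpPull
import Groth.Agent.Cyc90.RatPush
import Groth.Agent.Cyc90.EnvelopeSeq
import Groth.Agent.Div89.RatPush

/-! Specialization commutes with proper push forward. -/

set_option autoImplicit false
set_option backward.isDefEq.respectTransparency.types false
set_option linter.style.haveILetI false
universe u

open CategoryTheory CategoryTheory.Limits AlgebraicGeometry TopologicalSpace IsLocalRing

namespace Groth.Agent.Cyc90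

variable {X Y S : Scheme.{u}}

lemma residueDegree_congr {g g' : X ⟶ Y} (e : g = g') (x : X) : g.residueDegree x = g'.residueDegree x := by
  subst e; rfl

lemma residueDegree_fibMap (f : X ⟶ Y) (b : Y ⟶ S) (y : S) (x : ↥((f ≫ b).fiber y)) :
    (fibMap f b y).residueDegree x = f.residueDegree ((f ≫ b).fiberι y x) := by
  haveI : IsPreimmersion ((f ≫ b).fiberι y) := inferInstanceAs (IsPreimmersion (pullback.fst _ _))
  haveI : IsPreimmersion (b.fiberι y) := inferInstanceAs (IsPreimmersion (pullback.fst _ _))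
  have h := residueDegree_congr (fibMap_fiberι f b y) x
  rw [Div89.residueDegree_comp, Div89.residueDegree_comp,
    residueDegree_of_surjective ((f ≫ b).fiberι y) x (residueFieldMap_surjective _ x),
    residueDegree_of_surjective (b.fiberι y) _ (residueFieldMap_surjective _ _), one_mul, mul_one] at h
  exact h

namespace DVR

variable {R : Type u} [CommRing R] [IsDomain R] [IsDiscreteValuationRing R]
variable {X X' : Scheme.{u}} (b : X ⟶ Spec (CommRingCat.of R)) (f : X' ⟶ X)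

/-- The norm of the uniformizer is a power of the uniformizer. -/
lemma normGen_uRes (z : X') :
    Cyc.normGen f z (uRes (f ≫ b) z) = uRes b (f z) ^ (f.residueDegree z : ℤ) := by
  let := (f.residueFieldMap z).hom.toAlgebra
  have h := residueFieldMap_uRes b f z (w := f z) rfl
  simp only [Scheme.residueFieldCongr_refl, Iso.refl_hom, CommRingCat.id_apply] at h
  have hn := Algebra.norm_algebraMap (S := X'.residueField z) (uRes b (f z))
  rw [zpow_natCast]
  refine Eq.trans ?_ hn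
  exact (congrArg (Algebra.norm (X.residueField (f z))) h).symm

open Classical in
theorem spFun_map [LocallyOfFiniteType b] [IsProper f]
    [QuasiCompact (fibMap f b (ηPt R))] [QuasiCompact (fibMap f b (sPt R))]
    {δ'η : ↥((f ≫ b).fiber (ηPt R)) → ℤ} {δ's : ↥((f ≫ b).fiber (sPt R)) → ℤ}
    {δη : ↥(b.fiber (ηPt R)) → ℤ} {δs : ↥(b.fiber (sPt R)) → ℤ}
    (h1 : Cyc.DeltaCompat ((f ≫ b).fiberToSpecResidueField (ηPt R)) δ'η (fun _ => 0))
    (h2 : Cyc.DeltaCompat ((f ≫ b).fiberToSpecResidueField (sPt R)) δ's (fun _ => 0))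
    (h3 : Cyc.DeltaCompat (b.fiberToSpecResidueField (ηPt R)) δη (fun _ => 0))
    (h4 : Cyc.DeltaCompat (b.fiberToSpecResidueField (sPt R)) δs (fun _ => 0))
    (r : ℤ) (α : AlgebraicCycle ((f ≫ b).fiber (ηPt R)) ℤ) (hα : ∀ ξ, δ'η ξ ≠ r → α ξ = 0)
    (β : AlgebraicCycle ((f ≫ b).fiber (sPt R)) ℤ)
    (hβ : ⇑β = Cyc.spFun (f ≫ b) (ηPt R) (sPt R) δ'η δ's r ⇑α) :
    Cyc.spFun b (ηPt R) (sPt R) δη δs r ⇑(AlgebraicCycle.map (fibMap f b (ηPt R)) δ'η δη α) =
      ⇑(AlgebraicCycle.map (fibMap f b (sPt R)) δ's δs β) := by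
  funext y
  have hX := isSetup_δT b
  have hX' := isSetup_δT (f ≫ b)
  have := hX.1
  have := hX'.1
  have hf : Cyc.DeltaCompat f (δT (f ≫ b)) (δT b) :=
    deltaCompat_of_comp f b (deltaCompat_δT (f ≫ b)) (deltaCompat_δT b)
  let mη := fibMap f b (ηPt R)
  let ms := fibMap f b (sPt R)
  let ι := b.fiberι (ηPt R)
  let ι' := (f ≫ b).fiberι (ηPt R)
  let κ := (f ≫ b).fiberι (sPt R)
  let y' := b.fiberι (sPt R) y
  have hιf : ∀ ξ, ι (mη ξ) = f (ι' ξ) := fibMap_apply f b (ηPt R)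
  let w : X' → ℤ := fun z => if δT (f ≫ b) z = δT b (f z) then (f.residueDegree z : ℤ) else 0
  have hwη : ∀ ξ, (if δ'η ξ = δη (mη ξ) then (mη.residueDegree ξ : ℤ) else 0) = w (ι' ξ) := fun ξ => by
    have hd : δ'η ξ = δη (mη ξ) ↔ δT (f ≫ b) (ι' ξ) = δT b (f (ι' ξ)) := by
      rw [δT_η (f ≫ b) h1, ← hιf ξ, δT_η b h3]
      omega
    simp only [w, mη, residueDegree_fibMap]
    exact if_congr hd rfl rfl
  have hws : ∀ x, (if δ's x = δs (ms x) then (ms.residueDegree x : ℤ) else 0) = w (κ x) := fun x => by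
    have hd : δ's x = δs (ms x) ↔ δT (f ≫ b) (κ x) = δT b (f (κ x)) := by
      rw [δT_s (f ≫ b) h2, ← fibMap_apply f b (sPt R) x, δT_s b h4]
    simp only [w, ms, residueDegree_fibMap]
    exact if_congr hd rfl rfl
  -- the relevant points
  have hT : {ξ | α ξ ≠ 0 ∧ f (ι' ξ) ⤳ y'}.Finite := by
    obtain ⟨V, hV, hyV, -⟩ := exists_isAffineOpen_mem_and_subset (X := X) (x := y') (U := ⊤) trivial
    haveI : QuasiCompact ((f ≫ b).fiberι (ηPt R)) := inferInstanceAs (QuasiCompact (pullback.fst _ _))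
    refine ((LocallyFiniteSupport.finite_inter_support_of_isCompact
      (f := (α : ↥((f ≫ b).fiber (ηPt R)) → ℤ))
      (fun z => α.supportLocallyFiniteWithinDomain' z trivial)
      ((ι' ≫ f).isCompact_preimage hV.isCompact))).subset ?_
    exact fun ξ hξ => ⟨hξ.2.mem_open V.2 hyV, hξ.1⟩
  let T := hT.toFinset
  let D : ↥((f ≫ b).fiber (ηPt R)) → AlgebraicCycle X' ℤ := fun ξ =>
    divCycle hX' (ι' ξ) (uRes (f ≫ b) _) (uRes_ne_zero (f ≫ b) (E4O.apply_fiberι (f ≫ b) _ ξ))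
  have hDspec : ∀ ξ z, D ξ z ≠ 0 → ι' ξ ⤳ z := fun ξ z h => by
    change Cyc.divFun _ _ _ z ≠ 0 at h
    unfold Cyc.divFun at h
    split_ifs at h with hh
    · exact hh.1
    · exact absurd rfl h
  let B : Finset X' := T.biUnion fun ξ => (finite_fibre_inter_support f (D ξ) y').toFinset
  have hB : ∀ ξ ∈ T, ∀ z, f z = y' → D ξ z ≠ 0 → z ∈ B := fun ξ hξ z hz hne =>
    Finset.mem_biUnion.2 ⟨ξ, hξ, (Set.Finite.mem_toFinset _).2 ⟨hz, hne⟩⟩
  have hmapD : ∀ ξ ∈ T, ∑ z ∈ B, D ξ z * w z =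
      w (ι' ξ) * Cyc.divFun (δT b) (f (ι' ξ)) (uRes b _) y' := by
    intro ξ hξ
    have h := congrFun (map_divFun f hX' hX hf (ι' ξ) _
      (uRes_ne_zero (f ≫ b) (E4O.apply_fiberι (f ≫ b) _ ξ)) (D ξ) rfl) y'
    rw [map_apply_eq, finsum_mem_eq_sum_of_inter_support_eq _ (t := B) ?_] at h
    · refine h.trans ?_
      simp only [w]
      split_ifs with hd
      · rw [normGen_uRes, divFun_zpow hX _ _ (uRes_ne_zero b (by
          rw [← hιf ξ]; exact E4O.apply_fiberι b _ (mη ξ)))]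
      · simp
    · refine Set.ext fun z => ⟨fun hz => ⟨hB ξ hξ z hz.1 (left_ne_zero_of_mul hz.2), hz.2⟩,
        fun hz => ⟨?_, hz.2⟩⟩
      obtain ⟨ξ', -, hz'⟩ := Finset.mem_biUnion.1 hz.1
      exact ((Set.Finite.mem_toFinset _).1 hz').1
  have hsum : ∀ x, ms x = y → β x = ∑ ξ ∈ T, α ξ * D ξ (κ x) := fun x hx => by
    rw [hβ, spFun_eq (f ≫ b) h1 h2 r _ hα x]
    refine finsum_eq_sum_of_support_subset _ fun ξ hξ => hT.mem_toFinset.2 ⟨left_ne_zero_of_mul hξ, ?_⟩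
    have h := (hDspec ξ (κ x) (right_ne_zero_of_mul hξ)).map f.continuous
    have e : f (κ x) = y' := (fibMap_apply f b (sPt R) x).symm.trans (congrArg _ hx)
    exact e ▸ h
  let Φ : X' → ℤ := fun z => (∑ ξ ∈ T, α ξ * D ξ z) * w z
  have hR : AlgebraicCycle.map ms δ's δs β y = ∑ z ∈ B, Φ z := by
    rw [map_apply_eq]
    rw [show ∑ᶠ x ∈ ms ⁻¹' {y}, β x * (if δ's x = δs (ms x) then (ms.residueDegree x : ℤ) else 0) =
      ∑ᶠ x ∈ ms ⁻¹' {y}, Φ (κ x) from finsum_mem_congr rfl fun x hx => by rw [hws, hsum x hx]]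
    rw [← finsum_mem_image (f := Φ) (E4O.isEmbedding_fiberι (f ≫ b) (sPt R)).injective.injOn,
      finsum_mem_eq_sum_of_inter_support_eq _ (t := B) ?_]
    refine Set.ext fun z => ⟨?_, fun hz => ⟨?_, hz.2⟩⟩
    · rintro ⟨⟨x, hx, rfl⟩, hz⟩
      obtain ⟨ξ, hξ, hne⟩ := Finset.exists_ne_zero_of_sum_ne_zero (left_ne_zero_of_mul hz)
      exact ⟨hB ξ hξ _ ((fibMap_apply f b (sPt R) x).symm.trans (congrArg _ hx)) (right_ne_zero_of_mul hne), hz⟩
    · obtain ⟨ξ', -, hz'⟩ := Finset.mem_biUnion.1 hz.1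
      have hfz : f z = y' := ((Set.Finite.mem_toFinset _).1 hz').1
      obtain ⟨x, hx⟩ := E4O.exists_fiberι_eq (f ≫ b) (show (f ≫ b) z = sPt R from
        (congrArg b hfz).trans (E4O.apply_fiberι b _ y))
      refine ⟨x, (E4O.isEmbedding_fiberι b (sPt R)).injective ?_, hx⟩
      rw [fibMap_apply, hx, hfz]
  rw [hR, spFun_eq b h3 h4 r _ ?_ y]
  swap
  · intro ζ hζ
    rw [map_apply_eq]
    refine finsum_mem_eq_zero_of_forall_eq_zero fun ξ hξ => ?_
    split_ifs with hd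
    · rw [hα ξ (fun e => hζ (by rw [← show mη ξ = ζ from hξ, ← hd, e])), zero_mul]
    · rw [mul_zero]
  have hRHS : ∑ z ∈ B, Φ z = ∑ ξ ∈ T, α ξ * w (ι' ξ) * Cyc.divFun (δT b) (ι (mη ξ)) (uRes b _) y' := by
    simp only [Φ, Finset.sum_mul]
    rw [Finset.sum_comm]
    refine Finset.sum_congr rfl fun ξ hξ => ?_
    simp only [mul_assoc]
    rw [← Finset.mul_sum, hmapD ξ hξ]
    have hcongr : ∀ q q' : X, q = q' →
        Cyc.divFun (δT b) q (uRes b q) y' = Cyc.divFun (δT b) q' (uRes b q') y' := fun q q' e => by rw [e]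
    rw [hcongr _ _ (hιf ξ)]
  rw [hRHS, ← Finset.sum_fiberwise_of_maps_to (t := T.image mη) fun ξ hξ => Finset.mem_image_of_mem mη hξ]
  refine (finsum_eq_sum_of_support_subset _ (s := T.image mη) fun ζ hζ => ?_).trans
    (Finset.sum_congr rfl fun ζ hζ => ?_)
  · obtain ⟨h5, h6⟩ := ne_zero_and_ne_zero_of_mul hζ
    rw [map_apply_eq] at h5
    obtain ⟨ξ, hξ, hne⟩ := exists_ne_zero_of_finsum_mem_ne_zero h5
    refine Finset.mem_image.2 ⟨ξ, hT.mem_toFinset.2 ⟨left_ne_zero_of_mul hne, ?_⟩, hξ⟩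
    unfold Cyc.divFun at h6
    split_ifs at h6 with hh
    · rw [← hιf ξ, show mη ξ = ζ from hξ]; exact hh.1
    · exact absurd rfl h6
  · by_cases hs : Cyc.divFun (δT b) (ι ζ) (uRes b _) y' = 0
    · rw [hs, mul_zero]
      exact (Finset.sum_eq_zero fun ξ hξ => by rw [(Finset.mem_filter.1 hξ).2, hs, mul_zero]).symm
    rw [map_apply_eq, finsum_mem_eq_sum_of_inter_support_eq _ (t := T.filter fun ξ => mη ξ = ζ) ?_,
      Finset.sum_mul]
    · refine Finset.sum_congr rfl fun ξ hξ => ?_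
      rw [hwη, (Finset.mem_filter.1 hξ).2]
    · refine Set.ext fun ξ => ⟨fun hξ => ⟨Finset.mem_filter.2 ⟨hT.mem_toFinset.2
        ⟨left_ne_zero_of_mul hξ.2, ?_⟩, hξ.1⟩, hξ.2⟩, fun hξ => ⟨(Finset.mem_filter.1 hξ.1).2, hξ.2⟩⟩
      rw [← hιf ξ, show mη ξ = ζ from hξ.1]
      unfold Cyc.divFun at hs
      split_ifs at hs with hh
      · exact hh.1
      · exact absurd rfl hs

end DVR

end Groth.Agent.Cyc90
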