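import Groth.Agent.Cyc90.SpFlat
import Groth.Agent.Cyc90.P1Sub
import Groth.Agent.FlatMor68.FlatSections
import Groth.Agent.FBase64.ReducedModField

/-! Specialization of the cycle of a flat closed subscheme over a discrete valuation ring. -/

set_option autoImplicit false
set_option backward.isDefEq.respectTransparency.types false
set_option linter.style.haveILetI false
universe u

open CategoryTheory CategoryTheory.Limits AlgebraicGeometry TopologicalSpace IsLocalRing

namespace Groth.Agent.Cyc90

variable {X W S : Scheme.{u}}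

/-- The quotient of a stalk of a direct image by a multiplication. -/
lemma coker_push_unit (ι : W ⟶ X) [IsClosedImmersion ι] (w : W) (t : X.presheaf.stalk (ι w)) :
    Len90.coker (LinearMap.lsmul _ (((Coh.push ι).obj (Coh.structureModule W)).presheaf.stalk (ι w)) t) =
      Module.length (W.presheaf.stalk w)
        (W.presheaf.stalk w ⧸ Ideal.span {(ι.stalkMap w).hom t}) := by
  let F := (Coh.push ι).obj (Coh.structureModule W)
  let O := X.presheaf.stalk (ι w)
  let l := LinearMap.lsmul O (F.presheaf.stalk (ι w)) t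
  let e := pushUnitEquiv ι w
  let J : Ideal (W.presheaf.stalk w) := Ideal.span {(ι.stalkMap w).hom t}
  let φ : F.presheaf.stalk (ι w) →+ W.presheaf.stalk w ⧸ J :=
    (Ideal.Quotient.mk J).toAddMonoidHom.comp e.toAddMonoidHom
  have hφ : ∀ m, φ m = 0 ↔ m ∈ LinearMap.range l := fun m => by
    change Ideal.Quotient.mk J (e m) = 0 ↔ _
    rw [Ideal.Quotient.eq_zero_iff_mem, Ideal.mem_span_singleton', LinearMap.mem_range]
    constructor
    · rintro ⟨c, hc⟩
      refine ⟨e.symm c, e.injective ?_⟩
      rw [← hc, LinearMap.lsmul_apply, pushUnitEquiv_smul, e.apply_symm_apply, mul_comm]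
    · rintro ⟨n, rfl⟩
      refine ⟨e n, ?_⟩
      rw [LinearMap.lsmul_apply, pushUnitEquiv_smul, mul_comm]
  let ψ : (F.presheaf.stalk (ι w) ⧸ LinearMap.range l) →+ W.presheaf.stalk w ⧸ J :=
    QuotientAddGroup.lift _ φ fun m hm => (hφ m).2 hm
  have hψ : Function.Bijective ψ := by
    refine ⟨(injective_iff_map_eq_zero ψ).2 fun q => ?_, fun c => ?_⟩
    · obtain ⟨m, rfl⟩ := Submodule.Quotient.mk_surjective _ q
      exact fun h => (Submodule.Quotient.mk_eq_zero _).2 ((hφ m).1 h)
    · obtain ⟨c, rfl⟩ := Ideal.Quotient.mk_surjective c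
      exact ⟨Submodule.Quotient.mk (e.symm c), congrArg (Ideal.Quotient.mk J) (e.apply_symm_apply c)⟩
  refine length_eq_of_semilinear (ι.stalkMap w).hom (ι.stalkMap_surjective w)
    (AddEquiv.ofBijective ψ hψ) fun r q => ?_
  obtain ⟨m, rfl⟩ := Submodule.Quotient.mk_surjective _ q
  exact (congrArg (Ideal.Quotient.mk J) (pushUnitEquiv_smul ι w r m))

/-- The local rings of the part of `W` in a fibre. -/
lemma length_stalk_pullback_fiberι (ι : W ⟶ X) (a : X ⟶ S) (y : S) (z : ↑(pullback ι (a.fiberι y))) :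
    Module.length ((pullback ι (a.fiberι y)).presheaf.stalk z) ((pullback ι (a.fiberι y)).presheaf.stalk z) =
      Module.length (W.presheaf.stalk (pullback.fst ι (a.fiberι y) z))
        (W.presheaf.stalk (pullback.fst ι (a.fiberι y) z) ⧸
          (maximalIdeal (S.presheaf.stalk ((ι ≫ a) (pullback.fst ι (a.fiberι y) z)))).map
            ((ι ≫ a).stalkMap (pullback.fst ι (a.fiberι y) z)).hom) := by
  let e := pullbackRightPullbackFstIso a (S.fromSpecResidueField y) ι
  have he : e.hom ≫ (ι ≫ a).fiberι y = pullback.fst ι (a.fiberι y) :=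
    pullbackRightPullbackFstIso_hom_fst _ _ _
  have key : ∀ (g : pullback ι (a.fiberι y) ⟶ W), g = e.hom ≫ (ι ≫ a).fiberι y →
      Function.Surjective (g.stalkMap z).hom ∧ RingHom.ker (g.stalkMap z).hom =
        (maximalIdeal (S.presheaf.stalk ((ι ≫ a) (g z)))).map ((ι ≫ a).stalkMap (g z)).hom := by
    rintro g rfl
    have hb : Function.Bijective (e.hom.stalkMap z).hom := ConcreteCategory.bijective_of_isIso _
    have hcomp := congrArg CommRingCat.Hom.hom (Scheme.Hom.stalkMap_comp e.hom ((ι ≫ a).fiberι y) z)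
    constructor
    · exact hcomp ▸ hb.2.comp (FlatMor68.FibreStalk.fiberι_stalkMap_surjective (ι ≫ a) y (e.hom z))
    · refine (congrArg RingHom.ker hcomp).trans ((RingHom.ker_comp_of_injective _ hb.1).trans ?_)
      exact FlatMor68.FibreStalk.ker_fiberι_stalkMap (ι ≫ a) y (e.hom z)
  obtain ⟨hs, hk⟩ := key _ he.symm
  let f := ((pullback.fst ι (a.fiberι y)).stalkMap z).hom
  let E := (Ideal.quotEquivOfEq hk.symm).trans (RingHom.quotientKerEquivOfSurjective hs)
  refine (length_eq_of_semilinear f hs E.toAddEquiv fun r m => ?_).symm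
  obtain ⟨m, rfl⟩ := Ideal.Quotient.mk_surjective m
  exact map_mul f r m

namespace DVR

variable {R : Type u} [CommRing R] [IsDomain R] [IsDiscreteValuationRing R]
variable (a : X ⟶ Spec (CommRingCat.of R)) [LocallyOfFiniteType a]

lemma sheafFun_pullback_push (ι : W ⟶ X) [IsClosedImmersion ι] (y : ↥(Spec (CommRingCat.of R)))
    (δy : ↥(a.fiber y) → ℤ) (r : ℤ) (t : ∀ z : X, X.presheaf.stalk z)
    (ht : ∀ z : X, a z = y →
      (maximalIdeal ((Spec (CommRingCat.of R)).presheaf.stalk (a z))).map (a.stalkMap z).hom = Ideal.span {t z}) :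
    Cyc.sheafFun δy r ((Scheme.Modules.pullback (a.fiberι y)).obj ((Coh.push ι).obj (Coh.structureModule W))) =
      Cyc.subschemeFun δy r (pullback.snd ι (a.fiberι y)) := by
  have := (isSetup_δT a).1
  have hlnW : IsLocallyNoetherian W := LocallyOfFiniteType.isLocallyNoetherian ι
  haveI := (QC70.isCoh_pushforward ι (Coh.structureModule W) QC70.isCoh_unit).1
  funext x
  simp only [Cyc.sheafFun, Cyc.subschemeFun]
  split_ifs with hk
  swap
  · rfl
  rw [length_pullback_stalk_of_surjective _ (a.fiberι y) x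
    (FlatMor68.FibreStalk.fiberι_stalkMap_surjective a y x) (t _)
    ((FlatMor68.FibreStalk.ker_fiberι_stalkMap a y x).trans (ht _ (E4O.apply_fiberι a y x)))]
  by_cases hx : x ∈ Set.range (pullback.snd ι (a.fiberι y))
  · obtain ⟨z, rfl⟩ := hx
    rw [show {z' | pullback.snd ι (a.fiberι y) z' = pullback.snd ι (a.fiberι y) z} = {z} from
      Set.ext fun z' => ⟨fun h => (pullback.snd ι (a.fiberι y)).isClosedEmbedding.injective h,
        fun h => h ▸ rfl⟩, finsum_mem_singleton, length_stalk_pullback_fiberι]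
    refine congrArg (fun n : ℕ∞ => (n.toNat : ℤ)) ?_
    let w := pullback.fst ι (a.fiberι y) z
    have hw : a.fiberι y (pullback.snd ι (a.fiberι y) z) = ι w :=
      congrArg (fun k : pullback ι (a.fiberι y) ⟶ X => k z) pullback.condition.symm
    have gen : ∀ q : X, q = ι w → Len90.coker (LinearMap.lsmul _
          (((Coh.push ι).obj (Coh.structureModule W)).presheaf.stalk q) (t q)) =
        Module.length (W.presheaf.stalk w) (W.presheaf.stalk w ⧸
          (maximalIdeal ((Spec (CommRingCat.of R)).presheaf.stalk ((ι ≫ a) w))).map ((ι ≫ a).stalkMap w).hom) := by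
      rintro q rfl
      rw [coker_push_unit]
      refine congrArg (fun I => Module.length (W.presheaf.stalk w) (W.presheaf.stalk w ⧸ I)) ?_
      have hy : a (ι w) = y := by rw [← hw]; exact E4O.apply_fiberι a y _
      rw [← Set.image_singleton, ← Ideal.map_span, ← ht (ι w) hy]
      refine (Ideal.map_map _ _).trans ?_
      exact congrArg (fun φ => Ideal.map φ (maximalIdeal ((Spec (CommRingCat.of R)).presheaf.stalk (a (ι w)))))
        (congrArg CommRingCat.Hom.hom (Scheme.Hom.stalkMap_comp ι a w)).symm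
    exact gen _ hw
  · rw [show {z | pullback.snd ι (a.fiberι y) z = x} = ∅ from
      Set.eq_empty_of_forall_notMem fun z h => hx ⟨z, h⟩, finsum_mem_empty]
    have : Subsingleton (((Coh.push ι).obj (Coh.structureModule W)).presheaf.stalk (a.fiberι y x)) :=
      not_nontrivial_iff_subsingleton.1 fun hn => by
        obtain ⟨w, hw⟩ := mem_range_of_nontrivial_push ι hn
        obtain ⟨z, -, hz⟩ := Scheme.Pullback.exists_preimage_pullback w x hw
        exact hx ⟨z, hz⟩
    rw [Len90.coker, Module.length_eq_zero]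
    simp

theorem spFun_subscheme {δη : ↥(a.fiber (ηPt R)) → ℤ} {δs : ↥(a.fiber (sPt R)) → ℤ}
    (hδη : Cyc.DeltaCompat (a.fiberToSpecResidueField (ηPt R)) δη (fun _ => 0))
    (hδs : Cyc.DeltaCompat (a.fiberToSpecResidueField (sPt R)) δs (fun _ => 0))
    (r : ℤ) (ι : W ⟶ X) [IsClosedImmersion ι] [Flat (ι ≫ a)]
    (hdim : ∀ ζ, a.fiberι (ηPt R) ζ ∈ Set.range ⇑ι → δη ζ ≤ r) :
    (∀ x, a.fiberι (sPt R) x ∈ Set.range ⇑ι → δs x ≤ r) ∧
      Cyc.spFun a (ηPt R) (sPt R) δη δs r (Cyc.subschemeFun δη r (pullback.snd ι (a.fiberι (ηPt R)))) =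
        Cyc.subschemeFun δs r (pullback.snd ι (a.fiberι (sPt R))) := by
  have := (isSetup_δT a).1
  have hlnW : IsLocallyNoetherian W := LocallyOfFiniteType.isLocallyNoetherian ι
  let F := (Coh.push ι).obj (Coh.structureModule W)
  have hF : Coh.IsCoh F := QC70.isCoh_pushforward ι _ QC70.isCoh_unit
  haveI := hF.1
  have hflat : FlatMod.IsFlatOver a F :=
    (FlatMor68.FlatSections.t9349 ι a (Coh.structureModule W) QC70.isCoh_unit.1).1
      (FBase64.RedField.isFlatOver_structure (ι ≫ a))
  obtain ⟨h1, h2⟩ := spFun_sheafFun F a hδη hδs r hF hflat fun ζ hζ =>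
    hdim ζ (mem_range_of_nontrivial_push ι (nontrivial_stalk_of_pullback (a.fiberι (ηPt R)) F ζ hζ))
  refine ⟨fun x ⟨w, hw⟩ => h1 x ?_, ?_⟩
  · let p := a.fiberι (sPt R) x
    have gen : ∀ q : X, ι w = q → a q = sPt R → 0 <
        Len90.coker (LinearMap.lsmul _ (F.presheaf.stalk q) (tX a q)) := by
      rintro q rfl hq
      rw [coker_push_unit, Module.length_pos_iff]
      refine Ideal.Quotient.nontrivial_iff.2 fun h => ?_
      rw [Ideal.span_singleton_eq_top] at h
      exact ηPt_ne_sPt R (((isUnit_tX_iff a (ι w)).1 ((ι.toLRSHom.prop w).map_nonunit _ h)).symm.trans hq)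
    have h := gen p hw (E4O.apply_fiberι a _ x)
    rw [← length_pullback_stalk_of_surjective F (a.fiberι (sPt R)) x
      (FlatMor68.FibreStalk.fiberι_stalkMap_surjective a _ x) (tX a p)
      ((FlatMor68.FibreStalk.ker_fiberι_stalkMap a _ x).trans
        (map_maximalIdeal_s a (E4O.apply_fiberι a _ x)))] at h
    exact Module.length_pos_iff.1 h
  · rw [← sheafFun_pullback_push a ι (ηPt R) δη r (fun _ => 0) fun z hz => map_maximalIdeal_η a hz,
      ← sheafFun_pullback_push a ι (sPt R) δs r (tX a) fun z hz => map_maximalIdeal_s a hz]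
    exact h2

end DVR

end Groth.Agent.Cyc90
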